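import Cfsg.Agent.H48.DP0Spec

/-! # S3275, chapter U0, section B (`G0`, `UB`): job statements; proofs in `blueprints/U0B.md`. -/

set_option autoImplicit false

namespace H92.DPB

open Subgroup Cfsg H98 H48.DP H57.DPC H48.DP2
open scoped commutatorElement

universe u

variable {G : Type u} [Group G]

/-- A section of a proper subgroup whose components are among the three groups. -/
structure Xs (X : Type u) [Group X] : Prop where
  nd : ND X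
  cm : ∀ K : Subgroup X, IsComponent K → Three K ∧ Cm ⊤ K

/-- `X = H / O_{3'}(H)` and `N` is the image of `M ⊓ H`. -/
structure Xa (X : Type u) [Group X] (N : Subgroup X) : Prop extends Xs X where
  o : pPrimeCore 3 X = ⊥
  e27 : ∃ B : Subgroup X, B ≤ N ∧ E27 B
  t27 : ∀ (B : Subgroup X) (g : X), E27 B → B ≤ N → cj g B ≤ N → g ∈ N
  n9 : ∀ A : Subgroup X, InU N A → 9 ≤ Nat.card A → No A ≤ N
  p3 : ∀ B R : Subgroup X, E27 B → B ≤ N → B ≤ R → IsPGroup 3 R → R ≤ N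

/-- `D = 3^{1+2}` is normal in `X`. -/
structure Xd (X : Type u) [Group X] (D : Subgroup X) (x : X) : Prop where
  nor : D.Normal
  card : Nat.card D = 27
  ex : ∀ d ∈ D, d ^ 3 = 1
  x3 : orderOf x = 3
  der : ⁅D, D⁆ = zpowers x
  cen : ∀ c ∈ Ce D, c ^ 3 = 1 → c ∈ zpowers x
  c3 : IsPGroup 3 (Ce D)

/-- `Ua` and the first half of `Ub`. -/
structure Ul (M Q : Subgroup G) : Prop extends Ua M Q where
  loc : ∀ H B : Subgroup G, H ≠ ⊤ → E27 B → B ≤ H ⊓ M → H ≤ M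

/-- The configuration of a good element `x ∈ M` that lies in no `3³` of `M`;
`E = zpowers x ⊔ zpowers z`. -/
structure Bx (M Q : Subgroup G) (P : Sylow 3 G) (x z v r : G) : Prop extends Ul M Q where
  PM : (P : Subgroup G) ≤ M
  xP : x ∈ (P : Subgroup G)
  zP : z ∈ (P : Subgroup G)
  Pz : (P : Subgroup G) ≤ C1 z
  x3 : orderOf x = 3
  z3 : orderOf z = 3
  xz : x ∉ zpowers z
  good : Good x
  bad : ¬ InU M (zpowers x)
  cz : C1 z ≤ M
  om : ∀ c : G, Commute c x → Commute c z → c ^ 3 = 1 → c ∈ zpowers x ⊔ zpowers z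
  vP : v ∈ (P : Subgroup G)
  vx : v * x * v⁻¹ = x * z
  rE : r ∈ No (zpowers x ⊔ zpowers z)
  rz : r * z * r⁻¹ ∉ zpowers z

/-- All `E`-invariant 2-subgroups of `H` lie in one 2-group. -/
def One (E H : Subgroup G) : Prop := ∃ T : Subgroup G, IsPGroup 2 T ∧
  ∀ X : Subgroup G, X ≤ H → IsPGroup 2 X → E ≤ No X → X ≤ T

/-- Two `E`-invariant 2-subgroups of `H` generate a group that is not a 2-group. -/
def Tw (E H : Subgroup G) : Prop := ∃ X Y : Subgroup G, X ≤ H ∧ Y ≤ H ∧ IsPGroup 2 X ∧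
  IsPGroup 2 Y ∧ E ≤ No X ∧ E ≤ No Y ∧ ¬ IsPGroup 2 ↥(X ⊔ Y)

theorem One.not_tw {E H : Subgroup G} (h : One E H) : ¬ Tw E H := by
  rintro ⟨X, Y, h1, h2, h3, h4, h5, h6, h7⟩
  obtain ⟨T, hT, h⟩ := h
  exact h7 (hT.to_le (sup_le (h X h1 h3 h5) (h Y h2 h4 h6)))

theorem el_pg {A : Subgroup G} (h : IsElementaryAbelian 3 A) : IsPGroup 3 A :=
  fun a => ⟨1, Subtype.ext (by simpa using h.2 a a.2)⟩

theorem el_le {A B : Subgroup G} (h : IsElementaryAbelian 3 B) (hA : A ≤ B) :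
    IsElementaryAbelian 3 A :=
  ⟨⟨⟨fun a b => Subtype.ext (congrArg Subtype.val (h.1.1.1 ⟨a, hA a.2⟩ ⟨b, hA b.2⟩) :)⟩⟩,
    fun a ha => h.2 a (hA ha)⟩

theorem el_comm {A : Subgroup G} (h : IsElementaryAbelian 3 A) {a b : G} (ha : a ∈ A)
    (hb : b ∈ A) : Commute a b := congrArg Subtype.val (h.1.1.1 ⟨a, ha⟩ ⟨b, hb⟩)

theorem el_of {A : Subgroup G} (h : ∀ a ∈ A, ∀ b ∈ A, Commute a b) (h3 : ∀ a ∈ A, a ^ 3 = 1) :
    IsElementaryAbelian 3 A := ⟨⟨⟨fun a b => Subtype.ext (h a a.2 b b.2)⟩⟩, h3⟩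

theorem el_zp {x : G} (hx : x ^ 3 = 1) : IsElementaryAbelian 3 (zpowers x) := by
  refine el_of ?_ ?_
  · rintro _ ⟨i, rfl⟩ _ ⟨j, rfl⟩; exact Commute.zpow_zpow_self x i j
  · rintro _ ⟨i, rfl⟩
    show (x ^ i) ^ 3 = 1
    rw [← zpow_natCast, ← zpow_mul, mul_comm, zpow_mul, zpow_natCast, hx, one_zpow]

theorem el_sup {A B : Subgroup G} (hA : IsElementaryAbelian 3 A) (hB : IsElementaryAbelian 3 B)
    (h : ∀ a ∈ A, ∀ b ∈ B, Commute a b) : IsElementaryAbelian 3 (A ⊔ B) := by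
  have hn : A ≤ No B := le_normalizer_of_le_centralizer fun a ha b hb => (h a ha b hb).symm.eq
  refine el_of (fun g hg k hk => ?_) fun g hg => ?_
  · obtain ⟨a, ha, b, hb, rfl⟩ := (mem_sup_left_norm hn).1 hg
    obtain ⟨c, hc, d, hd, rfl⟩ := (mem_sup_left_norm hn).1 hk
    exact ((el_comm hA ha hc).mul_right (h a ha d hd)).mul_left
      ((h c hc b hb).symm.mul_right (el_comm hB hb hd))
  · obtain ⟨a, ha, b, hb, rfl⟩ := (mem_sup_left_norm hn).1 hg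
    rw [(h a ha b hb).mul_pow, hA.2 a ha, hB.2 b hb, one_mul]

theorem el_cj {A : Subgroup G} (h : IsElementaryAbelian 3 A) (g : G) :
    IsElementaryAbelian 3 (cj g A) := by
  refine el_of ?_ ?_
  · rintro _ ⟨a, ha, rfl⟩ _ ⟨b, hb, rfl⟩; exact (el_comm h ha hb).map _
  · rintro _ ⟨a, ha, rfl⟩; rw [← map_pow, h.2 a ha, map_one]

theorem e27_cj {A : Subgroup G} (h : E27 A) (g : G) : E27 (cj g A) :=
  ⟨el_cj h.1 g, by rw [card_cj]; exact h.2⟩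

theorem card_sup_zp [Finite G] {A : Subgroup G} {c : G} (hA : IsElementaryAbelian 3 A)
    (hc : c ^ 3 = 1) (h : ∀ a ∈ A, Commute a c) (hn : c ∉ A) :
    Nat.card ↥(A ⊔ zpowers c) = Nat.card A * 3 := by
  have : Fact (Nat.Prime 3) := ⟨Nat.prime_three⟩
  have ho : orderOf c = 3 := orderOf_eq_prime hc fun e => hn (e ▸ one_mem A)
  have hm : ∀ a ∈ A, ∀ b ∈ zpowers c, Commute a b := by
    rintro a ha _ ⟨i, rfl⟩; exact (h a ha).zpow_right i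
  have hd : A ⊓ zpowers c = ⊥ := by
    have : Fact (Nat.card (zpowers c)).Prime := ⟨by rw [Nat.card_zpowers, ho]; norm_num⟩
    rcases ((A ⊓ zpowers c).subgroupOf (zpowers c)).eq_bot_or_eq_top_of_prime_card with e | e
    · rw [subgroupOf_eq_bot, disjoint_iff, inf_assoc, inf_idem] at e; exact e
    · exact absurd (subgroupOf_eq_top.1 e (mem_zpowers c)).1 hn
  have hn' : A ≤ No (zpowers c) :=
    le_normalizer_of_le_centralizer fun a ha b hb => (hm a ha b hb).symm.eq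
  rw [← ho, ← Nat.card_zpowers, ← Nat.card_prod]
  refine (Nat.card_congr (Equiv.ofBijective (fun p : A × zpowers c =>
    (⟨p.1 * p.2, mul_mem (mem_sup_left p.1.2) (mem_sup_right p.2.2)⟩ : ↥(A ⊔ zpowers c)))
    ⟨?_, ?_⟩)).symm
  · rintro ⟨a, b⟩ ⟨a', b'⟩ e
    have e' : (a : G) * b = a' * b' := congrArg Subtype.val e
    have h1 : (a' : G)⁻¹ * a = b' * (b : G)⁻¹ := by
      rw [inv_mul_eq_iff_eq_mul, ← mul_assoc, ← e', mul_inv_cancel_right]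
    have h2 : (a' : G)⁻¹ * a ∈ A ⊓ zpowers c :=
      ⟨A.mul_mem (A.inv_mem a'.2) a.2, h1 ▸ (zpowers c).mul_mem b'.2 ((zpowers c).inv_mem b.2)⟩
    rw [hd, mem_bot, inv_mul_eq_one] at h2
    rw [h2, mul_right_inj] at e'
    exact Prod.ext (Subtype.ext h2.symm) (Subtype.ext e')
  · rintro ⟨g, hg⟩
    obtain ⟨a, ha, b, hb, rfl⟩ := (mem_sup_left_norm hn').1 hg
    exact ⟨(⟨a, ha⟩, ⟨b, hb⟩), rfl⟩

theorem e27_sup [Finite G] {A : Subgroup G} {c : G} (hA : IsElementaryAbelian 3 A)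
    (h9 : 9 ≤ Nat.card A) (hc : c ^ 3 = 1) (h : ∀ a ∈ A, Commute a c) (hn : c ∉ A) :
    E27 (A ⊔ zpowers c) :=
  ⟨el_sup hA (el_zp hc) (by rintro a ha _ ⟨i, rfl⟩; exact (h a ha).zpow_right i),
    by rw [card_sup_zp hA hc h hn]; omega⟩

theorem e9 [Finite G] {x z : G} (hx : orderOf x = 3) (hz : orderOf z = 3) (h : Commute x z)
    (hn : x ∉ zpowers z) : IsElementaryAbelian 3 (zpowers x ⊔ zpowers z) ∧
      Nat.card ↥(zpowers x ⊔ zpowers z) = 9 := by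
  have x3 : x ^ 3 = 1 := hx ▸ pow_orderOf_eq_one x
  have z3 : z ^ 3 = 1 := hz ▸ pow_orderOf_eq_one z
  have hm : ∀ a ∈ zpowers z, Commute a x := by rintro _ ⟨i, rfl⟩; exact h.symm.zpow_left i
  rw [sup_comm]
  exact ⟨el_sup (el_zp z3) (el_zp x3) (by rintro a ha _ ⟨i, rfl⟩; exact (hm a ha).zpow_right i),
    by rw [card_sup_zp (el_zp z3) x3 hm hn, Nat.card_zpowers, hz]⟩

theorem no_ne_top [Finite G] (h : Hyp G) {p : ℕ} [Fact p.Prime] {X : Subgroup G}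
    (hX : IsPGroup p X) (h1 : X ≠ ⊥) : No X ≠ ⊤ := fun e => by
  have := h.simple
  rcases (normalizer_eq_top_iff.1 e).eq_bot_or_eq_top with e1 | e1
  · exact h1 e1
  · rw [e1, isPGroup_top_iff] at hX
    have := hX.isNilpotent
    exact h.nc (IsSimpleGroup.comm_iff_isSolvable.2 inferInstance |> fun h => ⟨⟨h⟩⟩)

theorem c1_ne_top [Finite G] (h : Hyp G) {x : G} (hx : orderOf x = 3) : C1 x ≠ ⊤ := fun e => by
  have : Fact (Nat.Prime 3) := ⟨Nat.prime_three⟩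
  refine no_ne_top h (el_pg (el_zp (hx ▸ pow_orderOf_eq_one x))) (fun e1 => ?_)
    (top_unique (e ▸ le_normalizer_of_le_centralizer ?_))
  · rw [zpowers_eq_bot.1 e1, orderOf_one] at hx; omega
  · rintro g hg _ ⟨i, rfl⟩
    exact ((show Commute x g from (mem_centralizer_singleton_iff.1 hg).symm).zpow_left i).eq

/-! ### Kit -/

/-- Quotients of proper subgroups. -/
def XS : Prop := ∀ (G : Type u) [Group G] [Finite G], Hyp G → ∀ H : Subgroup G, H ≠ ⊤ →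
  ∀ (N : Subgroup H) [N.Normal], pCore 2 (H ⧸ N) = ⊥ → Xs (H ⧸ N)

/-- Invariant `3'`-groups and 3-groups over a `3³` of `M`; normalised `3²`. -/
def K3 : Prop := ∀ (G : Type u) [Group G] [Finite G] (M Q : Subgroup G), Ua M Q →
  ∀ B : Subgroup G, E27 B → B ≤ M →
    (∀ Y : Subgroup G, ¬ 3 ∣ Nat.card Y → B ≤ No Y → Y ≤ M) ∧
    (∀ R : Subgroup G, IsPGroup 3 R → B ≤ R → R ≤ M ∧ No R ≤ M) ∧
    ∀ U : Subgroup G, U ≤ M → IsElementaryAbelian 3 U → Nat.card U = 9 → B ≤ No U → InU M U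

/-! ### `G0` -/

def XL : Prop := ∀ (G : Type u) [Group G] [Finite G] (M Q H B : Subgroup G), Ua M Q → H ≠ ⊤ →
  E27 B → B ≤ H ⊓ M → O3p H ≤ M ∧
    Xa (H ⧸ pPrimeCore 3 H) ((M.subgroupOf H).map (QuotientGroup.mk' (pPrimeCore 3 H)))

/-- `L₃(3)` is generated by the normalisers of the `3²` in a Sylow 3-subgroup. -/
def G33 : Prop := ∀ (L : Type u) [Group L] [Finite L], IsL33 L → ∀ (S : Sylow 3 L)
  (T : Subgroup L), (∀ A : Subgroup L, A ≤ (S : Subgroup L) → IsElementaryAbelian 3 A →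
    Nat.card A = 9 → No A ≤ T) → T = ⊤

def XC : Prop := ∀ (X : Type u) [Group X] [Finite X] (N K : Subgroup X), Xa X N →
  IsComponent K → K ≤ N ∨ (IsU33 K ∧ K ⊔ Ce K = ⊤ ∧ PRankLE 3 1 (Ce K) ∧ 3 ∣ Nat.card (Ce K))

def XE : Prop := ∀ (X : Type u) [Group X] [Finite X] (N K : Subgroup X), Xa X N →
  IsComponent K → (∀ J : Subgroup X, IsComponent J → J ≤ N) → N = ⊤

def XD : Prop := ∀ (X : Type u) [Group X] [Finite X] (N : Subgroup X), Xa X N →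
  (∀ J : Subgroup X, ¬ IsComponent J) → N = ⊤ ∨ ∃ D x, Xd X D x

/-- A normal subgroup of exponent 3 whose centraliser is a 3-group. -/
def XD1 : Prop := ∀ (X : Type u) [Group X] [Finite X], pPrimeCore 3 X = ⊥ →
  (∀ J : Subgroup X, ¬ IsComponent J) →
  ∃ D : Subgroup X, D.Normal ∧ (∀ d ∈ D, d ^ 3 = 1) ∧ IsPGroup 3 (Ce D)

def XY : Prop := ∀ (X : Type u) [Group X] [Finite X] (D : Subgroup X) (x : X), Xd X D x →
  Group.IsSolvable X ∧ ∀ Y : Subgroup X, (∀ g ∈ Y, g ^ 3 = 1) → 81 ≤ Nat.card Y →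
    Nat.card ↥(Y ⊓ Ce Y) ≤ 3

def XU : Prop := ∀ (G : Type u) [Group G] [Finite G] (M Q H B : Subgroup G), Ua M Q → H ≠ ⊤ →
  E27 B → B ≤ H ⊓ M → O3p H ≤ M → ¬ H ≤ M →
  ∀ (D : Subgroup (H ⧸ pPrimeCore 3 H)) (x : H ⧸ pPrimeCore 3 H), Xd _ D x →
  ∃ D' x', BetaH M H D' x'

def JobXS : Prop := XS.{u}
def JobK3 : Prop := K3.{u}
def JobXL : Prop := XS.{u} → K3.{u} → XL.{u}
def JobG33 : Prop := G33.{u}
def JobXC : Prop := G33.{u} → XC.{u}
def JobXE : Prop := XE.{u}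
def JobXD1 : Prop := XD1.{u}
def JobXD : Prop := XD1.{u} → XD.{u}
def JobXY : Prop := XY.{u}
def JobXU : Prop := K3.{u} → XY.{u} → XU.{u}

theorem g0_of (l : XL.{u}) (c : XC.{u}) (e : XE.{u}) (d : XD.{u}) (w : XU.{u}) : G0.{u} := by
  intro G _ _ M Q H B h hH hB hBH
  obtain ⟨hO, hX⟩ := l G M Q H B h hH hB hBH
  refine ⟨hO, ?_⟩
  by_cases hM : H ≤ M
  · exact .inl hM
  have hN : (M.subgroupOf H).map (QuotientGroup.mk' (pPrimeCore 3 H)) ≠ ⊤ := fun ht => hM <| by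
    intro g hg
    obtain ⟨m, hm, em⟩ : QuotientGroup.mk' (pPrimeCore 3 H) ⟨g, hg⟩ ∈
      (M.subgroupOf H).map (QuotientGroup.mk' (pPrimeCore 3 H)) := ht ▸ mem_top _
    have h1 : ((m⁻¹ * ⟨g, hg⟩ : H) : G) ∈ M := hO ⟨_, QuotientGroup.eq.1 em, rfl⟩
    have h2 := M.mul_mem hm h1
    simpa using h2
  by_cases hK : ∀ J : Subgroup (H ⧸ pPrimeCore 3 H), IsComponent J →
      J ≤ (M.subgroupOf H).map (QuotientGroup.mk' (pPrimeCore 3 H))
  · by_cases hJ : ∀ J : Subgroup (H ⧸ pPrimeCore 3 H), ¬ IsComponent J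
    · obtain ht | ⟨D, x, hD⟩ := d _ _ hX hJ
      · exact absurd ht hN
      · exact .inr (.inr (w G M Q H B h hH hB hBH hO hM D x hD))
    · push Not at hJ
      obtain ⟨J, hJ⟩ := hJ
      exact absurd (e _ _ J hX hJ hK) hN
  · push Not at hK
    obtain ⟨K, hK, hKN⟩ := hK
    obtain h1 | ⟨h1, h2, h3, h4⟩ := c _ _ K hX hK
    · exact absurd h1 hKN
    · exact .inr (.inl ⟨K, hK, h1, h2, h3, h4, hKN⟩)

/-! ### Case beta -/

def SY : Prop := ∀ (G : Type u) [Group G] [Finite G] (M Q H D : Subgroup G) (x : G), Ua M Q →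
  BetaH M H D x → ∃ P : Sylow 3 G, D ≤ (P : Subgroup G) ∧ (P : Subgroup G) ≤ M ∧
    (P : Subgroup G) ≤ C1 x

def IS : Prop := ∀ (G : Type u) [Group G] [Finite G] (M Q H D : Subgroup G) (x : G), Ua M Q →
  BetaH M H D x → (∃ e ∈ D, e ∉ zpowers x ∧ InU M (zpowers e ⊔ zpowers x)) ∧
    ∀ X : Subgroup G, X ≤ M → IsPGroup 2 X → D ≤ No X → X ≤ Q

def L2 : Prop := ∀ (G : Type u) [Group G] [Finite G] (M Q X B : Subgroup G), Ua M Q →
  IsPGroup 2 X → X ≠ ⊥ → E27 B → B ≤ No X ⊓ M → No X ≤ M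

def LOC : Prop := ∀ (G : Type u) [Group G] [Finite G] (M Q : Subgroup G), Ua M Q → Ul M Q

def JobSY : Prop := K3.{u} → G0.{u} → NA.{u} → SY.{u}
def JobIS : Prop := K3.{u} → ISO.{u} → SY.{u} → IS.{u}
def JobL2 : Prop := G0.{u} → NA.{u} → U1.{u} → IS.{u} → L2.{u}
def JobLOC : Prop := G0.{u} → NA.{u} → IS.{u} → L2.{u} → LOC.{u}

/-! ### Good elements -/

def BS : Prop := ∀ (G : Type u) [Group G] [Finite G] (M Q : Subgroup G) (x : G), Ul M Q → x ∈ M →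
  orderOf x = 3 → Good x → ¬ InU M (zpowers x) → ∃ (P : Sylow 3 G) (z v r : G), Bx M Q P x z v r

def B1 : Prop := ∀ (G : Type u) [Group G] [Finite G] (M Q : Subgroup G) (P : Sylow 3 G)
  (x z v r : G), Bx M Q P x z v r →
    (∀ e ∈ zpowers x ⊔ zpowers z, e ≠ 1 → One (zpowers x ⊔ zpowers z) (C1 e)) ∧
    ∃ X Y : Subgroup G, IsPGroup 2 X ∧ IsPGroup 2 Y ∧ zpowers x ⊔ zpowers z ≤ No X ∧
      zpowers x ⊔ zpowers z ≤ No Y ∧ ¬ IsPGroup 2 ↥(X ⊔ Y) ∧ X ⊓ Y ≠ ⊥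

def B3 : Prop := ∀ (G : Type u) [Group G] [Finite G] (M Q : Subgroup G) (P : Sylow 3 G)
  (x z v r : G), Bx M Q P x z v r → ∀ H B : Subgroup G, H ≠ ⊤ → zpowers x ⊔ zpowers z ≤ H →
    E27 B → B ≤ H → One (zpowers x ⊔ zpowers z) H

/-- An element of order 3 of `L₃(2)` normalises two 2-groups that generate no 2-group. -/
def G27 : Prop := ∀ (L : Type u) [Group L] [Finite L], IsL27 L → ∀ k : L, orderOf k = 3 →
  Tw (zpowers k) ⊤

def KQ : Prop := ∀ (X : Type u) [Group X] [Finite X] (E : Subgroup X), Xs X → pCore 2 X = ⊥ →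
  (∀ B : Subgroup X, ¬ E27 B) → IsElementaryAbelian 3 E → Nat.card E = 9 → Tw E ⊤ →
  ∃ e ∈ E, e ≠ 1 ∧ Tw E (C1 e)

def KL : Prop := ∀ (G : Type u) [Group G] [Finite G] (H E : Subgroup G), Hyp G → H ≠ ⊤ → E ≤ H →
  (∀ B : Subgroup G, E27 B → ¬ B ≤ H) → IsElementaryAbelian 3 E → Nat.card E = 9 → Tw E H →
  ∃ e ∈ E, e ≠ 1 ∧ Tw E (C1 e)

def BF : Prop := ∀ (G : Type u) [Group G] [Finite G] (E : Subgroup G), Hyp G →
  IsElementaryAbelian 3 E → Nat.card E = 9 → (∀ e ∈ E, e ≠ 1 → One E (C1 e)) →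
  (∀ H B : Subgroup G, H ≠ ⊤ → E ≤ H → E27 B → B ≤ H → One E H) →
  ∀ X Y : Subgroup G, IsPGroup 2 X → IsPGroup 2 Y → E ≤ No X → E ≤ No Y →
    ¬ IsPGroup 2 ↥(X ⊔ Y) → X ⊓ Y = ⊥

def JobBS : Prop := K3.{u} → BS.{u}
def JobB1 : Prop := ISO.{u} → B1.{u}
def JobB3 : Prop := ISO.{u} → B3.{u}
def JobG27 : Prop := G27.{u}
def JobKQ : Prop := G27.{u} → KQ.{u}
def JobKL : Prop := XS.{u} → KQ.{u} → KL.{u}
def JobBF : Prop := KL.{u} → BF.{u}
def JobUB : Prop := LOC.{u} → BS.{u} → B1.{u} → B3.{u} → BF.{u} → H48.DP2.UB.{u}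

end H92.DPB
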