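import Cfsg.Agent.H86.SPGDef
import Cfsg.Agent.H86.SPIKit

/-! STD-SP type I fusion: slot AB (the case split). -/

set_option autoImplicit false
set_option linter.unusedSectionVars false

namespace H92.SpgAB

open H64.SG (Cz Cs Ns Inv2 IsO2 mem_Cz)
open H67.UA hiding Par
open H67.SP
open H67.SA (la cm)
open H86.SPI (hf_comm hf_self q0_smul ok hf_smul_right' ac_TT TT_zero EE_sq TT_conj)
open H86.SPG

universe u

variable {n : ℕ} {F : Type} [Field F] [StarRing F] [TrivialStar F] [CharP F 2] [Finite F]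
  [Par n F] [Base n F] {G : Type u} [Group G] {e : XU n F →* G} {t h : G} {δ : F}
  {r : Vn n F → F → F → G}

theorem aa (a : F) : a + a = 0 := CharTwo.add_self_eq_zero a

theorem cjm (g a b : G) : g * (a * b) * g⁻¹ = g * a * g⁻¹ * (g * b * g⁻¹) := by group
theorem cjc (g k a : G) : g * k * a * (g * k)⁻¹ = g * (k * a * k⁻¹) * g⁻¹ := by group

theorem cjT {T X Z g : G} (h2 : T * T = 1) (h1 : g * (T * X * T⁻¹) * g⁻¹ = Z * (T * X * T⁻¹))
    (h3 : T * Z * T⁻¹ = Z) : T * g * T⁻¹ * X * (T * g * T⁻¹)⁻¹ = Z * X := by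
  have Ti : T⁻¹ = T := inv_eq_of_mul_eq_one_left h2
  calc _ = T * (g * (T⁻¹ * X * T⁻¹⁻¹) * g⁻¹) * T⁻¹ := by group
    _ = T * (Z * (T * X * T⁻¹)) * T⁻¹ := by rw [← h1, Ti, Ti]
    _ = T * Z * T⁻¹ * (T * T) * X * (T * T)⁻¹ := by group
    _ = _ := by rw [h3, h2]; group

theorem li_of {z v w : Vn n F} (w0 : w ≠ 0) (h1 : hf z v ≠ 0) (h2 : hf w v = 0) : Li z w :=
  fun a b h => by
    have := congrArg (hf · v) h
    simp only [hf_add_left, hf_smul_left, h2, mul_zero, add_zero, hf_zero_left] at this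
    obtain rfl := (mul_eq_zero.1 this).resolve_right h1
    rw [zero_smul, zero_add] at h
    exact ⟨rfl, (smul_eq_zero.1 h).resolve_right w0⟩

theorem li_add {u v w : Vn n F} (w0 : w ≠ 0) (h1 : Li u w) (h2 : ¬ Li v w) : Li (u + v) w := by
  unfold Li at h2
  push Not at h2
  obtain ⟨a, b, h, hab⟩ := h2
  have a0 : a ≠ 0 := by
    rintro rfl
    rw [zero_smul, zero_add] at h
    exact hab rfl ((smul_eq_zero.1 h).resolve_right w0)
  have hv : v = (a⁻¹ * b) • w := by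
    rw [mul_smul, add_left_cancel (h.trans (v_add_self (a • v)).symm), smul_smul,
      inv_mul_cancel₀ a0, one_smul]
  intro x y hxy
  obtain ⟨rfl, h3⟩ := h1 x (x * (a⁻¹ * b) + y) (by
    rw [← hxy, hv, smul_add, add_smul, smul_smul, add_assoc])
  exact ⟨rfl, by simpa using h3⟩

section
variable (fh : FH n F) (rm : RM e t δ r h) (nk : NK e t r) (ex : EX e t)
  (ls : LS e t r)
include rm nk

theorem z0 {g : G} (hg : Ov e t g 0) :
    ∃ γ : F, ∀ y a b, Hy y → g * r y a b * g⁻¹ = r y (a + γ * b) b := by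
  have c : ∀ y' a' b', Hy y' → ∀ y a b, Hy y →
      r y' a' b' * r y a b * (r y' a' b')⁻¹ = r y a b := fun y' a' b' h' y a b h => by
    rw [mul_inv_eq_iff_eq_mul, rm.mul _ _ _ _ _ _ h' h, rm.mul _ _ _ _ _ _ h h', add_comm y,
      add_comm a, add_comm b]
  obtain ⟨y', a', b', h', rfl | rfl⟩ := nk.zero g hg
  · exact ⟨0, fun y a b h => by rw [c _ _ _ h' _ _ _ h, zero_mul, add_zero]⟩
  · exact ⟨1, fun y a b h => by rw [cjc, c _ _ _ h' _ _ _ h, rm.tc _ _ _ h, one_mul]⟩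

theorem quo {g g' : G} {z : Vn n F} (hg : Ov e t g z) (hg' : Ov e t g' z) :
    ∃ m, Ov e t m 0 ∧ g' = g * m :=
  ⟨g⁻¹ * g', v_add_self z ▸ nk.mul _ _ _ _ (nk.inv _ _ hg) hg', by group⟩

theorem split (y : Vn n F) (a b : F) (hy : Hy y) : r y a b = r y a 0 * r 0 0 b := by
  rw [rm.mul _ _ _ _ _ _ hy hy_zero, add_zero, add_zero, zero_add]

include ex

theorem beta : ∃ β : Vn n F → Vn n F → F,
    (∀ g z y a, Ov e t g z → Hy y → g * r y a 0 * g⁻¹ = r y (a + β z y) 0) ∧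
    (∀ z z' y, Hy z → Hy z' → Hy y → β (z + z') y = β z y + β z' y) ∧
    (∀ z y, Hy z → Hy y → β z y = β y z) ∧ ∀ z, Hy z → β z z = 0 := by
  have h0 : ∀ z y, ∃ d, Hy y → ∀ g a, Ov e t g z → g * r y a 0 * g⁻¹ = r y (a + d) 0 := by
    intro z y
    by_cases hz : Hy z ∧ Hy y
    · obtain ⟨g0, hg0⟩ := ex z hz.1
      obtain ⟨d, hd⟩ := nk.q g0 z y hg0 hz.2
      refine ⟨d, fun hy g a hg => ?_⟩
      obtain ⟨m, hm, rfl⟩ := quo rm nk hg0 hg
      obtain ⟨γ, hγ⟩ := z0 rm nk hm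
      rw [cjc, hγ _ _ _ hy, mul_zero, add_zero, hd]
    · exact ⟨0, fun hy g a hg => absurd ⟨hg.hz, hy⟩ hz⟩
  choose β hβ using h0
  have l : ∀ z z' y, Hy z → Hy z' → Hy y → β (z + z') y = β z y + β z' y := by
    intro z z' y hz hz' hy
    obtain ⟨g, hg⟩ := ex z hz
    obtain ⟨g', hg'⟩ := ex z' hz'
    have := hβ _ y hy _ 0 (nk.mul _ _ _ _ hg hg')
    rw [cjc, hβ _ y hy _ _ hg', hβ _ y hy _ _ hg] at this
    have := (nk.rinj _ _ _ _ _ _ hy hy this).2.1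
    linear_combination -this
  have rr : ∀ z y y', Hy z → Hy y → Hy y' → β z (y + y') = β z y + β z y' := by
    intro z y y' hz hy hy'
    obtain ⟨g, hg⟩ := ex z hz
    have := cjm g (r y 0 0) (r y' 0 0)
    rw [rm.mul _ _ _ _ _ _ hy hy', add_zero, hβ _ _ (hy_add hy hy') _ _ hg, hβ _ _ hy _ _ hg,
      hβ _ _ hy' _ _ hg, rm.mul _ _ _ _ _ _ hy hy'] at this
    have := (nk.rinj _ _ _ _ _ _ (hy_add hy hy') (hy_add hy hy') this).2.1
    linear_combination this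
  have d : ∀ z, Hy z → β z z = 0 := by
    intro z hz
    obtain ⟨g, hg⟩ := ex z hz
    have := hβ _ z hz _ 0 hg
    rw [nk.perp g z z 0 hg hz (hf_self z)] at this
    have := (nk.rinj _ _ _ _ _ _ hz hz this).2.1
    linear_combination -this
  refine ⟨β, fun g z y a hg hy => hβ z y hy g a hg, l, fun z y hz hy => ?_, d⟩
  have := d _ (hy_add hz hy)
  rw [l _ _ _ hz hy (hy_add hz hy), rr _ _ _ hz hz hy, rr _ _ _ hy hz hy, d z hz, d y hy] at this
  linear_combination this - aa (β y z)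

include fh ls

theorem caseA (H : ∀ g z, Ov e t g z → hf z (ev 1) = 0 → Li z (ev 1) → ∀ y a, Hy y →
    g * r y a 0 * g⁻¹ = r y a 0) : KA e t r := by
  have one : ∀ v, Hy v → hf v (ev 1) = 0 → Li v (ev 1) →
      ∃ g, Ov e t g v ∧ ∀ y a b, Hy y → g * r y a b * g⁻¹ = r y a b := by
    intro v hv v1 li
    obtain ⟨z, hz, z1, z2⟩ := fh.sep2 v (ev 1) hv fh.e1.1 li 1 0
    have lz : Li z (ev 1) := li_of fh.e1.2.1 (v := v) (z1 ▸ one_ne_zero) (hf_symm v1)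
    obtain ⟨g, hg⟩ := ex z hz
    obtain ⟨l, γ, hl, -⟩ := ls g z hg z2 lz
    have l0 : l = 0 := by
      have := hl v 0 0 hv
      rw [H g z hg z2 lz v 0 hv, mul_zero, zero_smul, add_zero] at this
      have := (nk.rinj _ _ _ _ _ _ hv hv this).2.1
      rw [hf_comm v z, z1] at this
      linear_combination -this
    have hl' : ∀ y a b, Hy y → g * r y a b * g⁻¹ = r 0 (γ * b) 0 * r y a b := fun y a b hy => by
      rw [hl y a b hy, rm.mul _ _ _ _ _ _ hy_zero hy, l0]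
      simp [add_comm]
    have T2 : e (TT v) * e (TT v) = 1 := by rw [← map_mul, EE_sq (hf_zero_left v), map_one]
    have T0 : ∀ c, e (TT v) * r 0 c 0 * (e (TT v))⁻¹ = r 0 c 0 := fun c => by
      rw [rm.tt v 0 c 0 hv hy_zero]; simp
    refine ⟨e (TT v) * g * (e (TT v))⁻¹ * g, ?_, fun y a b hy => ?_⟩
    · have := nk.mul _ _ _ _ (nk.cj g z _ (fh.tt v hv) hg) hg
      rwa [ac_TT, z1, one_smul, add_right_comm, v_add_self, zero_add] at this
    · rw [cjc, hl' y a b hy, rm.mul _ _ _ _ _ _ hy_zero hy, zero_add, zero_add, cjT T2 (by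
        rw [rm.tt v y (γ * b + a) b hv hy, hl' _ _ _ (hy_add hy (hy_smul _ hv))]) (T0 _),
        rm.mul _ _ _ _ _ _ hy_zero hy, zero_add, zero_add, ← add_assoc, aa, zero_add]
  intro v hv v1
  by_cases li : Li v (ev 1)
  · exact one v hv v1 li
  · obtain ⟨g, hg, k⟩ := one _ fh.e2.1 fh.e2.2.1 fh.e2.2.2
    obtain ⟨g', hg', k'⟩ := one _ (hy_add fh.e2.1 hv) (by rw [hf_add_left, v1, fh.e2.2.1, add_zero])
      (li_add fh.e1.2.1 fh.e2.2.2 li)
    refine ⟨g * g', ?_, fun y a b hy => by rw [cjc, k' y a b hy, k y a b hy]⟩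
    have := nk.mul _ _ _ _ hg hg'
    rwa [← add_assoc, v_add_self, zero_add] at this

theorem two (aw : AW e t) {g : G} {z y : Vn n F} {a : F} (hg : Ov e t g z) (z1 : hf z (ev 1) = 0)
    (lz : Li z (ev 1)) (hy : Hy y) (H : g * r y a 0 * g⁻¹ ≠ r y a 0) (c : F) : c = 0 ∨ c = 1 := by
  by_contra hc
  push Not at hc
  obtain ⟨β, b1, -, b3, -⟩ := beta rm nk ex
  have kind : ∀ z, Hy z → hf z (ev 1) = 0 → Li z (ev 1) → ∃ l, ∀ y, Hy y → β z y = l * hf y z := by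
    intro z hz z1 lz
    obtain ⟨g, hg⟩ := ex z hz
    obtain ⟨l, γ, hl, -⟩ := ls g z hg z1 lz
    refine ⟨l, fun y hy => ?_⟩
    have := hl y 0 0 hy
    rw [b1 g z y 0 hg hy, mul_zero, zero_smul, add_zero] at this
    have := (nk.rinj _ _ _ _ _ _ hy hy this).2.1
    linear_combination this
  have hz := hg.hz
  obtain ⟨l, hl⟩ := kind z hz z1 lz
  have l0 : l ≠ 0 := by
    rintro rfl
    apply H
    rw [b1 g z y a hg hy, hl y hy, zero_mul, add_zero]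
  obtain ⟨w, hw, w1, w2⟩ := fh.sep2 z (ev 1) hz fh.e1.1 lz 1 0
  obtain ⟨lw, hlw⟩ := kind w hw w2 (li_of fh.e1.2.1 (v := z) (w1 ▸ one_ne_zero) (hf_symm z1))
  obtain ⟨l', hl'⟩ := kind (c • z) (hy_smul c hz) (by rw [hf_smul_left, z1, mul_zero])
    (li_of fh.e1.2.1 (v := w) (by rw [hf_smul_left, hf_comm, w1, mul_one]; exact hc.1) (hf_symm w2))
  have e1 : lw = l := by
    have := b3 z w hz hw
    rw [hl w hw, hlw z hz, hf_comm z w, w1] at this
    linear_combination -this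
  have e2 : l' = l := by
    have := b3 _ w (hy_smul c hz) hw
    rw [hl' w hw, hlw _ (hy_smul c hz), hf_smul_right', hf_smul_left, hf_comm z w, w1, e1,
      mul_one] at this
    exact mul_right_cancel₀ hc.1 this
  have tor : ∀ c : F, c ≠ 0 → ∀ y d, Hy y →
      e (hT n F c) * e (EE (ev 0) y d) * (e (hT n F c))⁻¹ = e (EE (ev 0) (c • y) (c ^ 2 * d)) := by
    intro c c0 y d hy
    obtain ⟨-, k1, -, k2⟩ := FV.tor (n := n) c c0
    rw [← map_inv, ← map_mul, ← map_mul, EE_conj (ok hy.1 d), k1, k2 y hy, EE_smul, nm, star_trivial,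
      pow_two]
  have tor' : ∀ y d, Hy y → (e (hT n F c))⁻¹ * e (EE (ev 0) y d) * (e (hT n F c))⁻¹⁻¹ =
      e (EE (ev 0) (c⁻¹ • y) ((c ^ 2)⁻¹ * d)) := by
    intro y d hy
    have := tor c hc.1 _ ((c ^ 2)⁻¹ * d) (hy_smul c⁻¹ hy)
    rw [smul_smul, mul_inv_cancel₀ hc.1, one_smul, mul_inv_cancel_left₀ (pow_ne_zero 2 hc.1)] at this
    rw [← this]
    group
  have ct : ∀ p, e p * t * (e p)⁻¹ = t := fun p => by rw [← aw.cen, mul_inv_cancel_right]
  have ov : Ov e t (e (hT n F c) * g * (e (hT n F c))⁻¹) (c • z) := by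
    refine ⟨hy_smul c hz, fun d => ?_, fun y d hy => ?_, ?_⟩
    · rw [cjc, cjc, tor' 0 d hy_zero, smul_zero, hg.zl, tor c hc.1 0 _ hy_zero, smul_zero,
        mul_inv_cancel_left₀ (pow_ne_zero 2 hc.1)]
    · obtain ⟨d', hd⟩ := hg.q _ ((c ^ 2)⁻¹ * d) (hy_smul c⁻¹ hy)
      refine ⟨c ^ 2 * d', ?_⟩
      rw [cjc, cjc, tor' y d hy, hd, tor c hc.1 _ _ (hy_smul c⁻¹ hy), smul_smul,
        mul_inv_cancel₀ hc.1, one_smul]
    · obtain ⟨d, hd⟩ := hg.tr
      refine ⟨c ^ 2 * d, ?_⟩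
      rw [cjc, cjc, ← map_inv, ct, hd, map_inv, cjm, ct, tor c hc.1 _ _ hz]
  have tr : ∀ a, e (hT n F c) * r w a 0 * (e (hT n F c))⁻¹ = r (c • w) (c * a) 0 := fun a => by
    rw [rm.q _ _ hw, rm.q _ _ (hy_smul c hw), tor c hc.1 _ _ hw, q0_smul, mul_pow, mul_add]
  have := b1 _ _ _ (c * 0) ov (hy_smul c hw)
  rw [← tr, show ∀ k x : G, k * g * k⁻¹ * (k * x * k⁻¹) * (k * g * k⁻¹)⁻¹ = k * (g * x * g⁻¹) * k⁻¹
    from fun k x => by group, b1 g z w 0 hg hw, tr] at this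
  have := (nk.rinj _ _ _ _ _ _ (hy_smul c hw) (hy_smul c hw) this).2.1
  rw [hl w hw, hl' _ (hy_smul c hw), hf_smul_left, hf_smul_right', w1, e2] at this
  apply hc.2
  have h3 : c * l * (c - 1) = 0 := by linear_combination -this
  exact sub_eq_zero.1 ((mul_eq_zero.1 h3).resolve_left (mul_ne_zero hc.1 l0))

theorem caseB (two : ∀ c : F, c = 0 ∨ c = 1) {g0 : G} {z0' y0 : Vn n F} {a0 : F}
    (hg0 : Ov e t g0 z0') (z1 : hf z0' (ev 1) = 0) (lz : Li z0' (ev 1)) (hy0 : Hy y0)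
    (H : g0 * r y0 a0 0 * g0⁻¹ ≠ r y0 a0 0) : KB e t r := by
  have c2 : Nat.card F = 2 := (Nat.card_eq_two_iff' (0 : F)).2
    ⟨1, one_ne_zero, fun y hy => (two y).resolve_left hy⟩
  obtain ⟨β, b1, b2, b3, b4⟩ := beta rm nk ex
  have h0 : ∀ z, ∃ w, Hy z → (w = 0 ∨ w = z) ∧
      ∀ g, Ov e t g z → ∃ a, g * r 0 0 1 * g⁻¹ = r w a 1 := by
    intro z
    by_cases hz : Hy z
    · obtain ⟨g, hg⟩ := ex z hz
      obtain ⟨w, a, hw, e1⟩ : ∃ w a, (w = 0 ∨ w = z) ∧ g * r 0 0 1 * g⁻¹ = r w a 1 := by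
        by_cases hz0 : z = 0
        · obtain ⟨γ, hγ⟩ := z0 rm nk (hz0 ▸ hg)
          exact ⟨0, _, Or.inl rfl, hγ 0 0 1 hy_zero⟩
        · obtain ⟨μ, a, hμ⟩ := nk.gz g z 1 hg hz0
          refine ⟨_, a, ?_, hμ⟩
          rcases two μ with rfl | rfl
          exacts [Or.inl (zero_smul _ _), Or.inr (one_smul _ _)]
      have hw' : Hy w := by
        rcases hw with rfl | rfl
        exacts [hy_zero, hz]
      refine ⟨w, fun _ => ⟨hw, fun g' hg' => ?_⟩⟩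
      obtain ⟨m, hm, rfl⟩ := quo rm nk hg hg'
      obtain ⟨γ, hγ⟩ := z0 rm nk hm
      refine ⟨0 + γ * 1 + a, ?_⟩
      rw [cjc, hγ _ _ _ hy_zero, split rm nk _ _ _ hy_zero, cjm,
        nk.perp g z 0 _ hg hy_zero (hf_zero_left z), e1, rm.mul _ _ _ _ _ _ hy_zero hw', zero_add w,
        zero_add (1 : F)]
    · exact ⟨0, fun h => absurd h hz⟩
  choose μ hμ using h0
  have mh : ∀ z, Hy z → Hy (μ z) := fun z hz => by
    rcases (hμ z hz).1 with e | e <;> rw [e]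
    exacts [hy_zero, hz]
  have ma : ∀ z z', Hy z → Hy z' → μ (z + z') = μ z' + μ z := by
    intro z z' hz hz'
    obtain ⟨g, hg⟩ := ex z hz
    obtain ⟨g', hg'⟩ := ex z' hz'
    obtain ⟨a, e1⟩ := (hμ z hz).2 g hg
    obtain ⟨a', e2⟩ := (hμ z' hz').2 g' hg'
    obtain ⟨a'', e3⟩ := (hμ _ (hy_add hz hz')).2 _ (nk.mul _ _ _ _ hg hg')
    rw [cjc, e2, split rm nk _ _ _ (mh _ hz'), cjm, b1 g z _ _ hg (mh _ hz'), e1,
      rm.mul _ _ _ _ _ _ (mh _ hz') (mh _ hz)] at e3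
    exact ((nk.rinj _ _ _ _ _ _ (hy_add (mh _ hz') (mh _ hz)) (mh _ (hy_add hz hz')) e3).1).symm
  have lm : ∀ {g z l γ}, Ov e t g z → (∀ y a b, Hy y →
      g * r y a b * g⁻¹ = r (y + (l * b) • z) (a + l * hf y z + γ * b) b) → μ z = l • z := by
    intro g z l γ hg hl
    obtain ⟨a, e1⟩ := (hμ z hg.hz).2 g hg
    rw [hl 0 0 1 hy_zero, zero_add, mul_one] at e1
    exact (nk.rinj _ _ _ _ _ _ (hy_smul _ hg.hz) (mh _ hg.hz) e1).1.symm
  have lne : ∀ {z : Vn n F}, Li z (ev 1) → z ≠ 0 := fun {z} h e =>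
    one_ne_zero (h 1 0 (by rw [e, smul_zero, zero_smul, add_zero])).1
  have m0 : μ z0' = z0' := by
    obtain ⟨l, γ, hl, -⟩ := ls g0 z0' hg0 z1 lz
    rcases two l with rfl | rfl
    · exact absurd (by rw [hl _ _ _ hy0]; simp) H
    · rw [lm hg0 hl, one_smul]
  have mz : ∀ z, Hy z → μ z = z := fun z hz => by
    rcases (hμ z hz).1 with e1 | e1
    · have := ma z z0' hz hg0.hz
      rw [e1, m0, add_zero] at this
      rcases (hμ _ (hy_add hz hg0.hz)).1 with e2 | e2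
      · exact absurd (this.symm.trans e2) (lne lz)
      · rw [e1]
        exact (add_eq_right.1 (e2.symm.trans this)).symm
    · exact e1
  have l1 : ∀ {g z l γ}, Ov e t g z → Li z (ev 1) → (∀ y a b, Hy y →
      g * r y a b * g⁻¹ = r (y + (l * b) • z) (a + l * hf y z + γ * b) b) → l = 1 := by
    intro g z l γ hg lz hl
    rcases two l with rfl | rfl
    · exact absurd ((mz z hg.hz).symm.trans ((lm hg hl).trans (zero_smul _ _))) (lne lz)
    · rfl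
  have k1 : ∀ z y, Hy z → hf z (ev 1) = 0 → Li z (ev 1) → Hy y → β z y = hf y z := by
    intro z y hz z1 lz hy
    obtain ⟨g, hg⟩ := ex z hz
    obtain ⟨l, γ, hl, -⟩ := ls g z hg z1 lz
    have := hl y 0 0 hy
    rw [b1 g z y 0 hg hy, mul_zero, zero_smul, add_zero, l1 hg lz hl] at this
    have := (nk.rinj _ _ _ _ _ _ hy hy this).2.1
    linear_combination this
  have p2 : ∀ {z : Vn n F}, hf z (ev 1) = 0 → hf (ev 2 + z) (ev 1) = 0 := fun h => by
    rw [hf_add_left, h, fh.e2.2.1, add_zero]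
  have k2 : ∀ z y, Hy z → hf z (ev 1) = 0 → Hy y → β z y = hf y z := by
    intro z y hz z1 hy
    by_cases li : Li z (ev 1)
    · exact k1 z y hz z1 li hy
    · have := b2 _ z y fh.e2.1 hz hy
      rw [k1 _ y (hy_add fh.e2.1 hz) (p2 z1) (li_add fh.e1.2.1 fh.e2.2.2 li) hy,
        k1 _ y fh.e2.1 fh.e2.2.1 fh.e2.2.2 hy, hf_add_right] at this
      exact (add_left_cancel this).symm
  have k3 : ∀ z y, Hy z → Hy y → β z y = hf y z := by
    intro z y hz hy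
    rcases two (hf z (ev 1)) with e1 | e1
    · exact k2 z y hz e1 hy
    rcases two (hf y (ev 1)) with e2 | e2
    · rw [b3 z y hz hy, k2 y z hy e2 hz, hf_comm]
    have := k2 _ y (hy_add hz hy) (by rw [hf_add_left, e1, e2, aa]) hy
    rwa [b2 z y y hz hy hy, b4 y hy, add_zero, hf_add_right, hf_self, add_zero] at this
  have P : ∀ g z, Ov e t g z → hf z (ev 1) = 0 →
      ∃ a c : F, g * e (TT (ev 1)) * g⁻¹ = r (c • ev 1) a 0 * e (TT (ev 1)) := by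
    have P1 : ∀ g z, Ov e t g z → hf z (ev 1) = 0 → Li z (ev 1) →
        ∃ a c : F, g * e (TT (ev 1)) * g⁻¹ = r (c • ev 1) a 0 * e (TT (ev 1)) := by
      intro g z hg z1 lz
      obtain ⟨l, γ, hl, k⟩ := ls g z hg z1 lz
      exact k c2 (l1 hg lz hl)
    intro g z hg z1
    by_cases li : Li z (ev 1)
    · exact P1 g z hg z1 li
    obtain ⟨g2, h2⟩ := ex _ fh.e2.1
    obtain ⟨a, c, e1⟩ := P1 _ _ h2 fh.e2.2.1 fh.e2.2.2
    obtain ⟨a', c', e2⟩ := P1 _ _ (nk.mul _ _ _ _ (nk.inv _ _ h2) hg) (p2 z1)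
      (li_add fh.e1.2.1 fh.e2.2.2 li)
    refine ⟨a' + a, c' + c, ?_⟩
    rw [← mul_inv_cancel_left g2 g, cjc, e2, cjm, e1, nk.perp g2 _ _ _ h2 (hy_smul _ fh.e1.1)
      (by rw [hf_smul_left, hf_comm, fh.e2.2.1, mul_zero]), ← mul_assoc,
      rm.mul _ _ _ _ _ _ (hy_smul _ fh.e1.1) (hy_smul _ fh.e1.1), add_smul, add_zero]
  refine ⟨c2, fun g z hg => ?_, fun g z v hg hv hvz => ?_⟩
  · obtain ⟨γ, e1⟩ := (hμ z hg.hz).2 g hg
    rw [mz z hg.hz] at e1
    refine ⟨γ, fun y a b hy => ?_⟩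
    rcases two b with rfl | rfl
    · rw [b1 g z y a hg hy, k3 z y hg.hz hy]; simp
    · rw [split rm nk _ _ _ hy, cjm, b1 g z y a hg hy, k3 z y hg.hz hy, e1,
        rm.mul _ _ _ _ _ _ hy hg.hz]
      simp
  · by_cases v0 : v = 0
    · refine ⟨0, 0, ?_⟩
      rw [v0, TT_zero, map_one, smul_zero, nk.one]
      simp
    obtain ⟨p, hp, e1⟩ := fh.ts _ v fh.e1.1 hv fh.e1.2.1 v0
    obtain ⟨a, c, e2⟩ := P _ _ (nk.cj g z _ (inv_mem hp) hg) (by
      rw [hf_ac_left, inv_inv, e1, hf_comm, hvz])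
    refine ⟨rt (q0 (c • v) + (q0 (c • ev 1 : Vn n F) + a ^ 2)), c, ?_⟩
    have e3 : e (TT v) = e p * e (TT (ev 1)) * (e p)⁻¹ := by
      rw [← map_inv, ← map_mul, ← map_mul, TT_conj, e1]
    rw [← nk.qr _ _ (hy_smul c hv)]
    calc _ = e p * (e p⁻¹ * g * (e p⁻¹)⁻¹ * e (TT (ev 1)) * (e p⁻¹ * g * (e p⁻¹)⁻¹)⁻¹) * (e p)⁻¹ := by
          rw [e3, map_inv]; group
      _ = _ := by
        rw [e2, cjm, ← e3, rm.q _ _ (hy_smul c fh.e1.1), ← map_inv, ← map_mul, ← map_mul,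
          EE_conj (ok (hy_smul c fh.e1.1).1 _), ac_smul, e1, mem_Stab.1 hp.1]

end

theorem jobAB : JobAB.{u} := by
  intro n F _ _ _ _ _ _ G _ _ e t b fc fh aw δ r h rm nk ex ls
  by_cases H : ∀ g z, Ov e t g z → hf z (ev 1) = 0 → Li z (ev 1) → ∀ y a, Hy y →
    g * r y a 0 * g⁻¹ = r y a 0
  · exact Or.inl (caseA fh rm nk ex ls H)
  · push Not at H
    obtain ⟨g, z, hg, z1, lz, y, a, hy, H⟩ := H
    exact Or.inr (caseB fh rm nk ex ls (two fh rm nk ex ls aw hg z1 lz hy H) hg z1 lz hy H)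

end H92.SpgAB
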