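/- Tower L33 (row S3140): actions modulo `U = ⟨z, y⟩` in codes. -/
import Cfsg.Agent.H85.L3Spec

set_option autoImplicit false
set_option linter.unusedSectionVars false
set_option linter.unusedVariables false

open Subgroup Cfsg H14 H98 H1.Gold H31.S2 H85.FZ H85.En H85.L33

universe u

namespace H92.L33

/-- the tables -/
def L0 : List ℕ := mk TS

/-- run a test on the tables -/
def rn (test : List ℕ → Bool) : Bool := forceL (mk TS) test

theorem rn_spec {test : List ℕ → Bool} (h : rn test = true) : test L0 = true := (forceL_eq _ test).symm.trans h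

theorem chk0 : chk TS L0 = true := rn_spec (test := chk TS) (by decide +kernel)

/-- `c ∈ U d` -/
def eu (L : List ℕ) (c d : ℕ) : Bool := force c fun c => force d fun d =>
  (List.range 4).any fun u => Nat.beq (mul L u d) c

/-- the image of a code -/
def hm (L : List ℕ) (im : ℕ → ℕ) (c : ℕ) : ℕ := hom L ((List.range 8).map im) c

/-- `c d = d c` -/
def cmm (L : List ℕ) (c d : ℕ) : Bool := Nat.beq (mul L c d) (mul L d c)

variable {G : Type u} [Group G] [Finite G] {x : ℕ → G} {c d k : ℕ} {g g' : G} {im im' : ℕ → ℕ}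

theorem nor_of (h : ∀ i < k, g * x i * g⁻¹ ∈ H x k) : g ∈ nor (H x k) :=
  mem_normalizer_fintype fun y hy => H_le (K := (H x k).comap (MulAut.conj g).toMonoidHom) h hy

theorem em (x : ℕ → G) (hk : k ≤ 10) (hc : c < 2 ^ k) : E x 10 c ∈ H x k := E_mono x hc hk ▸ E_mem x k c

theorem ex (x : ℕ → G) (hk : k < 10) : E x 10 (2 ^ k) = x k := E_pow x hk

theorem e1 (x : ℕ → G) : E x 10 1 = x 0 := ex x (k := 0) (by omega)
theorem e2 (x : ℕ → G) : E x 10 2 = x 1 := ex x (k := 1) (by omega)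
theorem e4 (x : ℕ → G) : E x 10 4 = x 2 := ex x (k := 2) (by omega)
theorem e8 (x : ℕ → G) : E x 10 8 = x 3 := ex x (k := 3) (by omega)
theorem e256 (x : ℕ → G) : E x 10 256 = x 8 := ex x (k := 8) (by omega)

/-- `g` acts on `R₀ / U` by the codes `im` -/
structure An (x : ℕ → G) (g : G) (im : ℕ → ℕ) : Prop where
  nor : g ∈ nor (H x 2)
  ac : ∀ r < 8, im r < 256 ∧ g * x r * g⁻¹ * (E x 10 (im r))⁻¹ ∈ H x 2

/-- the elements of `C(U)` that are trivial on `R₀ / U` -/
def KK (x : ℕ → G) : Subgroup G where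
  carrier := {k | k ∈ cen (H x 2) ∧ ∀ r ∈ H x 8, k * r * k⁻¹ * r⁻¹ ∈ H x 2}
  one_mem' := ⟨one_mem _, fun r _ => by simp⟩
  mul_mem' := fun {a b} ha hb => ⟨mul_mem ha.1 hb.1, fun r hr => by
    simpa [mul_assoc] using mul_mem (conj_mem_of_mem_normalizer (centralizer_le_normalizer _ ha.1) (hb.2 r hr))
      (ha.2 r hr)⟩
  inv_mem' := fun {a} ha => ⟨inv_mem ha.1, fun r hr => by
    simpa [mul_assoc] using conj_mem_of_mem_normalizer' (centralizer_le_normalizer _ ha.1) (inv_mem (ha.2 r hr))⟩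

theorem KK_nor (h1 : g ∈ nor (H x 2)) (h2 : g ∈ nor (H x 8)) : g ∈ nor (KK x) :=
  mem_normalizer_fintype fun k hk =>
    ⟨conj_mem_of_mem_normalizer (normalizer_le_normalizer_centralizer _ h1) hk.1, fun r hr => by
      simpa [mul_assoc] using conj_mem_of_mem_normalizer h1 (hk.2 _ (conj_mem_of_mem_normalizer' h2 hr))⟩

theorem An.lmul (h : An x g im) (hk : g' ∈ KK x) : An x (g' * g) im :=
  ⟨mul_mem (centralizer_le_normalizer _ hk.1) h.nor, fun r hr => ⟨(h.ac r hr).1, by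
    simpa [mul_assoc] using mul_mem (conj_mem_of_mem_normalizer (centralizer_le_normalizer _ hk.1) (h.ac r hr).2)
      (hk.2 _ (em x (k := 8) (by omega) (h.ac r hr).1))⟩⟩

theorem An.norR (h : An x g im) : g ∈ H1.Gold.nor (H x 8) := nor_of fun r hr => by
  simpa using mul_mem (H_mono (by omega) (h.ac r hr).2) (em x (k := 8) (by omega) (h.ac r hr).1)

theorem t1 : ∀ r < 10, (∀ i < 8, cjc L0 10 (2 ^ r) (2 ^ i) < 256) ∧ ∀ i < 2, cjc L0 10 (2 ^ r) (2 ^ i) < 4 := by
  have := rn_spec (test := fun L => decide (∀ r < 10, (∀ i < 8, cjc L 10 (2 ^ r) (2 ^ i) < 256) ∧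
    ∀ i < 2, cjc L 10 (2 ^ r) (2 ^ i) < 4)) (by decide +kernel)
  exact of_decide_eq_true this

theorem t2 : ∀ r < 8, (∀ i < 8, eu L0 (cjc L0 10 (2 ^ r) (2 ^ i)) (2 ^ i) = true) ∧
    ∀ i < 2, cmm L0 (2 ^ i) (2 ^ r) = true := by
  have := rn_spec (test := fun L => decide (∀ r < 8, (∀ i < 8, eu L (cjc L 10 (2 ^ r) (2 ^ i)) (2 ^ i) = true) ∧
    ∀ i < 2, cmm L (2 ^ i) (2 ^ r) = true)) (by decide +kernel)
  exact of_decide_eq_true this

theorem t3 : ∀ c < 2 ^ 10, (!(cmm L0 c 2 && eu L0 (mul L0 c 8) (mul L0 8 c)) || decide (c < 256)) = true :=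
  allB_iff.1 (rn_spec (test := fun L => allB 10 fun c =>
    !(cmm L c 2 && eu L (mul L c 8) (mul L 8 c)) || decide (c < 256)) (by decide +kernel))

theorem t4 : ∀ c < 2 ^ 10, (!((List.range 10).all fun i => cmm L0 c (2 ^ i)) || decide (c < 2)) = true :=
  allB_iff.1 (rn_spec (test := fun L => allB 10 fun c =>
    !((List.range 10).all fun i => cmm L c (2 ^ i)) || decide (c < 2)) (by decide +kernel))

variable (b : B0 x)
include b

theorem M0 : Md TS L0 x := md b.pres b.ind chk0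

theorem ml (c : ℕ) (hd : d < 1024) : mul L0 c d < 1024 := (M0 b).mul_lt c hd
theorem eml (c : ℕ) (hd : d < 1024) : E x 10 (mul L0 c d) = E x 10 c * E x 10 d := (M0 b).E_mul c hd
theorem einj (hc : c < 1024) (hd : d < 1024) (h : E x 10 c = E x 10 d) : c = d := ((M0 b).inj hc hd).1 h
theorem sur (hk : k ≤ 10) (hg : g ∈ H x k) : ∃ c < 2 ^ k, g = E x 10 c :=
  let ⟨c, h, e⟩ := E_surj b.pres (M0 b).wf hk hg
  ⟨c, h, e.trans (E_mono x h hk).symm⟩
theorem lt_of (hk : k ≤ 10) (hc : c < 1024) (h : E x 10 c ∈ H x k) : c < 2 ^ k := by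
  obtain ⟨d, hd, e⟩ := sur b hk h
  rwa [einj b hc (hd.trans_le (Nat.pow_le_pow_right two_pos hk)) e]
theorem ecj (hc : c < 1024) (d : ℕ) : cjc L0 10 c d < 1024 ∧
    E x 10 (cjc L0 10 c d) = E x 10 c * E x 10 d * (E x 10 c)⁻¹ := (M0 b).cjc_spec hc d
theorem ecw {w : List ℕ} (hw : w.all (· < 10) = true) : cw L0 w < 1024 ∧ E x 10 (cw L0 w) = W x w :=
  (M0 b).cw hw
theorem cmm_iff (hc : c < 1024) (hd : d < 1024) :
    cmm L0 c d = true ↔ E x 10 c * E x 10 d = E x 10 d * E x 10 c := (M0 b).eq_iff hd hc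
theorem cardH (hk : k ≤ 10) : Nat.card (H x k) = 2 ^ k := b.pres.card (M0 b).wf hk (b.ind.mono hk)
theorem twoH (hk : k ≤ 10) : IsPGroup 2 (H x k) := b.pres.isPGroup (M0 b).wf hk

theorem eu_iff (hc : c < 1024) (hd : d < 1024) : eu L0 c d = true ↔ E x 10 c * (E x 10 d)⁻¹ ∈ H x 2 := by
  simp only [eu, force_eq, List.any_eq_true, List.mem_range, Nat.beq_eq]
  refine ⟨fun ⟨u, hu, e⟩ => ?_, fun h => ?_⟩
  · rw [← e, eml b u hd, mul_inv_cancel_right]; exact em x (k := 2) (by omega) hu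
  · obtain ⟨u, hu, e⟩ := sur b (by omega) h
    exact ⟨u, hu, einj b (ml b u hd) hc (by rw [eml b u hd, ← e, inv_mul_cancel_right])⟩

theorem lcj {r i : ℕ} (hr : r < 10) (hi : i < 10) : E x 10 (cjc L0 10 (2 ^ r) (2 ^ i)) = x r * x i * (x r)⁻¹ := by
  rw [(ecj b (Nat.pow_lt_pow_right one_lt_two hr) _).2, ex x hr, ex x hi]

theorem norU : H x 10 ≤ nor (H x 2) := H_le fun r hr => nor_of fun i hi => by
  rw [← lcj b hr (by omega)]; exact em x (by omega) ((t1 r hr).2 i hi)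

theorem norR : H x 10 ≤ nor (H x 8) := H_le fun r hr => nor_of fun i hi => by
  rw [← lcj b hr (by omega)]; exact em x (by omega) ((t1 r hr).1 i hi)

theorem cenU : H x 8 ≤ cen (H x 2) := H_le fun r hr => mem_centralizer_iff.2 fun u hu =>
  H1.Gold.mem_cen1.1 (H_le (K := cen1 (x r)) (fun i hi => H1.Gold.mem_cen1.2 (by
    have := (cmm_iff b (Nat.pow_lt_pow_right one_lt_two (by omega : i < 10))
      (Nat.pow_lt_pow_right one_lt_two (by omega : r < 10))).1 ((t2 r hr).2 i hi)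
    rwa [ex x (by omega), ex x (by omega)] at this)) hu)

theorem An.hm (h : An x g im) (hc : c < 256) :
    hm L0 im c < 256 ∧ g * E x 10 c * g⁻¹ * (E x 10 (hm L0 im c))⁻¹ ∈ H x 2 := by
  obtain ⟨h1, h2⟩ := (M0 b).hom (y := fun r => E x 10 (im r)) (im := (List.range 8).map im) c fun r hr _ => by
    rw [List.length_map, List.length_range] at hr
    rw [List.getD_eq_getElem _ _ (by simpa using hr)]
    simp only [List.getElem_map, List.getElem_range]
    rfl
  rw [List.length_map, List.length_range] at h2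
  have m : ∀ r < 8, E x 10 (im r) ∈ H x 8 := fun r hr => em x (by omega) (h.ac r hr).1
  have key : ∀ k ≤ 8, g * E x k c * g⁻¹ * (E (fun r => E x 10 (im r)) k c)⁻¹ ∈ H x 2 := fun k hk => by
    induction k with
    | zero => simp [E]
    | succ k ih =>
      rw [E, E]
      split_ifs
      · simpa [mul_assoc] using mul_mem (h.ac k hk).2
          (conj_mem_of_mem_normalizer (norU b (H_mono (by omega) (m k hk))) (ih (by omega)))
      · exact ih (by omega)
  refine ⟨lt_of b (k := 8) (by omega) h1 ?_, ?_⟩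
  · exact h2 ▸ E_mem_of fun i hi _ => m i hi
  · rw [E_mono x (k := 8) hc (by omega)]
    exact h2 ▸ key 8 le_rfl

theorem An.mul (h : An x g im) (h' : An x g' im') : An x (g * g') fun r => L33.hm L0 im (im' r) :=
  ⟨mul_mem h.nor h'.nor, fun r hr => ⟨(h.hm b (h'.ac r hr).1).1, by
    simpa [mul_assoc] using mul_mem (conj_mem_of_mem_normalizer h.nor (h'.ac r hr).2) (h.hm b (h'.ac r hr).1).2⟩⟩

theorem An.congr (h : An x g im) (k : ∀ r < 8, im' r < 256 ∧ eu L0 (im r) (im' r) = true) : An x g im' :=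
  ⟨h.nor, fun r hr => ⟨(k r hr).1, by
    simpa [mul_assoc] using mul_mem (h.ac r hr).2
      ((eu_iff b ((h.ac r hr).1.trans (by omega)) ((k r hr).1.trans (by omega))).1 (k r hr).2)⟩⟩

theorem An.ker (h : An x g im) (h' : An x g' im) (k : g * g'⁻¹ ∈ cen (H x 2)) : g * g'⁻¹ ∈ KK x :=
  ⟨k, fun r hr => by
    obtain ⟨c, hc, e⟩ := sur b (by omega) (conj_mem_of_mem_normalizer' h'.norR hr)
    have := mul_mem (h.hm b hc).2 (inv_mem (h'.hm b hc).2)
    rw [← e] at this
    simpa [mul_assoc] using this⟩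

theorem an_x {r : ℕ} (hr : r < 10) : An x (x r) fun i => cjc L0 10 (2 ^ r) (2 ^ i) :=
  ⟨norU b (x_mem hr), fun i hi => ⟨(t1 r hr).1 i hi, by rw [lcj b hr (by omega)]; simp⟩⟩

theorem an_one : An x 1 fun i => 2 ^ i :=
  ⟨one_mem _, fun i hi => ⟨Nat.pow_lt_pow_right one_lt_two hi, by rw [ex x (by omega)]; simp⟩⟩

theorem R_le : H x 8 ≤ KK x := H_le fun r hr => by
  simpa using ((an_x b (by omega : r < 10)).congr b fun i hi =>
    ⟨Nat.pow_lt_pow_right one_lt_two hi, (t2 r hr).1 i hi⟩).ker b (an_one b) (by simpa using cenU b (x_mem hr))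

theorem an_of {m : List (ℕ × List ℕ)} (hg : g ∈ nor (H x 2)) (h : Ac x g m)
    (k : ∀ r < 8, (app m [r]).all (· < 8) = true ∧ ((r < 2 ∧ app m [r] = [r]) ∨ (r, app m [r]) ∈ m)) :
    An x g fun r => cw L0 (app m [r]) :=
  ⟨hg, fun r hr => by
    have a := ecw b (w := app m [r]) (List.all_eq_true.2 fun i hi => by
      have := List.all_eq_true.1 (k r hr).1 i hi
      simp only [decide_eq_true_eq] at this ⊢
      omega)
    refine ⟨lt_of b (k := 8) (by omega) a.1 (a.2 ▸ W_mem (k r hr).1), ?_⟩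
    rw [a.2]
    rcases (k r hr).2 with ⟨h1, h2⟩ | h1
    · rw [h2, W_cons, W_nil, mul_one]
      exact mul_mem (conj_mem_of_mem_normalizer hg (x_mem h1)) (inv_mem (x_mem h1))
    · exact h _ h1⟩

theorem An.ac' {m : List (ℕ × List ℕ)} (h : An x g fun r => cw L0 (app m [r]))
    (k : ∀ p ∈ m, p.1 < 8 ∧ app m [p.1] = p.2 ∧ p.2.all (· < 10) = true) : Ac x g m := fun p hp => by
  have := (h.ac _ (k p hp).1).2
  rwa [(k p hp).2.1, (ecw b (k p hp).2.2).2] at this

/-- `Z(S) = ⟨z⟩` -/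
theorem zS (hg : g ∈ H x 10) (h : H x 10 ≤ cen1 g) : g = 1 ∨ g = x 0 := by
  obtain ⟨c, hc, rfl⟩ := sur b le_rfl hg
  have := t4 c hc
  rw [List.all_eq_true.2 fun i hi => (cmm_iff b hc (Nat.pow_lt_pow_right one_lt_two (List.mem_range.1 hi))).2 (by
    rw [ex x (List.mem_range.1 hi)]
    exact (H1.Gold.mem_cen1.1 (h (x_mem (List.mem_range.1 hi)))).symm)] at this
  have : c < 2 := by simpa using this
  interval_cases c
  exacts [Or.inl (E_zero x _), Or.inr (ex x (k := 0) (by omega))]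

/-- subgroups of order `512` -/
theorem syl512 {Q N : Subgroup G} (hQ : IsPGroup 2 Q) (le : Q ≤ N) (c : Nat.card Q = 512)
    (h : ∀ g, cj g Q ≤ H x 10 → ¬ H x 10 ≤ cj g N) : IsSyl 2 Q N := by
  refine ⟨le, hQ, fun P hP h1 h2 => ?_⟩
  obtain ⟨g, -, hg⟩ := b.syl.exists_cj_le hP le_top
  obtain ⟨n, hn⟩ := hP.exists_card_eq
  have l1 := card_le_of_le h1
  have l2 := card_le_of_le hg
  rw [card_cj, cardH b le_rfl, hn, Nat.pow_le_pow_iff_right one_lt_two] at l2
  rcases l2.lt_or_eq with l | rfl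
  · exact (eq_of_le_of_card_ge h1 (hn.trans_le ((Nat.pow_le_pow_right two_pos (by omega : n ≤ 9)).trans c.ge))).symm
  · exact absurd ((eq_of_le_of_card_ge hg (by rw [card_cj, hn, cardH b le_rfl])).ge.trans (cj_mono g h2))
      (h g ((cj_mono g h1).trans hg))

theorem sylK (sU : IsSyl 2 (H x 10 ⊓ cen1 (x 1)) (cen (H x 2))) : IsSyl 2 (H x 8) (KK x) := by
  have := sU.inf_of_le_normalizer (N := KK x) (fun _ h => h.1) fun s hs => KK_nor (norU b hs.1) (norR b hs.1)
  rwa [show H x 10 ⊓ cen1 (x 1) ⊓ KK x = H x 8 from le_antisymm (fun s hs => by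
    obtain ⟨c, hc, rfl⟩ := sur b le_rfl hs.1.1
    have := t3 c hc
    rw [(cmm_iff b hc (by omega)).2 (by rw [e2]; exact H1.Gold.mem_cen1.1 hs.1.2),
      (eu_iff b (ml b c (by omega)) (ml b 8 hc)).2 (by
        rw [eml b c (by omega), eml b 8 hc, e8]
        simpa [mul_assoc] using hs.2.2 _ (x_mem (by omega : 3 < 8)))] at this
    exact em x (by omega) (by simpa using this)) fun s hs => ⟨⟨H_mono (by omega) hs,
      H1.Gold.mem_cen1.2 (mem_centralizer_iff.1 (cenU b hs) _ (x_mem (by omega))).symm⟩, R_le b hs⟩] at this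

end H92.L33
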