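/- Tower L33 (row S3140), slot FC. -/
import Cfsg.Agent.H92.L33K

set_option autoImplicit false
set_option linter.unusedSectionVars false
set_option linter.unusedVariables false
set_option synthInstance.maxSize 4096
set_option maxRecDepth 4096

open Subgroup Cfsg H14 H98 H1.Gold H31.S2 H85.FZ H85.En H85.L33

universe u

namespace H92.L33

/-- the codes of a substitution -/
def ic (L : List ℕ) (m : List (ℕ × List ℕ)) (r : ℕ) : ℕ := cw L (app m [r])
/-- the action of `v` -/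
def iw (L : List ℕ) (i : ℕ) : ℕ := cjc L 10 (2 ^ 8) (2 ^ i)
/-- composition -/
def cp (L : List ℕ) (f g : ℕ → ℕ) (r : ℕ) : ℕ := hm L f (g r)

theorem t5 : ∀ ε : Bool, ∀ r < (8 : ℕ), (ic L0 (m5 ε) r < 256 ∧
    eu L0 (cp L0 (cp L0 (cp L0 (ic L0 (m2 ε)) (iw L0)) (ic L0 (m2 ε))) (iw L0) r) (ic L0 (m5 ε) r) = true) ∧
    (cp L0 (ic L0 (m5 ε)) (iw L0) r < 256 ∧
      eu L0 (cp L0 (iw L0) (ic L0 (m5 ε)) r) (cp L0 (ic L0 (m5 ε)) (iw L0) r) = true) ∧
    eu L0 (cp L0 (cp L0 (ic L0 (m5 ε)) (ic L0 (m5 ε))) (cp L0 (ic L0 (m5 ε)) (ic L0 (m5 ε))) r)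
      (ic L0 (m5 ε) r) = true :=
  of_decide_eq_true (rn_spec (test := fun L => decide (∀ ε : Bool, ∀ r < (8 : ℕ), (ic L (m5 ε) r < 256 ∧
    eu L (cp L (cp L (cp L (ic L (m2 ε)) (iw L)) (ic L (m2 ε))) (iw L) r) (ic L (m5 ε) r) = true) ∧
    (cp L (ic L (m5 ε)) (iw L) r < 256 ∧
      eu L (cp L (iw L) (ic L (m5 ε)) r) (cp L (ic L (m5 ε)) (iw L) r) = true) ∧
    eu L (cp L (cp L (ic L (m5 ε)) (ic L (m5 ε))) (cp L (ic L (m5 ε)) (ic L (m5 ε))) r)
      (ic L (m5 ε) r) = true)) (by decide +kernel))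

/-- `a y`, `f c`, `g e c`, `v y`, `v a` -/
def R5 : List ℕ := [6, 80, 176, 258, 260]
/-- `f e` and `g e` -/
def w1 (ε : Bool) : ℕ := bif ε then 96 else 160

theorem t6 : ∀ c < 2 ^ 9, (!(Nat.beq (mul L0 c c) 1) || (mem c [4, 5, 8, 9, 12, 13] ||
    tb (cls L0 10 (96 :: 160 :: 10 :: 264 :: R5)) c)) = true :=
  allB_iff.1 (by simpa only [force_eq] using (rn_spec (test := fun L =>
    force (cls L 10 (96 :: 160 :: 10 :: 264 :: R5)) fun K => allB 9 fun c =>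
      !(Nat.beq (mul L c c) 1) || (mem c [4, 5, 8, 9, 12, 13] || tb K c)) (by decide +kernel)))

theorem t7 : ∀ ε : Bool, ∀ u < (4 : ℕ), tb (cls L0 10 R5) (mul L0 u (hm L0 (ic L0 (m5 ε)) (w1 ε))) = true ∧
    tb (cls L0 10 R5) (mul L0 u (hm L0 (cp L0 (ic L0 (m5 ε)) (ic L0 (m5 ε))) (w1 (!ε)))) = true :=
  of_decide_eq_true (rn_spec (test := fun L => decide (∀ ε : Bool, ∀ u < (4 : ℕ),
    tb (cls L 10 R5) (mul L u (hm L (ic L (m5 ε)) (w1 ε))) = true ∧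
    tb (cls L 10 R5) (mul L u (hm L (cp L (ic L (m5 ε)) (ic L (m5 ε))) (w1 (!ε)))) = true)) (by decide +kernel))

theorem t8 : ((∀ r ∈ R5, ∃ d ∈ [(512 : ℕ), 688, 592, 768, 770], mul L0 d d = 0 ∧ cmm L0 d r = true) ∧
    (czl L0 10 4).length = 512) ∧ (∀ u < (4 : ℕ), cmm L0 u 256 = true → u < 2) ∧
    (∀ u < (2 : ℕ), tb (cls L0 10 R5) (mul L0 (mul L0 u 4) 2) = true ∧
      tb (cls L0 10 R5) (mul L0 256 (mul L0 u 4)) = true ∧ tb (cls L0 10 [4]) (mul L0 u 4) = true) ∧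
    (∀ c ∈ [(4 : ℕ), 5, 8, 9, 12, 13], tb (cls L0 10 [4, 8]) c = true) ∧
    ∀ c < (16 : ℕ), cmm L0 c 256 = true → c ∈ [0, 1, 4, 5, 8, 9, 12, 13] :=
  of_decide_eq_true (rn_spec (test := fun L => decide (
    ((∀ r ∈ R5, ∃ d ∈ [(512 : ℕ), 688, 592, 768, 770], mul L d d = 0 ∧ cmm L d r = true) ∧
    (czl L 10 4).length = 512) ∧ (∀ u < (4 : ℕ), cmm L u 256 = true → u < 2) ∧
    (∀ u < (2 : ℕ), tb (cls L 10 R5) (mul L (mul L u 4) 2) = true ∧
      tb (cls L 10 R5) (mul L 256 (mul L u 4)) = true ∧ tb (cls L 10 [4]) (mul L u 4) = true) ∧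
    (∀ c ∈ [(4 : ℕ), 5, 8, 9, 12, 13], tb (cls L 10 [4, 8]) c = true) ∧
    ∀ c < (16 : ℕ), cmm L c 256 = true → c ∈ [0, 1, 4, 5, 8, 9, 12, 13])) (by decide +kernel))

theorem t9 : ∀ c < 2 ^ 10, (!(cmm L0 c 4 && Nat.beq (mul L0 c c) 0) || decide (c < 512)) = true :=
  allB_iff.1 (rn_spec (test := fun L => allB 10 fun c =>
    !(cmm L c 4 && Nat.beq (mul L c c) 0) || decide (c < 512)) (by decide +kernel))

variable {G : Type u} [Group G] [Finite G] {x : ℕ → G} {X A : Subgroup G} {c d k : ℕ} {g r : G}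

/-- `r` commutes with a conjugate of `t` -/
def Pd (t r : G) : Prop := ∃ d, IsConj t d ∧ d * r = r * d

theorem Pd.cj {t : G} (h : Pd t r) (g : G) : Pd t (g * r * g⁻¹) :=
  let ⟨d, h1, h2⟩ := h
  ⟨g * d * g⁻¹, h1.trans (_root_.isConj_iff.2 ⟨g, rfl⟩), by rw [conj_mul, conj_mul, h2]⟩

theorem Pd.of_cj {t : G} (h : Pd t (g * r * g⁻¹)) : Pd t r := by simpa [mul_assoc] using h.cj g⁻¹

variable (b : B0 x)
include b

theorem vv : x 8 * x 8 = 1 := b.pres.sq 8 (by decide)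
theorem tt : x 9 * x 9 = 1 := b.pres.sq 9 (by decide)
theorem aa : x 2 * x 2 = x 0 := (b.pres.sq 2 (by decide)).trans (mul_one _)
theorem cc : x 4 * x 4 = x 1 := (b.pres.sq 4 (by decide)).trans (mul_one _)
theorem z_ne : x 0 ≠ 1 := fun e => b.ind 0 (by omega) (e ▸ one_mem _)
theorem zz : x 0 * x 0 = 1 := b.pres.sq 0 (by decide)

theorem Q_le : cl [x 2, x 3] ≤ H x 4 ⊓ cen1 (x 8) := cl_le.2 fun y hy => by
  simp only [List.mem_cons, List.not_mem_nil, or_false] at hy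
  rcases hy with rfl | rfl
  · exact ⟨x_mem (by omega), H1.Gold.mem_cen1.2 ((b.pres.cj 8 (by decide) 2 (by omega)).trans
      (congrArg _ (mul_one _)))⟩
  · exact ⟨x_mem (by omega), H1.Gold.mem_cen1.2 ((b.pres.cj 8 (by decide) 3 (by omega)).trans
      (congrArg _ (mul_one _)))⟩

theorem mem_Q (hc : c ∈ [0, 1, 4, 5, 8, 9, 12, 13]) : E x 10 c ∈ cl [x 2, x 3] := by
  have m2 : x 2 ∈ cl [x 2, x 3] := mem_cl (by simp)
  refine E_mem_of fun i hi h => ?_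
  have : i = 0 ∨ i = 2 ∨ i = 3 := by revert c i; decide
  rcases this with rfl | rfl | rfl
  exacts [aa b ▸ mul_mem m2 m2, m2, mem_cl (by simp)]

theorem Q_iff : g ∈ cl [x 2, x 3] ↔ g ∈ H x 4 ⊓ cen1 (x 8) :=
  ⟨fun h => Q_le b h, fun h => by
    obtain ⟨c, hc, rfl⟩ := sur b (by omega) h.1
    exact mem_Q b (t8.2.2.2.2 c hc ((cmm_iff b (by omega) (by omega)).2 (e256 x ▸ H1.Gold.mem_cen1.1 h.2)))⟩

theorem SX (h : C6 X A x) (f : FA X A x) (f1 : FX1 x) (f2 : FX2 x) : H x 10 ⊓ X = H x 9 := by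
  have mu := H85.DZ.as_mul h.st.as (tt b)
  have hU : H x 2 ≤ X := H_le fun i hi => by
    interval_cases i
    exacts [aa b ▸ (mu _ _).2 Iff.rfl, cc b ▸ (mu _ _).2 Iff.rfl]
  have key : ∀ g m, Ac x g m → ∀ p ∈ m, (x p.1 ∈ X ↔ W x p.2 ∈ X) := fun g m a p hp => by
    have := (mu _ _).1 (hU (a p hp))
    rwa [inv_mem_iff, ← H85.DZ.as_conj h.st.as (_root_.isConj_iff.2 ⟨g, rfl⟩)] at this
  obtain ⟨g1, -, a1⟩ := f1
  obtain ⟨ε, g2, -, a2⟩ := f2.x2
  have k2 := key _ _ a2 (2, [3]) (by simp [m2])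
  have k3 := key _ _ a2 (3, [3, 2]) (by simp [m2])
  have k4 := key _ _ a1 (4, [5, 4]) (by simp [m1])
  have k5 := key _ _ a1 (5, [4]) (by simp [m1])
  have k6 := key _ _ a1 (6, [7]) (by simp [m1])
  have k7 := key _ _ a1 (7, [7, 6]) (by simp [m1])
  simp only [W_cons, W_nil, mul_one, mu] at k2 k3 k4 k5 k6 k7
  have lg : ∀ {p q : Prop}, (p ↔ (p ↔ q)) → q := fun h => by tauto
  have j2 := lg k3
  have j5 := lg (k4.trans Iff.comm)
  have j6 := lg k7
  have le : H x 9 ≤ X := H_le fun i hi => by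
    interval_cases i
    exacts [hU (x_mem (by omega)), hU (x_mem (by omega)), j2, k2.1 j2, k5.1 j5, j5, j6, k6.1 j6, h.st.AX h.vA]
  refine le_antisymm (fun s hs => ?_) (le_inf (H_mono (by omega)) le)
  exact (b.pres.mem_succ (M0 b).wf (k := 9) (by decide) hs.1).resolve_right fun k =>
    f.tX (inv_mem_iff.1 ((X.mul_mem_cancel_right hs.2).1 (le k)))

/-- `K' ⟨v⟩` -/
def LL (x : ℕ → G) (b : B0 x) : Subgroup G where
  carrier := {l | l ∈ KK x ∨ l * x 8 ∈ KK x}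
  one_mem' := Or.inl (one_mem _)
  mul_mem' := fun {l l'} h h' => by
    have n := KK_nor (norU b (x_mem (by omega : 8 < 10))) (norR b (x_mem (by omega : 8 < 10)))
    have i : (x 8)⁻¹ = x 8 := inv_eq_of_mul_eq_one_right (vv b)
    rcases h with h | h <;> rcases h' with h' | h'
    · exact Or.inl (mul_mem h h')
    · exact Or.inr (by simpa only [mul_assoc] using mul_mem h h')
    · exact Or.inr (by simpa [mul_assoc] using mul_mem h (conj_mem_of_mem_normalizer' n h'))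
    · refine Or.inl ?_
      have := mul_mem h (conj_mem_of_mem_normalizer n h')
      rwa [mul_assoc (x 8), mul_inv_cancel_right, mul_assoc, ← mul_assoc (x 8), vv b, one_mul] at this
  inv_mem' := fun {l} h => h.imp inv_mem fun h => by
    have n := KK_nor (norU b (x_mem (by omega : 8 < 10))) (norR b (x_mem (by omega : 8 < 10)))
    have := conj_mem_of_mem_normalizer n (inv_mem h)
    rwa [mul_inv_rev, mul_inv_cancel_left, inv_eq_of_mul_eq_one_right (vv b)] at this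

theorem sylL (sU : IsSyl 2 (H x 10 ⊓ cen1 (x 1)) (cen (H x 2))) : IsSyl 2 (H x 9) (LL x b) := by
  refine ⟨H_le fun i hi => ?_, twoH b (by omega), fun Q hQ h1 h2 => le_antisymm (fun q hq => ?_) h1⟩
  · rcases Nat.lt_succ_iff_lt_or_eq.1 hi with l | rfl
    exacts [Or.inl (R_le b (x_mem l)), Or.inr (vv b ▸ one_mem _)]
  have e := (sylK b sU).eq_of_le (hQ.to_inf_left (K := KK x))
    (le_inf ((H_mono (by omega)).trans h1) (R_le b)) inf_le_right
  have v : x 8 ∈ H x 9 := x_mem (by omega)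
  rcases h2 hq with k | k
  · exact H_mono (by omega : 8 ≤ 9) (e.le ⟨hq, k⟩)
  · exact (mul_mem_cancel_right v).1 (H_mono (by omega : 8 ≤ 9) (e.le ⟨mul_mem hq (h1 v), k⟩))

theorem x5 (h : C6 X A x) (f : FA X A x) (f2 : FX2 x) (fb : FB x) :
    ∃ ε, ∃ g ∈ X ⊓ cen (H x 2) ⊓ cen1 (x 8), An x g (ic L0 (m5 ε)) := by
  obtain ⟨ε, g, gU, a⟩ := f2.x2
  have i : (x 8)⁻¹ = x 8 := inv_eq_of_mul_eq_one_right (vv b)
  have a2 : An x g (ic L0 (m2 ε)) := an_of b (centralizer_le_normalizer _ gU) a (by cases ε <;> decide)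
  have av : An x (x 8) (iw L0) := an_x b (by omega)
  have nc := normalizer_le_normalizer_centralizer _ av.nor
  have a4 := (((a2.mul b av).mul b a2).mul b av).congr b fun r hr => (t5 ε r hr).1
  have c4 : g * x 8 * g * x 8 ∈ cen (H x 2) := by
    simpa only [mul_assoc, i] using mul_mem gU (conj_mem_of_mem_normalizer nc gU)
  generalize g * x 8 * g * x 8 = p at a4 c4
  have k := (a4.mul b av).ker b ((av.mul b a4).congr b fun r hr => (t5 ε r hr).2.1) (by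
    simpa only [mul_assoc, mul_inv_rev] using mul_mem c4 (conj_mem_of_mem_normalizer nc (inv_mem c4)))
  rw [mul_inv_rev, i, ← mul_assoc] at k
  obtain ⟨l, hl, e⟩ := (sylL b f2.sylU).exists_cj_le (Q := zpowers (p * x 8 * p⁻¹))
    (H98.isPGroup_zpowers (k := 1) (by rw [pow_one, sq, conj_mul, vv b, mul_one, mul_inv_cancel]))
    (zpowers_le.2 (Or.inr k))
  have e1 := e (conj_mem_cj (mem_zpowers _))
  obtain ⟨k, hk, e2⟩ : ∃ k ∈ KK x, k * (p * x 8 * p⁻¹) * k⁻¹ ∈ H x 9 := by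
    rcases hl with hl | hl
    · exact ⟨l, hl, e1⟩
    · have v : x 8 ∈ H x 9 := x_mem (by omega)
      exact ⟨x 8 * l, by simpa [mul_assoc] using conj_mem_of_mem_normalizer (KK_nor av.nor av.norR) hl,
        by simpa only [mul_assoc, mul_inv_rev] using mul_mem v (mul_mem e1 (inv_mem v))⟩
  obtain ⟨j, -, vy⟩ := f.vy
  have c5 := mul_mem hk.1 c4
  rw [show k * (p * x 8 * p⁻¹) * k⁻¹ = k * p * x 8 * (k * p)⁻¹ by group] at e2
  obtain ⟨r, hr, e3⟩ := (fb _ e2 ((b.zy.trans (_root_.isConj_iff.2 ⟨j, vy⟩).symm).trans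
    (_root_.isConj_iff.2 ⟨_, rfl⟩))).resolve_left fun m => b.ind 8 (by omega) (H_mono (by omega) (by
      simpa [mul_assoc] using conj_mem_of_mem_normalizer' (centralizer_le_normalizer _ c5) m : x 8 ∈ H x 2))
  have a6 := (a4.lmul hk).lmul (inv_mem (R_le b hr))
  have c6 : r⁻¹ * (k * p) ∈ cen (H x 2) ⊓ cen1 (x 8) := mem_inf.2 ⟨mul_mem (inv_mem (cenU b hr)) c5, H1.Gold.mem_cen1.2 (by
    calc _ = r⁻¹ * (k * p * x 8 * (k * p)⁻¹) * (k * p) := by group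
      _ = _ := by rw [e3]; group)⟩
  have c7 := mul_mem (mul_mem c6 c6) (mul_mem c6 c6)
  exact ⟨ε, _, ⟨⟨(H85.DZ.as_mul h.st.as (tt b) _ _).2 Iff.rfl, c7.1⟩, c7.2⟩,
    ((a6.mul b a6).mul b (a6.mul b a6)).congr b fun r hr => ⟨(t5 ε r hr).1.1, (t5 ε r hr).2.2⟩⟩

theorem pd_cls {R : List ℕ} (hR : R.all (· < 2 ^ TS.n) = true) (h : ∀ r ∈ R, Pd (x 9) (E x 10 r))
    (k : tb (cls L0 10 R) c = true) : Pd (x 9) (E x 10 c) := by
  obtain ⟨r, hr, s, -, e⟩ := (M0 b).cls le_rfl hR k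
  exact (show E x 10 c = _ from e) ▸ (h r hr).cj s

theorem not_pd (f : FA X A x) : ¬ Pd (x 9) (x 2) := fun ⟨d, h1, h2⟩ => by
  have sy : IsSyl 2 (H x 10 ⊓ cen1 (x 2)) (cen1 (x 2)) := syl512 b (twoH b le_rfl).to_inf_left inf_le_right
    (e4 x ▸ ((M0 b).card_cz (y := 4) (by decide)).trans t8.1.2) fun g h1 h2 => by
      have := zS b (h1 (conj_mem_cj ⟨x_mem (by omega), H1.Gold.mem_cen1.2 rfl⟩)) fun s hs => H1.Gold.mem_cen1.2 (by
        calc _ = g * (g⁻¹ * s * g * x 2) * g⁻¹ := by group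
          _ = _ := by rw [H1.Gold.mem_cen1.1 (mem_cj.1 (h2 hs))]; group)
      have k : g * x 2 * g⁻¹ * (g * x 2 * g⁻¹) = 1 := by
        rcases this with e | e <;> rw [e]
        exacts [mul_one 1, zz b]
      rw [conj_mul, aa b] at k
      exact z_ne b (by simpa using k)
  have dd : d * d = 1 := by
    obtain ⟨c, rfl⟩ := _root_.isConj_iff.1 h1
    rw [conj_mul, tt b, mul_one, mul_inv_cancel]
  obtain ⟨g, -, e⟩ := sy.exists_cj_le (Q := zpowers d) (H98.isPGroup_zpowers (k := 1) (by rwa [pow_one, sq]))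
    (zpowers_le.2 (H1.Gold.mem_cen1.2 h2))
  have m := e (conj_mem_cj (mem_zpowers d))
  obtain ⟨c, hc, e'⟩ := sur b le_rfl m.1
  have := t9 c hc
  rw [(cmm_iff b hc (by omega)).2 (by rw [← e', e4]; exact H1.Gold.mem_cen1.1 m.2),
    ((M0 b).sq_iff hc).2 (show E x 10 c * E x 10 c = 1 by
      rw [← e', conj_mul, dd, mul_one, mul_inv_cancel])] at this
  exact f.nD _ (e' ▸ em x (k := 9) (by omega) (by simpa using this)) (h1.trans (_root_.isConj_iff.2 ⟨g, rfl⟩))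

theorem jobFC' (h : C6 X A x) (f : FA X A x) (f1 : FX1 x) (f2 : FX2 x) (fb : FB x) : FC X x := by
  obtain ⟨ε, g, ⟨⟨gX, gU⟩, gv⟩, a⟩ := x5 b h f f2 fb
  have cv : ∀ q ∈ cen1 (x 8), g * q * g⁻¹ ∈ cen1 (x 8) := fun q hq => mul_mem (mul_mem gv hq) (inv_mem gv)
  have ac := a.ac' b (m := m5 ε) (by cases ε <;> decide)
  have m2 : x 2 ∈ cl [x 2, x 3] := mem_cl (by simp)
  have m3 : x 3 ∈ cl [x 2, x 3] := mem_cl (by simp)
  have a2 := ac (2, [3, 2]) (by simp [m5])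
  have a3 := ac (3, [2]) (by simp [m5])
  simp only [W_cons, W_nil, mul_one] at a2 a3
  have gQ : g ∈ nor (cl [x 2, x 3]) := mem_normalizer_fintype fun q hq =>
    cl_le (K := (cl [x 2, x 3]).comap (MulAut.conj g).toMonoidHom).2 (fun y hy => by
      simp only [List.mem_cons, List.not_mem_nil, or_false] at hy
      rcases hy with rfl | rfl
      · exact (Q_iff b).2 ⟨(mul_mem_cancel_right (inv_mem (mem_inf.1 (Q_le b (mul_mem m3 m2))).1)).1 (H_mono (by omega) a2),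
          cv _ (Q_le b m2).2⟩
      · exact (Q_iff b).2 ⟨(mul_mem_cancel_right (inv_mem (mem_inf.1 (Q_le b m2)).1)).1 (H_mono (by omega) a3),
          cv _ (Q_le b m3).2⟩) hq
  refine ⟨SX b h f f1 f2, ⟨ε, g, ⟨⟨⟨gX, gU⟩, gv⟩, gQ⟩, ac⟩, fun j hj q hq m => ?_⟩
  obtain ⟨u, hu, eu⟩ := sur b (by omega) a3
  have u2 : u < 2 := t8.2.1 u hu ((cmm_iff b (by omega) (by omega)).2 (by
    rw [← eu, e256]; exact H1.Gold.mem_cen1.1 (mul_mem (cv _ (Q_le b m3).2) (inv_mem (mem_inf.1 (Q_le b m2)).2))))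
  have gb : g * x 3 * g⁻¹ = E x 10 (mul L0 u 4) := by rw [eml b u (by omega), ← eu, e4, inv_mul_cancel_right]
  have l4 := ml b u (d := 4) (by omega)
  obtain ⟨s1, s2, s3⟩ := t8.2.2.1 u u2
  have p5 : ∀ r ∈ R5, Pd (x 9) (E x 10 r) := fun r hr => by
    obtain ⟨d, hd, k1, k2⟩ := t8.1.1 r hr
    have d1 : d < 1024 ∧ 512 ≤ d := by clear k1 k2; revert d; decide
    have r1 : r < 1024 := (by decide : ∀ r ∈ R5, r < 1024) r hr
    exact ⟨_, f.D _ (em x le_rfl d1.1) (fun m => absurd (lt_of b (by omega) d1.1 m) (by omega))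
      (by rw [← eml b d d1.1, k1, E_zero]), (cmm_iff b d1.1 r1).1 k2⟩
  have pa : Pd (x 9) (E x 10 10) := Pd.of_cj (g := g) (by
    have := pd_cls b (by decide) p5 s1
    rw [eml b _ (by omega), ← gb, e2] at this
    rwa [show E x 10 10 = x 3 * x 1 by simp [E, Nat.testBit], ← conj_mul,
      ← mem_centralizer_iff.1 gU _ (x_mem (by omega : 1 < 2)), mul_inv_cancel_right])
  have pb : Pd (x 9) (E x 10 264) := Pd.of_cj (g := g) (by
    have := pd_cls b (by decide) p5 s2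
    rw [eml b _ l4, ← gb, e256] at this
    rwa [show E x 10 264 = x 8 * x 3 by simp [E, Nat.testBit], ← conj_mul,
      H1.Gold.mem_cen1.1 gv, mul_inv_cancel_right])
  have step : ∀ {g : G} {im : ℕ → ℕ} {c : ℕ}, An x g im → c < 256 →
      (∀ u < 4, tb (cls L0 10 R5) (mul L0 u (hm L0 im c)) = true) → Pd (x 9) (E x 10 c) :=
    fun a hc k => by
      obtain ⟨l, e⟩ := a.hm b hc
      obtain ⟨u, hu, e'⟩ := sur b (by omega) e
      have := pd_cls b (by decide) p5 (k u hu)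
      rw [eml b u (by omega), ← e', inv_mul_cancel_right] at this
      exact this.of_cj
  have p1 := step (c := w1 ε) a (by cases ε <;> decide) fun u hu => (t7 ε u hu).1
  have p2 := step (c := w1 (!ε)) (a.mul b a) (by cases ε <;> decide) fun u hu => (t7 ε u hu).2
  have p9 : ∀ r ∈ 96 :: 160 :: 10 :: 264 :: R5, Pd (x 9) (E x 10 r) := by
    simp only [List.forall_mem_cons]
    cases ε
    exacts [⟨p2, p1, pa, pb, p5⟩, ⟨p1, p2, pa, pb, p5⟩]
  have na := not_pd b f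
  have nb : ¬ Pd (x 9) (x 3) := fun k => by
    obtain ⟨r, hr, s, -, e⟩ := (M0 b).cls le_rfl (R := [4]) (by decide) s3
    rw [List.mem_singleton.1 hr] at e
    have := k.cj g
    rw [gb, show E x 10 _ = _ from e] at this
    exact na (e4 x ▸ this.of_cj)
  obtain ⟨c, hc, rfl⟩ := sur b (by omega) (Q_le b hq).1
  have c8 := t8.2.2.2.2 c hc ((cmm_iff b (by omega) (by omega)).2 (e256 x ▸ H1.Gold.mem_cen1.1 (Q_le b hq).2))
  by_cases c2 : c < 2
  · interval_cases c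
    · simp
    · rwa [e1, H1.Gold.mem_cen1.1 hj, mul_inv_cancel_right, ← e1 x]
  have c6 : c ∈ [4, 5, 8, 9, 12, 13] := (by decide : ∀ c ∈ [0, 1, 4, 5, 8, 9, 12, 13], ¬ c < 2 →
    c ∈ [4, 5, 8, 9, 12, 13]) c c8 c2
  obtain ⟨r, hr, s, hs, e⟩ := (M0 b).cls le_rfl (R := [4, 8]) (by decide) (t8.2.2.2.1 c c6)
  have e : E x 10 c = s * E x 10 r * s⁻¹ := e
  have nq : ¬ Pd (x 9) (E x 10 c) ∧ E x 10 c * E x 10 c = x 0 := by
    have zc := H1.Gold.mem_cen1.1 (H_le (K := cen1 (x 0)) (fun i hi => H1.Gold.mem_cen1.2 (by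
      simpa using b.pres.W_eq (w := [i, 0]) (w' := [0, i]) (by revert i; decide +kernel))) hs)
    simp only [List.mem_cons, List.not_mem_nil, or_false] at hr
    rw [e, conj_mul]
    rcases hr with rfl | rfl
    · rw [e4, aa b, zc, mul_inv_cancel_right]
      exact ⟨fun k => na k.of_cj, rfl⟩
    · rw [e8, show x 3 * x 3 = x 0 from (b.pres.sq 3 (by decide)).trans (mul_one _), zc, mul_inv_cancel_right]
      exact ⟨fun k => nb k.of_cj, rfl⟩
  obtain ⟨d, hd, e'⟩ := sur b (by omega) m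
  have := t6 d hd
  rw [((M0 b).eq_iff' (c := d) (d := d) (e := 1) (hd.trans (by decide)) (by decide)).2
    (show E x 10 d * E x 10 d = E x 10 1 by
      rw [← e', conj_mul, nq.2, H1.Gold.mem_cen1.1 hj, mul_inv_cancel_right, e1])] at this
  simp only [Bool.not_true, Bool.false_or, Bool.or_eq_true, mem_iff] at this
  rcases this with k | k
  · exact e' ▸ mem_Q b (List.mem_cons_of_mem _ (List.mem_cons_of_mem _ k))
  · exact absurd (Pd.of_cj (e' ▸ pd_cls b (by decide) p9 k)) nq.1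

omit b in
theorem jobFC : JobFC.{u} := fun _ _ _ _ _ _ h f f1 f2 fb => jobFC' h.toB0 h f f1 f2 fb

end H92.L33
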