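/- Tower L33 (row S3140), slot FX2. -/
import Cfsg.Agent.H92.L33FC

set_option autoImplicit false
set_option linter.unusedSectionVars false
set_option linter.unusedVariables false
set_option synthInstance.maxSize 4096
set_option maxRecDepth 4096

open Subgroup Cfsg H14 H98 H1.Gold H31.S2 H85.FZ H85.En H85.L33

universe u

namespace H92.L33

/-- the masks of the three blocks -/
def mb (u : ℕ) : ℕ := if u = 1 then 15 else if u = 2 then 51 else 195
/-- `[c, d] ∈ {1, u}` -/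
def cu (L : List ℕ) (u c d : ℕ) : Bool := force (mul L c d) fun p => force (mul L d c) fun q =>
  Nat.beq p q || Nat.beq p (mul L u q)
/-- the candidates for the action -/
def kc (δ ε : Bool) (r : ℕ) : ℕ :=
  if r = 2 then bif δ then 8 else 12 else if r = 3 then bif δ then 12 else 4
  else if r = 4 then bif ε then 32 else 48 else if r = 5 then bif ε then 48 else 16 else 2 ^ r

theorem s1 : ∀ c < 2 ^ 10, ((!(([1, 2, 4, 8, 16, 32, 64, 128, 768].all fun i => cmm L0 c i)) || decide (c < 4)) &&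
    (!(cmm L0 c 2 && decide (mul L0 c c < 4) && !Nat.beq (mul L0 c c) 0) || decide (c < 256))) = true :=
  allB_iff.1 (rn_spec (test := fun L => allB 10 fun c =>
    (!(([1, 2, 4, 8, 16, 32, 64, 128, 768].all fun i => cmm L c i)) || decide (c < 4)) &&
    (!(cmm L c 2 && decide (mul L c c < 4) && !Nat.beq (mul L c c) 0) || decide (c < 256))) (by decide +kernel))

theorem s2 : ∀ c < 2 ^ 8, (([1, 2, 3].all fun u => bif Nat.beq (Nat.land c (mb u)) c then allB 8 (cu L0 u c) else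
    !(List.range 8).all fun i => cu L0 u c (2 ^ i)) && (eu L0 (hm L0 (ic L0 m1) c) c == decide (c < 16))) = true :=
  allB_iff.1 (rn_spec (test := fun L => allB 8 fun c =>
    ([1, 2, 3].all fun u => bif Nat.beq (Nat.land c (mb u)) c then allB 8 (cu L u c) else
    !(List.range 8).all fun i => cu L u c (2 ^ i)) && (eu L (hm L (ic L m1) c) c == decide (c < 16)))
    (by decide +kernel))

/-- a fixed point free action on a block -/
def fp (L : List ℕ) (u p q c d : ℕ) : Bool := !(Nat.beq (Nat.land c (mb u)) c && Nat.beq (Nat.land d (mb u)) d &&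
  !eu L c p && !eu L d q && !eu L (mul L d c) (mul L q p) && !eu L c 0 && !eu L d 0 && !eu L (mul L d c) 0) ||
  (eu L c q && eu L d (p + q) || eu L c (p + q) && eu L d p)

theorem s3 : ∀ c < 2 ^ 6, allB 6 (fun d => fp L0 1 4 8 c d && fp L0 2 16 32 c d) = true :=
  allB_iff.1 (rn_spec (test := fun L => allB 6 fun c => allB 6 fun d => fp L 1 4 8 c d && fp L 2 16 32 c d)
    (by decide +kernel))

theorem s4 : ((czl L0 10 2).length = 512 ∧ cmm L0 768 2 = true ∧
      ∀ i < (8 : ℕ), 2 ≤ i → mul L0 (2 ^ i) (2 ^ i) < 4 ∧ mul L0 (2 ^ i) (2 ^ i) ≠ 0) ∧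
    (∀ ε : Bool, ∀ r < (8 : ℕ), ic L0 (m2 ε) r < 256 ∧ eu L0 (kc true ε r) (ic L0 (m2 ε) r) = true ∧
      eu L0 (cp L0 (kc false (!ε)) (kc false (!ε)) r) (ic L0 (m2 ε) r) = true) ∧
    eu L0 (mul L0 8 4) 0 = false ∧ eu L0 (mul L0 32 16) 0 = false ∧ mul L0 8 4 = 12 ∧ mul L0 32 16 = 48 :=
  of_decide_eq_true (rn_spec (test := fun L => decide (((czl L 10 2).length = 512 ∧ cmm L 768 2 = true ∧
      ∀ i < (8 : ℕ), 2 ≤ i → mul L (2 ^ i) (2 ^ i) < 4 ∧ mul L (2 ^ i) (2 ^ i) ≠ 0) ∧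
    (∀ ε : Bool, ∀ r < (8 : ℕ), ic L (m2 ε) r < 256 ∧ eu L (kc true ε r) (ic L (m2 ε) r) = true ∧
      eu L (cp L (kc false (!ε)) (kc false (!ε)) r) (ic L (m2 ε) r) = true) ∧
    eu L (mul L 8 4) 0 = false ∧ eu L (mul L 32 16) 0 = false ∧ mul L 8 4 = 12 ∧ mul L 32 16 = 48))
    (by decide +kernel))

variable {G : Type u} [Group G] [Finite G] {x : ℕ → G} {c d k : ℕ} {g n q u : G}

/-- `[q, R₀] ≤ ⟨u⟩` -/
def Bk (x : ℕ → G) (u q : G) : Prop := q ∈ H x 8 ∧ ∀ w ∈ H x 8, q * w = w * q ∨ q * w = u * (w * q)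

theorem Bk.cj (h : Bk x u q) (hn : n ∈ nor (H x 8)) : Bk x (n * u * n⁻¹) (n * q * n⁻¹) :=
  ⟨conj_mem_of_mem_normalizer hn h.1, fun w hw => by
    obtain ⟨w, rfl⟩ : ∃ w', w = n * w' * n⁻¹ := ⟨n⁻¹ * w * n, by group⟩
    simp only [conj_mul]
    exact (h.2 w ((mem_normalizer_iff.1 hn w).2 hw)).imp (fun e => by rw [e]) fun e => by rw [e]⟩

variable (b : B0 x)
include b

theorem bk_iff (hk : k ∈ [1, 2, 3]) (hc : c < 256) : Bk x (E x 10 k) (E x 10 c) ↔ Nat.land c (mb k) = c := by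
  have t := List.all_eq_true.1 (Bool.and_eq_true_iff.1 (s2 c hc)).1 k hk
  have key : ∀ d < 256, cu L0 k c d = true ↔ E x 10 c * E x 10 d = E x 10 d * E x 10 c ∨
      E x 10 c * E x 10 d = E x 10 k * (E x 10 d * E x 10 c) := fun d hd => by
    rw [cu, force_eq, force_eq, Bool.or_eq_true, ← eml b d (by omega), ← eml b c (by omega),
      ← eml b k (ml b d (by omega)), Nat.beq_eq, Nat.beq_eq]
    exact or_congr ⟨congrArg _, einj b (ml b c (by omega)) (ml b d (by omega))⟩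
      ⟨congrArg _, einj b (ml b c (by omega)) (ml b k (ml b d (by omega)))⟩
  cases e : Nat.beq (Nat.land c (mb k)) c <;> rw [e] at t
  · refine iff_of_false (fun h => ?_) (Nat.ne_of_beq_eq_false e)
    rw [List.all_eq_true.2 fun i hi => (key _ (Nat.pow_lt_pow_right one_lt_two (List.mem_range.1 hi))).2
      (h.2 _ (em x (k := 8) (by omega) (Nat.pow_lt_pow_right one_lt_two (List.mem_range.1 hi))))] at t
    exact Bool.noConfusion t
  · refine iff_of_true ⟨em x (k := 8) (by omega) hc, fun w hw => ?_⟩ (Nat.eq_of_beq_eq_true e)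
    obtain ⟨d, hd, rfl⟩ := sur b (by omega) hw
    exact (key d hd).1 (allB_iff.1 t d hd)

theorem bk0 : Bk x (x 0) q ↔ q ∈ H x 4 := by
  refine ⟨fun h => ?_, fun h => ?_⟩
  · obtain ⟨c, hc, rfl⟩ := sur b (by omega) h.1
    have := (bk_iff b (k := 1) (by simp) hc).1 (e1 x ▸ h)
    exact em x (by omega) ((by decide +kernel : ∀ c < 256, Nat.land c (mb 1) = c → c < 2 ^ 4) c hc this)
  · obtain ⟨c, hc, rfl⟩ := sur b (by omega) h
    exact e1 x ▸ (bk_iff b (k := 1) (by simp) (by omega)).2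
      ((by decide : ∀ c < 2 ^ 4, Nat.land c (mb 1) = c) c hc)

theorem zc : H x 10 ≤ cen1 (x 0) := H_le fun i hi => H1.Gold.mem_cen1.2 (by
  simpa using b.pres.W_eq (w := [i, 0]) (w' := [0, i]) (by revert i; decide +kernel))

theorem y_ne : x 1 ∉ H x 1 := b.ind 1 (by omega)

theorem R_cen : H x 10 ⊓ cen1 (x 1) ≤ cen (H x 2) := fun s hs => mem_centralizer_iff.2 fun u hu =>
  H1.Gold.mem_cen1.1 (H_le (K := cen1 s) (fun i hi => H1.Gold.mem_cen1.2 (by
    interval_cases i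
    exacts [(H1.Gold.mem_cen1.1 (zc b hs.1)).symm, (H1.Gold.mem_cen1.1 hs.2).symm])) hu)

theorem cardR : Nat.card ↥(H x 10 ⊓ cen1 (x 1)) = 512 := e2 x ▸ ((M0 b).card_cz (y := 2) (by decide)).trans s4.1.1

theorem R0_le : H x 8 ≤ H x 10 ⊓ cen1 (x 1) := fun s hs =>
  ⟨H_mono (by omega) hs, H1.Gold.mem_cen1.2 (mem_centralizer_iff.1 (cenU b hs) _ (x_mem (by omega))).symm⟩

theorem sylU : IsSyl 2 (H x 10 ⊓ cen1 (x 1)) (cen (H x 2)) :=
  syl512 b (twoH b le_rfl).to_inf_left (R_cen b) (cardR b) fun g h1 h2 => by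
    have k : ∀ i < 2, g * x i * g⁻¹ = x 0 := fun i hi =>
      (zS b (h1 (conj_mem_cj (R0_le b (x_mem (by omega))))) fun s hs => H1.Gold.mem_cen1.2 (by
        calc _ = g * (g⁻¹ * s * g * x i) * g⁻¹ := by group
          _ = _ := by rw [← mem_centralizer_iff.1 (mem_cj.1 (h2 hs)) _ (x_mem hi)]; group)).resolve_left
        fun e => b.ind i (by omega) (by rw [show x i = 1 by simpa using e]; exact one_mem _)
    exact y_ne b (by
      rw [show x 1 = x 0 by simpa using (k 1 (by omega)).trans (k 0 (by omega)).symm]; exact x_mem (by omega))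

theorem ex_r : ∃ n ∈ nor (H x 8), n * x 0 * n⁻¹ = x 1 * x 0 ∧ n * x 1 * n⁻¹ = x 1 := by
  obtain ⟨n, ny, nR, n1, n2⟩ := H85.DZ.ext_of_not_syl (Q := H x 10 ⊓ cen1 (x 1)) (M := cen1 (x 1))
    (twoH b le_rfl).to_inf_left inf_le_right fun k => by
      obtain ⟨g, e⟩ := _root_.isConj_iff.1 b.zy
      have := k.card_le (isPGroup_cj g (twoH b le_rfl)) fun s hs => H1.Gold.mem_cen1.2 (by
        rw [← e]
        calc _ = g * (g⁻¹ * s * g * x 0) * g⁻¹ := by group
          _ = _ := by rw [H1.Gold.mem_cen1.1 (zc b (mem_cj.1 hs))]; group)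
      rw [card_cj, cardH b le_rfl, cardR b] at this
      omega
  have e1' : n * x 1 * n⁻¹ = x 1 := by rw [H1.Gold.mem_cen1.1 ny, mul_inv_cancel_right]
  have m := fun i (hi : i < 8) => conj_mem_of_mem_normalizer nR (R0_le b (x_mem hi))
  have e0 : n * x 0 * n⁻¹ = x 1 * x 0 := by
    obtain ⟨c, hc, e⟩ := sur b le_rfl (m 0 (by omega)).1
    have := (Bool.and_eq_true_iff.1 (s1 c hc)).1
    rw [List.all_eq_true.2 fun i hi => (cmm_iff b hc (by revert i; decide)).2 (by
      have r : E x 10 i ∈ H x 10 ⊓ cen1 (x 1) := by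
        by_cases k : i < 256
        · exact R0_le b (em x (k := 8) (by omega) k)
        · obtain rfl : i = 768 := (by decide : ∀ i ∈ [1, 2, 4, 8, 16, 32, 64, 128, 768], ¬ i < 256 → i = 768) i hi k
          exact ⟨E_mem x _ _, H1.Gold.mem_cen1.2 (e2 x ▸ (cmm_iff b (by omega) (by omega)).1 s4.1.2.1)⟩
      rw [← e]
      calc _ = n * (x 0 * (n⁻¹ * E x 10 i * n)) * n⁻¹ := by group
        _ = _ := by rw [← H1.Gold.mem_cen1.1 (zc b (conj_mem_of_mem_normalizer' nR r).1)]; group)] at this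
    have : c < 4 := by simpa using this
    interval_cases c
    · exact absurd (by simpa using e) (z_ne b)
    · refine absurd ?_ n1
      rw [← (sylU b).eq_of_le (H85.DZ.isPGroup_ext (twoH b le_rfl).to_inf_left nR n2) le_sup_right
        (sup_le (zpowers_le.2 (mem_centralizer_iff.2 fun u hu => H1.Gold.mem_cen1.1
          (H_le (K := cen1 n) (fun i hi => H1.Gold.mem_cen1.2 (by
            interval_cases i
            exacts [(mul_inv_eq_iff_eq_mul.1 (e.trans (e1 x))).symm, (mul_inv_eq_iff_eq_mul.1 e1').symm])) hu)))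
          (R_cen b))]
      exact mem_sup_left (mem_zpowers n)
    · rw [e2, ← e1'] at e
      exact absurd (by rw [show x 1 = x 0 by simpa using e.symm]; exact x_mem (by omega)) (y_ne b)
    · exact e.trans (by simp [E, Nat.testBit])
  have nU : n ∈ nor (H x 2) := nor_of fun i hi => by
    interval_cases i
    exacts [e0 ▸ mul_mem (x_mem (by omega)) (x_mem (by omega)), e1'.symm ▸ x_mem (by omega)]
  refine ⟨n, nor_of fun i hi => ?_, e0, e1'⟩
  by_cases i2 : i < 2
  · exact H_mono (by omega) (conj_mem_of_mem_normalizer nU (x_mem i2))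
  obtain ⟨c, hc, e⟩ := sur b le_rfl (m i hi).1
  obtain ⟨q1, q2⟩ := s4.1.2.2 i hi (by omega)
  have l : 2 ^ i < 1024 := Nat.pow_lt_pow_right one_lt_two (by omega : i < 10)
  have sq : E x 10 (mul L0 c c) = n * E x 10 (mul L0 (2 ^ i) (2 ^ i)) * n⁻¹ := by
    rw [eml b c hc, eml b _ l, ← e, ex x (by omega), conj_mul]
  have := (Bool.and_eq_true_iff.1 (s1 c hc)).2
  rw [(cmm_iff b hc (by omega)).2 (by rw [← e, e2]; exact H1.Gold.mem_cen1.1 (m i hi).2),
    decide_eq_true (p := mul L0 c c < 4) (lt_of b (k := 2) (by omega) (ml b c hc)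
      (sq ▸ conj_mem_of_mem_normalizer nU (em x (k := 2) (by omega) q1))),
    (Bool.eq_false_iff (b := Nat.beq (mul L0 c c) 0)).2 fun k => q2 (einj b (ml b _ l) (by omega) (by
      rw [Nat.eq_of_beq_eq_true k, E_zero] at sq
      simpa using sq.symm))] at this
  exact e ▸ em x (k := 8) (by omega) (by simpa using this)

theorem jobFX2' (f1 : FX1 x) : FX2 x := by
  obtain ⟨n, nR, e0, e1'⟩ := ex_r b
  have nU : n ∈ nor (H x 2) := nor_of fun i hi => by
    interval_cases i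
    exacts [e0 ▸ mul_mem (x_mem (by omega)) (x_mem (by omega)), e1'.symm ▸ x_mem (by omega)]
  have e3 : E x 10 3 = x 1 * x 0 := by simp [E, Nat.testBit]
  have b2 : ∀ q, q ∈ cj n (H x 4) ↔ Bk x (E x 10 3) q := fun q => by
    rw [mem_cj, ← bk0 b, e3, ← e0]
    exact ⟨fun h => by simpa [mul_assoc] using h.cj nR, fun h => by simpa [mul_assoc] using h.cj (inv_mem nR)⟩
  refine ⟨?_, ⟨n, nR, e0, e1', le_antisymm (fun q hq => ?_) (cl_le.2 fun y hy => (b2 y).2 ?_)⟩, sylU b⟩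
  rotate_left
  · obtain ⟨c, hc, rfl⟩ := sur b (by omega) ((b2 q).1 hq).1
    have := (bk_iff b (k := 3) (by simp) hc).1 ((b2 _).1 hq)
    refine E_mem_of fun i hi h => mem_cl ?_
    rcases (by decide +kernel : ∀ c < 256, Nat.land c (mb 3) = c → ∀ i < 10, c.testBit i = true →
      i = 0 ∨ i = 1 ∨ i = 6 ∨ i = 7) c hc this i hi h with rfl | rfl | rfl | rfl <;> simp
  · simp only [List.mem_cons, List.not_mem_nil, or_false] at hy
    rcases hy with rfl | rfl | rfl | rfl <;> rw [← ex x (by omega)] <;>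
      exact (bk_iff b (k := 3) (by simp) (by omega)).2 (by decide)
  obtain ⟨g, gU, a⟩ := f1
  have a1 : An x g (ic L0 m1) := an_of b (centralizer_le_normalizer _ gU) a (by decide)
  have pU := conj_mem_of_mem_normalizer (normalizer_le_normalizer_centralizer _ nU) gU
  have pR := mul_mem (mul_mem nR a1.norR) (inv_mem nR)
  have fx : ∀ c < 256, n * g * n⁻¹ * E x 10 c * (n * g * n⁻¹)⁻¹ * (E x 10 c)⁻¹ ∈ H x 2 ↔
      Nat.land c (mb 3) = c := fun c hc => by
    obtain ⟨d, hd, e⟩ := sur b (by omega) (conj_mem_of_mem_normalizer' nR (em x (k := 8) (by omega) hc))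
    obtain ⟨l, k⟩ := a1.hm b hd
    have t := (Bool.and_eq_true_iff.1 (s2 d hd)).2
    rw [← bk_iff b (by simp) hc, ← b2, mem_cj, e, show n * g * n⁻¹ * E x 10 c * (n * g * n⁻¹)⁻¹ * (E x 10 c)⁻¹ =
      n * (g * (n⁻¹ * E x 10 c * n) * g⁻¹ * (n⁻¹ * E x 10 c * n)⁻¹) * n⁻¹ by group, e,
      ← mem_normalizer_iff.1 nU, ← mul_mem_cancel_left (inv_mem k), show ∀ a b c : G, (a * b⁻¹)⁻¹ * (a * c) =
        b * c by intros; group, ← eu_iff b (by omega) (by omega), eq_of_beq t, decide_eq_true_iff]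
    exact ⟨em x (k := 4) (by omega), lt_of b (k := 4) (by omega) (by omega)⟩
  generalize n * g * n⁻¹ = p at pU pR fx
  have pN := centralizer_le_normalizer _ pU
  have : ∀ r, ∃ c, r < 8 → c < 256 ∧ p * x r * p⁻¹ = E x 10 c := fun r => by
    by_cases hr : r < 8
    · exact (sur b (by omega) (conj_mem_of_mem_normalizer pR (x_mem hr))).imp fun c h _ => h
    · exact ⟨0, fun h => absurd h hr⟩
  choose im him using this
  have ap : An x p im := ⟨pN, fun r hr => ⟨(him r hr).1, by rw [(him r hr).2]; simp⟩⟩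
  have blk : ∀ u i, u < 2 → i + 1 < 8 → Nat.land (2 ^ i) (mb (2 ^ u)) = 2 ^ i →
      Nat.land (2 ^ (i + 1)) (mb (2 ^ u)) = 2 ^ (i + 1) → mb (2 ^ u) < 64 →
      (∀ c ∈ [2 ^ i, 2 ^ (i + 1), mul L0 (2 ^ (i + 1)) (2 ^ i)], c < 256 ∧ Nat.land c (mb 3) ≠ c ∧
        E x 10 c ∉ H x 2) → (∀ c < 64, ∀ d < 64, fp L0 (2 ^ u) (2 ^ i) (2 ^ (i + 1)) c d = true) →
      (eu L0 (im i) (2 ^ (i + 1)) && eu L0 (im (i + 1)) (2 ^ i + 2 ^ (i + 1)) ||
        eu L0 (im i) (2 ^ i + 2 ^ (i + 1)) && eu L0 (im (i + 1)) (2 ^ i)) = true := by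
    intro u i hu hi k1 k2 k3 k4 k5
    have hu' : 2 ^ u ∈ [1, 2, 3] := by interval_cases u <;> simp
    have bk : ∀ j < 8, Nat.land (2 ^ j) (mb (2 ^ u)) = 2 ^ j → Nat.land (im j) (mb (2 ^ u)) = im j := fun j hj k => by
      have := ((bk_iff b hu' (Nat.pow_lt_pow_right one_lt_two hj)).2 k).cj pR
      rw [ex x (by omega), ex x (by omega), (him j hj).2, ← mem_centralizer_iff.1 pU _ (x_mem hu),
        mul_inv_cancel_right, ← ex x (by omega : u < 10)] at this
      exact (bk_iff b hu' (him j hj).1).1 this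
    have j1 := bk i (by omega) k1
    have j2 := bk _ hi k2
    have lt : ∀ c, Nat.land c (mb (2 ^ u)) = c → c < 64 := fun c e =>
      (e.ge.trans (Nat.and_le_right (n := c))).trans_lt k3
    have no : ∀ c d, c < 256 ∧ Nat.land c (mb 3) ≠ c ∧ E x 10 c ∉ H x 2 → d < 1024 →
        p * E x 10 c * p⁻¹ = E x 10 d → eu L0 d c = false ∧ eu L0 d 0 = false := fun c d k hd e =>
      ⟨Bool.eq_false_iff.2 fun t => k.2.1 ((fx c k.1).1 (e ▸ (eu_iff b hd (by omega)).1 t)),
        Bool.eq_false_iff.2 fun t => k.2.2 ((mem_normalizer_iff.1 pN _).2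
          (e ▸ by simpa using (eu_iff b hd (by omega)).1 t))⟩
    have h1 := him i (by omega)
    have h2 := him _ hi
    have n1 := no _ _ (k4 _ (by simp)) (by omega) ((ex x (by omega : i < 10)).symm ▸ h1.2)
    have n2 := no _ _ (k4 _ (by simp)) (by omega) ((ex x (by omega : i + 1 < 10)).symm ▸ h2.2)
    have n3 := no _ _ (k4 (mul L0 (2 ^ (i + 1)) (2 ^ i)) (by simp)) (ml b (im (i + 1)) (d := im i) (by omega)) (by
      rw [eml b _ (Nat.pow_lt_pow_right one_lt_two (by omega : i < 10)), eml b _ (by omega), ← h1.2, ← h2.2,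
        ex x (by omega), ex x (by omega), conj_mul])
    have := k5 _ (lt _ j1) _ (lt _ j2)
    simpa only [fp, j1, j2, n1.1, n1.2, n2.1, n2.2, n3.1, n3.2, Nat.beq_refl, Bool.not_false, Bool.and_self,
      Bool.not_true, Bool.false_or] using this
  have nu : ∀ c < 1024, 4 ≤ c → E x 10 c ∉ H x 2 := fun c hc k m => absurd (lt_of b (by omega) hc m) (by omega)
  have s := fun c hc d hd => Bool.and_eq_true_iff.1 (allB_iff.1 (s3 c hc) d hd)
  have B0 := blk 0 2 (by omega) (by omega) rfl rfl (by decide) (by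
    rw [show mul L0 (2 ^ (2 + 1)) (2 ^ 2) = 12 from s4.2.2.2.2.1]
    exact fun c hc => ⟨by revert c; decide, by revert c; decide, nu c (by revert c; decide) (by revert c; decide)⟩)
    fun c hc d hd => (s c hc d hd).1
  have B1 := blk 1 4 (by omega) (by omega) rfl rfl (by decide) (by
    rw [show mul L0 (2 ^ (4 + 1)) (2 ^ 4) = 48 from s4.2.2.2.2.2]
    exact fun c hc => ⟨by revert c; decide, by revert c; decide, nu c (by revert c; decide) (by revert c; decide)⟩)
    fun c hc d hd => (s c hc d hd).2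
  have tr : ∀ r < 8, Nat.land (2 ^ r) (mb 3) = 2 ^ r → eu L0 (im r) (2 ^ r) = true := fun r hr k => by
    have l := Nat.pow_lt_pow_right one_lt_two hr
    have := (fx _ l).2 k
    rw [eu_iff b (by have := (him r hr).1; omega) (by omega), ← (him r hr).2]
    rwa [ex x (by omega)] at this ⊢
  obtain ⟨δ, ε, k⟩ : ∃ δ ε, An x p (kc δ ε) := by
    simp only [Bool.or_eq_true, Bool.and_eq_true] at B0 B1
    obtain ⟨δ, c2, c3⟩ : ∃ δ, eu L0 (im 2) (kc δ true 2) = true ∧ eu L0 (im 3) (kc δ true 3) = true :=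
      B0.elim (fun h => ⟨true, h⟩) fun h => ⟨false, h⟩
    obtain ⟨ε, c4, c5⟩ : ∃ ε, eu L0 (im 4) (kc true ε 4) = true ∧ eu L0 (im 5) (kc true ε 5) = true :=
      B1.elim (fun h => ⟨true, h⟩) fun h => ⟨false, h⟩
    refine ⟨δ, ε, ap.congr b fun r hr => ⟨(by decide : ∀ δ ε, ∀ r < (8 : ℕ), kc δ ε r < 256) δ ε r hr, ?_⟩⟩
    interval_cases r
    exacts [tr 0 (by omega) rfl, tr 1 (by omega) rfl, c2, c3, c4, c5, tr 6 (by omega) rfl, tr 7 (by omega) rfl]
  cases δ
  · exact ⟨!ε, p * p, mul_mem pU pU, ((k.mul b k).congr b fun r hr => ⟨(s4.2.1 _ r hr).1, by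
      simpa only [Bool.not_not, cp] using (s4.2.1 (!ε) r hr).2.2⟩).ac' b (by cases ε <;> decide)⟩
  · exact ⟨ε, p, pU, (k.congr b fun r hr => ⟨(s4.2.1 _ r hr).1, (s4.2.1 ε r hr).2.1⟩).ac' b (by cases ε <;> decide)⟩

omit b in
theorem jobFX2 : JobFX2.{u} := fun _ _ _ _ b f1 => jobFX2' b f1

end H92.L33
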