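import Cfsg.Agent.H86.SPGDef

/-! STD-SP type I fusion: slot DG (minimum weight of the Reed-Muller code). -/

set_option autoImplicit false

namespace H92.SpgDG

variable {M F : Type} [Group M] [Field F]

/-- Functions of degree at most `r`. -/
def Deg : ℕ → (M → F) → Prop
  | 0, f => ∀ x y, f x = f y
  | r + 1, f => ∀ a, Deg r fun x => f (x * a) - f x

theorem Deg.congr {r : ℕ} {f g : M → F} (h : Deg r f) (e : ∀ x, g x = f x) : Deg r g :=
  (funext e : g = f) ▸ h

theorem deg_const (r : ℕ) : ∀ c : F, Deg r fun _ : M => c := by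
  induction r with
  | zero => exact fun _ _ _ => rfl
  | succ r ih => exact fun c a => ih (c - c)

theorem Deg.add {r : ℕ} : ∀ {f g : M → F}, Deg r f → Deg r g → Deg r fun x => f x + g x := by
  induction r with
  | zero => exact fun hf hg x y => by beta_reduce; rw [hf x y, hg x y]
  | succ r ih => exact fun hf hg a => (ih (hf a) (hg a)).congr fun x => by ring

theorem Deg.map (φ : F →+ F) {r : ℕ} : ∀ {f : M → F}, Deg r f → Deg r fun x => φ (f x) := by
  induction r with
  | zero => exact fun hf x y => by beta_reduce; rw [hf x y]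
  | succ r ih => exact fun hf a => (ih (hf a)).congr fun x => by rw [map_sub]

theorem Deg.cmul (c : F) {r : ℕ} {f : M → F} (h : Deg r f) : Deg r fun x => c * f x :=
  h.map (AddMonoidHom.mulLeft c)

theorem Deg.shift (hc : ∀ x y : M, x * y = y * x) (b : M) {r : ℕ} :
    ∀ {f : M → F}, Deg r f → Deg r fun x => f (x * b) := by
  induction r with
  | zero => exact fun hf x y => hf _ _
  | succ r ih =>
    exact fun hf a => (ih (hf a)).congr fun x => by
      beta_reduce; rw [mul_assoc, hc a b, mul_assoc]

theorem Deg.mul (hc : ∀ x y : M, x * y = y * x) (n : ℕ) : ∀ {r s : ℕ} {f g : M → F}, r + s = n →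
    Deg r f → Deg s g → Deg n fun x => f x * g x := by
  induction n with
  | zero =>
    intro r s f g e hf hg
    obtain rfl : r = 0 := by omega
    obtain rfl : s = 0 := by omega
    exact fun x y => by beta_reduce; rw [hf x y, hg x y]
  | succ n ih =>
    intro r s f g e hf hg
    rcases r with _ | r
    · obtain rfl : s = n + 1 := by omega
      exact (hg.cmul (f 1)).congr fun x => by rw [hf x 1]
    rcases s with _ | s
    · obtain rfl : r = n := by omega
      exact (hf.cmul (g 1)).congr fun x => by rw [hg x 1, mul_comm]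
    intro a
    exact ((ih (by omega) (hf a) (hg.shift hc a)).add (ih (by omega) hf (hg a))).congr
      fun x => by ring

theorem deg_sum {ι : Type} (s : Finset ι) {r : ℕ} {f : ι → M → F} (h : ∀ i, Deg r (f i)) :
    Deg r fun x => ∑ i ∈ s, f i x := by
  classical
  induction s using Finset.induction_on with
  | empty => exact (deg_const r 0).congr fun x => Finset.sum_empty
  | insert i s hi ih => exact ((h i).add ih).congr fun x => Finset.sum_insert hi

theorem deg_prod (hc : ∀ x y : M, x * y = y * x) {ι : Type} (s : Finset ι) {f : ι → M → F}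
    (h : ∀ i, Deg 1 (f i)) : Deg s.card fun x => ∏ i ∈ s, f i x := by
  classical
  induction s using Finset.induction_on with
  | empty => exact (deg_const _ 1).congr fun x => Finset.prod_empty
  | insert i s hi ih =>
    rw [Finset.card_insert_of_notMem hi]
    exact (Deg.mul hc _ (Nat.add_comm _ _) (h i) ih).congr fun x => Finset.prod_insert hi

theorem deg_det (hc : ∀ x y : M, x * y = y * x) {l : ℕ} (B : M → Matrix (Fin l) (Fin l) F)
    (c : Matrix (Fin l) (Fin l) F) (hB : ∀ x y, B (x * y) = B x + B y) :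
    Deg l fun x => (c + B x).det := by
  refine (deg_sum Finset.univ (f := fun (σ : Equiv.Perm (Fin l)) x =>
    ((Equiv.Perm.sign σ : ℤ) : F) * ∏ i, (c + B x) (σ i) i) fun σ => ?_).congr
      fun x => Matrix.det_apply' _
  have := deg_prod hc Finset.univ (f := fun i x => (c + B x) (σ i) i) fun i a x y => by
    simp only [hB, Matrix.add_apply]
    ring
  rw [Finset.card_univ, Fintype.card_fin] at this
  exact this.cmul _

theorem deg_pow [CharP F 2] (hc : ∀ x y : M, x * y = y * x) {l : ℕ} {g : M → F} (h : Deg l g)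
    (k : ℕ) : Deg (l * k) fun x => g x ^ (2 ^ k - 1) := by
  have : Fact (Nat.Prime 2) := ⟨Nat.prime_two⟩
  induction k with
  | zero => exact (deg_const _ 1).congr fun x => by simp
  | succ k ih =>
    refine (Deg.mul hc _ (Nat.mul_succ l k).symm ih
      (h.map (iterateFrobenius F 2 k).toAddMonoidHom)).congr fun x => ?_
    have : 2 ^ (k + 1) - 1 = 2 ^ k - 1 + 2 ^ k := by
      have := Nat.one_le_two_pow (n := k)
      omega
    rw [this, pow_add]
    rfl

theorem weight [Finite M] {r : ℕ} : ∀ {f : M → F}, Deg r f → (∃ x, f x ≠ 0) →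
    Nat.card M ≤ 2 ^ r * {x | f x ≠ 0}.ncard := by
  have key : ∀ (r : ℕ) (f : M → F), (∀ x y, f x = f y) → (∃ x, f x ≠ 0) →
      Nat.card M ≤ 2 ^ r * {x | f x ≠ 0}.ncard := by
    rintro r f h ⟨x, hx⟩
    have : {x | f x ≠ 0} = Set.univ := Set.eq_univ_of_forall fun y => by
      rw [Set.mem_ofPred_eq, h y x]; exact hx
    rw [this, Set.ncard_univ]
    exact Nat.le_mul_of_pos_left _ (by positivity)
  induction r with
  | zero => exact fun hf hx => key 0 _ hf hx
  | succ r ih =>
    intro f hf hx
    by_cases h : ∃ a x, f (x * a) - f x ≠ 0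
    · obtain ⟨a, h⟩ := h
      refine (ih (hf a) h).trans ?_
      rw [pow_succ, mul_assoc]
      refine Nat.mul_le_mul_left _ ?_
      have h1 : {x | f (x * a) - f x ≠ 0} ⊆ (· * a⁻¹) '' {x | f x ≠ 0} ∪ {x | f x ≠ 0} := by
        intro y hy
        by_cases e : f y = 0
        · exact Or.inl ⟨y * a, by simpa [e] using hy, by simp⟩
        · exact Or.inr e
      refine (Set.ncard_le_ncard h1 (Set.toFinite _)).trans ((Set.ncard_union_le _ _).trans ?_)
      rw [Set.ncard_image_of_injective _ (mul_left_injective _)]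
      omega
    · push Not at h
      refine key _ f (fun x y => ?_) hx
      have := h (y⁻¹ * x) y
      rwa [mul_inv_cancel_left, sub_eq_zero] at this

theorem jobDG : H86.SPG.DG := by
  intro M _ _ F _ _ _ l B B' c hc hB hB' S hS hx
  have := Fintype.ofFinite F
  obtain ⟨k, -, hk⟩ := FiniteField.card F 2
  have h1 := deg_pow hc (deg_det hc B 0 hB) k
  have h2 := (deg_pow hc (deg_det hc B' c hB') k).cmul (-1)
  have pw : ∀ a : F, a ≠ 0 → a ^ (2 ^ (k : ℕ) - 1) = 1 := fun a ha =>
    hk ▸ FiniteField.pow_card_sub_one_eq_one a ha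
  have pz : (0 : F) ^ (2 ^ (k : ℕ) - 1) = 0 := zero_pow (by
    have := Nat.one_lt_two_pow k.ne_zero
    omega)
  have iff : ∀ a b : F, a ^ (2 ^ (k : ℕ) - 1) + -1 * b ^ (2 ^ (k : ℕ) - 1) = 0 ↔
      (a = 0 ↔ b = 0) := fun a b => by
    by_cases ha : a = 0 <;> by_cases hb : b = 0
    · simp [ha, hb, pz]
    · simp [ha, hb, pz, pw b hb]
    · simp [ha, hb, pz, pw a ha]
    · simp [ha, hb, pw a ha, pw b hb]
  refine (weight (h1.add h2) ?_).trans ?_
  · obtain ⟨x, hx⟩ := hx
    exact ⟨x, fun e => hx (by simpa using (iff _ _).1 e)⟩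
  · rw [Nat.card_eq_fintype_card, hk, ← pow_mul, mul_comm l]
    refine Nat.mul_le_mul_left _ (Set.ncard_le_ncard (fun x hx => ?_) (Set.toFinite _))
    by_contra h
    exact hx ((iff _ _).2 (by simpa using hS x h))

end H92.SpgDG
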