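import Cfsg.Agent.H88.TESpec

/-! TE2-C0: centralizers of involutions of conjugates of `K` when `|R| = 2`. -/

set_option autoImplicit false
set_option linter.unusedSectionVars false

namespace H92.TE

open Subgroup Cfsg H98 H1.Gold H86.L34 H6 H88.AS H88.TE

universe u

variable {G : Type u} [Group G] [Finite G] {A B D E K M O R V : Subgroup G} {g s t x y z : G}

theorem ord_cj (g x : G) : orderOf (g * x * g⁻¹) = orderOf x := by
  rw [← MulAut.conj_apply, MulEquiv.orderOf_eq]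

theorem conj_conj' (a b x : G) : a * (b * x * b⁻¹) * a⁻¹ = a * b * x * (a * b)⁻¹ := by group

theorem mul_comm_of_sq (h : El E) (hx : x ∈ E) (hy : y ∈ E) : x * y = y * x := by
  rw [← inv_eq_of_mul_eq_one_right (h _ (mul_mem hx hy)), mul_inv_rev,
    inv_eq_of_mul_eq_one_right (h _ hx), inv_eq_of_mul_eq_one_right (h _ hy)]

theorem ki_cj (g : G) (h : KI K x) : KI K (g * x * g⁻¹) :=
  ⟨(ord_cj g x).trans h.1, h.2.elim fun a ha => ⟨g * a, cj_cj g a K ▸ conj_mem_cj ha⟩⟩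

theorem ki_of_cj (h : KI K (g * x * g⁻¹)) : KI K x := by
  simpa [mul_assoc] using ki_cj g⁻¹ h

theorem ki_sq (h : KI K x) : x * x = 1 := by rw [← sq, ← h.1, pow_orderOf_eq_one]

theorem ord2 (h : x * x = 1) (n : x ≠ 1) : orderOf x = 2 := orderOf_eq_prime (by rwa [sq]) n

theorem ki_of_mem (h : x ∈ K) (e : orderOf x = 2) : KI K x := ⟨e, 1, by rwa [cj_one]⟩

theorem el_cj (h : El E) (g : G) : El (cj g E) := by
  rintro _ ⟨x, hx, rfl⟩
  rw [← map_mul, h x hx, map_one]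

theorem el_two (h : El E) : IsPGroup 2 E := fun x => ⟨1, Subtype.ext (by simpa [sq] using h x x.2)⟩

theorem gd_cj (h : Gd K V) (g : G) : Gd K (cj g V) :=
  ⟨el_cj h.1 g, (card_cj g V).trans h.2.1, by
    rintro _ ⟨x, hx, rfl⟩ r
    exact h.2.2 x hx (ki_of_cj r)⟩

theorem le_or_le (h : ∀ x ∈ V, x ∈ A ∨ x ∈ B) : V ≤ A ∨ V ≤ B := by
  by_contra r
  rw [not_or, SetLike.not_le_iff_exists, SetLike.not_le_iff_exists] at r
  obtain ⟨⟨x, hx, r1⟩, y, hy, r2⟩ := r
  rcases h _ (mul_mem hx hy) with e | e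
  · exact r1 ((mul_mem_cancel_right ((h y hy).resolve_right r2)).1 e)
  · exact r2 ((mul_mem_cancel_left ((h x hx).resolve_left r1)).1 e)

theorem half (h : ∀ x ∈ E, ∀ y ∈ E, x ∉ M → y ∉ M → x * y⁻¹ ∈ M) :
    Nat.card E ≤ 2 * Nat.card ↥(E ⊓ M) := by
  by_cases r : E ≤ M
  · rw [inf_eq_left.2 r]; omega
  obtain ⟨y, hy, r⟩ := SetLike.not_le_iff_exists.1 r
  refine H31.card_le_two_mul y fun x hx => ?_
  by_cases e : x ∈ M
  exacts [.inl (mem_inf.2 ⟨hx, e⟩), .inr (mem_inf.2 ⟨mul_mem hx (inv_mem hy), h x hx y hy e r⟩)]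

theorem mem_sup_inv (tt : t * t = 1) (hn : t ∈ nor V) (hx : x ∈ V ⊔ zpowers t) :
    x ∈ V ∨ x * t ∈ V := by
  obtain ⟨a, ha, y, hy, rfl⟩ := (mem_sup_right_norm (zpowers_le.2 hn)).1 hx
  by_cases h1 : t = 1
  · obtain rfl : y = 1 := by simpa [h1] using hy
    exact .inl (by rwa [mul_one])
  rcases H55.W.eq_or_eq_of_mem_zpowers (ord2 tt h1) hy with rfl | rfl
  · exact .inl (by rwa [mul_one])
  · exact .inr (by rwa [mul_assoc, tt, mul_one])

theorem el_closure {S : Set G} (h : ∀ x ∈ S, ∀ y ∈ S, x * y = y * x) (e : ∀ x ∈ S, x * x = 1) :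
    El (closure S) := fun x hx => by
  have c : closure S ≤ cen (closure S) := by
    rw [cen, centralizer_closure, closure_le]
    exact fun x hx y hy => h y hy x hx
  induction hx using closure_induction with
  | mem x hx => exact e x hx
  | one => exact one_mul _
  | mul x y hx hy a b => rw [mul_assoc, ← mul_assoc y, c hx y hy, mul_assoc, b, mul_one, a]
  | inv x _ a => rw [← mul_inv_rev, a, inv_one]

section HM

variable {F : Type*} [Field F] {p : F → F → F → G} (hm : HM p)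

include hm in
theorem sq' (a b c : F) : p a b c * p a b c = p 0 0 (a * b) := by rw [← hm.sq, sq]

theorem el_le (h : E ≤ hm.S) (e : El E) : E ≤ hm.A ∨ E ≤ hm.B := le_or_le fun x hx => by
  obtain ⟨a, b, c, rfl⟩ := h hx
  have := e _ hx
  rw [sq' hm] at this
  rw [hm.mem_A, hm.mem_B, or_comm]
  exact mul_eq_zero.1 (hm.inj this).2.2

theorem elA : El hm.A := fun x hx => by simpa [sq] using hm.elA.2 x hx

theorem elB : El hm.B := fun x hx => by simpa [sq] using hm.elB.2 x hx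

theorem card_B : Nat.card hm.B = Nat.card F * Nat.card F := hm.swap_A ▸ hm.swap.card_A

theorem el_eq (h : E ≤ hm.S) (e : El E) (c : Nat.card E = Nat.card F * Nat.card F) :
    E = hm.A ∨ E = hm.B :=
  (el_le hm h e).imp (fun r => eq_of_le_of_card_ge r (by rw [c, hm.card_A]))
    fun r => eq_of_le_of_card_ge r (by rw [c, card_B])

end HM

/-- The conclusion of `C0.le`. -/
def LE (s : G) (V : Subgroup G) : Prop := ∀ D ≤ nor (V ⊔ zpowers s) ⊓ cen V, IsPGroup 2 D →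
  ∃ D₀ ≤ D, El D₀ ∧ Nat.card D ≤ 2 * Nat.card D₀

theorem LE.of_cj (h : LE (g * s * g⁻¹) (cj g V)) : LE s V := fun D hD p => by
  obtain ⟨D₀, r1, r2, r3⟩ := h (cj g D) (by
    rw [show zpowers (g * s * g⁻¹) = cj g (zpowers s) from
      (MonoidHom.map_zpowers (MulAut.conj g).toMonoidHom s).symm, ← cj_sup, nor, cen, ← cj_normalizer,
      ← cj_centralizer, ← cj_inf]
    exact cj_mono g hD) (isPGroup_cj g p)
  exact ⟨cj g⁻¹ D₀, le_cj_iff.1 r1, el_cj r2 _, by rwa [card_cj, ← card_cj g D]⟩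

theorem le1 {p : F4 → F4 → F4 → G} (hm : HM p) {n : G} {β : F4 → G} (uA : ∀ a b c, p a b c ∈ A)
    (nA : n ∈ A) (nu : ∀ a c, n * p a 0 c * n⁻¹ = p c 0 a) (tK : t ∈ cen A) (tt : t * t = 1)
    (tri : ∀ g ∈ cen1 t, (∀ a e, g * p a 0 e = p a 0 e * g) → ∃ k ∈ cen A, ∃ a b c, g = k * p a b c)
    (od : ∀ k ∈ cen A, k ∈ cen1 t → ∃ o ∈ O, k = o ∨ k = o * t) (Ole : O ≤ cen A ⊓ cen1 t)
    (odd : Odd (Nat.card O)) (add : ∀ x y, β (x + y) = β x * β y)
    (βu : ∀ x a c, β x * p a 0 c = p a 0 c * β x) (βO : ∀ x, ∀ o ∈ O, Commute (β x) o)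
    (βr : ∀ x, β x * t * (β x)⁻¹ = t * p 0 0 x)
    (wβ : ∀ y x, n * β y * n⁻¹ * β x = β x * (n * β y * n⁻¹)) (no : ∀ a ∈ A, ¬ IsConj t a) :
    LE t hm.A := fun D hD hp => by
  have ct : ∀ a ∈ A, a * t = t * a := fun a ha => mem_centralizer_iff.1 tK a ha
  have β0 : β 0 = 1 := by simpa using add 0 0
  have wu : ∀ y a c, n * β y * n⁻¹ * p a 0 c = p a 0 c * (n * β y * n⁻¹) := fun y a c => by
    rw [← nu, conj_mul, conj_mul, βu]
  let W := closure (Set.range (fun y => n * β y * n⁻¹) ∪ Set.range β ∪ hm.A)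
  have el : El W := el_closure (by
      rintro _ ((⟨x, rfl⟩ | ⟨x, rfl⟩) | ⟨a, c, rfl⟩) _ ((⟨y, rfl⟩ | ⟨y, rfl⟩) | ⟨a', c', rfl⟩)
      · simp only [conj_mul, ← add, add_comm]
      · exact wβ _ _
      · exact wu _ _ _
      · exact (wβ _ _).symm
      · rw [← add, ← add, add_comm]
      · exact βu _ _ _
      · exact (wu _ _ _).symm
      · exact (βu _ _ _).symm
      · simp only [hm.mul, mul_zero, add_comm]) (by
      rintro _ ((⟨x, rfl⟩ | ⟨x, rfl⟩) | h)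
      · simp only [conj_mul, ← add, F4.add_self, β0, mul_one, mul_inv_cancel]
      · rw [← add, F4.add_self, β0]
      · exact elA hm _ h)
  have mA : ∀ a c, p a 0 c ∈ W := fun a c => subset_closure (.inr ⟨a, c, rfl⟩)
  have key : ∀ x ∈ D, x ∈ W ∨ x * t ∈ W := fun x hx => by
    obtain ⟨r1, r2⟩ := hD hx
    obtain ⟨y, e, r3⟩ := (mem_sup_inv tt (centralizer_le_normalizer _
      (mem_centralizer_iff.2 (by rintro _ ⟨_, _, rfl⟩; exact ct _ (uA ..)))) (H98.conj_mem_of_mem_normalizer r1 (mem_sup_right (mem_zpowers t)))).resolve_left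
      fun ⟨_, _, e⟩ => no _ (uA ..) (_root_.isConj_iff.2 ⟨x, e.symm⟩)
    have fW : n * β y * n⁻¹ * β e ∈ W :=
      mul_mem (subset_closure (.inl (.inl ⟨y, rfl⟩))) (subset_closure (.inl (.inr ⟨e, rfl⟩)))
    have fu : ∀ a c, n * β y * n⁻¹ * β e * p a 0 c = p a 0 c * (n * β y * n⁻¹ * β e) := fun a c => by
      rw [mul_assoc, βu, ← mul_assoc, wu, mul_assoc (p a 0 c)]
    have fO : ∀ o ∈ O, Commute (n * β y * n⁻¹ * β e) o := fun o ho =>
      have : Commute n o := mem_centralizer_iff.1 (Ole ho).1 n nA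
      ((this.mul_left (βO y o ho)).mul_left this.inv_left).mul_left (βO e o ho)
    have ft : n * β y * n⁻¹ * β e * t * (n * β y * n⁻¹ * β e)⁻¹ = p y 0 e * t := by
      rw [show n * β y * n⁻¹ * β e * t * (n * β y * n⁻¹ * β e)⁻¹ =
        n * β y * n⁻¹ * (β e * t * (β e)⁻¹) * (n * β y * n⁻¹)⁻¹ by group, βr, ← ct _ (uA ..),
        ← mul_assoc, wu, show p 0 0 e * (n * β y * n⁻¹) * t * (n * β y * n⁻¹)⁻¹ =
          p 0 0 e * (n * (β y * (n⁻¹ * t * n) * (β y)⁻¹) * n⁻¹) by group, ct _ (inv_mem nA),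
        inv_mul_cancel_right, βr, ← conj_mul, nu, ct n nA, mul_inv_cancel_right, ← ct _ (uA ..),
        ← mul_assoc, hm.mul]
      simp
    generalize n * β y * n⁻¹ * β e = f at fW fu fO ft
    have c1 : f⁻¹ * x ∈ cen1 t := mem_cen1.2 (by
      rw [r3, mul_assoc _ t t, tt, mul_one] at ft
      rw [mul_assoc, mul_inv_eq_iff_eq_mul.1 ft.symm]; group)
    have c2 : ∀ a c, f⁻¹ * x * p a 0 c = p a 0 c * (f⁻¹ * x) := fun a c => by
      rw [mul_assoc, ← mem_centralizer_iff.1 r2 _ ⟨a, c, rfl⟩, ← mul_assoc, ← mul_assoc,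
        (Commute.inv_left (fu a c)).eq]
    obtain ⟨k, hk, a, b, c, r4⟩ := tri _ c1 c2
    obtain rfl : b = 0 := by
      have := c2 1 0
      rw [r4, ← mul_assoc, mem_centralizer_iff.1 hk _ (uA ..), mul_assoc, mul_assoc, mul_right_inj,
        hm.mul, hm.mul] at this
      simpa using (hm.ext this).2.2
    obtain ⟨o, ho, r5⟩ := od k hk (by
      rw [← mul_inv_eq_iff_eq_mul.2 r4]
      exact mul_mem c1 (inv_mem (mem_cen1.2 (ct _ (uA ..)))))
    obtain ⟨m, hm'⟩ := two_of_mem hp hx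
    have one : ∀ q, x = o * q → Commute o q → q ^ 4 = 1 → o = 1 := fun q e1 e2 e3 => by
      have : o ^ 2 ^ (m + 2) = 1 := by
        have := congrArg (· ^ 4) hm'
        rwa [e1, e2.mul_pow, (e2.pow_pow _ _).mul_pow, ← pow_mul q, mul_comm _ 4, pow_mul q, e3,
          one_pow, one_pow, mul_one, ← pow_mul, show 2 ^ m * 4 = 2 ^ (m + 2) by ring] at this
      exact H69.eq_one_of_odd_of_pow_two_pow (odd.of_dvd_nat (O.orderOf_dvd_natCard ho)) this
    have cq : Commute o (f * p a 0 c) :=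
      (fO o ho).symm.mul_right (mem_centralizer_iff.1 (Ole ho).1 _ (uA ..)).symm
    have qW := mul_mem fW (mA a c)
    rw [inv_mul_eq_iff_eq_mul] at r4
    rcases r5 with rfl | rfl
    · have e1 : x = k * (f * p a 0 c) := by rw [r4, ← mul_assoc, (fO k ho).eq, mul_assoc]
      rw [one _ e1 cq (by rw [show 4 = 2 * 2 from rfl, pow_mul, sq (f * _), el _ qW, one_pow]),
        one_mul] at e1
      exact .inl (e1 ▸ qW)
    · have e1 : x = o * (f * p a 0 c * t) := by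
        rw [r4, mul_assoc o, ← ct _ (uA ..), ← mul_assoc, (fO o ho).eq]; simp only [mul_assoc]
      have e2 : f * p a 0 c * t * (f * p a 0 c * t) ∈ W := by
        have e3 : t * f = (p y 0 e)⁻¹ * f * t := by
          rw [mul_assoc, mul_inv_eq_iff_eq_mul.1 ft]; group
        rw [show f * p a 0 c * t * (f * p a 0 c * t) = f * p a 0 c * (t * f) * (p a 0 c * t) by group,
          e3, ct _ (uA ..), show f * p a 0 c * ((p y 0 e)⁻¹ * f * t) * (t * p a 0 c) =
            f * p a 0 c * (p y 0 e)⁻¹ * (f * (t * t) * p a 0 c) by group, tt, mul_one]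
        exact mul_mem (mul_mem qW (inv_mem (mA y e))) qW
      rw [one _ e1 (cq.mul_right (mem_cen1.1 (Ole ho).2))
        (by rw [show 4 = 2 * 2 from rfl, pow_mul, sq (f * _ * t), sq, el _ e2]), one_mul] at e1
      exact .inr (by rwa [e1, mul_assoc, tt, mul_one])
  refine ⟨D ⊓ W, inf_le_left, fun x hx => el x hx.2, half fun x hx y hy r1 r2 => ?_⟩
  simpa [mul_assoc] using mul_mem ((key x hx).resolve_left r1) (inv_mem ((key y hy).resolve_left r2))

section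

variable {d : Dt G} {r β : F4 → G} (h : Fr d) (hp : Pr d false R r)

theorem U_eq (hm : HM d.u) : d.U = hm.S := closure_eq hm.S

theorem memR (hp : Pr d false R r) (hx : x ∈ R) : x = 1 ∨ x = r 1 := by
  obtain ⟨c, hc | rfl | rfl, rfl⟩ := (hp.mem x).1 hx
  · cases hc
  · exact .inl (by simpa using hp.add 0 0 (.inr (.inl rfl)) (.inr (.inl rfl)))
  · exact .inr rfl

include hp

theorem tR : r 1 ∈ R := (hp.mem _).2 ⟨1, .inr (.inr rfl), rfl⟩

theorem t2 : orderOf (r 1) = 2 := by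
  have e := hp.add 1 1 (.inr (.inr rfl)) (.inr (.inr rfl))
  have n : r 1 ≠ 1 := fun e => one_ne_zero (hp.inj 1 (.inr (.inr rfl)) e)
  refine ord2 ((memR hp (mul_mem (tR hp) (tR hp))).resolve_right fun e => n ?_) n
  simpa using e

theorem cjK (hx : x ∈ d.K) (e : orderOf x = 2) : ∃ k ∈ d.K, k * x * k⁻¹ = r 1 := by
  obtain ⟨k, hk, r1⟩ := hp.syl.exists_cj_le (IsPGroup.of_card (n := 1) (by
    rw [Nat.card_zpowers, e, pow_one])) (zpowers_le.2 hx)
  refine ⟨k, hk, (memR hp (r1 (conj_mem_cj (mem_zpowers x)))).resolve_left fun r => ?_⟩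
  rw [← ord_cj k, r, orderOf_one] at e
  omega

theorem cj_t (hs : KI d.K s) : ∃ g, g * s * g⁻¹ = r 1 := by
  obtain ⟨e, g, hg⟩ := hs
  obtain ⟨k, -, r1⟩ := cjK hp (mem_cj.1 hg) (by simpa using (ord_cj g⁻¹ s).trans e)
  exact ⟨k * g⁻¹, by rw [← r1]; group⟩

theorem cardK (p : IsPGroup 2 D) : Nat.card ↥(D ⊓ d.K) ≤ 2 := by
  refine (hp.syl.card_le (p.to_le inf_le_left) inf_le_right).trans ?_
  rw [← t2 hp, ← Nat.card_zpowers]
  exact card_le_of_le fun x hx => by rcases memR hp hx with rfl | rfl; exacts [one_mem _, mem_zpowers _]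

include h

theorem cenN : cen1 (r 1) ≤ d.N := fun g hg => by
  have := H14.te_mem_normalizer h.std.2.1 (g := g) (t2 hp) (hp.syl.le (tR hp)) (by
    rw [mem_cj, mul_assoc, ← mem_cen1.1 hg, inv_mul_cancel_left]; exact hp.syl.le (tR hp))
  rwa [← h.std.2.2.2] at this

/-- An involution of `K A` is `KI` or lies in `A`. -/
theorem inKA (hs : s ∈ d.K ⊔ d.A) (ss : s * s = 1) : KI d.K s ∨ s ∈ d.A := by
  obtain ⟨k, hk, a, ha, kk, aa, rfl⟩ := h.dec s hs ss
  by_cases k1 : k = 1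
  · exact .inr (by rwa [k1, one_mul])
  by_cases a1 : a = 1
  · exact .inl (ki_of_mem (by rwa [a1, mul_one]) (by rw [a1, mul_one, ord2 kk k1]))
  obtain ⟨b, hb, rfl⟩ := h.cls a ha (ord2 aa a1)
  obtain ⟨c, hc, e⟩ := cjK hp hk (ord2 kk k1)
  obtain ⟨g, -, hg⟩ := hp.tw
  have e1 : (b⁻¹ * c) * (k * (b * d.z 1 * b⁻¹)) * (b⁻¹ * c)⁻¹ = r 1 * d.z 1 := by
    rw [← H92.TE.conj_conj', ← conj_mul (b := c), e, ← mem_centralizer_iff.1 hc _ ha, mul_inv_cancel_right,
      ← mul_assoc, mem_centralizer_iff.1 (hp.syl.le (tR hp)) _ (inv_mem hb)]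
    group
  refine .inl (ki_of_cj (g := b⁻¹ * c) ⟨(ord_cj _ _).trans (ord2 ss fun r => k1 ?_), g,
    e1 ▸ hg 1 (.inr (.inr rfl))⟩)
  exact H69.eq_one_of_odd_of_pow_two_pow (k := 1)
    (h.zodd k (eq_inv_of_mul_eq_one_left r ▸ inv_mem ha) hk) (by simpa [sq] using kk)

theorem inKA' (hs : s ∈ d.K ⊔ d.A) (e : orderOf s = 2) : KI d.K s ∨ IsConj (d.z 1) s :=
  (inKA h hp hs (by rw [← sq, ← e, pow_orderOf_eq_one])).imp_right fun r =>
    (h.cls s r e).elim fun b hb => _root_.isConj_iff.2 ⟨b, hb.2⟩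

omit h hp in
theorem noK (p : IsPGroup 2 D) (n : ∀ x ∈ D, ¬ KI K x) : Nat.card ↥(D ⊓ K) = 1 :=
  card_eq_one.2 (H14.eq_bot_of_no_involution (p.to_le inf_le_left) fun y hy e =>
    n y hy.1 (ki_of_mem hy.2 e))

theorem K0 (hV : V ≤ cen1 (r 1)) (g : Gd d.K V) : V ≤ d.A := fun x hx => by
  refine (inKA h hp ((by_contra fun n => ?_ : V ≤ d.K ⊔ d.A) hx) (g.1 x hx)).resolve_left (g.2.2 x hx)
  have := h.rkout V (hV.trans (cenN h hp)) g.1 n
  rw [g.2.1, noK (el_two g.1) g.2.2] at this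
  omega

theorem K1 (hD : D ≤ cen1 (r 1)) (p : IsPGroup 2 D) : ∃ a ∈ d.A, ∀ V ≤ D, Gd d.K V →
    cj a V = h.hm.A ∨ cj a V = h.hm.B := by
  obtain ⟨a, ha, e⟩ := h.syl.exists_cj_le (p.to_le inf_le_left : IsPGroup 2 ↥(D ⊓ d.A)) inf_le_right
  exact ⟨a, ha, fun V hV g => el_eq h.hm (U_eq h.hm ▸ (cj_mono a
    (le_inf hV (K0 h hp (hV.trans hD) g))).trans e) (el_cj g.1 a) (by
      rw [card_cj, g.2.1, Nat.card_eq_fintype_card]; rfl)⟩

theorem leT (hl : Loc d false R r O β 0 0) (hV : V ≤ cen1 (r 1)) (g : Gd d.K V) : LE (r 1) V := by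
  obtain ⟨a, ha, e⟩ := K1 h hp hV (el_two g.1)
  have tK := hp.syl.le (tR hp)
  have tt := ki_sq (ki_of_mem tK (t2 hp))
  refine LE.of_cj (g := a) ?_
  rw [mem_centralizer_iff.1 tK a ha, mul_inv_cancel_right]
  have od : ∀ k ∈ cen d.A, k ∈ cen1 (r 1) → ∃ o ∈ O, k = o ∨ k = o * r 1 := fun k hk c => by
    obtain ⟨o, ho, x, hx, rfl⟩ := hl.od.dec k (mem_inf.2 ⟨hk, mem_centralizer_iff.2 fun x hx => by
      rcases memR hp hx with rfl | rfl
      exacts [by simp, (mem_cen1.1 c).symm]⟩)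
    exact ⟨o, ho, (memR hp hx).imp (fun e => by rw [e, mul_one]) fun e => by rw [e]⟩
  have Ole : O ≤ cen d.A ⊓ cen1 (r 1) := hl.od.le.trans (inf_le_inf_left _ (cen_le_cen1 (tR hp)))
  have βr : ∀ x, β x * r 1 * (β x)⁻¹ = r 1 * d.u 0 0 x := fun x => by
    simpa using hl.βr x 1 (.inr (.inr rfl))
  have no : ∀ a ∈ d.A, ¬ IsConj (r 1) a := fun a ha e => by
    obtain ⟨c, rfl⟩ := _root_.isConj_iff.1 e
    exact hp.noKI _ ha (ki_cj c (ki_of_mem tK (t2 hp)))
  rcases e V le_rfl g with e | e <;> rw [e]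
  · exact le1 h.hm h.uA h.nA h.nu tK tt (fun g hg c => h.tri₁ g (cenN h hp hg) (fun e => c 0 e)
      fun a => ⟨0, by rw [c, mul_inv_cancel_right]⟩) od Ole hl.od.odd hl.add (fun x a c => hl.βu x a 0 c)
      hl.βO βr (fun y x => mul_inv_eq_iff_eq_mul.1 (by simpa [h.hm.one] using hl.s₁.wβ y x)) no
  · rw [← h.hm.swap_A]
    refine le1 h.hm.swap (fun _ _ _ => h.uA ..) h.mA (by simpa using h.mu) tK tt (fun g hg c => ?_) od
      Ole hl.od.odd hl.add (fun x a c => hl.βu x ..) hl.βO (by simpa using βr)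
      (fun y x => mul_inv_eq_iff_eq_mul.1 (by simpa [Dt.swap, h.hm.one] using hl.s₂.wβ y x)) no
    simp only [mul_zero, add_zero] at c
    obtain ⟨k, hk, a, b, c, e⟩ := h.tri₂ g (cenN h hp hg) (fun e => c 0 e)
      fun a => ⟨0, by rw [c, mul_inv_cancel_right]⟩
    exact ⟨k, hk, b, a, c + b * a, by rw [e, add_assoc, F4.add_self, add_zero]⟩

end

theorem jobC0 : JobC0.{u} := fun G _ _ d R r O β h hp hl => by
  have cc : ∀ {s g : G} {X : Subgroup G}, g * s * g⁻¹ = r 1 → X ≤ cen1 s → cj g X ≤ cen1 (r 1) :=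
    fun e hX => by rw [← e, ← cj_cen1]; exact cj_mono _ hX
  have cN := cenN h hp
  refine ⟨fun s hs E hE el => ?_, fun s hs D hD p V hV V' hV' g1 g2 => ?_, fun s hs V hV g1 => ?_,
    fun s hs x hx e => ?_, fun s hs Y hY el c n D hD p n' => ?_⟩ <;> obtain ⟨g, hg⟩ := cj_t hp hs
  · have := h.rk _ ((cc hg hE).trans cN) (el_cj el g)
    have := cardK hp (el_two (el_cj el g))
    rw [← card_cj g]; omega
  · obtain ⟨a, -, e⟩ := K1 h hp (cc hg hD) (isPGroup_cj g p)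
    have e' : ∀ V ≤ D, Gd d.K V → cj (a * g) V = h.hm.A ∨ cj (a * g) V = h.hm.B := fun V hV g1 =>
      cj_cj a g V ▸ e _ (cj_mono g hV) (gd_cj g1 g)
    have c4 : Nat.card ↥(h.hm.A ⊓ h.hm.B) = 4 := h.hm.card_Z.trans Nat.card_eq_fintype_card
    rcases e' V hV g1 with r1 | r1 <;> rcases e' V' hV' g2 with r2 | r2
    · exact .inl (cj_inj.1 (r1.trans r2.symm))
    · exact .inr ⟨by rw [← card_cj (a * g), cj_inf, r1, r2, c4], fun X hX g3 =>
        (e' X hX g3).imp (fun r => cj_inj.1 (r.trans r1.symm)) fun r => cj_inj.1 (r.trans r2.symm)⟩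
    · exact .inr ⟨by rw [← card_cj (a * g), cj_inf, r1, r2, inf_comm, c4], fun X hX g3 =>
        (e' X hX g3).symm.imp (fun r => cj_inj.1 (r.trans r1.symm)) fun r => cj_inj.1 (r.trans r2.symm)⟩
    · exact .inl (cj_inj.1 (r1.trans r2.symm))
  · exact LE.of_cj (g := g) (hg ▸ leT h hp hl (cc hg hV) (gd_cj g1 g))
  · have e' := (ord_cj g _).trans e
    have := h.osq (g * (x * x) * g⁻¹) (subset_closure ⟨_, cN (cc hg le_rfl (conj_mem_cj hx)), conj_mul⟩)
    rw [pow_succ, ← e', pow_orderOf_eq_one, one_mul] at this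
    exact (inKA' h hp this e').imp ki_of_cj fun r => r.trans (_root_.isConj_iff.2 ⟨g⁻¹, by group⟩)
  · have out : ∀ y ∈ Y, y ≠ 1 → g * y * g⁻¹ ∉ d.K ⊔ d.A := fun y hy y1 r =>
      (inKA' h hp r ((ord_cj g y).trans (ord2 (el y hy) y1))).elim (fun r => (n y hy).1 (ki_of_cj r))
        fun r => (n y hy).2 (r.trans (_root_.isConj_iff.2 ⟨g⁻¹, by group⟩))
    obtain ⟨a, ha, a1⟩ := (bot_or_exists_ne_one Y).resolve_left fun e => by simp [e] at c
    obtain ⟨b, hb, b1⟩ := SetLike.not_le_iff_exists.1 fun e : Y ≤ zpowers a => by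
      have := card_le_of_le e
      rw [Nat.card_zpowers, ord2 (el a ha) a1] at this
      omega
    have hN : ∀ y ∈ Y, g * y * g⁻¹ ∈ d.N := fun y hy => cN (cc hg hY (conj_mem_cj hy))
    have sq : ∀ y ∈ Y, g * y * g⁻¹ * (g * y * g⁻¹) = 1 := fun y hy => el_cj el g _ (conj_mem_cj hy)
    have cm : ∀ y ∈ Y, cj g D ≤ cen1 (g * y * g⁻¹) := fun y hy => by
      rw [← cj_cen1]; exact cj_mono g (hD.trans (inf_le_right.trans (cen_le_cen1 hy)))
    have p' := isPGroup_cj g p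
    have r1 := h.out4 _ ((cc hg (hD.trans inf_le_left)).trans cN) p'
    have r2 := h.two _ (hN a ha) _ (hN b hb) (sq a ha) (sq b hb)
      (by
        have := mul_comm_of_sq el ha hb
        rw [Commute, SemiconjBy, conj_mul, conj_mul, this])
      (out a ha a1) (out b hb fun e => b1 (e ▸ one_mem _))
      (by
        rw [conj_mul]
        exact out _ (mul_mem ha hb) fun e => b1 (eq_inv_of_mul_eq_one_right e ▸
          inv_mem (mem_zpowers a))) (cj g D ⊓ (d.K ⊔ d.A))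
      (le_inf (le_inf inf_le_right (inf_le_left.trans (cm a ha))) (inf_le_left.trans (cm b hb)))
      (p'.to_le inf_le_left)
    rw [noK (p'.to_le inf_le_left) (by rintro _ ⟨⟨x, hx, rfl⟩, -⟩ r; exact n' x hx (ki_of_cj r))] at r2
    rw [← card_cj g]; omega

end H92.TE
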