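import Cfsg.Agent.H92.TEC0

/-! TE2-C2: the case of the field with sixteen elements. -/

set_option autoImplicit false
set_option linter.unusedSectionVars false

namespace H92.TE

open Subgroup Cfsg H98 H1.Gold H86.L34 H88.AS H88.TE
open scoped commutatorElement

universe u

variable {G : Type u} [Group G] [Finite G] {E K S X : Subgroup G} {g s s' t x y z : G}
  {F : Type} [Field F] [Fintype F] {p q : F → F → F → G} {l l' k : F} {φ φ' : RingAut F}

open Polynomial in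
theorem fix4 (l : F) : Nat.card {a : F // l * a ^ 4 = a} ≤ 4 := by
  classical
  have hne : (C l * X ^ 4 - X : F[X]) ≠ 0 := fun e => by simpa using congrArg (coeff · 1) e
  rw [Nat.card_eq_fintype_card, Fintype.card_subtype]
  refine (card_le_degree_of_subset_roots (p := C l * X ^ 4 - X) fun a ha => ?_).trans (by compute_degree)
  simpa [hne, sub_eq_zero] using ha

theorem one_of_pow (h : (2 : F) = 0) {n : ℕ} (e : l ^ 2 ^ n = 1) : l = 1 := by
  induction n with
  | zero => simpa using e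
  | succ n ih =>
    rw [pow_succ, pow_mul, sq, mul_self_eq_one_iff] at e
    exact ih (e.elim id fun e => by linear_combination e - h)

theorem cyc_inv {A : Type*} [Group A] [Finite A] (h : IsCyclic A) {x y : A} (xx : x * x = 1)
    (yy : y * y = 1) (x1 : x ≠ 1) (y1 : y ≠ 1) : x = y := by
  classical
  have := Fintype.ofFinite A
  by_contra n
  have := (Finset.card_le_card (s := {1, x, y}) (by simp [Finset.subset_iff, sq, xx, yy])).trans
    (IsCyclic.card_pow_eq_one_le (α := A) two_pos)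
  rw [Finset.card_eq_three.2 ⟨1, x, y, x1.symm, y1.symm, n, rfl⟩] at this
  omega

/-- `s` carries the coordinates `p` semilinearly to the coordinates `q`. -/
structure Ty (p q : F → F → F → G) (s : G) (l k : F) (φ : RingAut F) : Prop where
  l0 : l ≠ 0
  k0 : k ≠ 0
  all : ∀ a b c, ∃ c', s * p a b c * s⁻¹ = q (l * φ a) (k * φ b) c'
  cen : ∀ c, s * p 0 0 c * s⁻¹ = q 0 0 (l * k * φ c)

theorem ex_ty (hp : HM p) (hq : HM q) (h1 : cj s hp.A ≤ hq.A) (h2 : cj s hp.B ≤ hq.B) :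
    ∃ l k φ, Ty p q s l k φ := by
  choose f f' hf using fun a => h1 (conj_mem_cj (hp.mem_A.2 rfl : p a 0 0 ∈ _))
  choose g g' hg using fun b => h2 (conj_mem_cj (hp.mem_B.2 rfl : p 0 b 0 ∈ _))
  have key : ∀ a b, s * p 0 0 (a * b) * s⁻¹ = q 0 0 (f a * g b) := fun a b => by
    have e1 := hp.comm a 0 0 0 b 0
    have e2 := hq.comm (f a) 0 (f' a) 0 (g b) (g' b)
    rw [mul_zero, add_zero] at e1 e2
    rw [← e1, ← e2, hf, hg, commutatorElement_def, commutatorElement_def]; group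
  have k1 : ∀ c, s * p 0 0 c * s⁻¹ = q 0 0 (f c * g 1) := fun c => by rw [← key, mul_one]
  have k2 : ∀ a b, f (a * b) * g 1 = f a * g b := fun a b => (hq.ext ((k1 _).symm.trans (key a b))).2.2
  have n : f 1 * g 1 ≠ 0 := fun e => by
    have := k1 1
    rw [e, hq.one, conj_eq_one_iff] at this
    exact one_ne_zero (hp.inj this).2.2
  obtain ⟨n1, n2⟩ := mul_ne_zero_iff.1 n
  have add : ∀ a b, f (a + b) * g 1 = f a * g 1 + f b * g 1 := fun a b => by
    have := k1 (a + b)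
    rw [show p 0 0 (a + b) = p 0 0 a * p 0 0 b by simp [hp.mul], ← conj_mul, k1, k1, hq.mul] at this
    simpa using (hq.ext this).2.2.symm
  let ψ : F →+* F := RingHom.mk' ⟨⟨fun c => f c / f 1, div_self n1⟩, fun a b => by
    have e1 := k2 a b
    have e2 := k2 1 b
    rw [one_mul] at e2
    field_simp
    exact mul_right_cancel₀ n2 (by linear_combination f 1 * e1 - f a * e2)⟩ fun a b => by
    simp only [MonoidHom.coe_mk, OneHom.coe_mk, ← add_div]
    exact congrArg (· / f 1) (mul_right_cancel₀ n2 (by rw [add, add_mul]))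
  have e1 : ∀ a, f 1 * ψ a = f a := fun a => mul_div_cancel₀ _ n1
  have e2 : ∀ b, g 1 * ψ b = g b := fun b => mul_left_cancel₀ n1 (by
    rw [mul_left_comm, e1, ← k2 1 b, one_mul, mul_comm])
  refine ⟨f 1, g 1, RingEquiv.ofBijective ψ (Finite.injective_iff_bijective.1 ψ.injective), n1, n2,
    fun a b c => ?_, fun c => ?_⟩ <;> simp only [RingEquiv.ofBijective_apply]
  · rw [e1, e2, show p a b c = p a 0 0 * p 0 0 (c + a * b) * p 0 b 0 by
      rw [hp.dec]; simp [hp.mul], ← conj_mul, ← conj_mul, ← hf, ← hg, k1, hq.mul, hq.mul]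
    simp only [add_zero, zero_add]
    exact ⟨_, rfl⟩
  · rw [k1, mul_right_comm, e1]

/-- The action on the centre. -/
def Zc (p : F → F → F → G) (s : G) (φ : RingAut F) : Prop :=
  ∃ l, l ≠ 0 ∧ ∀ c, s * p 0 0 c * s⁻¹ = p 0 0 (l * φ c)

theorem Zc.mul (h : Zc p s φ) (h' : Zc p s' φ') : Zc p (s * s') (φ * φ') := by
  obtain ⟨l, n, e⟩ := h
  obtain ⟨l', n', e'⟩ := h'
  exact ⟨l * φ l', mul_ne_zero n ((map_ne_zero _).2 n'), fun c => by
    rw [← conj_conj', e', e, map_mul, mul_assoc]; rfl⟩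

theorem Zc.uniq (hp : HM p) (h : Zc p s φ) (h' : Zc p s φ') : φ = φ' := by
  obtain ⟨l, n, e⟩ := h
  obtain ⟨l', n', e'⟩ := h'
  have r := fun c => (hp.ext ((e c).symm.trans (e' c))).2.2
  have := r 1
  rw [map_one, map_one, mul_one, mul_one] at this
  exact RingEquiv.ext fun z => mul_left_cancel₀ n (by rw [r, this])

theorem ex_phi (hp : HM p) : ∃ Φ : G → RingAut F, ∀ s ∈ nor hp.S, Zc p s (Φ s) ∧
    ∃ l k, Ty p p s l k (Φ s) ∨ Ty p (fun a b c => p b a (c + a * b)) s l k (Φ s) := by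
  have : ∀ s, ∃ φ : RingAut F, s ∈ nor hp.S → Zc p s φ ∧
      ∃ l k, Ty p p s l k φ ∨ Ty p (fun a b c => p b a (c + a * b)) s l k φ := fun s => by
    by_cases hs : s ∈ nor hp.S
    swap
    · exact ⟨1, fun r => absurd r hs⟩
    have e : cj s hp.A ⊔ cj s hp.B = hp.S := by rw [← cj_sup, hp.sup, cj_eq_self hs]
    rcases el_le hp (cj_le_of_le hp.A_le hs) (el_cj (elA hp) s) with r1 | r1 <;>
      rcases el_le hp (cj_le_of_le hp.B_le hs) (el_cj (elB hp) s) with r2 | r2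
    · exact absurd (hp.B_le.trans (e ▸ sup_le r1 r2)) hp.not_ge
    · obtain ⟨l, k, φ, h⟩ := ex_ty hp hp r1 r2
      exact ⟨φ, fun _ => ⟨⟨_, mul_ne_zero h.l0 h.k0, h.cen⟩, l, k, .inl h⟩⟩
    · obtain ⟨l, k, φ, h⟩ := ex_ty hp hp.swap (hp.swap_A ▸ r1) (hp.swap_B ▸ r2)
      exact ⟨φ, fun _ => ⟨⟨_, mul_ne_zero h.l0 h.k0, by simpa using h.cen⟩, l, k, .inr h⟩⟩
    · exact absurd (hp.A_le.trans (e ▸ sup_le r1 r2)) hp.not_le
  choose Φ h using this
  exact ⟨Φ, h⟩

theorem Ty.one (hp : HM p) (h : Ty p p s l k 1) (e : Two s) : l = 1 ∧ k = 1 := by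
  have r : ∀ m : ℕ, ∃ c, s ^ m * p 1 1 0 * (s ^ m)⁻¹ = p (l ^ m) (k ^ m) c := fun m => by
    induction m with
    | zero => exact ⟨0, by simp⟩
    | succ m ih =>
      obtain ⟨c, ih⟩ := ih
      rw [pow_succ', ← conj_conj', ih, pow_succ', pow_succ']
      exact h.all _ _ _
  obtain ⟨n, e⟩ := e
  obtain ⟨c, r⟩ := r (2 ^ n)
  rw [e, one_mul, inv_one, mul_one] at r
  exact ⟨one_of_pow hp.two (hp.ext r).1.symm, one_of_pow hp.two (hp.ext r).2.1.symm⟩

theorem zc_one (hp : HM p) (h : ∀ c, s * p 0 0 c * s⁻¹ = p 0 0 (l * c)) (e : Two s) : l = 1 := by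
  have r : ∀ m : ℕ, s ^ m * p 0 0 1 * (s ^ m)⁻¹ = p 0 0 (l ^ m) := fun m => by
    induction m with
    | zero => simp
    | succ m ih => rw [pow_succ', ← conj_conj', ih, pow_succ', h]
  obtain ⟨n, e⟩ := e
  have := r (2 ^ n)
  rw [e, one_mul, inv_one, mul_one] at this
  exact one_of_pow hp.two (hp.ext this).2.2.symm

theorem card_fix (hp : HM p) (hX : X ≤ hp.A) (h : ∀ a c, p a 0 c ∈ X → l * a ^ 4 = a) :
    Nat.card X ≤ 4 * Nat.card F := by
  choose a c e using fun x : X => hX x.2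
  refine (Nat.card_le_card_of_injective (fun x : X =>
    ((⟨a x, h _ (c x) (e x ▸ x.2)⟩ : {a : F // l * a ^ 4 = a}), c x)) fun x y r => ?_).trans ?_
  · simp only [Prod.mk.injEq, Subtype.mk.injEq] at r
    exact Subtype.ext (by rw [← e, ← e, r.1, r.2])
  · rw [Nat.card_prod]; exact Nat.mul_le_mul_right _ (fix4 l)

theorem jobC2 : H88.TE.JobC2.{u} := by
  rintro G _ _ _ K t z hna h0 ⟨F, _, _, p, hp, hF, ht, hc⟩
  rw [← Nat.card_eq_fintype_card] at hF
  have tt := ki_sq hc.ki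
  have tN : t ∈ nor hp.S := mem_normalizer_fintype (by rintro _ ⟨a, b, c, rfl⟩; exact ht a b c ▸ hp.mem_S ..)
  have P2 : IsPGroup 2 hp.S := by
    rintro ⟨_, a, b, c, rfl⟩
    exact ⟨2, Subtype.ext (show p a b c ^ (2 * 2) = 1 by rw [pow_mul, hp.sq, hp.sq, zero_mul, hp.one])⟩
  obtain ⟨S, hS, le⟩ := exists_isSyl_le (IsPGroup.to_sup_of_normal_left' P2
    (Two.isPGroup ⟨1, by simpa [sq] using tt⟩) (zpowers_le.2 tN)) (sup_le le_normalizer (zpowers_le.2 tN))
  have PS : hp.S ≤ S := le_sup_left.trans le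
  have tS : t ∈ S := le (mem_sup_right (mem_zpowers t))
  obtain ⟨Φ, hΦ⟩ := ex_phi hp
  have mul : ∀ s ∈ S, ∀ s' ∈ S, Φ (s * s') = Φ s * Φ s' := fun s hs s' hs' =>
    (hΦ _ (hS.le (mul_mem hs hs'))).1.uniq hp ((hΦ s (hS.le hs)).1.mul (hΦ s' (hS.le hs')).1)
  have Φ1 : Φ 1 = 1 := by simpa using mul 1 (one_mem _) 1 (one_mem _)
  have Φt : ∀ a, Φ t a = a ^ 4 := by
    obtain ⟨l, -, e⟩ := (hΦ t tN).1
    have r := fun c => (hp.ext ((e c).symm.trans (ht 0 0 c))).2.2
    have := r 1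
    rw [map_one, mul_one, one_pow] at this
    simpa [this] using r
  have t1 : Φ t ≠ 1 := fun e => by
    have := fix4 (1 : F)
    rw [Nat.card_congr (Equiv.subtypeUnivEquiv fun a => by rw [one_mul, ← Φt, e]; rfl)] at this
    omega
  have inv : ∀ s ∈ S, s * s = 1 → Φ s ≠ 1 → Φ s = Φ t := fun s hs ss n =>
    cyc_inv (H69.isCyclic_ringEquiv F) (by rw [← mul s hs s hs, ss, Φ1]) (by rw [← mul t tS t tS, tt, Φ1])
      n t1
  have triv : ∀ s ∈ S, ∀ l k, Ty p p s l k 1 → s ∈ hp.S := fun s hs l k h => by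
    obtain ⟨rfl, rfl⟩ := h.one hp (two_of_mem hS.isPGroup hs)
    refine hc.faith S hS.isPGroup PS tS hS.le s hs ?_
    rintro _ ⟨a, b, c, rfl⟩
    obtain ⟨c', e⟩ := h.all a b c
    rw [e, hp.inv, hp.mul, mem_inf, hp.mem_A, hp.mem_B]
    exact ⟨by simpa [← two_mul] using .inl hp.two, by simpa [← two_mul] using .inl hp.two⟩
  have pl : ∀ s ∈ S, s ∈ nor hp.A → ∃ l k, Ty p p s l k (Φ s) := fun s hs r => by
    obtain ⟨l, k, e⟩ := (hΦ s (hS.le hs)).2
    refine ⟨l, k, e.resolve_right fun e => e.l0 ?_⟩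
    obtain ⟨c, e1⟩ := e.all 1 0 0
    simpa [e1, hp.mem_A] using H98.conj_mem_of_mem_normalizer r (hp.mem_A.2 rfl : p 1 0 0 ∈ _)
  have sw : ∀ s ∈ S, s ∉ nor hp.A → ∃ l k, Ty p (fun a b c => p b a (c + a * b)) s l k (Φ s) :=
    fun s hs r => by
      obtain ⟨l, k, e⟩ := (hΦ s (hS.le hs)).2
      refine ⟨l, k, e.resolve_left fun e => r (mem_normalizer_fintype ?_)⟩
      rintro _ ⟨a, c, rfl⟩
      obtain ⟨c', e1⟩ := e.all a 0 c
      exact e1 ▸ hp.mem_A.2 (by simp)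
  have cZ : Nat.card ↥(hp.A ⊓ hp.B) = 16 := hp.card_Z.trans hF
  have big : ∀ E ≤ S, El E → Nat.card E = 256 → E ≤ hp.S := fun E hE el c => by
    have h2 := half (E := E ⊓ nor hp.A) (M := hp.S) fun x hx y hy r1 r2 => by
      obtain ⟨_, _, e1⟩ := pl x (hE hx.1) hx.2
      obtain ⟨_, _, e2⟩ := pl y (hE hy.1) hy.2
      rw [inv_eq_of_mul_eq_one_right (el y hy.1)]
      obtain ⟨_, _, e3⟩ := pl _ (hE (mul_mem hx.1 hy.1)) (mul_mem hx.2 hy.2)
      rw [mul x (hE hx.1) y (hE hy.1), inv x (hE hx.1) (el x hx.1) fun e => r1 (triv x (hE hx.1) _ _ (e ▸ e1)),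
        inv y (hE hy.1) (el y hy.1) fun e => r2 (triv y (hE hy.1) _ _ (e ▸ e2)), ← mul t tS t tS, tt,
        Φ1] at e3
      exact triv _ (hE (mul_mem hx.1 hy.1)) _ _ e3
    by_cases r : E ≤ nor hp.A
    · by_contra n
      obtain ⟨s, hs, n⟩ := SetLike.not_le_iff_exists.1 n
      obtain ⟨l, k, e⟩ := pl s (hE hs) (r hs)
      rw [inv s (hE hs) (el s hs) fun r => n (triv s (hE hs) _ _ (r ▸ e))] at e
      have fx : ∀ a b c, p a b c ∈ E → l * a ^ 4 = a ∧ k * b ^ 4 = b := fun a b c m => by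
        obtain ⟨c', e1⟩ := e.all a b c
        rw [mul_comm_of_sq el hs m, mul_inv_cancel_right, Φt, Φt] at e1
        exact ⟨(hp.ext e1).1.symm, (hp.ext e1).2.1.symm⟩
      rw [inf_eq_left.2 r] at h2
      rcases el_le hp (inf_le_right : E ⊓ hp.S ≤ _) fun x hx => el x hx.1 with r1 | r1
      · have := card_fix hp r1 fun a c m => (fx _ _ _ m.1).1
        omega
      · have := card_fix hp.swap (X := E ⊓ hp.S) (hp.swap_A ▸ r1) fun a c m => (fx _ _ _ m.1).2
        omega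
    · obtain ⟨s, hs, n⟩ := SetLike.not_le_iff_exists.1 r
      obtain ⟨l, k, e⟩ := sw s (hE hs) n
      have h1 := half (E := E) (M := nor hp.A) fun x hx y hy r1 r2 => by
        obtain ⟨_, _, e1⟩ := sw x (hE hx) r1
        obtain ⟨_, _, e2⟩ := sw y (hE hy) r2
        rw [inv_eq_of_mul_eq_one_right (el y hy)]
        refine mem_normalizer_fintype ?_
        rintro _ ⟨a, c, rfl⟩
        obtain ⟨c', e3⟩ := e2.all a 0 c
        rw [← conj_conj', e3]
        obtain ⟨c'', e4⟩ := e1.all _ _ _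
        exact e4 ▸ hp.mem_A.2 (by simp)
      have h3 := card_le_of_le (show E ⊓ nor hp.A ⊓ hp.S ≤ hp.A ⊓ hp.B by
        rintro _ ⟨⟨m, -⟩, a, b, c, rfl⟩
        obtain ⟨c', e1⟩ := e.all a b c
        rw [mul_comm_of_sq el hs m, mul_inv_cancel_right] at e1
        obtain ⟨e2, e3, -⟩ := hp.ext e1
        have e4 := el _ m
        rw [sq' hp] at e4
        rw [mem_inf, hp.mem_A, hp.mem_B]
        rcases mul_eq_zero.1 (hp.inj e4).2.2 with rfl | rfl
        exacts [⟨by simpa using e3, rfl⟩, ⟨rfl, by simpa using e2⟩])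
      omega
  have syl : IsSyl 2 S ⊤ := isSyl_of_isSyl_normalizer (hS.of_le (le_inf le_top le_normalizer)
    (inf_le_right.trans fun g hg => mem_normalizer_of_cj_le (by
      nth_rewrite 1 [← hp.sup]
      rw [cj_sup]
      exact sup_le (big _ (cj_le_of_le (hp.A_le.trans PS) hg) (el_cj (elA hp) g)
        (by rw [card_cj, hp.card_A, hF])) (big _ (cj_le_of_le (hp.B_le.trans PS) hg) (el_cj (elB hp) g)
        (by rw [card_cj, card_B, hF])))))
  have no : ∀ s ∈ S, KI K s → Φ s ≠ 1 := fun s hs ki r => by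
    obtain ⟨l, k, e⟩ := sw s hs fun n => (pl s hs n).elim fun _ e => e.elim fun _ e =>
      hc.noP s (triv s hs _ _ (r ▸ e)) ki
    rw [r] at e
    have lk : l * k = 1 := zc_one hp (by simpa using e.cen) (two_of_mem hS.isPGroup hs)
    let D : Subgroup G :=
      { carrier := {x | ∃ a c, p a (l * a) c = x}
        mul_mem' := by rintro _ _ ⟨_, _, rfl⟩ ⟨_, _, rfl⟩; exact ⟨_, _, by rw [hp.mul, mul_add]⟩
        one_mem' := ⟨0, 0, by rw [mul_zero, hp.one]⟩
        inv_mem' := by rintro _ ⟨_, _, rfl⟩; exact ⟨_, _, (hp.inv ..).symm⟩ }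
    have DP : D ≤ hp.S := fun _ ⟨_, _, e⟩ => ⟨_, _, _, e⟩
    have PB : hp.S ≤ cen (hp.A ⊓ hp.B) := by
      rintro _ ⟨a, b, c, rfl⟩
      refine mem_centralizer_iff.2 fun x hx => ?_
      obtain ⟨c', rfl⟩ := hp.mem_Z.1 hx
      simp [hp.mul, add_comm]
    obtain ⟨D₀, r1, r2, r3⟩ := h0.le s ki (hp.A ⊓ hp.B) (fun x hx => by
        obtain ⟨c, rfl⟩ := hp.mem_Z.1 hx
        exact mem_cen1.2 (mul_inv_eq_iff_eq_mul.1 (by simpa [lk] using e.cen c)).symm)
      ⟨fun x hx => elA hp x hx.1, cZ, fun x hx => hc.noP x (hp.A_le hx.1)⟩ D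
      (le_inf (fun x hx => mem_normalizer_of_cj_le (by
        rw [cj_le_iff]
        refine sup_le (fun y hy => mem_cj.2 (mem_sup_left ?_)) (zpowers_le.2 (mem_cj.2 ?_))
        · rwa [inv_inv, ← mem_centralizer_iff.1 (PB (DP hx)) y hy, mul_inv_cancel_right]
        · obtain ⟨a, c, e1⟩ := inv_mem hx
          obtain ⟨c', e2⟩ := e.all a (l * a) c
          rw [show x⁻¹⁻¹ * s * x⁻¹ = x⁻¹⁻¹ * (s * x⁻¹ * s⁻¹) * s by group, ← e1, e2, hp.inv, hp.mul]
          refine mul_mem_sup ?_ (mem_zpowers s)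
          rw [mem_inf, hp.mem_A, hp.mem_B]
          exact ⟨by simpa [← two_mul] using .inl hp.two, by
            simp only [RingAut.one_eq_refl, RingEquiv.refl_apply]
            linear_combination a * lk + a * hp.two⟩)) (DP.trans PB)) (P2.to_le DP)
    have h1 := card_le_of_le (show D₀ ≤ hp.A ⊓ hp.B from fun x hx => by
      obtain ⟨a, c, rfl⟩ := r1 hx
      have e4 := r2 _ hx
      rw [sq' hp] at e4
      obtain rfl : a = 0 := by simpa [e.l0] using (hp.inj e4).2.2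
      rw [mul_zero]
      exact hp.mem_Z.2 ⟨c, rfl⟩)
    have h2 := Nat.card_le_card_of_injective (fun v : F × F => (⟨p v.1 (l * v.1) v.2, _, _, rfl⟩ : D))
      fun v w e => let r := hp.ext (congrArg Subtype.val e); Prod.ext r.1 r.2.2
    rw [Nat.card_prod, hF] at h2
    omega
  let _ : CommGroup (RingAut F) := (H69.isCyclic_ringEquiv F).commGroup
  have key := H8.transfer_eq_pow_of_forall (MonoidHom.mk' (fun s : S => Φ s) fun s s' => mul s s.2 s' s'.2)
    t (Φ t) fun k a h => by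
      have t2 : t ^ 2 = 1 := by rwa [sq]
      have Φ2 : Φ t ^ 2 = 1 := by rw [sq, ← mul t tS t tS, tt, Φ1]
      change Φ (a⁻¹ * t ^ k * a) = _
      rcases Nat.even_or_odd' k with ⟨m, rfl | rfl⟩
      · simp [pow_mul, t2, Φ1, Φ2]
      · rw [pow_succ, pow_mul, t2, one_pow, one_mul] at h ⊢
        rw [pow_succ, pow_mul, Φ2, one_pow, one_mul]
        have ki : KI K (a⁻¹ * t * a) := by simpa using ki_cj a⁻¹ hc.ki
        exact inv _ h (ki_sq ki) (no _ h ki)
  rw [hom_triv hna] at key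
  obtain ⟨m, hm⟩ : Odd S.index := by
    have := syl.not_dvd_relIndex
    rw [relIndex_top_right] at this
    exact Nat.not_even_iff_odd.1 fun e => this (even_iff_two_dvd.1 e)
  rw [hm, pow_succ, pow_mul, sq, ← mul t tS t tS, tt, Φ1, one_pow, one_mul] at key
  exact t1 key.symm

end H92.TE
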