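import Cfsg.Agent.H21.TEC
import Cfsg.Agent.H88.TEBase

/-! TE2, job S2 (blueprints/TE2.md): involutions of `P`, the stabilizer of `r c` modulo `Z`. -/

set_option autoImplicit false
set_option linter.unusedSectionVars false
set_option maxRecDepth 100000
set_option synthInstance.maxSize 4096

namespace H92.TES

open Subgroup Cfsg H98 H1.Gold H86.L34 H88.AS H88.TE H21.TE
open H6 (F4)

universe u

theorem orb1 : ∀ x : V4, qf x = 0 → x ≠ 0 → ¬ VT x →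
    ∃ a b c d, W₁ a (W₂ b (W₁ c (W₂ d (1, 0, 0, 0)))) = x := by decide +kernel

theorem orb2 : ∀ x : V4, VT x → ∃ a b c, W₂ b (W₁ a x) = (0, 0, c, 0) := by decide +kernel

theorem bf_onto : ∀ x : V4, x ≠ 0 → ∀ e, ∃ y, bf y x = e := by decide +kernel

variable {G : Type u} [Group G] [Finite G] {s : SD G} {g x k : G} {c : F4}

theorem le_of_odd {P N K : Subgroup G} (hP : IsSyl 2 P N) (h1 : P ≤ K)
    (h : ∀ θ ∈ N, Odd (orderOf θ) → θ ∈ K) : N ≤ K :=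
  hP.sup_res.ge.trans (sup_le h1 (res_le_of_forall_pow fun x hx => by
    obtain ⟨k, hk⟩ := exists_pow_coprime (p := 2) (isOfFinOrder_of_finite x)
    exact ⟨k, h _ (pow_mem hx _) (Nat.coprime_two_right.1 hk)⟩))

theorem w₁Y (y : F4) : s.w₁ y ∈ s.Y := mem_sup_left (subset_closure ⟨y, .inl rfl⟩)
theorem w₂Y (y : F4) : s.w₂ y ∈ s.Y := mem_sup_left (subset_closure ⟨y, .inr rfl⟩)
theorem pY (x : V4) (e : F4) : s.p x e ∈ s.Y := mem_sup_right (p_mem x e)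

variable (h : Sz s)
include h

theorem step₁ (y : F4) (x : V4) (e : F4) : ∃ e', s.w₁ y * s.p x e * (s.w₁ y)⁻¹ = s.p (W₁ y x) e' :=
  ⟨_, w₁_p h y x.1 x.2.1 x.2.2.1 x.2.2.2 e⟩

theorem step₂ (y : F4) (x : V4) (e : F4) : ∃ e', s.w₂ y * s.p x e * (s.w₂ y)⁻¹ = s.p (W₂ y x) e' :=
  ⟨_, w₂_p h y x.1 x.2.1 x.2.2.1 x.2.2.2 e⟩

theorem reach (x : V4) (h0 : qf x = 0) (h1 : x ≠ 0) (h2 : ¬ VT x) (e : F4) :
    ∃ y ∈ s.Y, y * s.r 1 * y⁻¹ = s.p x e := by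
  obtain ⟨a, b, c, d, rfl⟩ := orb1 x h0 h1 h2
  obtain ⟨e₁, k₁⟩ := step₂ h d (1, 0, 0, 0) 0
  obtain ⟨e₂, k₂⟩ := step₁ h c (W₂ d (1, 0, 0, 0)) e₁
  obtain ⟨e₃, k₃⟩ := step₂ h b (W₁ c (W₂ d (1, 0, 0, 0))) e₂
  obtain ⟨e₄, k₄⟩ := step₁ h a (W₂ b (W₁ c (W₂ d (1, 0, 0, 0)))) e₃
  obtain ⟨y, hy⟩ := bf_onto _ h1 (e₄ + e)
  refine ⟨s.p y 0 * (s.w₁ a * (s.w₂ b * (s.w₁ c * s.w₂ d))), mul_mem (pY _ _) (mul_mem (w₁Y _)
    (mul_mem (w₂Y _) (mul_mem (w₁Y _) (w₂Y _)))), ?_⟩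
  calc _ = s.p y 0 * (s.w₁ a * (s.w₂ b * (s.w₁ c * (s.w₂ d * s.p (1, 0, 0, 0) 0 * (s.w₂ d)⁻¹) *
      (s.w₁ c)⁻¹) * (s.w₂ b)⁻¹) * (s.w₁ a)⁻¹) * (s.p y 0)⁻¹ := by rw [p_r h]; group
    _ = _ := by rw [k₁, k₂, k₃, k₄, p_conj h, hy, ← add_assoc, F4.add_self, zero_add]

theorem vt (x : V4) (e : F4) (hx : VT x) : ∃ y ∈ s.Y, ∃ a e', y * s.p x e * y⁻¹ = s.u a 0 e' := by
  obtain ⟨a, b, c, k⟩ := orb2 x hx
  obtain ⟨e₁, k₁⟩ := step₁ h a x e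
  obtain ⟨e₂, k₂⟩ := step₂ h b (W₁ a x) e₁
  refine ⟨s.w₂ b * s.w₁ a, mul_mem (w₂Y _) (w₁Y _), c, e₂, ?_⟩
  calc _ = s.w₂ b * (s.w₁ a * s.p x e * (s.w₁ a)⁻¹) * (s.w₂ b)⁻¹ := by group
    _ = _ := by rw [k₁, k₂, k, p_u h]

theorem ki_r (n : c ≠ 0) : KI s.K (s.r c) := ⟨r_ord h n, 1, (cj_one _).ge (r_K h c)⟩

theorem ki (x : V4) (e : F4) : KI s.K (s.p x e) ↔ qf x = 0 ∧ x ≠ 0 ∧ ¬ VT x := by
  refine ⟨fun k => ⟨?_, ?_, fun hx => ?_⟩, fun ⟨h0, h1, h2⟩ => ?_⟩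
  · exact z_inj h (((p_sq h x e).symm.trans (KI.sq k)).trans h.fr.z0.symm)
  · rintro rfl
    exact h.pr.noKI _ (h.fr.uA 0 0 e) (by rwa [p_z h e] at k)
  · obtain ⟨y, -, a, e', k'⟩ := vt h x e hx
    exact h.pr.noKI _ (h.fr.uA a 0 e') (k' ▸ KI_conj k y)
  · obtain ⟨y, -, k⟩ := reach h x h0 h1 h2 e
    exact k ▸ KI_conj (ki_r h one_ne_zero) y

theorem odd_K (hx : x ∈ s.N) (hU : ∀ a b c, Commute x (s.u a b c)) (ho : Odd (orderOf x)) :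
    x ∈ s.K := by
  obtain ⟨k, hk, e, rfl⟩ := h.fr.ker x hx hU
  obtain ⟨m, hm⟩ := ho
  have h1 : (k * s.z e) ^ (2 * m + 1) = 1 := hm ▸ pow_orderOf_eq_one _
  rw [(Fr0.comm hk (h.fr.uA 0 0 e)).mul_pow, pow_succ (s.u 0 0 e), pow_mul, pow_two, h.fr.z_sq,
    one_pow, one_mul] at h1
  refine mul_mem hk ?_
  rw [show s.z e = _ from eq_inv_of_mul_eq_one_right h1]
  exact inv_mem (pow_mem hk _)

theorem βr (d c : F4) : s.β d * s.r c * (s.β d)⁻¹ = s.r c * s.z (c * d) := h.loc.βr d c (.inl rfl)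

theorem odd_R (n : c ≠ 0) (hx : x ∈ s.K) (hc : Commute x (s.r c)) (ho : Odd (orderOf x)) :
    x ∈ cen s.R := by
  have hA : ∀ a ∈ s.A, Commute x a := fun a ha => Fr0.comm hx ha
  have hβ : ∀ d, Commute x (s.β d) := fun d => by
    obtain ⟨d, rfl⟩ := (by decide : ∀ d : F4, ∃ d', d' + F4.w * d' = d) d
    have h1 : (s.β d)⁻¹ * x * (s.β d)⁻¹⁻¹ ∈ s.K := by
      refine odd_K h (mem_N h (c := c) n ?_) (fun a b e => ?_) ?_
      · calc _ = (s.β d)⁻¹ * (x * (s.β d * s.r c * (s.β d)⁻¹) * x⁻¹) * s.β d := by group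
          _ = _ := by
            rw [βr h, (hc.mul_right (hA _ (h.fr.uA ..))).eq, mul_inv_cancel_right, ← βr h]; group
      · exact ((h.loc.βu d a b e).inv_left.mul_left (hA _ (h.fr.uA ..))).mul_left
          (h.loc.βu d a b e).inv_left.inv_left
      · rwa [show orderOf ((s.β d)⁻¹ * x * (s.β d)⁻¹⁻¹) = orderOf x from
          (MulAut.conj (s.β d)⁻¹).orderOf_eq x]
    have h2 : Commute x (s.β d * s.h * (s.β d)⁻¹) := by
      have := (Fr0.comm h1 h.fr.hA).eq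
      calc x * (s.β d * s.h * (s.β d)⁻¹) = s.β d * ((s.β d)⁻¹ * x * (s.β d)⁻¹⁻¹ * s.h) * (s.β d)⁻¹ := by
            group
        _ = _ := by rw [this]; group
    have h3 : s.β (d + F4.w * d) = s.β d * s.h * (s.β d)⁻¹ * s.h⁻¹ := by
      rw [h.loc.add, ← h.loc.hβ, inv_eq_of_mul_eq_one_right (β_sq h d)]; group
    rw [h3]
    exact h2.mul_right (hA _ h.fr.hA).inv_right
  intro y hy
  obtain ⟨b, -, rfl⟩ := (h.pr.mem y).1 hy
  have hw : Commute x (s.w₁ 1) := ((hA _ h.fr.nA).mul_right (hβ 1)).mul_right (hA _ h.fr.nA).inv_right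
  have h1 := (hw.mul_right (hA _ (h.fr.uA 0 b 0))).mul_right hw.inv_right
  rw [w₁_v h, SD.p] at h1
  have h2 := (h1.mul_right (hA _ (h.fr.uA (1 ^ 3 * b) b 0)).inv_right).mul_right (hβ (1 * b)).inv_right
  simp only [mul_inv_cancel_right, one_pow, one_mul] at h2
  exact h2.symm.eq

theorem dec (n : c ≠ 0) (hk : k ∈ s.K) (hc : Commute k (s.r c)) : ∃ o ∈ s.O, ∃ c', k = o * s.r c' := by
  have h1 : s.K ⊓ cen1 (s.r c) ≤ cen s.R := le_of_odd (h.pr.syl.of_le (le_inf h.pr.syl.le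
    fun y hy => mc1.2 (h.pr.el.comm hy (r_R h c))) inf_le_left)
    (fun y hy z hz => (h.pr.el.comm hz hy).eq) fun y hy ho => odd_R h n hy.1 (mc1.1 hy.2) ho
  obtain ⟨o, ho, y, hy, e⟩ := h.loc.od.dec k ⟨hk, h1 ⟨hk, mc1.2 hc⟩⟩
  obtain ⟨c', -, rfl⟩ := (h.pr.mem y).1 hy
  exact ⟨o, ho, c', e⟩

theorem adj (n : c ≠ 0) {e : F4} (k : g * s.r c * g⁻¹ = s.r c * s.z e) :
    ∃ d, s.β d * g * s.r c * (s.β d * g)⁻¹ = s.r c := ⟨c⁻¹ * e, by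
  calc _ = s.β (c⁻¹ * e) * (g * s.r c * g⁻¹) * (s.β (c⁻¹ * e))⁻¹ := by group
    _ = s.β (c⁻¹ * e) * s.r c * (s.β (c⁻¹ * e))⁻¹ * s.z e := by
      rw [k, mul_assoc _ (s.β _)⁻¹, (h.loc.βu _ 0 0 e).inv_left.eq]; group
    _ = _ := by rw [βr h, mul_inv_cancel_left₀ n, mul_assoc, h.fr.z_sq, mul_one]⟩

theorem βZ (d : F4) : s.β d ∈ cen s.Z := P_cenZ h (p_β h d ▸ p_mem _ _)

theorem cz (hg : g ∈ cen s.Z) (e : F4) : Commute g (s.z e) := mul_inv_eq_iff_eq_mul.1 (mem_cenZ.1 hg e)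

theorem ker0 (hg : g ∈ cen s.Z) {e : F4} (k : g * s.r 1 * g⁻¹ = s.r 1 * s.z e)
    (hu : ∀ a, ∃ e, g * s.u a 0 0 * g⁻¹ = s.u a 0 e) : ∃ o ∈ s.O, ∃ x e, g = o * s.p x e := by
  obtain ⟨d, hd⟩ := adj h one_ne_zero k
  obtain ⟨k', hk, a, b, c, e'⟩ := h.fr.tri₁ _ (mem_N h one_ne_zero hd) (cz h (mul_mem (βZ h d) hg))
    fun a => (hu a).imp fun e he => by
      calc _ = s.β d * (g * s.u a 0 0 * g⁻¹) * (s.β d)⁻¹ := by group
        _ = _ := by rw [he, (h.loc.βu ..).eq, mul_inv_cancel_right]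
  have hc : Commute k' (s.r 1) := by
    rw [eq_mul_inv_of_mul_eq e'.symm]
    exact Commute.mul_left (mul_inv_eq_iff_eq_mul.1 hd) (Commute.inv_left (r_A h 1 (h.fr.uA ..)))
  obtain ⟨o, ho, c', rfl⟩ := dec h one_ne_zero hk hc
  obtain ⟨x, e'', k''⟩ := (mem_P h).1 (mul_mem (inv_mem (p_β h d ▸ p_mem (0, d, 0, 0) 0))
    (mul_mem (p_r h c' ▸ p_mem (c', 0, 0, 0) 0) (p_u h a b c ▸ p_mem (0, 0, a, b) c)))
  refine ⟨o, ho, x, e'', ?_⟩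
  rw [k'', eq_inv_mul_of_mul_eq e', ← mul_assoc o, ← (h.loc.βO d o ho).inv_left.eq]
  group

theorem ker (hg : g ∈ cen s.Z) (ha : s.Act g id) : ∃ o ∈ s.O, ∃ x e, g = o * s.p x e := by
  obtain ⟨e, k⟩ := ha (1, 0, 0, 0)
  refine ker0 h hg (e := e) (by rw [← p_r h, k, p_zr h, zero_add]; rfl) fun a => ?_
  simpa only [id, p_u h] using ha (0, 0, a, 0)

/-- The normal form of an element fixing `r c` modulo `Z`. -/
structure Nf (s : SD G) (g : G) (l k : F4) (τ : Bool) : Prop where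
  N : g ∈ s.N
  O : g ∈ nor s.O
  r : ∀ c, g * s.r c * g⁻¹ = s.r c
  β : ∀ d, ∃ e, g * s.β d * g⁻¹ = s.β d * s.z e
  ac : s.Ac g l k false τ
  lk : l * k = 1

theorem fix_r (n : c ≠ 0) (k : g * s.r c * g⁻¹ = s.r c) (c' : F4) : ∃ c'', g * s.r c' * g⁻¹ = s.r c'' := by
  obtain ⟨o, ho, c'', e⟩ := dec h n (Fr0.cjK (mem_N h n k) (r_K h c')) (by
    rw [← k]
    exact (h.pr.el.comm (r_R h c') (r_R h c)).map (MulAut.conj g))
  obtain rfl : o = 1 := h.loc.od.two_elt (n := 1) (m := 1) ho (h.loc.od.cR ho (r_R h c''))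
    (by rw [pow_one, pow_two, r_sq h]) (by rw [← e, pow_one, pow_two, conj_mul, r_sq h]; simp)
  exact ⟨c'', by rw [e, one_mul]⟩

theorem fix_β (n : c ≠ 0) (hg : g ∈ cen s.Z) (k : g * s.r c * g⁻¹ = s.r c) (d : F4) :
    ∃ c' e, c' * d = 0 ∧ g * s.β d * g⁻¹ = s.p (c', d, 0, 0) e := by
  have hU := inv_mem (h.fr.norU g (mem_N h n k) 1 one_ne_zero 1 (mem_cenZ.1 hg 1))
  have hu : ∀ a b e, g * s.β d * g⁻¹ * s.u a b e * (g * s.β d * g⁻¹)⁻¹ = s.u a b e := fun a b e => by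
    obtain ⟨a', b', e', k'⟩ := (mem_U h).1 (conj_mem_of_mem_normalizer hU (h.fr.uU a b e))
    calc _ = g * (s.β d * (g⁻¹ * s.u a b e * g⁻¹⁻¹) * (s.β d)⁻¹) * g⁻¹ := by group
      _ = _ := by rw [← k', (h.loc.βu ..).eq, mul_inv_cancel_right, k']; group
  have hr : ∀ c₁ c₂, g * s.r c₁ * g⁻¹ = s.r c₂ →
      g * s.β d * g⁻¹ * s.r c₂ * (g * s.β d * g⁻¹)⁻¹ = s.r c₂ * s.z (c₁ * d) := fun c₁ c₂ e => by
    calc _ = g * (s.β d * s.r c₁ * (s.β d)⁻¹) * g⁻¹ := by rw [← e]; group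
      _ = _ := by rw [βr h, ← conj_mul, e, mem_cenZ.1 hg]
  obtain ⟨c₁, k₁⟩ := fix_r h (g := g⁻¹) n (by nth_rewrite 1 [← k]; group) 1
  obtain ⟨o, ho, ⟨c', d', a, b⟩, e, k₂⟩ := ker0 h (mem_cenZ.2 fun e => hu 0 0 e)
    (hr c₁ 1 (by rw [← k₁]; group)) fun a => ⟨0, hu a 0 0⟩
  have sq : g * s.β d * g⁻¹ * (g * s.β d * g⁻¹) = 1 := by rw [conj_mul, β_sq h]; simp
  obtain rfl : o = 1 := h.loc.od.two_elt (n := 2) (m := 1) ho (P_cenO h (p_mem _ _) o ho)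
    (P_four h (p_mem _ _)) (by rw [← k₂, pow_one, pow_two, sq])
  rw [one_mul] at k₂
  have h1 := hu 1 0 0
  have h2 := hu 0 1 0
  have h3 := hr c c k
  rw [k₂, ← p_u h, p_conj h] at h1 h2
  rw [k₂, ← p_r h, p_conj h, p_zr h] at h3
  rw [k₂, p_sq h, ← h.fr.z0] at sq
  obtain rfl : b = 0 := by simpa [bf] using (p_ext h h1).2
  obtain rfl : a = 0 := by simpa [bf] using (p_ext h h2).2
  obtain rfl : d' = d := by simpa [bf, n, mul_comm] using (p_ext h h3).2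
  exact ⟨c', e, by simpa [qf] using z_inj h sq, k₂⟩

theorem nf0 (n : c ≠ 0) (hg : g ∈ cen s.Z) (k : g * s.r c * g⁻¹ = s.r c) :
    ∃ a b l k τ, Nf s (s.u a b 0 * g) l k τ := by
  have hN := mem_N h n k
  obtain ⟨a, b, l, k', σ, τ, -, -, ac⟩ := h.fr.aut g hN
    (h.fr.norU g hN 1 one_ne_zero 1 (mem_cenZ.1 hg 1))
  have hz : ∀ e, l * k' * fr σ e = e := fun e => by
    have h1 := ac 0 0 e
    rw [mem_cenZ.1 (mul_mem (P_cenZ h (p_u h a b 0 ▸ p_mem _ _)) hg) e] at h1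
    cases τ <;> simpa using ((hm h).ext h1).2.2.symm
  have lk : l * k' = 1 := by cases σ <;> simpa [fr] using hz 1
  obtain rfl : σ = false := by
    cases σ
    · rfl
    · exact absurd (hz F4.w) (by rw [lk]; decide)
  have hr : ∀ c', g * s.r c' * g⁻¹ = s.r c' := fun c' => by
    obtain ⟨c'', k₁⟩ := fix_r h n k c'
    obtain ⟨c₁, e, -, k₂⟩ := fix_β h n hg k 1
    have h1 : g * (s.β 1 * s.r c' * (s.β 1)⁻¹) * g⁻¹ =
      g * s.β 1 * g⁻¹ * (g * s.r c' * g⁻¹) * (g * s.β 1 * g⁻¹)⁻¹ := by group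
    rw [βr h, ← conj_mul, mem_cenZ.1 hg, k₁, k₂, ← p_r h, p_conj h, p_zr h] at h1
    obtain rfl : c' = c'' := by simpa [bf] using (p_ext h h1).2
    exact k₁
  have hR : g ∈ nor s.R := centralizer_le_normalizer _ fun y hy => by
    obtain ⟨c', -, rfl⟩ := (h.pr.mem y).1 hy
    exact (mul_inv_eq_iff_eq_mul.1 (hr c')).symm
  refine ⟨a, b, l, k', τ, mul_mem (Fr0.A_le (h.fr.uA ..)) hN, mul_mem (centralizer_le_normalizer _
    (A_cenO h (h.fr.uA ..))) (h.loc.od.nor_le h.fr.toFr0 h.pr hR).2, fun c' => ?_, fun d => ?_, ac, lk⟩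
  · calc _ = s.u a b 0 * (g * s.r c' * g⁻¹) * (s.u a b 0)⁻¹ := by group
      _ = _ := by rw [hr, r_A h c' (h.fr.uA ..), mul_inv_cancel_right]
  · obtain ⟨c₁, e, h0, k₂⟩ := fix_β h n hg k d
    obtain rfl | rfl := mul_eq_zero.1 h0
    · refine ⟨e, ?_⟩
      calc _ = s.u a b 0 * (g * s.β d * g⁻¹) * (s.u a b 0)⁻¹ := by group
        _ = _ := by rw [k₂, ← p_u h, p_conj h, ← p_β h, p_zr h]; simp [bf]
    · exact ⟨0, by simp [β_zero h, h.fr.z0]⟩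

theorem Nf.p {l k : F4} {τ : Bool} (f : Nf s g l k τ) {d e₀ : F4}
    (hd : g * s.β d * g⁻¹ = s.β d * s.z e₀) (c a b e : F4) : g * s.p (c, d, a, b) e * g⁻¹ =
      if τ then s.p (c, d, l * b, k * a) (e + a * b + e₀) else s.p (c, d, l * a, k * b) (e + e₀) := by
  rw [SD.p, ← conj_mul, ← conj_mul, f.r, hd, f.ac, f.lk, ← mul_assoc, mul_assoc _ (s.u 0 0 e₀)]
  cases τ <;> simp [fr, SD.p, (hm h).mul, add_comm]

theorem Nf.one {l k : F4} {τ : Bool} (f : Nf s g l k τ) : l = 1 ∧ k = 1 := by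
  obtain ⟨e₀, hd⟩ := f.β 1
  have h1 : ¬ KI s.K (g * s.p (1, 1, 1, 1) 0 * g⁻¹) := by
    rw [KI_iff, ki h]; decide
  have h2 := (by decide : ∀ l k : F4, l * k = 1 → ¬ (qf (1, 1, l * 1, k * 1) = 0 ∧
    ((1, 1, l * 1, k * 1) : V4) ≠ 0 ∧ ¬ VT (1, 1, l * 1, k * 1)) → l = 1 ∧ k = 1) l k f.lk
  rw [f.p h hd] at h1
  cases τ <;> exact h2 (by simpa only [ki h, if_true, Bool.false_eq_true, if_false] using h1)

theorem nf (n : c ≠ 0) (hg : g ∈ cen s.Z) {e : F4} (k : g * s.r c * g⁻¹ = s.r c * s.z e) :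
    ∃ d a b e' g' τ, Nf s g' 1 1 τ ∧ g = s.p (0, d, a, b) e' * g' := by
  obtain ⟨d, hd⟩ := adj h n k
  obtain ⟨a, b, l, k', τ, f⟩ := nf0 h n (mul_mem (βZ h d) hg) hd
  obtain ⟨rfl, rfl⟩ := f.one h
  refine ⟨d, a, b, a * b, _, τ, f, ?_⟩
  rw [← mul_assoc, ← mul_assoc, ← p_u h, ← p_β h, p_mul h, p_mul h]
  simp [p_one h, show ((0, 0, 0, 0) : V4) = 0 from rfl]

theorem Nf.act {τ : Bool} (f : Nf s g 1 1 τ) (y : V4) (e : F4) :
    s.Act (s.p y e * g) (if τ then Gm else id) := by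
  refine act_mul h (nZ (P_cenZ h (p_mem y e))) (act_p h y e) (g' := g) (ψ := if τ then Gm else id)
    fun ⟨c, d, a, b⟩ => ?_
  obtain ⟨e₀, hd⟩ := f.β d
  rw [f.p h hd]
  cases τ <;> simp [Gm]

theorem cr (hg : g ∈ cen s.Z) (n : c ≠ 0) (e : F4) (k : g * s.r c * g⁻¹ = s.r c * s.z e) :
    g ∈ nor s.P ∧ g ∈ nor s.O ∧ (s.Act g id ∨ s.Act g Gm) := by
  obtain ⟨d, a, b, e', g', τ, f, rfl⟩ := nf h n hg k
  refine ⟨act_nor h (nZ hg) (f.act h _ _), mul_mem (centralizer_le_normalizer _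
    (P_cenO h (p_mem _ _))) f.O, ?_⟩
  cases τ
  exacts [.inl (f.act h _ _), .inr (f.act h _ _)]

theorem nfG (hg : g ∈ cen s.Z) (ha : s.Act g Gm) (gg : g * g = 1) :
    ∃ d a e' g', Nf s g' 1 1 true ∧ g = s.p (0, d, a, a) e' * g' := by
  obtain ⟨e, k⟩ := ha (1, 0, 0, 0)
  obtain ⟨d, a, b, e', g', τ, f, rfl⟩ := nf h one_ne_zero hg (e := e) (by
    rw [← p_r h, k, p_zr h, zero_add]; rfl)
  obtain rfl : τ = true := by
    cases τ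
    · exact absurd (congrFun (act_uniq h ha (f.act h _ _)) (0, 0, 1, 0)) (by decide)
    · rfl
  have h0 : g' * s.β 0 * g'⁻¹ = s.β 0 * s.z 0 := by simp [β_zero h, h.fr.z0]
  have h1 : s.p (0, d, a, b) e' * (g' * (s.p (0, d, a, b) e' * (g' * s.p (0, 0, 1, 0) 0 * g'⁻¹) *
      (s.p (0, d, a, b) e')⁻¹) * g'⁻¹) * (s.p (0, d, a, b) e')⁻¹ = s.p (0, 0, 1, 0) 0 := by
    calc _ = (s.p (0, d, a, b) e' * g' * (s.p (0, d, a, b) e' * g')) * s.p (0, 0, 1, 0) 0 *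
        (s.p (0, d, a, b) e' * g' * (s.p (0, d, a, b) e' * g'))⁻¹ := by group
      _ = _ := by rw [gg]; simp
  rw [f.p h h0, if_pos rfl, p_conj h, f.p h h0, if_pos rfl, p_conj h] at h1
  obtain rfl : a = b := (by decide : ∀ a b : F4, a + b = 0 → a = b) a b (by
    simpa [bf] using (p_ext h h1).2)
  exact ⟨d, a, e', g', f, rfl⟩

theorem Nf.fix (f : Nf s g 1 1 true) {d e₀ : F4} (hd : g * s.β d * g⁻¹ = s.β d * s.z e₀)
    (d₀ a₀ e' c a : F4) (h0 : a * a + e₀ + d₀ * c = 0) :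
    Commute (s.p (c, d, a, a) 0) (s.p (0, d₀, a₀, a₀) e' * g) := by
  refine (mul_inv_eq_iff_eq_mul.1 ?_ : Commute _ _).symm
  calc _ = s.p (0, d₀, a₀, a₀) e' * (g * s.p (c, d, a, a) 0 * g⁻¹) * (s.p (0, d₀, a₀, a₀) e')⁻¹ := by group
    _ = _ := by
      rw [f.p h hd, if_pos rfl, p_conj h]
      refine p_cg h (by simp) ?_
      simp only [bf]
      linear_combination h0 + a₀ * a * F4.two_eq

theorem gsq (hg : g ∈ cen s.Z) (ha : s.Act g Gm) (gg : g * g = 1) : s.Z ≤ sqs (cen1 g) := by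
  obtain ⟨d₀, a₀, e', g', f, rfl⟩ := nfG h hg ha gg
  intro z hz
  obtain ⟨e, rfl⟩ := (mem_Z h).1 hz
  obtain ⟨e₁, h1⟩ := f.β 1
  have h0 : g' * s.β 0 * g'⁻¹ = s.β 0 * s.z 0 := by simp [β_zero h, h.fr.z0]
  obtain ⟨c, a, k | k⟩ := (by decide : ∀ d₀ e₁ e : F4, ∃ c a,
    (a * a + 0 + d₀ * c = 0 ∧ qf (c, 0, a, a) = e) ∨ (a * a + e₁ + d₀ * c = 0 ∧ qf (c, 1, a, a) = e))
    d₀ e₁ e
  · exact subset_closure ⟨_, mc1.2 (f.fix h h0 d₀ a₀ e' c a k.1), by rw [p_sq h, k.2]⟩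
  · exact subset_closure ⟨_, mc1.2 (f.fix h h1 d₀ a₀ e' c a k.1), by rw [p_sq h, k.2]⟩

/-- the square of a graph automorphism lies in `Z` only if it is trivial -/
theorem Nf.sq (f : Nf s g 1 1 true) {e : F4} (gg : g * g = s.z e) : e = 0 := by
  have hh : s.h ∈ s.N := Fr0.A_le h.fr.hA
  obtain ⟨k, hk, e', k'⟩ := h.fr.ker (s.h * g * s.h⁻¹ * g⁻¹)
    (mul_mem (mul_mem (mul_mem hh f.N) (inv_mem hh)) (inv_mem f.N)) fun a b c => by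
      obtain ⟨a, b, c, k₁, k₂, k₃⟩ := (by decide : ∀ a b c : F4, ∃ a' b' c', a = F4.v * b' ∧
        b = F4.v * a' ∧ c = F4.w * (c' + a' * b')) a b c
      have h1 : s.h * (g * s.u a b c * g⁻¹) * s.h⁻¹ = g * (s.h * s.u a b c * s.h⁻¹) * g⁻¹ := by
        rw [h.fr.hu, f.ac, f.ac, if_pos rfl, if_pos rfl, h.fr.hu]
        exact cg s.u (by simp [fr]) (by simp [fr]) ((by decide : ∀ a b c : F4, F4.w * (1 * 1 * fr false
          (c + a * b)) = 1 * 1 * fr false (F4.w * c + F4.v * a * (F4.v * b))) a b c)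
      have h2 : s.h * (g * s.u a b c * g⁻¹) * s.h⁻¹ = s.u (F4.v * b) (F4.v * a) (F4.w * (c + a * b)) := by
        rw [f.ac, if_pos rfl, h.fr.hu]; simp [fr]
      refine mul_inv_eq_iff_eq_mul.1 ?_
      rw [k₁, k₂, k₃, ← h2]
      conv_lhs => rw [h1]
      group
  have hz : Commute g (s.z e') := mul_inv_eq_iff_eq_mul.1 (by simpa [fr] using f.ac 0 0 e')
  have h1 : s.h * g * s.h⁻¹ = k * s.z e' * g := by rw [← k']; group
  have h2 : s.z (F4.w * e) = k * (g * k * g⁻¹) * s.z e := by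
    rw [← h.fr.hz, ← gg, ← conj_mul, h1]
    calc _ = k * (s.z e' * g) * (k * s.z e') * g := by group
      _ = k * g * (s.z e' * s.z e') * k * g := by
        rw [← hz.eq, (Fr0.comm hk (h.fr.uA 0 0 e')).eq]; group
      _ = _ := by rw [h.fr.z_sq]; group
  have h3 : s.z (F4.w * e + e) ∈ s.K := by
    rw [← h.fr.zz, h2, mul_assoc, h.fr.z_sq, mul_one]
    exact mul_mem hk (Fr0.cjK f.N hk)
  exact (by decide : ∀ e : F4, F4.w * e + e = 0 → e = 0) e (h.fr.u_of_K h3).2.2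

theorem gki (hg : g ∈ cen s.Z) (ha : s.Act g Gm) (gg : g * g = 1) :
    ∃ k t, t ∈ cj k s.K ∧ orderOf t = 2 ∧ Commute t g ∧ g ∉ cj k s.A := by
  have hu : ∀ a b e, ∃ e', g * s.u a b e * g⁻¹ = s.u b a e' := fun a b e => by
    simpa only [Gm, p_u h] using act_all h (nZ hg) ha (0, 0, a, b) e
  have key : ∀ t, KI s.K t → s.U ≤ cen1 t → Commute t g →
      ∃ k t, t ∈ cj k s.K ∧ orderOf t = 2 ∧ Commute t g ∧ g ∉ cj k s.A := fun t ⟨h2, k, hk⟩ hU hc => by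
    refine ⟨k, t, hk, h2, hc, fun hA => ?_⟩
    have h1 := h.pr.noswap h.fr hk h2 hU hA (mem_normalizer_of_cj_le (by
      rintro _ ⟨v, hv, rfl⟩
      obtain ⟨a, b, e, rfl⟩ := (mem_U h).1 hv
      exact (hu a b e).elim fun e' k => (mem_U h).2 ⟨_, _, _, k.symm⟩))
    obtain ⟨e', k'⟩ := hu 1 0 0
    obtain ⟨a, e, k''⟩ := (mem_V h).1 (h1 ▸ conj_mem_cj (h.fr.uV₁ 1 0))
    exact zero_ne_one ((hm h).ext (k''.trans k')).2.1
  obtain ⟨d₀, a₀, e', g', f, rfl⟩ := nfG h hg ha gg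
  by_cases n : d₀ = 0
  · refine key (s.p (1, 0, 0, 0) 0) ((ki h _ _).2 (by decide)) (fun v hv => ?_)
      (f.fix h (e₀ := 0) (by simp [β_zero h, h.fr.z0]) d₀ a₀ e' 1 0 (by simp [n]))
    rw [p_r h]
    exact mc1.2 (r_A h 1 (h.fr.U_le hv))
  obtain ⟨e₀, h0⟩ := f.β d₀
  obtain rfl : e₀ = 0 := f.sq h (by
    have h1 : s.p (0, d₀, a₀, a₀) e' * (g' * s.p (0, d₀, a₀, a₀) e' * g'⁻¹) * (g' * g') = 1 := by
      rw [← gg]; group
    rw [f.p h h0, if_pos rfl, p_mul h, one_mul, v_self h, p_z h] at h1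
    rw [eq_inv_of_mul_eq_one_right h1, inv_eq_of_mul_eq_one_right (h.fr.z_sq _)]
    congr 1
    simp only
    linear_combination (e' + a₀ * a₀) * F4.two_eq)
  refine key (s.p (0, d₀, 0, 0) 0) ((ki h _ _).2 ((by decide : ∀ d : F4, d ≠ 0 → qf (0, d, 0, 0) = 0 ∧
    ((0, d, 0, 0) : V4) ≠ 0 ∧ ¬ VT (0, d, 0, 0)) d₀ n)) (fun v hv => ?_)
      (f.fix h h0 d₀ a₀ e' 0 0 (by simp))
  obtain ⟨a, b, e, rfl⟩ := (mem_U h).1 hv
  rw [p_β h]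
  exact mc1.2 (h.loc.βu ..).symm

theorem odd (X : Subgroup G) (hX : X ≤ cen1 (s.z 1)) (ho : Odd (Nat.card X))
    (hn : s.R ⊔ s.U ≤ nor X) : X ≤ s.O := by
  have key : ∀ c ≠ 0, X ⊓ cen1 (s.r c) ≤ s.O := fun c n x hx => by
    have hc := mc1.1 hx.2
    have hN := mem_N h n (mul_inv_eq_iff_eq_mul.2 hc.eq)
    have hU := h.fr.norU x hN 1 one_ne_zero 1 (mul_inv_eq_iff_eq_mul.2 (mc1.1 (hX hx.1)).eq)
    have hx' : Odd (orderOf x) := ho.of_dvd_nat (X.orderOf_dvd_natCard hx.1)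
    have hK : x ∈ s.K := odd_K h hN (fun a b e => by
      have h1 : x * s.u a b e * x⁻¹ * (s.u a b e)⁻¹ ∈ s.U :=
        mul_mem (conj_mem_of_mem_normalizer hU (h.fr.uU a b e)) (inv_mem (h.fr.uU a b e))
      have h2 : x * s.u a b e * x⁻¹ * (s.u a b e)⁻¹ ∈ X := by
        rw [mul_assoc, mul_assoc, ← mul_assoc (s.u a b e)]
        exact mul_mem hx.1 (conj_mem_of_mem_normalizer (hn (mem_sup_right (h.fr.uU a b e))) (inv_mem hx.1))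
      obtain ⟨m, hm⟩ := isPGroup_iff_forall.1 h.fr.syl.isPGroup _ h1
      exact mul_inv_eq_iff_eq_mul.1 (mul_inv_eq_one.1
        (eq_one_of_odd (ho.of_dvd_nat (X.orderOf_dvd_natCard h2)) hm))) hx'
    exact h.loc.od.mem x ⟨hK, odd_R h n hK hc hx'⟩ hx'
  refine H14.le_of_four (r_ord h one_ne_zero) (r_ord h (c := F4.w) (by decide))
    (h.pr.el.comm (r_R h _) (r_R h _)).eq (fun e => ?_) (Nat.coprime_two_right.2 ho)
    (hn (mem_sup_left (r_R h _))) (hn (mem_sup_left (r_R h _))) (key _ one_ne_zero) (key _ (by decide))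
    (r_add h 1 F4.w ▸ key _ (by decide))
  exact absurd (h.pr.inj (1 + F4.w) (.inl rfl) (by rw [r_add h, e, r_sq h])) (by decide)

omit h in
theorem jobS2 : JobS2.{u} := fun _ _ _ _ h =>
  ⟨ki h, fun x e k => ((ki h x e).1 k).elim fun h0 h1 => reach h x h0 h1.1 h1.2 e, vt h,
    fun _ hg _ n e k => cr h hg n e k, fun _ => ker h, fun _ => gsq h, fun _ => gki h, odd h⟩

end H92.TES
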