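import Cfsg.Agent.H92.SgB

/-! STD-G, slot P2a, part 3: the case `q = 2`. -/

set_option autoImplicit false
set_option linter.unusedSectionVars false

namespace H92.P2a

open Cfsg Cfsg.Lie H63 H65 H64 H64.SG H70.Sg H98 Subgroup

universe u

variable {D : ChevalleyDatum} [RS D] {F : Type} [Field F] [CharP F 2] {G : Type u} [Group G]
  [Finite G] {x : ℕ → F → G} {t n g : G} {r s u α σ : Rt D} {c : F} {a b : Fin D.rank}

local notation "θ" => hi D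
local notation "ZZ" => XR D x (hi D)
local notation "PP" => P0 D x (hi D)
local notation "QQ" => Q0 D x (hi D)

abbrev Jb (b : Fin D.rank) : Set (Fin D.rank) := {i | i ≠ b}
abbrev Ls (x : ℕ → F → G) (σ : Rt D) : Subgroup G := XR D x (hi D) ⊔ XR D x σ

/-- The node `α`, its neighbour `β`, and `σ = θ - α`. -/
structure Nd (a b : Fin D.rank) (α σ : Rt D) : Prop where
  et : ET D
  eα : α = simpleR a
  ha : D.cartan a θ = 1
  hσ : rt θ = rt σ + rt α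
  lev : ∀ r : Rt D, D.pairing θ r + D.pairing σ r = rt r b

theorem exists_nd (hD : ET D) : ∃ (a b : Fin D.rank) (α σ : Rt D), Nd a b α σ := by
  obtain ⟨a, b, h, h'⟩ := hD.exists_nodes
  have ha : D.cartan a θ = 1 := by rw [h, if_pos rfl]
  obtain ⟨σ, hσ⟩ := opp hD (p := θ) (u := simpleR a) (by
    rw [hD.pairing_comm, simpleR_val, pairing_simple, ha])
  have h1 : ∀ r : Rt D, D.pairing θ r = rt r a := fun r => by
    rw [pairing_eq_sum, Finset.sum_eq_single a]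
    · rw [← simpleR_val, hD.pairing_comm, simpleR_val, pairing_simple, ha, one_mul]
    · intro j _ n
      rw [← simpleR_val, hD.pairing_comm, simpleR_val, pairing_simple, h, if_neg n, zero_mul]
    · simp
  have h2 : ∀ r : Rt D, D.pairing (simpleR a : Rt D) r = 2 * rt r a - if b = a then 0 else rt r b := fun r => by
    rw [pairing_eq_sum, show (∑ j : Fin D.rank, D.pairing (simpleR a : Rt D) (D.simple j) * rt r j) =
      ∑ j : Fin D.rank, ((if j = a then 2 * rt r a else 0) - if j = b then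
        (if b = a then 0 else rt r b) else 0) from Finset.sum_congr rfl fun j _ => by
      rw [simpleR_val, pairing_simple_simple, h']
      split_ifs <;> simp_all]
    simp
  have n : b ≠ a := fun e => by
    have := h2 θ
    rw [if_pos e, simpleR_val, pairing_simple, ha] at this
    omega
  refine ⟨a, b, _, σ, hD, rfl, ha, hσ, fun r => ?_⟩
  have h3 := hD.pairing_add_left hσ r
  have h4 := h1 r
  have h5 := h2 r
  rw [if_neg n] at h5
  omega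

namespace Nd

variable (N : Nd a b α σ)
include N

theorem hσ' : rt θ = rt α + rt σ := N.hσ.trans (add_comm _ _)
theorem σ1 : D.pairing θ σ = 1 := opp1 N.et N.hσ
theorem σ1' : D.pairing σ θ = 1 := (N.et.pairing_comm _ _).trans N.σ1
theorem α1 : D.pairing θ α = 1 := opp1 N.et N.hσ'
theorem sub (r : Rt D) : D.pairing θ r = D.pairing σ r + D.pairing α r := N.et.pairing_add_left N.hσ r
theorem hj : rt σ = rt (negR α) + rt θ := by rw [rt_negR, N.hσ]; abel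
theorem phi : r ∈ (H64.wdata D).PhiJ (Jb b) ↔ D.pairing θ r + D.pairing σ r = 0 := by
  rw [H64.mem_PhiJ_iff, N.lev]; simp
theorem pos (h : 0 < D.pairing θ r + D.pairing σ r) : Pos r := pos_of_coord_pos (N.lev r ▸ h)
theorem xA (h : 0 < D.pairing θ r + D.pairing σ r) (c : F) : x r c ∈ (UJ D x (Jb b)) :=
  x_mem_gen (by exact ⟨N.pos h, fun e => h.ne' (N.phi.1 e)⟩) c

theorem cases (h : D.pairing θ r = 1) : r = α ∨ r = σ ∨ D.pairing α r ∈ [0, 1] := by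
  have h1 := N.sub r
  have h2 := N.et.pairing_le α r
  have h3 := N.et.pairing_le σ r
  by_cases e : 2 ≤ D.pairing α r
  · exact .inl (N.et.eq_of_pairing e)
  by_cases e' : 2 ≤ D.pairing σ r
  · exact .inr (.inl (N.et.eq_of_pairing e'))
  simp only [List.mem_cons, List.not_mem_nil, or_false]
  omega

theorem of_UJ (h : Pos r ∧ r ∉ (H64.wdata D).PhiJ (Jb b)) : (0 ≤ D.pairing θ r ∧ 0 ≤ D.pairing σ r) ∧
    (1 ≤ D.pairing θ r ∨ D.pairing θ r = 0 ∧ D.pairing σ r = 1) := by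
  have h1 := N.et.pairing_hi_nonneg h.1
  have h2 : 0 ≤ rt r b := h.1 b
  have h3 := N.lev r
  have h4 := mt N.phi.2 h.2
  by_cases e : 2 ≤ D.pairing θ r
  · obtain rfl := N.et.eq_of_pairing e
    have := N.σ1'
    omega
  by_cases e' : 2 ≤ D.pairing σ r
  · obtain rfl := N.et.eq_of_pairing e'
    have := N.σ1
    omega
  omega

variable (E : En D x t)
include E

theorem Y_le : (P2 D x θ σ) ≤ PP ⊓ Cs (Ls x σ) := SG.gen_le_iff.2 fun r hr c => ⟨xP hr.1 c, le_centralizer_iff.1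
  (sup_le (XR_eq_gen (x := x) θ ▸ SG.gen_le_iff.2 (by
      rintro _ rfl c'; exact mem_Cs_zpowers.2 (E.xc hr.1 _ _).symm))
    (XR_eq_gen (x := x) σ ▸ SG.gen_le_iff.2 (by
      rintro _ rfl c'; exact mem_Cs_zpowers.2 (E.xc hr.2 _ _).symm))) (mem_zpowers _)⟩

theorem Y_eq : (P2 D x θ σ) = GG D x ⊓ Cs (Ls x σ) :=
  le_antisymm ((N.Y_le E).trans (inf_le_inf_right _ PG)) fun y hy => E.c2 σ N.σ1 y hy.1 hy.2

theorem Y_eq' : (P2 D x θ σ) = PP ⊓ Cs (Ls x σ) :=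
  le_antisymm (N.Y_le E) ((inf_le_inf_right _ PG).trans (N.Y_eq E).ge)

theorem nL : Ns (UU D x) ≤ Ns (Ls x σ) := fun g hg => mem_normalizer_of_cj_le (by
  have pσ := N.et.pos_of_pairing N.σ1.ge
  have hU : (Ls x σ) ≤ UU D x := sup_le (le_gen _ N.et.pos_hi) (le_gen _ pσ)
  rintro _ ⟨y, hy, rfl⟩
  refine (E.z2 σ pσ ⟨a, N.eα ▸ N.hσ⟩ _ (conj_mem_of_mem_normalizer hg (hU hy))).1 fun u hu => ?_
  have := conj_mem_of_mem_normalizer (E.nZ hg) ((E.z2 σ pσ ⟨a, N.eα ▸ N.hσ⟩ _ (hU hy)).2 hy _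
    (conj_mem_of_mem_normalizer' hg hu))
  convert this using 1; group)

theorem jθ (c d : F) : x (negR α) c * x θ d * (x (negR α) c)⁻¹ = x θ d * x σ (c * d) :=
  N.et.conj_add E.s N.hj c d

theorem jσ (c d : F) : x (negR α) c * x σ d * (x (negR α) c)⁻¹ = x σ d := by
  rw [E.xc (by rw [N.et.pairing_comm, opp1 N.et N.hj]; omega), mul_inv_cancel_right]

theorem PJ_nL : E.stB.rgd.PJ (Jb b) ≤ Ns (Ls x σ) := by
  rw [RGD.PJ_eq_gen]
  refine sup_le (le_normalizer_sup (XR_eq_gen (x := x) θ ▸ E.stB.rgd.H_le_normalizer_gen _)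
    (XR_eq_gen (x := x) σ ▸ E.stB.rgd.H_le_normalizer_gen _)) (SG.gen_le_iff.2 fun r hr c => ?_)
  by_cases p : Pos r
  · exact N.nL E (le_normalizer (x_mem_gen p c))
  have h1 := N.phi.1 (hr.resolve_left p)
  have h2 : ¬ 1 ≤ D.pairing θ r := fun h => p (N.et.pos_of_pairing h)
  by_cases h3 : D.pairing θ r = 0
  · exact Cs_le_Ns _ (N.Y_le E (x_mem_gen (by exact ⟨h3.ge, by omega⟩) c)).2
  obtain rfl : r = negR α := N.et.eq_neg_of_pairing (by have := N.sub r; omega)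
  refine mem_normalizer_of_cj_le (map_le_iff_le_comap.2 (sup_le (fun y hy => ?_) fun y hy => ?_)) <;>
    obtain ⟨d, rfl⟩ := E.s.mem_XR.1 hy
  · show x (negR α) c * x θ d * (x (negR α) c)⁻¹ ∈ Ls x σ
    rw [N.jθ E]
    exact mul_mem (mem_sup_left (x_mem_XR D x _ _)) (mem_sup_right (x_mem_XR D x _ _))
  · show x (negR α) c * x σ d * (x (negR α) c)⁻¹ ∈ Ls x σ
    rw [N.jσ E]
    exact mem_sup_right (x_mem_XR D x _ _)

theorem PJ_nY : E.stB.rgd.PJ (Jb b) ≤ Ns (P2 D x θ σ) := by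
  rw [N.Y_eq E]
  exact le_normalizer_inf (((RGD.PJ_le_Gp _ _).trans E.stB.rgd_Gp.le).trans le_normalizer)
    ((N.PJ_nL E).trans (normalizer_le_normalizer_centralizer _))

theorem Y_PJ : (P2 D x θ σ) ≤ E.stB.rgd.PJ (Jb b) := by
  rw [RGD.PJ_eq_gen]
  refine le_sup_of_le_right (gen_mono _ fun r hr => ?_)
  rcases (add_nonneg hr.1 hr.2).eq_or_lt with h | h
  exacts [.inr (N.phi.2 h.symm), .inl (N.pos h)]

theorem PJ_nA : E.stB.rgd.PJ (Jb b) ≤ Ns (UJ D x (Jb b)) := E.stB.rgd.PJ_le_normalizer_UJ _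

theorem A_Y : (UJ D x (Jb b)) ≤ (P2 D x θ σ) := gen_mono _ fun _ hr => (N.of_UJ hr).1

theorem nA : Ns (P2 D x θ σ) ≤ Ns (UJ D x (Jb b)) := by
  have h1 := (N.PJ_nY E).trans (normalizer_le_normalizer_pCoreOf (p := 2) _)
  have h0 : UU D x ≤ E.stB.rgd.PJ (Jb b) := (E.stB.rgd.U_le_B).trans (E.stB.rgd.B_le_PJ _)
  have h2 : pCoreOf 2 (P2 D x θ σ) ≤ UU D x := E.syl.le_of_le_normalizer (H98.isPGroup_pCoreOf _)
    ((H98.pCoreOf_le _).trans (gen_le_GG _)) (h0.trans h1)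
  have h3 : UJ D x (Jb b) ≤ pCoreOf 2 (P2 D x θ σ) :=
    H98.le_pCoreOf (E.syl.isPGroup.to_le (UJ_le_UU _)) (N.A_Y E) ((N.Y_PJ E).trans (N.PJ_nA E))
  have h4 : pCoreOf 2 (P2 D x θ σ) ≤ E.stB.rgd.UJ (Jb b) := fun v hv =>
    mem_UJ_of_conj E.stB.rgd fun y hy => h2 (conj_mem_of_mem_normalizer (h1 hy) hv)
  rw [le_antisymm h3 h4]
  exact normalizer_le_normalizer_pCoreOf _

theorem cm_of (h : x r c ∈ E.stB.rgd.PJ (Jb b)) (h' : r = α ∨ r = negR α) : x r c ∈ Cm (P2 D x θ σ) (UJ D x (Jb b)) := by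
  refine cm_gen ((N.Y_PJ E).trans (N.PJ_nA E)) (N.PJ_nA E h) fun v hv d => ?_
  rcases (add_nonneg hv.1 hv.2).eq_or_lt with e | e
  · have h1 := N.sub v
    have h2 := hv.1
    have h3 := hv.2
    refine com_one (E.xc ?_ _ _)
    rcases h' with rfl | rfl
    · omega
    · rw [negR_val, pairing_negR_left]; omega
  · exact mul_mem (conj_mem_of_mem_normalizer (N.PJ_nA E h) (N.xA e d)) (inv_mem (N.xA e d))

theorem iσ : x α 1 * x σ 1 * (x α 1)⁻¹ = x σ 1 * x θ 1 := by simpa using N.et.conj_add E.s N.hσ' 1 1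

/-- The elements produced by the `S₄` trick. -/
structure K (x : ℕ → F → G) (t : G) (b : Fin D.rank) (σ : Rt D) (n : G) : Prop where
  cm : n ∈ Cm (P2 D x θ σ) (UJ D x (Jb b))
  cl : n ∈ Cs (Ls x σ)
  mv : n * t * n⁻¹ = t * x θ 1

variable (hF : ∀ c : F, c = 0 ∨ c = 1)
include hF

theorem fixZ (hg : g ∈ Ns ZZ) : g * x θ 1 * g⁻¹ = x θ 1 := by
  obtain ⟨k, hk⟩ := E.s.mem_XR.1 (conj_mem_of_mem_normalizer hg (x_mem_XR D x θ 1))
  obtain rfl | rfl := hF k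
  · rw [E.s.x_zero, conj_eq_one_iff] at hk
    exact absurd (E.inj _ _ hk) one_ne_zero
  · exact hk

theorem two0 (hg : g ∈ Ns (UU D x)) (h : g * t * g⁻¹ = t * x θ 1) : ∃ n, K x t b σ n := by
  have iP : x α 1 ∈ PP := xP (N.α1 ▸ zero_le_one) 1
  have bP : x σ 1 ∈ PP := xP (N.σ1 ▸ zero_le_one) 1
  have iU : x α 1 ∈ UU D x := x_mem_gen (N.eα ▸ pos_simpleR a) 1
  obtain ⟨g, hg, h, gb⟩ : ∃ g ∈ Ns (UU D x), g * t * g⁻¹ = t * x θ 1 ∧ g * x σ 1 * g⁻¹ = x σ 1 := by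
    obtain ⟨c, k, hk⟩ := E.mem_XZ (N.σ1 ▸ zero_le_one) ((sup_comm ZZ _).le (conj_mem_of_mem_normalizer
      (N.nL E hg) (mem_sup_right (x_mem_XR D x σ 1))))
    obtain rfl | rfl := hF c
    · rw [E.s.x_zero, one_mul] at hk
      obtain ⟨l, hl⟩ := E.s.mem_XR.1 ((mem_normalizer_iff.1 (E.nZ hg) _).2 (hk ▸ x_mem_XR D x θ k))
      exact absurd (E.zero_of_eq N.σ1' hl) one_ne_zero
    obtain rfl | rfl := hF k
    · exact ⟨g, hg, h, by rw [hk, E.s.x_zero, mul_one]⟩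
    have e1 : ∀ y, x α 1 * g * y * (x α 1 * g)⁻¹ = x α 1 * (g * y * g⁻¹) * (x α 1)⁻¹ := fun y => by group
    refine ⟨x α 1 * g, mul_mem (le_normalizer iU) hg, ?_, ?_⟩
    · rw [e1, h, ← conj_mul, E.Pz' iP, E.xt, mul_inv_cancel_right]
    · rw [e1, hk, ← conj_mul, E.Pz' iP, N.iσ E, mul_assoc, x_sq E.s, mul_one]
  have ga := N.fixZ E hF (inv_mem (E.nZ hg))
  have gb' : g⁻¹ * x σ 1 * g⁻¹⁻¹ = x σ 1 := by nth_rewrite 1 [← gb]; group
  have gY : g ∈ Ns (P2 D x θ σ) := N.Y_eq' E ▸ le_normalizer_inf (H := zpowers g) (zpowers_le.2 (E.nP (E.nZ hg) h))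
    (zpowers_le.2 (normalizer_le_normalizer_centralizer _ (N.nL E hg))) (mem_zpowers g)
  have iJ : x α 1 ∈ E.stB.rgd.PJ (Jb b) := (RGD.U_le_B _).trans (RGD.B_le_PJ _ _) iU
  have jJ : x (negR α) 1 ∈ E.stB.rgd.PJ (Jb b) := RGD.X_le_PJ _ (N.phi.2 (by
    rw [negR_val, pairing_negR_right, pairing_negR_right, N.α1, N.et.pairing_of_add N.hσ]; rfl))
    (x_mem_XR D x _ _)
  have jc := N.cm_of E jJ (.inr rfl)
  have ja := N.jθ E 1 1
  have jb := N.jσ E 1 1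
  have jt := E.xt (negR α) 1
  rw [mul_one] at ja
  generalize x (negR α) 1 = j at jJ jc ja jb jt
  have e1 : ∀ y, j * (g⁻¹ * j * g⁻¹⁻¹) * y * (j * (g⁻¹ * j * g⁻¹⁻¹))⁻¹ =
    j * (g⁻¹ * (j * (g * y * g⁻¹) * j⁻¹) * g⁻¹⁻¹) * j⁻¹ := fun y => by group
  have n1 : j * (g⁻¹ * j * g⁻¹⁻¹) ∈ Cs (Ls x σ) := by
    refine le_centralizer_iff.1 (sup_le (fun y hy => ?_) fun y hy => ?_) (mem_zpowers _) <;>
      obtain ⟨d, rfl⟩ := E.s.mem_XR.1 hy <;> refine mem_Cs_zpowers.2 (mul_inv_eq_iff_eq_mul.1 ?_) <;>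
      obtain rfl | rfl := hF d
    · rw [E.s.x_zero, mul_one, mul_inv_cancel]
    · rw [e1, N.fixZ E hF (E.nZ hg), ja, ← conj_mul (b := g⁻¹), ga, gb', ← conj_mul, ja, jb, mul_assoc,
        x_sq E.s, mul_one]
    · rw [E.s.x_zero, mul_one, mul_inv_cancel]
    · rw [e1, gb, jb, gb', jb]
  have n2 : j * (g⁻¹ * j * g⁻¹⁻¹) * t * (j * (g⁻¹ * j * g⁻¹⁻¹))⁻¹ = t * x σ 1 := by
    rw [e1, h, ← conj_mul (a := t), ja, jt, mul_inv_cancel_right, ← mul_assoc t, ← h,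
      ← conj_mul (b := g⁻¹), gb',
      show g⁻¹ * (g * t * g⁻¹) * g⁻¹⁻¹ = t by group, ← conj_mul, jb, jt, mul_inv_cancel_right]
  have n3 := mul_mem jc (Cm.conj (inv_mem gY) (inv_mem (N.nA E gY)) jc)
  generalize j * (g⁻¹ * j * g⁻¹⁻¹) = n at n1 n2 n3
  have kJ := mul_mem jJ iJ
  refine ⟨_, Cm.conj (N.PJ_nY E kJ) (N.PJ_nA E kJ) n3, conj_mem_of_mem_normalizer
    (normalizer_le_normalizer_centralizer _ (N.PJ_nL E kJ)) n1, ?_⟩
  have kt : j * x α 1 * t = t * (j * x α 1) := by rw [mul_assoc, E.xt, ← mul_assoc, jt, mul_assoc]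
  calc _ = j * x α 1 * (n * ((j * x α 1)⁻¹ * (t * (j * x α 1))) * n⁻¹) * (j * x α 1)⁻¹ := by group
    _ = j * x α 1 * t * (j * x α 1)⁻¹ * (j * (x α 1 * x σ 1 * (x α 1)⁻¹) * j⁻¹) := by
      rw [← kt, inv_mul_cancel_left, n2]; group
    _ = _ := by
      rw [kt, mul_inv_cancel_right, N.iσ E, ← conj_mul, ja, jb, ← E.Pz bP, ← mul_assoc (x σ 1),
        x_sq E.s, one_mul]

omit hF N in
theorem K.fθ (k : K x t b σ n) (c : F) : n * x θ c * n⁻¹ = x θ c := by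
  rw [← mem_Cs.1 k.cl _ (mem_sup_left (x_mem_XR D x _ _)), mul_inv_cancel_right]

omit hF N in
theorem K.fσ (k : K x t b σ n) (c : F) : n * x σ c * n⁻¹ = x σ c := by
  rw [← mem_Cs.1 k.cl _ (mem_sup_right (x_mem_XR D x _ _)), mul_inv_cancel_right]

omit hF N in
theorem K.nZ (k : K x t b σ n) : n ∈ Ns ZZ := Cs_le_Ns _ (centralizer_le (le_sup_left : ZZ ≤ (Ls x σ)) k.cl)

omit hF N in
theorem K.nQ (k : K x t b σ n) : n ∈ Ns QQ := E.nQ (E.nP (k.nZ E) k.mv)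

omit hF in
theorem eσ (k : K x t b σ n) : n * x α 1 * n⁻¹ * x σ 1 * (n * x α 1 * n⁻¹)⁻¹ = x σ 1 * x θ 1 := by
  nth_rewrite 1 [← k.fσ E 1]
  calc _ = n * (x α 1 * x σ 1 * (x α 1)⁻¹) * n⁻¹ := by group
    _ = _ := by rw [N.iσ E, ← conj_mul, k.fσ E, k.fθ E]

theorem two1 (h : ∃ n, K x t b σ n) : ∃ n, K x t b σ n ∧
    ∀ u ∈ {u : Rt D | D.pairing θ u = 1 ∧ D.pairing σ u = 1}, Commute (n * x α 1 * n⁻¹) (x u 1) := by
  refine remove (Set.toFinite _) h fun n k u hu => ?_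
  have he := conj_mem_of_mem_normalizer (k.nQ E) (xQ (x := x) N.α1.ge 1)
  obtain ⟨l, hl⟩ := E.QZ' he (xQ hu.1.ge 1)
  obtain rfl | rfl := hF l
  · exact ⟨n, k, mul_inv_eq_iff_eq_mul.1 (by rw [hl, E.s.x_zero, mul_one]), fun _ _ _ h => h⟩
  obtain ⟨s, hs⟩ := opp N.et hu.2
  have s1 := opp1 N.et hs
  have s0 : D.pairing θ s = 0 := by have := pairing_add θ hs; have := N.σ1; have := hu.1; omega
  have sA := N.xA (x := x) (r := s) (by omega) 1
  have sP := xP (x := x) s0.ge 1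
  have e1 : ∀ y, x s 1 * n * y * (x s 1 * n)⁻¹ = x s 1 * (n * y * n⁻¹) * (x s 1)⁻¹ := fun y => by group
  have key : ∀ y z, Commute (n * x α 1 * n⁻¹) y → x s 1 * y * (x s 1)⁻¹ = z →
      Commute (x s 1 * n * x α 1 * (x s 1 * n)⁻¹) z := by
    rintro y _ h rfl
    exact e1 _ ▸ h.map (MulAut.conj (x s 1))
  refine ⟨x s 1 * n, ⟨mul_mem (cm_self ((N.Y_PJ E).trans (N.PJ_nA E)) sA) k.cm,
    mul_mem (N.Y_le E (N.A_Y E sA)).2 k.cl, ?_⟩, key (x u 1 * x σ 1) _ (mul_inv_eq_iff_eq_mul.1 ?_) ?_,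
    fun v hv ne h => key _ _ h ?_⟩
  · rw [e1, k.mv, ← conj_mul, E.Pz' sP, E.xt, mul_inv_cancel_right]
  · rw [← conj_mul, hl, N.eσ E k, E.Pz (xP (r := σ) (N.σ1 ▸ zero_le_one) 1), mul_assoc,
      ← mul_assoc (x θ 1),
      x_sq E.s, one_mul]
  · rw [← conj_mul, N.et.conj_add E.s hs, mul_one, E.xc (r := s) (s := σ) (by
      rw [N.et.pairing_comm]; omega), mul_inv_cancel_right, mul_assoc, x_sq E.s, mul_one]
  · rw [E.xc (opp0 N.et hs hv.2.ge ne), mul_inv_cancel_right]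

theorem two2 (k : K x t b σ n) (h : ∀ u ∈ {u : Rt D | D.pairing θ u = 1 ∧ D.pairing σ u = 1},
    Commute (n * x α 1 * n⁻¹) (x u 1)) (s0 : D.pairing θ s = 0) (s1 : D.pairing σ s = 0) :
    n * x s 1 * n⁻¹ * (x s 1)⁻¹ ∈ QQ := by
  have : Nonempty (Rt D) := ⟨θ⟩
  choose! o ho using fun u : Rt D => opp N.et (p := σ) (u := u)
  have σ1 := N.σ1
  have hv := k.cm.2 _ (x_mem_gen (x := x) (by exact ⟨s0.ge, s1.ge⟩) 1)
  have hA : (UJ D x (Jb b)) ≤ gen (XR D x) {u | D.pairing θ u = 0 ∧ D.pairing σ u = 1} ⊔ QQ :=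
    SG.gen_le_iff.2 fun r hr c => (N.of_UJ hr).2.elim (fun h => mem_sup_right (xQ h c))
      fun h => mem_sup_left (x_mem_gen h c)
  have o1 : ∀ u : Rt D, D.pairing θ u = 0 ∧ D.pairing σ u = 1 → D.pairing θ (o u) = 1 := fun u hu => by
    have := pairing_add θ (ho u hu.2); omega
  refine peel E.s (fun u => Cm {x (o u) 1} ZZ) (fun u hu v hv => ⟨E.PnZ (QP hv), ?_⟩)
    (fun u hu c => E.nQ (le_normalizer (xP hu.1.ge c))) (fun u hu u' hu' c c' => com_one (E.xc ?_ _ _))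
    (fun u hu u' hu' ne c => ⟨E.PnZ (xP hu'.1.ge c), ?_⟩) (fun u hu c hc => ?_) (hA hv)
    fun u hu => ⟨E.PnZ (N.Y_le E (N.A_Y E hv)).1, ?_⟩
  · rintro _ rfl
    exact E.QZ hv (xQ (o1 u hu).ge 1)
  · obtain ⟨h1, h2⟩ := hu
    obtain ⟨h3, h4⟩ := hu'
    rcases N.et.pairing_cases u u' with rfl | rfl | e | e | e
    · rw [pairing_self]; omega
    · rw [negR_val, pairing_negR_right] at h4; omega
    · obtain ⟨w, hw⟩ := exists_add e
      have h5 := pairing_add θ hw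
      obtain rfl := N.et.eq_of_pairing (r := σ) (s := w) (by have := pairing_add σ hw; omega)
      omega
    all_goals omega
  · rintro _ rfl
    exact com_one (E.xc (opp0 N.et (ho u hu.2) hu'.2.ge ne) _ _).symm
  · have := hc.2 _ rfl
    rw [N.et.commutator_add E.s ((ho u hu.2).trans (add_comm _ _)), mul_one] at this
    obtain ⟨l, hl⟩ := E.s.mem_XR.1 this
    exact E.zero_of_eq N.σ1' hl
  rintro _ rfl
  have u1 := o1 u hu
  have u2 := opp1 N.et (ho u hu.2)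
  have hL : gen (XR D x) {u | D.pairing θ u = 0 ∧ D.pairing σ u = 1} ⊔ QQ ≤ Cm {x (o u) 1} (Ls x σ) := by
    refine sup_le (SG.gen_le_iff.2 fun w hw c => ⟨Cs_le_Ns _ (N.Y_le E (x_mem_gen
      (by exact ⟨hw.1.ge, hw.2 ▸ zero_le_one⟩) c)).2, ?_⟩) fun v hv =>
        ⟨N.nL E (le_normalizer (Q0_le_UU N.et hv)), ?_⟩ <;> rintro _ rfl
    · by_cases e : w = u
      · rw [e, N.et.commutator_add E.s ((ho u hu.2).trans (add_comm _ _))]
        exact mem_sup_right (x_mem_XR D x _ _)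
      · exact com_one (E.xc (opp0 N.et (ho u hu.2) hw.2.ge e) _ _).symm
    · exact mem_sup_left (E.QZ hv (xQ u1.ge 1))
  obtain ⟨c, l, hl⟩ := E.mem_XZ (σ1 ▸ zero_le_one) ((sup_comm ZZ _).le ((hL (hA hv)).2 _ rfl))
  have he := conj_mem_of_mem_normalizer (k.nQ E) (xQ (x := x) N.α1.ge 1)
  have c1 : Commute (n * x α 1 * n⁻¹) (n * x s 1 * n⁻¹) := Commute.map
    (E.xc (r := α) (s := s) (by have := N.sub s; omega) 1 1) (MulAut.conj n)
  have c2 : Commute (n * x α 1 * n⁻¹) ((x s 1)⁻¹ * x (o u) 1 * x s 1) := by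
    rcases N.et.pairing_cases s (o u) with e | e | e | e | e
    · rw [e] at u1; omega
    · rw [e, negR_val, pairing_negR_right] at u1; omega
    · obtain ⟨w, hw⟩ := exists_add e
      have := N.et.conj_add E.s hw 1 1
      rw [x_inv E.s] at this ⊢
      rw [this, mul_one]
      exact (h _ ⟨u1, u2⟩).mul_right (h w ⟨by have := pairing_add θ hw; omega,
        by have := pairing_add σ hw; omega⟩)
    all_goals
      rw [mul_assoc (x s 1)⁻¹, ← E.xc (r := s) (s := o u) (by omega), inv_mul_cancel_left]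
      exact h _ ⟨u1, u2⟩
  have c3 := ((c1.mul_right c2).mul_right c1.inv_right).mul_right (h _ ⟨u1, u2⟩).inv_right
  rw [show n * x s 1 * n⁻¹ * ((x s 1)⁻¹ * x (o u) 1 * x s 1) * (n * x s 1 * n⁻¹)⁻¹ * (x (o u) 1)⁻¹ =
    x σ c * x θ l by rw [← hl]; group] at c3
  obtain rfl | rfl := hF c
  · rw [hl, E.s.x_zero, one_mul]
    exact x_mem_XR D x _ _
  have c4 := (c3.mul_right (Commute.inv_right (E.Pz (QP he) l))).eq
  rw [mul_inv_cancel_right, ← mul_inv_eq_iff_eq_mul, N.eσ E k, mul_eq_left] at c4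
  exact absurd (E.inj _ _ c4) one_ne_zero

omit hF in
theorem fixc (k : K x t b σ n) {v : Rt D} (hv : n * x v 1 * n⁻¹ * (x v 1)⁻¹ ∈ QQ)
    (v0 : D.pairing θ v = 0) (r1 : D.pairing θ r = 1) (u1 : D.pairing θ u = 1) (h1 : 0 ≤ D.pairing r v)
    (h2 : D.pairing u v = 1) : Commute (n * x r 1 * n⁻¹) (x u 1) := by
  have vP := xP (x := x) v0.ge 1
  obtain ⟨l, hl⟩ := E.equiv (k.nQ E) vP hv (xQ r1.ge 1)
  rw [← E.xc h1, mul_inv_cancel_right] at hl
  have he := conj_mem_of_mem_normalizer (k.nQ E) (xQ (x := x) r1.ge 1)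
  generalize n * x r 1 * n⁻¹ = e at hl he
  obtain ⟨w, hw⟩ := pairing_sub N.et h2
  have w1 : D.pairing θ w = 1 := by have := pairing_add θ hw; omega
  obtain ⟨m, hm⟩ := E.QZ' he (xQ w1.ge 1)
  have e1 := N.et.conj_add E.s hw 1 1
  rw [mul_one] at e1
  have e2 : e * (x w 1 * x u 1) * e⁻¹ = x w 1 * x u 1 * x θ m := by
    calc _ = x v 1 * e * (x v 1)⁻¹ * (x θ l * (x w 1 * x u 1) * (x θ l)⁻¹) * (x v 1 * e * (x v 1)⁻¹)⁻¹ := by
          rw [eq_mul_inv_of_mul_eq hl.symm]; group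
      _ = x v 1 * (e * x w 1 * e⁻¹) * (x v 1)⁻¹ := by
          rw [← E.Pz (QP (mul_mem (xQ w1.ge 1) (xQ u1.ge 1))), mul_inv_cancel_right, ← e1]; group
      _ = _ := by rw [hm, ← conj_mul, e1, E.Pz' vP]
  rw [← conj_mul, hm, mul_assoc (x w 1), mul_assoc (x w 1), mul_right_inj, E.Pz (QP (xQ u1.ge 1)),
    mul_right_inj] at e2
  exact mul_inv_eq_iff_eq_mul.1 e2

theorem two3 (k : K x t b σ n) (h : ∀ s : Rt D, D.pairing θ s = 0 → D.pairing σ s = 0 →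
    n * x s 1 * n⁻¹ * (x s 1)⁻¹ ∈ QQ) : n ∈ E.Lin := by
  have four : ∀ r u : Rt D, D.pairing θ r = 1 → D.pairing θ u = 1 → D.pairing α r ∈ [0, 1] →
      D.pairing α u ∈ [0, 1] → 0 ≤ D.pairing r u → Commute (n * x r 1 * n⁻¹) (x u 1) ∧
        Commute (n * x α 1 * n⁻¹) (x u 1) := fun r u h1 h2 h3 h4 h5 => by
    obtain ⟨v, v1, v2, v3, v4⟩ := fourth N.et N.ha h1 h2 (N.eα ▸ h3) (N.eα ▸ h4) h5
    rw [← N.eα] at v2
    have hv := h v v1 (by have := N.sub v; omega)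
    exact ⟨N.fixc E k hv v1 h1 h2 v3 v4, N.fixc E k hv v1 N.α1 h2 v2.ge v4⟩
  have nn : ∀ u : Rt D, D.pairing α u ∈ [0, 1] → 0 ≤ D.pairing α u ∧ D.pairing α u ≤ 1 := fun u hu => by
    simp only [List.mem_cons, List.not_mem_nil, or_false] at hu; omega
  have iQ := xQ (x := x) N.α1.ge 1
  have he := conj_mem_of_mem_normalizer (k.nQ E) iQ
  obtain ⟨l, hl⟩ : ∃ l, n * x α 1 * n⁻¹ = x α 1 * x θ l := by
    obtain ⟨c, l, hl⟩ := E.only N.hσ' (mul_mem he iQ) fun u u1 ne => by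
      rcases N.cases u1 with e | rfl | e
      · exact absurd e ne
      · refine mul_inv_eq_iff_eq_mul.1 ?_
        calc _ = n * x α 1 * n⁻¹ * (x α 1 * x u 1 * (x α 1)⁻¹) * (n * x α 1 * n⁻¹)⁻¹ := by group
          _ = _ := by rw [N.iσ E, ← conj_mul, N.eσ E k, E.Pz' (QP he), mul_assoc, x_sq E.s, mul_one]
      · exact ((four u u u1 u1 e e (by rw [pairing_self]; omega)).2.mul_left
          (E.xc (nn u e).1 1 1)).eq
    rw [← eq_mul_inv_iff_mul_eq, x_inv E.s] at hl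
    obtain rfl | rfl := hF c
    · exact ⟨l, by rw [hl, E.s.x_zero, one_mul, E.Pz (QP iQ)]⟩
    have h1 : n * x α 1 * n⁻¹ * (n * x α 1 * n⁻¹) = 1 := by rw [conj_mul, x_sq E.s]; simp
    have h2 : x σ 1 * x θ l * x α 1 * (x σ 1 * x θ l * x α 1) = x θ 1 := by
      calc _ = x σ 1 * x θ l * (x α 1 * x σ 1 * (x α 1)⁻¹) * (x α 1 * x θ l * (x α 1)⁻¹) *
            (x α 1 * x α 1) := by group
        _ = x σ 1 * (x θ l * (x σ 1 * x θ 1)) * x θ l := by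
          rw [N.iσ E, E.Pz' (QP iQ), x_sq E.s]; group
        _ = _ := by
          rw [← E.Pz (QP (mul_mem (xQ N.σ1.ge 1) (zQ 1))), mul_assoc, mul_assoc, x_sq E.s, mul_one,
            ← mul_assoc, x_sq E.s, one_mul]
    rw [hl, h2] at h1
    exact absurd (E.inj _ _ h1) one_ne_zero
  refine ⟨k.fθ E, fun r r1 => ?_⟩
  suffices ∃ l, n * x r 1 * n⁻¹ = x r 1 * x θ l from this.imp fun l hl c => by
    obtain rfl | rfl := hF c
    · simp [E.s.x_zero]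
    · rw [hl, mul_one]
  rcases N.cases r1 with rfl | rfl | e
  · exact ⟨l, hl⟩
  · exact ⟨0, by rw [k.fσ E, E.s.x_zero, mul_one]⟩
  obtain ⟨s, hs⟩ := opp N.et r1
  have hr := conj_mem_of_mem_normalizer (k.nQ E) (xQ (x := x) r1.ge 1)
  obtain ⟨c, m, hm⟩ := E.only hs hr fun u u1 ne => by
    rcases N.cases u1 with e' | rfl | e'
    · rw [e']
      have c1 : Commute (n * x r 1 * n⁻¹) (n * x α 1 * n⁻¹) :=
        Commute.map (E.xc (nn r e).1 1 1).symm (MulAut.conj n)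
      have c2 := (hl ▸ c1).mul_right (Commute.inv_right (E.Pz (QP hr) l))
      rw [mul_inv_cancel_right] at c2
      exact c2
    · have c1 : Commute (n * x r 1 * n⁻¹) (n * x u 1 * n⁻¹) := Commute.map (E.xc (r := u) (s := r) (by
        have := N.sub r; have := nn r e; omega) 1 1).symm (MulAut.conj n)
      rw [k.fσ E] at c1
      exact c1
    · exact (four r u r1 u1 e e' (opp0 N.et (hs.trans (add_comm _ _)) u1.ge ne)).1
  obtain rfl | rfl := hF c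
  · rw [E.s.x_zero, one_mul] at hm
    obtain ⟨l, hl⟩ := E.s.mem_XR.1 ((mem_normalizer_iff.1 (k.nZ E) _).2 (hm ▸ x_mem_XR D x θ m))
    exact absurd (E.zero_of_eq ((N.et.pairing_comm _ _).trans r1) hl) one_ne_zero
  · exact ⟨m, hm⟩

end Nd

theorem jobP2a (hTy : JobTy) (hFA : JobFA) (hFR : JobFR) : JobP2a.{u} := by
  intro D _ _ _ hD F _ _ _ G _ _ e t H
  have E := en_of hTy hFA hFR hD H
  obtain ⟨g, hg, c, c0, h⟩ := H.mv
  by_cases hF : ∀ c : F, c = 0 ∨ c = 1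
  · obtain rfl := (hF c).resolve_left c0
    obtain ⟨a, b, α, σ, N⟩ := exists_nd hD
    obtain ⟨n, k, hn⟩ := N.two1 E hF (N.two0 E hF hg h)
    obtain ⟨w, hw, h'⟩ := E.fin (E.nP (k.nZ E) k.mv) (N.two3 E hF k fun s => N.two2 E hF k hn) k.mv
    exact E.tr_of hw h' one_ne_zero
  · push Not at hF
    obtain ⟨l, l0, l1⟩ := hF
    exact E.big l0 l1 hg c0 h

end H92.P2a
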