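import Cfsg.Agent.H64.SFBasic
import Cfsg.Agent.H86.F4Kit
import Cfsg.Agent.H59.SOBasic
import Cfsg.Agent.S2174

/-! STD-F4, slot FM: no affine map of `Qm` or `Qd` respects the classes. -/

set_option autoImplicit false
set_option linter.unusedSectionVars false
set_option linter.unusedSimpArgs false

namespace H92.SfM

open Cfsg.Lie H63 H65 H64 H98 Subgroup H64.SF
open H67.SA (cm)
open H59.SO (AutOn)
open H86.WR (XF US)
open H86.F4 (GS Cert Cm autOn_of autOn_surj autOn_cm autOn_one GS_nil GS_mono)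
open H46.SF (sh)

variable {F : Type} [Field F] [CharP F 2] {a b c d e f t : F} {g u v : XF F} {θ : XF F → XF F}

theorem sw (r s : ℕ) (a b : F) (g : XF F) (h : s < r ∧ r < 48 ∧ 0 ≤ ip r s) :
    x F r a * (x F s b * g) = x F s b * (x F r a * g) := by
  rw [← mul_assoc, x_c0 h.2.1 (h.1.trans h.2.1) h.2.2, mul_assoc]
theorem sw' (r s : ℕ) (a b : F) (h : s < r ∧ r < 48 ∧ 0 ≤ ip r s) :
    x F r a * x F s b = x F s b * x F r a := x_c0 h.2.1 (h.1.trans h.2.1) h.2.2 a b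
theorem pl (r : ℕ) (a b : F) (g : XF F) (h : r < 48) : x F r a * (x F r b * g) = x F r (a + b) * g := by
  rw [← mul_assoc, x_add h]
theorem pl' (r : ℕ) (a b : F) (h : r < 48) : x F r a * x F r b = x F r (a + b) := x_add h a b
theorem ze (r : ℕ) (h : r < 48) : x F r 0 = 1 := x_zero h
theorem k0 (s r : ℕ) (t a : F) (h : s < 48 ∧ r < 48 ∧ 0 ≤ ip s r) :
    x F s t * x F r a * (x F s t)⁻¹ = x F r a := by
  rw [x_c0 h.1 h.2.1 h.2.2, mul_inv_cancel_right]
theorem k1 (s r v : ℕ) (t a : F) (h : s < 48 ∧ r < 48 ∧ sh s = sh r ∧ ip s r < 0 ∧ r ≠ 47 - s ∧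
    ad s r = v := by decide +kernel) : x F s t * x F r a * (x F s t)⁻¹ = x F v (t * a) * x F r a := by
  rw [← c1' s r v t a h, cm, inv_mul_cancel_right]
theorem k2 (s r v w : ℕ) (t a : F) (h : S s ∧ L r ∧ ip s r < 0 ∧ ad s r = v ∧ ad s v = w := by
    decide +kernel) :
    x F s t * x F r a * (x F s t)⁻¹ = x F v (t * a) * x F w (t ^ 2 * a) * x F r a := by
  rw [← c2' s r v w t a h, cm, inv_mul_cancel_right]
theorem kn (s r v : ℕ) (a : F) (h : s < 48 ∧ r < 48 ∧ rf s r = v := by decide +kernel) :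
    n F s * x F r a * (n F s)⁻¹ = x F v a := h.2.2 ▸ n_conj h.1 h.2.1 a

/-- normal form -/
local macro "nf" : tactic => `(tactic| simp (disch := decide +kernel) only
  [mul_assoc, sw, sw', pl, pl', ze, one_mul, mul_one, add_zero, zero_add, mul_zero, add_comm])
/-- the trivial conjugations -/
local macro "cj0" : tactic => `(tactic| simp (disch := decide +kernel) only [k0])

/-- the product of root elements -/
noncomputable def wv (l : List ℕ) (f : ℕ → F) : XF F := (l.map fun r => x F r (f r)).prod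

theorem wv_mem {l : List ℕ} (h : ∀ r ∈ l, r < 48) (f : ℕ → F) : wv l f ∈ US F l :=
  list_prod_mem fun y hy => by
    obtain ⟨r, hr, rfl⟩ := List.mem_map.1 hy
    exact x_mem hr (h r hr) _

theorem wv_add {l : List ℕ} (h : ∀ r ∈ l, r < 48 ∧ ∀ s ∈ l, 0 ≤ ip r s) (f g : ℕ → F) :
    wv l (f + g) = wv l f * wv l g := by
  induction l with
  | nil => simp [wv]
  | cons r l ih =>
    have h1 := h r (by simp)
    have : Commute (x F r (g r)) (wv l f) := Commute.list_prod_right _ _ fun y hy => by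
      obtain ⟨s, hs, rfl⟩ := List.mem_map.1 hy
      exact x_c0 h1.1 (h s (by simp [hs])).1 (h1.2 s (by simp [hs])) _ _
    have ih := ih fun s hs => ⟨(h s (by simp [hs])).1, fun v hv => (h s (by simp [hs])).2 v (by simp [hv])⟩
    simp only [wv, List.map_cons, List.prod_cons, Pi.add_apply] at ih this ⊢
    rw [ih, ← x_add h1.1, mul_assoc, mul_assoc, ← mul_assoc (x F r (g r)), this.eq, mul_assoc]

theorem wv_one {l : List ℕ} (h : ∀ r ∈ l, r < 48) {f : ℕ → F} (hf : ∀ r ∈ l, f r = 0) : wv l f = 1 :=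
  List.prod_eq_one fun y hy => by
    obtain ⟨r, hr, rfl⟩ := List.mem_map.1 hy
    rw [hf r hr, x_zero (h r hr)]

theorem wv_single {l : List ℕ} (h : ∀ r ∈ l, r < 48) (hn : l.Nodup) {r : ℕ} (hr : r ∈ l) (a : F) :
    wv l (Pi.single r a) = x F r a := by
  induction l with
  | nil => simp at hr
  | cons s l ih =>
    have h1 : ∀ r ∈ l, r < 48 := fun v hv => h v (by simp [hv])
    rw [List.nodup_cons] at hn
    show x F s _ * wv l _ = _
    rcases List.mem_cons.1 hr with rfl | hr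
    · rw [wv_one h1 fun v hv => Pi.single_eq_of_ne (by rintro rfl; exact hn.1 hv) _]; simp
    · rw [ih h1 hn.2 hr, Pi.single_eq_of_ne (by rintro rfl; exact hn.1 hr), x_zero (h s (by simp)),
        one_mul]

theorem mem_wv {l : List ℕ} (hu : u ∈ US F l)
    (h : l.Nodup ∧ ∀ r ∈ l, r < 48 ∧ ∀ s ∈ l, 0 ≤ ip r s := by decide +kernel) : ∃ f, u = wv l f := by
  obtain ⟨f, e⟩ := US_le (K := (MonoidHom.mk' (fun f : Multiplicative (ℕ → F) => wv l f.toAdd)
    fun f g => wv_add h.2 _ _).range) (fun r hr _ a =>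
      ⟨.ofAdd (Pi.single r a), wv_single (fun r hr => (h.2 r hr).1) h.1 hr a⟩) hu
  exact ⟨_, e.symm⟩

theorem cj (g : XF F) (h : g * u * g⁻¹ = v) : IsConj u v := _root_.isConj_iff.2 ⟨g, h⟩

variable [Finite F]

theorem cjm (ha : a ≠ 0) (hb : b ≠ 0) : IsConj (xm F) (x F 44 a * x F 47 b) := by
  refine (cj (h F 24 b) (v := x F 44 1 * x F 47 b) ?_).trans (cj (h F 33 a) ?_) <;>
    rw [← conj_mul, h_conj (by omega) (by omega) ‹_›, h_conj (by omega) (by omega) ‹_›]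
  · rw [show 2 * ip 24 44 / ip 24 24 = 0 by decide +kernel,
      show 2 * ip 24 47 / ip 24 24 = 1 by decide +kernel]; simp
  · rw [show 2 * ip 33 44 / ip 33 33 = 1 by decide +kernel,
      show 2 * ip 33 47 / ip 33 33 = 0 by decide +kernel]; simp

theorem ncd : ¬ IsConj (xd F) (x F 44 a * x F 47 b) := fun h => by
  have k : ∀ a b : F, xd F ≠ x F 44 a * x F 47 b := fun a b e => by
    have h1 : x F 34 1 * xd F * (x F 34 1)⁻¹ = x F 44 1 * xd F := by
      rw [← conj_mul, k1 34 39 44]; cj0; nf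
    rw [e, ← conj_mul] at h1
    simp (disch := decide +kernel) only [k0] at h1
    exact one_ne_zero ((x_eq_one (by omega)).1 (right_eq_mul.1 h1))
  have := Fintype.ofFinite F
  have k' : ∀ y : XF F, IsConj (xd F) y → y.1.1 ∈ [chevF4.x F 47 1, chevF4.x F 44 1,
      chevF4.x F 47 1 * chevF4.x F 44 1, chevF4.x F 39 1 * chevF4.x F 45 1] → xd F = y := fun y h m => by
    obtain ⟨g, e⟩ := _root_.isConj_iff.1 h
    exact Subtype.ext (Units.ext ((Cfsg.Agent.S2174.result (F := F)).2.2 _ (xd F).2 _ y.2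
      (.tail _ (.tail _ (.tail _ (.head _)))) m ⟨g, g.2, congrArg Subtype.val e⟩))
  by_cases ha : a = 0 <;> by_cases hb : b = 0
  · refine k 0 0 ?_
    rw [ha, hb] at h
    revert h; nf; exact isConj_one_left.1
  · rw [ha, x_zero (by omega), one_mul] at h
    exact k 0 1 (by
      rw [k' _ (h.trans (isConj_x (s := 47) (by omega) (by omega) rfl hb one_ne_zero)) (.head _)]; nf)
  · rw [hb, x_zero (by omega), mul_one] at h
    exact k 1 0 (by
      rw [k' _ (h.trans (isConj_x (s := 44) (by omega) (by omega) rfl ha one_ne_zero))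
        (.tail _ (.head _))]; nf)
  · exact k 1 1 ((k' (x F 47 1 * x F 44 1) (by rw [c0' 47 44]; exact h.trans (cjm ha hb).symm)
      (.tail _ (.tail _ (.head _)))).trans (c0' 47 44 _ _))

/-! ### the class `xd` -/

/-- coordinates on `Z(Qd)` -/
noncomputable def wd (a b c d e f : F) : XF F :=
  x F 39 a * (x F 40 b * (x F 44 c * (x F 45 d * (x F 46 e * x F 47 f))))

theorem nd : ¬ IsConj (xd F) (wd a b c 0 e f) := fun h => by
  obtain ⟨f, h⟩ : ∃ f, IsConj (xd F) (wd a b c 0 0 f) := by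
    by_cases h0 : e = 0
    · exact ⟨f, by rwa [h0] at h⟩
    refine ⟨e, (h.trans (cj (x F 24 (f / e)) (v := wd a b c 0 e 0) ?_)).trans (cj (n F 24) ?_)⟩ <;>
      simp only [wd, ← conj_mul]
    · rw [k1 24 46 47, div_mul_cancel₀ _ h0]; cj0; nf; rw [CharTwo.add_self_eq_zero]; nf
    · rw [kn 24 39 39, kn 24 40 40, kn 24 44 44, kn 24 45 45, kn 24 46 47, kn 24 47 46]; nf
  obtain ⟨b, h⟩ : ∃ b, IsConj (xd F) (wd 0 b c 0 0 f) := by
    by_cases h0 : a = 0
    · exact ⟨b, by rwa [h0] at h⟩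
    refine ⟨a, (h.trans (cj (x F 27 (b / a)) (v := wd a 0 c 0 0 f) ?_)).trans (cj (n F 27) ?_)⟩ <;>
      simp only [wd, ← conj_mul]
    · rw [k1 27 39 40, div_mul_cancel₀ _ h0]; cj0; nf; rw [CharTwo.add_self_eq_zero]; nf
    · rw [kn 27 39 40, kn 27 40 39, kn 27 44 44, kn 27 45 43, kn 27 46 46, kn 27 47 47]; nf
  obtain ⟨c, h⟩ : ∃ c, IsConj (xd F) (wd 0 0 c 0 0 f) := by
    by_cases h0 : b = 0
    · exact ⟨c, by rwa [h0] at h⟩
    refine ⟨b, (h.trans (cj (x F 33 (c / b)) (v := wd 0 b 0 0 0 f) ?_)).trans (cj (n F 33) ?_)⟩ <;>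
      simp only [wd, ← conj_mul]
    · rw [k1 33 40 44, div_mul_cancel₀ _ h0]; cj0; nf; rw [CharTwo.add_self_eq_zero]; nf
    · rw [kn 33 39 39, kn 33 40 44, kn 33 44 40, kn 33 45 45, kn 33 46 46, kn 33 47 47]; nf
  refine ncd (a := c) (b := f) ?_
  convert h using 1
  unfold wd; nf

theorem invd (hu : u ∈ US F [39, 40, 44, 45, 46, 47]) (h : IsConj (xd F) u) :
    IsConj (xd F) (u * x F 46 1) ∧ IsConj (xd F) (u * x F 47 1) := by
  obtain ⟨f, rfl⟩ := mem_wv hu
  rw [show wv [39, 40, 44, 45, 46, 47] f = wd (f 39) (f 40) (f 44) (f 45) (f 46) (f 47) by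
    simp [wv, wd]] at h ⊢
  have h0 : f 45 ≠ 0 := fun e => nd (by rwa [e] at h)
  refine ⟨h.trans (cj (x F 25 (f 45)⁻¹) ?_), h.trans (cj (x F 26 (f 45)⁻¹) ?_)⟩ <;>
    simp only [wd, ← conj_mul]
  · rw [k1 25 45 46, inv_mul_cancel₀ h0]; cj0; nf
  · rw [k1 26 45 47, inv_mul_cancel₀ h0]; cj0; nf

theorem bot_inv {U : Subgroup (XF F)} (h : AutOn U θ) :
    ∀ u ∈ GS (xG chevF4 F) [], θ u ∈ GS (xG chevF4 F) [] := fun u hu => by
  rw [GS_nil, mem_bot] at hu ⊢
  rw [hu, autOn_one h]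

theorem partD (h : AutOn (Qd F) θ) (T : XF F → Prop) (hT : ∀ w, T w ↔ w = 1 ∨ IsConj (xd F) w)
    (H : ∀ w ∈ Qd F, T w ↔ T (xd F * θ w)) : False := by
  have le : US F [39, 40, 44, 45, 46, 47] ≤ Qd F := US_mono (by decide)
  have h1 := autOn_of h le_rfl le_rfl le h.bij.1 h.bij.1 (bot_inv h)
    (Cert.iff stB (by decide +kernel))
  have m : ∀ r ∈ [39, 40, 44, 45, 46, 47], x F r 1 ∈ US F [39, 40, 44, 45, 46, 47] := fun r hr =>
    x_mem hr (by revert r; decide) 1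
  have md := mul_mem (m 39 (by decide)) (m 45 (by decide))
  have mv := h1 _ (m 47 (by decide))
  have h2 : ¬ T (xd F * θ (x F 47 1)) := fun e => by
    rcases (hT _).1 ((H _ (le (m 47 (by decide)))).2 e) with e | e
    · exact one_ne_zero ((x_eq_one (by omega)).1 e)
    · exact ncd (a := (0 : F)) (b := 1) (by rwa [x_zero (by omega), one_mul])
  have h3 : ∀ r, r = 46 ∨ r = 47 → xd F * x F r 1 * θ (x F 47 1) = 1 := fun r hr => by
    have mr := m r (by rcases hr with rfl | rfl <;> decide)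
    have r0 : r < 48 := by omega
    have iv : ∀ u ∈ US F [39, 40, 44, 45, 46, 47], IsConj (xd F) u → IsConj (xd F) (u * x F r 1) :=
      fun u hu e => by rcases hr with rfl | rfl; exacts [(invd hu e).1, (invd hu e).2]
    obtain ⟨w, hw, e⟩ := autOn_surj h le h1 mr
    have h4 := ((hT _).1 ((H w (le hw)).2 ((hT _).2 (.inr (e ▸ iv _ md (IsConj.refl _)))))).resolve_left
      (by rintro rfl; exact one_ne_zero ((x_eq_one r0).1 (e.symm.trans (autOn_one h))))
    have h5 := (H _ (le (mul_mem hw (m 47 (by decide))))).1 ((hT _).2 (.inr (invd hw h4).2))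
    rw [h.mul _ (le hw) _ (le (m 47 (by decide))), e, ← mul_assoc] at h5
    refine ((hT _).1 h5).resolve_right fun e' => h2 ((hT _).2 (.inr ?_))
    have := iv _ (mul_mem (mul_mem md mr) mv) e'
    rwa [mul_assoc, Cm.le_Cs st (by decide +kernel) mr _ mv, mul_assoc, ← mul_assoc (x F r 1),
      x_sq r0, one_mul] at this
  have := (h3 46 (.inl rfl)).trans (h3 47 (.inr rfl)).symm
  rw [mul_left_inj, mul_right_inj] at this
  exact absurd (x_ne (by omega) (by omega) one_ne_zero this) (by omega)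

/-! ### the class `xm` -/

/-- coordinates on `W₁` -/
noncomputable def w1 (a b c d e f : F) : XF F :=
  x F 42 a * (x F 43 b * (x F 44 c * (x F 45 d * (x F 46 e * x F 47 f))))

/-- the class is given by `N` -/
def Cl (N : F) (u : XF F) : Prop := (N = 0 → Sh u ∨ Lg u) ∧ (N ≠ 0 → IsConj (xm F) u)

theorem Cl.conj {N N' : F} (h : Cl N u) (e : IsConj u v) (e' : N' = N) : Cl N' v :=
  e' ▸ ⟨fun k => (h.1 k).imp (·.conj e) (·.conj e), fun k => (h.2 k).trans e⟩

theorem cl46 (he : e ≠ 0) : Cl (c ^ 2 + a * e + b * d) (w1 a b c d e f) := by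
  obtain ⟨t, ht⟩ := H59.SO.exists_sq ((a + b * d / e) / e)
  have h0 : Cl ((c + t * e) ^ 2) (w1 0 0 (c + t * e) 0 e 0) := by
    refine Cl.conj (u := x F 44 (c + t * e) * x F 47 e) ⟨fun k => .inr ?_, fun k => ?_⟩
      (cj (n F 24) ?_) rfl
    · rw [pow_eq_zero_iff two_ne_zero |>.1 k, x_zero (by omega), one_mul]
      exact lg_x (by decide) he
    · exact cjm (fun e => k (by rw [e]; simp)) he
    · rw [← conj_mul, kn 24 44 44, kn 24 47 46, w1]; nf
  refine h0.conj ((((cj (x F 24 (f / e)) (v := w1 0 0 (c + t * e) 0 e f) ?_).trans (cj (x F 19 t)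
    (v := w1 (a + b * d / e) 0 c 0 e f) ?_)).trans (cj (x F 17 (b / e))
    (v := w1 (a + b * d / e) b c 0 e f) ?_)).trans (cj (x F 22 (d / e)) ?_)) ?_
  any_goals simp only [w1, ← conj_mul]
  · rw [k1 24 46 47, div_mul_cancel₀ _ he]; cj0; nf
  · rw [k2 19 46 44 42, pow_two, ht, div_mul_cancel₀ _ he]; cj0; nf
    rw [← add_assoc, add_right_comm, CharTwo.add_self_eq_zero, zero_add]
  · rw [k1 17 46 43, k1 17 45 42, div_mul_cancel₀ _ he]; cj0; nf
  · rw [k1 22 46 45, k1 22 43 42, div_mul_cancel₀ _ he]; cj0; nf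
    congr 2; grind
  · grind

/-- the quadratic form on `W₁` -/
def NN (f : ℕ → F) : F := f 44 ^ 2 + f 42 * f 46 + f 43 * f 45

theorem wv1 (f : ℕ → F) :
    wv [42, 43, 44, 45, 46, 47] f = w1 (f 42) (f 43) (f 44) (f 45) (f 46) (f 47) := by simp [wv, w1]

theorem cl1 (f : ℕ → F) : wv [42, 43, 44, 45, 46, 47] f ∈ US F [44, 47] ∨
    Cl (NN f) (wv [42, 43, 44, 45, 46, 47] f) := by
  have s1 : ∀ a b c d e f : F, IsConj (w1 b a c e d f) (w1 a b c d e f) := fun a b c d e f =>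
    cj (n F 25) (by
      simp only [w1, ← conj_mul]
      rw [kn 25 42 43, kn 25 43 42, kn 25 44 44, kn 25 45 46, kn 25 46 45, kn 25 47 47]; nf)
  have s2 : ∀ a b c d e f : F, IsConj (w1 e b c d a f) (w1 a b c d e f) := fun a b c d e f =>
    cj (n F 28) (by
      simp only [w1, ← conj_mul]
      rw [kn 28 42 46, kn 28 43 43, kn 28 44 44, kn 28 45 45, kn 28 46 42, kn 28 47 47]; nf)
  rw [wv1, NN]
  by_cases h1 : f 46 = 0
  swap; · exact .inr (cl46 h1)
  by_cases h2 : f 45 = 0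
  swap; · exact .inr ((cl46 h2).conj (s1 ..) (by ring))
  by_cases h3 : f 42 = 0
  swap; · exact .inr ((cl46 h3).conj (s2 ..) (by ring))
  by_cases h4 : f 43 = 0
  swap; · exact .inr ((cl46 h4).conj ((s2 ..).trans (s1 ..)) (by ring))
  refine .inl ?_
  rw [h1, h2, h3, h4, w1]; nf
  exact mul_mem (x_mem (by decide) (by omega) _) (x_mem (by decide) (by omega) _)

theorem cZ : ∀ g ∈ Qm F, (∀ k ∈ Qm F, cm g k ∈ GS (xG chevF4 F) []) ↔ g ∈ US F [44, 47] :=
  Cert.iff stB (by decide +kernel)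

theorem nz {f : ℕ → F} (h : wv [42, 43, 44, 45, 46, 47] f ∈ US F [44, 47]) :
    f 42 = 0 ∧ f 43 = 0 ∧ f 45 = 0 := by
  have k : ∀ s ∈ [26, 31, 32], ∀ a, x F s 1 * wv [42, 43, 44, 45, 46, 47] f * (x F s 1)⁻¹ =
      wv [42, 43, 44, 45, 46, 47] f * x F 47 a → a = 0 := fun s hs a e => by
    rw [Cm.le_Cs st (S' := [26, 31, 32]) (by decide +kernel) h _ (x_mem hs (by clear e; revert s; decide) 1),
      mul_inv_cancel_right, left_eq_mul] at e
    exact (x_eq_one (by omega)).1 e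
  refine ⟨k 32 (by decide) _ ?_, k 31 (by decide) _ ?_, k 26 (by decide) _ ?_⟩ <;>
    simp only [wv1, w1, ← conj_mul]
  · rw [k1 32 42 47]; cj0; nf
  · rw [k1 31 43 47]; cj0; nf
  · rw [k1 26 45 47]; cj0; nf

section
variable (h : AutOn (Qm F) θ) {T : XF F → Prop} (T1 : T 1) (T2 : ∀ w, IsConj (xm F) w → T w)
  (T3 : ∀ w, Sh w ∨ Lg w → ¬ T w) (H : ∀ w ∈ Qm F, T w ↔ T (xm F * θ w))
include h T1 T2 T3 H

theorem two (hF : Nat.card F = 2) (γ : MulAut (XF F)) (g1 : γ (xm F) = xm F)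
    (g2 : ∀ u ∈ US F [44, 47], γ u ∈ US F [44, 47]) (g3 : ∀ N u, Cl N u → Cl N (γ u))
    (g4 : ∀ u ∈ US F [42, 43, 44, 45, 46, 47], ∃ v ∈ US F [42, 43, 44, 45, 46, 47], γ v = θ u) :
    False := by
  have le : US F [42, 43, 44, 45, 46, 47] ≤ Qm F := US_mono (by decide)
  have m : ∀ f : ℕ → F, wv [42, 43, 44, 45, 46, 47] f ∈ Qm F := fun f => le (wv_mem (by decide) f)
  have ad := wv_add (F := F) (l := [42, 43, 44, 45, 46, 47]) (by decide +kernel)
  have tc : ∀ N u, Cl N u → (T u ↔ N ≠ 0) := fun N u k =>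
    ⟨fun e e' => T3 u (k.1 e') e, fun e => T2 u (k.2 e)⟩
  let p : ℕ → F := fun r => if r = 44 ∨ r = 47 then 1 else 0
  have xp : xm F = wv [42, 43, 44, 45, 46, 47] p := by simp [wv1, w1, p, ze]
  have xZ : xm F ∈ US F [44, 47] :=
    mul_mem (x_mem (by decide) (by omega) _) (x_mem (by decide) (by omega) _)
  have key : ∀ f g : ℕ → F, θ (wv [42, 43, 44, 45, 46, 47] f) = γ (wv [42, 43, 44, 45, 46, 47] g) →
      ¬ (f 42 = 0 ∧ f 43 = 0 ∧ f 45 = 0) → NN (p + g) = NN f := fun f g e hf => by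
    have h1 := tc _ _ ((cl1 f).resolve_left fun k => hf (nz k))
    have h2 := tc _ _ (g3 _ _ ((cl1 (p + g)).resolve_left fun k => hf (nz ((cZ _ (m f)).1 fun y hy => by
      have k1 := g2 _ k
      rw [ad, map_mul, ← xp, g1, mul_mem_cancel_left xZ, ← e] at k1
      have k2 := (cZ _ (h.bij.1 (m f))).2 k1 _ (h.bij.1 hy)
      rw [← autOn_cm h (m f) hy, GS_nil, mem_bot, ← autOn_one h] at k2
      rw [GS_nil, mem_bot]
      exact h.bij.injOn (mul_mem (mul_mem (mul_mem (m f) hy) (inv_mem (m f))) (inv_mem hy))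
        (one_mem _) k2))))
    rw [ad, map_mul, ← xp, g1, ← e, ← H _ (m f), h1] at h2
    rcases H59.SO.eq_zero_or_one hF (NN f) with e1 | e1 <;>
      rcases H59.SO.eq_zero_or_one hF (NN (p + g)) with e2 | e2 <;> simp_all
  have ex : ∀ f : ℕ → F, ∃ g, θ (wv [42, 43, 44, 45, 46, 47] f) =
      γ (wv [42, 43, 44, 45, 46, 47] g) := fun f => by
    obtain ⟨v, hv, e⟩ := g4 _ (wv_mem (by decide) f)
    obtain ⟨g, rfl⟩ := mem_wv hv
    exact ⟨g, e.symm⟩
  have pr : ∀ {f f' g g' : ℕ → F}, θ (wv [42, 43, 44, 45, 46, 47] f) =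
      γ (wv [42, 43, 44, 45, 46, 47] g) → θ (wv [42, 43, 44, 45, 46, 47] f') =
      γ (wv [42, 43, 44, 45, 46, 47] g') → θ (wv [42, 43, 44, 45, 46, 47] (f + f')) =
      γ (wv [42, 43, 44, 45, 46, 47] (g + g')) := fun e e' => by
    rw [ad, ad, h.mul _ (m _) _ (m _), e, e', map_mul]
  obtain ⟨a, ha⟩ := ex (Pi.single 42 1)
  obtain ⟨b, hb⟩ := ex (Pi.single 43 1)
  obtain ⟨c, hc⟩ := ex (Pi.single 45 1)
  have e1 := key _ _ ha (by simp)
  have e2 := key _ _ hb (by simp)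
  have e3 := key _ _ hc (by simp)
  have e4 := key _ _ (pr ha hb) (by simp)
  have e5 := key _ _ (pr ha hc) (by simp)
  have e6 := key _ _ (pr hb hc) (by simp)
  have e7 := key _ _ (pr ha (pr hb hc)) (by simp)
  simp [NN, p] at e1 e2 e3 e4 e5 e6 e7
  grind

theorem nT (hv : v ∈ Z F 47) (v1 : v ≠ 1) (e : θ v = x F 44 a * x F 47 b) :
    (a = 1 ∨ b = 1) ∧ ¬ (a = 1 ∧ b = 1) := by
  obtain ⟨c, rfl⟩ := (mem_Z (by omega)).1 hv
  have h1 := T3 _ (.inr (lg_x (r := 47) (by decide) fun e => v1 ((x_eq_one (by omega)).2 e)))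
  rw [H _ (x_mem (by decide) (by omega) c), e,
    show xm F * (x F 44 a * x F 47 b) = x F 44 (a + 1) * x F 47 (b + 1) by nf] at h1
  refine ⟨by_contra fun k => h1 (T2 _ (cjm (by grind) (by grind))), ?_⟩
  rintro ⟨rfl, rfl⟩
  simp [CharTwo.add_self_eq_zero, ze, T1] at h1

theorem dich : (∀ v ∈ Z F 47, θ v ∈ Z F 47) ∨ ∀ v ∈ Z F 47, θ v ∈ Z F 44 := by
  have h1 := autOn_of h le_rfl le_rfl (US_mono (by decide)) h.bij.1 h.bij.1 (bot_inv h) cZ
  have h2 := autOn_of h le_rfl le_rfl (S'' := US F [36, 38, 39, 40, 42, 43, 44, 45, 46, 47])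
    (US_mono (by decide)) h.bij.1 h.bij.1 h1 (Cert.iff stB (by decide +kernel)) _
    (x_mem (r := 46) (by decide) (by omega) 1)
  have m : x F 46 1 ∈ Qm F := x_mem (by decide) (by omega) 1
  have k : ∀ {K : Subgroup (XF F)}, (∀ k ∈ Qm F, cm (θ (x F 46 1)) k ∈ K) → ∀ v ∈ Z F 47, θ v ∈ K :=
    fun e v hv => by
      obtain ⟨c, rfl⟩ := (mem_Z (by omega)).1 hv
      have m' : x F 24 c ∈ Qm F := x_mem (by decide) (by omega) c
      rw [← one_mul c, ← c1' 46 24 47, autOn_cm h m m']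
      exact e _ (h.bij.1 m')
  by_cases a1 : θ (x F 46 1) ∈ US F [42, 43, 44, 45, 46, 47]
  · exact .inl (k ((Cert.iff stB (by decide +kernel) _ (h.bij.1 m)).2 a1))
  by_cases a2 : θ (x F 46 1) ∈ US F [36, 38, 39, 40, 44, 47]
  · exact .inr (k ((Cert.iff stB (by decide +kernel) _ (h.bij.1 m)).2 a2))
  have ex : ∀ {l l' : List ℕ} {r : ℕ}, θ (x F 46 1) ∉ US F l' → r < 48 → (∀ s ∈ l, s ∈
      [24, 26, 29, 31, 32, 33, 34, 35, 36, 37, 38, 39, 40, 41, 42, 43, 44, 45, 46, 47]) →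
      Cert [36, 38, 39, 40, 42, 43, 44, 45, 46, 47] l [] l' →
      Cm [36, 38, 39, 40, 42, 43, 44, 45, 46, 47] l [r] → H86.F4.Nm [r] →
      ∃ v ∈ Z F 47, v ≠ 1 ∧ ∃ c, θ v = x F r c := fun a hr hl c1 c2 c3 => by
    obtain ⟨y, hy, e⟩ : ∃ y ∈ GS (xG chevF4 F) _, _ := by
      simpa only [not_forall, exists_prop] using mt (c1.iff stB _ h2).1 a
    obtain ⟨y, hy', rfl⟩ := h.bij.surjOn (US_mono hl hy)
    refine ⟨cm (x F 46 1) y, (Cert.iff stB (S'' := [42, 43, 44, 45, 46, 47]) (by decide +kernel) _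
      m).2 (x_mem (by decide) (by omega) 1) y hy', fun e' => e ?_, ?_⟩
    · rw [← autOn_cm h m hy', e', autOn_one h]; exact one_mem _
    · rw [autOn_cm h m hy']
      exact (mem_Z hr).1 (c2.comm st c3 h2 hy)
  obtain ⟨v, hv, v1, b, hb⟩ := ex (l := [24, 26, 31, 32]) (r := 47) a2 (by omega) (by decide)
    (by decide +kernel) (by decide +kernel) (by decide +kernel)
  obtain ⟨w, hw, w1, a, ha⟩ := ex (l := [33, 34, 35, 37]) (r := 44) a1 (by omega) (by decide)
    (by decide +kernel) (by decide +kernel) (by decide +kernel)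
  have le : Z F 47 ≤ Qm F := US_mono (by decide)
  obtain rfl : b = 1 := by simpa using (nT h T1 T2 T3 H hv v1 (a := 0) (by rw [hb]; nf)).1
  obtain rfl : a = 1 := by simpa using (nT h T1 T2 T3 H hw w1 (b := 0) (by rw [ha]; nf)).1
  have e := h.mul _ (le hw) _ (le hv)
  rw [ha, hb] at e
  refine absurd ⟨rfl, rfl⟩ (nT h T1 T2 T3 H (mul_mem hw hv) (fun e' => ?_) e).2
  rw [e', autOn_one h, eq_comm, mul_eq_one_iff_eq_inv, x_inv (by omega)] at e
  exact absurd (x_ne (by omega) (by omega) one_ne_zero e) (by omega)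

theorem partM : False := by
  have le : Z F 47 ≤ Qm F := US_mono (by decide)
  have l1 : US F [42, 43, 44, 45, 46, 47] ≤ Qm F := US_mono (by decide)
  have c1 : ∀ g ∈ Qm F, (∀ k ∈ Qm F, cm g k ∈ Z F 47) ↔ g ∈ US F [42, 43, 44, 45, 46, 47] :=
    Cert.iff stB (by decide +kernel)
  have c2 : ∀ g ∈ Qm F, (∀ k ∈ Qm F, cm g k ∈ Z F 44) ↔ g ∈ US F [36, 38, 39, 40, 44, 47] :=
    Cert.iff stB (by decide +kernel)
  by_cases hF : Nat.card F = 2
  · rcases dich h T1 T2 T3 H with e | e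
    · exact two h T1 T2 T3 H hF 1 rfl (fun _ => id) (fun _ _ => id) fun u hu =>
        ⟨_, autOn_of h le_rfl le_rfl l1 h.bij.1 h.bij.1 e c1 u hu, rfl⟩
    have g0 : ∀ r s, r < 48 ∧ H68.rhoF4 r = s → gam F (x F r 1) = x F s 1 := fun r s k => by
      rw [gam_x k.1, k.2]; simp
    have g1 : gam F (xm F) = xm F := by
      rw [map_mul, g0 44 47 (by decide), g0 47 44 (by decide), c0' 47 44]
    have g2 : ∀ {l l' : List ℕ}, (∀ s ∈ l', ∃ r ∈ l, r < 48 ∧ H68.rhoF4 r = s) →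
        US F l' ≤ (US F l).map (gam F).toMonoidHom := fun k => US_le fun s hs _ a => by
      obtain ⟨r, hr, k⟩ := k s hs
      rcases H59.SO.eq_zero_or_one hF a with rfl | rfl
      · rw [x_zero ‹_›]; exact one_mem _
      · exact ⟨_, x_mem hr k.1 1, g0 r s k⟩
    refine two h T1 T2 T3 H hF (gam F) g1 (fun u hu => ?_) (fun N u k => ⟨fun e => ?_, fun e => ?_⟩)
      fun u hu => g2 (l' := [36, 38, 39, 40, 44, 47]) (by decide) ((c2 _ (h.bij.1 (l1 hu))).1 fun y hy => ?_)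
    · refine (US_le (K := (US F [44, 47]).comap (gam F).toMonoidHom) fun r hr r0 a => ?_) hu
      rw [mem_comap, MulEquiv.coe_toMonoidHom, gam_x r0]
      exact x_mem (by revert r; decide) (by revert r; decide) _
    · rcases k.1 e with k | k
      · exact .inr ((rt_iff (by omega)).2 (g0 44 47 (by decide) ▸
          (gam F).toMonoidHom.map_isConj ((rt_iff (by omega)).1 k)))
      · exact .inl ((rt_iff (by omega)).2 (g0 47 44 (by decide) ▸
          (gam F).toMonoidHom.map_isConj ((rt_iff (by omega)).1 k)))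
    · exact g1 ▸ (gam F).toMonoidHom.map_isConj (k.2 e)
    · obtain ⟨y, hy', rfl⟩ := h.bij.surjOn hy
      rw [← autOn_cm h (l1 hu) hy']
      exact e _ ((c1 u (l1 hu)).2 hu y hy')
  · obtain ⟨l, l0, l1⟩ := H59.SO.exists_ne_zero_one hF
    have m : ∀ c, x F 47 c ∈ Z F 47 := fun c => (mem_Z (by omega)).2 ⟨c, rfl⟩
    refine l1 (x_inj (r := 47) (by omega) (h.bij.injOn (le (m l)) (le (m 1)) ?_))
    have k : ∀ c, c ≠ 0 → x F 47 c ≠ 1 := fun c c0 e => c0 ((x_eq_one (by omega)).1 e)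
    rcases dich h T1 T2 T3 H with e | e
    · have : ∀ c, c ≠ 0 → θ (x F 47 c) = x F 47 1 := fun c c0 => by
        obtain ⟨b, hb⟩ := (mem_Z (by omega)).1 (e _ (m c))
        rw [hb, show b = 1 by simpa using (nT h T1 T2 T3 H (m c) (k c c0) (a := 0) (by rw [hb]; nf)).1]
      rw [this l l0, this 1 one_ne_zero]
    · have : ∀ c, c ≠ 0 → θ (x F 47 c) = x F 44 1 := fun c c0 => by
        obtain ⟨b, hb⟩ := (mem_Z (by omega)).1 (e _ (m c))
        rw [hb, show b = 1 by simpa using (nT h T1 T2 T3 H (m c) (k c c0) (b := 0) (by rw [hb]; nf)).1]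
      rw [this l l0, this 1 one_ne_zero]

end

theorem jobFM : JobFM := fun _ _ _ _ =>
  ⟨fun _ h _ T1 T2 T3 H => partM h T1 T2 T3 H, fun _ h T hT H => partD h T hT H⟩

end H92.SfM
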