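import Cfsg.Agent.H64.SFSpec
import Cfsg.Agent.H86.F4Kit
import Cfsg.Agent.H92.SgA
import Cfsg.Agent.H59.SOBasic

/-! STD-F4, slot P2a: all translations of `t X_σ` are induced by the centraliser of `Y_σ`. -/

set_option autoImplicit false
set_option linter.unusedSectionVars false

namespace H92.SfP

open Cfsg.Lie H63 H65 H64 H98 Subgroup H64.SF
open H64.SG (Cz Cs Ns cjs mem_Cz mem_Cs)
open H67.SA (cm)
open H59.SO (AutOn B1 exists_autOn mem_map_e map_mem_Ns mem_Cs_map)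
open H86.WR (XF US)
open H86.F4 (GS_le GS_mono x_mem stB R)
open H92.P2a (cm_self com_one cm_of_le cm_one)
open scoped commutatorElement

universe u

local notation "CM" => H92.P2a.Cm

variable {F : Type} [Field F] [Finite F] [CharP F 2]

section X

variable {u p : XF F} {c l : F}

theorem xadd {r : ℕ} (hr : r < 48) (a b : F) : x F r a * x F r b = x F r (a + b) :=
  (stB F).toStN.toSt.add r hr a b

theorem xzero {r : ℕ} (hr : r < 48) : x F r 0 = 1 := (stB F).toStN.toSt.x_zero (R r hr)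

theorem xinj {r : ℕ} (hr : r < 48) {a b : F} (h : x F r a = x F r b) : a = b :=
  (stB F).x_injective (R r hr) h

theorem mem_Z {r : ℕ} (hr : r < 48) : u ∈ Z F r ↔ ∃ c, u = x F r c :=
  ⟨fun h => (stB F).toStN.toSt.mem_XR.1 ((GS_le (K := XR chevF4 _ (R r hr)) fun s hs a => by
    rw [List.mem_singleton.1 hs]; exact x_mem_XR _ _ (R r hr) a) h),
    by rintro ⟨c, rfl⟩; exact x_mem (List.mem_singleton_self r) hr c⟩

theorem hx {r s : ℕ} (hr : r < 48) (hs : s < 48) (hl : l ≠ 0) (a : F) :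
    h F r l * x F s a * (h F r l)⁻¹ = x F s (l ^ chevF4.pairing r s * a) :=
  (stB F).toStN.hh_conj (R r hr) (R s hs) hl a

theorem h_Ns {r : ℕ} (hr : r < 48) (hl : l ≠ 0) (S : List ℕ) : h F r l ∈ Ns (US F S) :=
  (stB F).rgd.H_le_normalizer_gen _ (hh_mem_HH _ _ (R r hr) hl)

theorem h44 (hl : l ≠ 0) (a : F) : h F 44 l * x F 44 a * (h F 44 l)⁻¹ = x F 44 (l * l * a) := by
  rw [hx (by omega) (by omega) hl, show chevF4.pairing 44 44 = 2 by decide +kernel, zpow_two]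

theorem QP : Q F 44 ≤ P F 44 := GS_mono (by decide +kernel)
theorem VQ : V F 44 ≤ Q F 44 := GS_mono (by decide +kernel)

theorem Px (fr : FR F) {r : ℕ} (hr : r < 48) (hp : p ∈ P F r) (c : F) :
    p * x F r c * p⁻¹ = x F r c := by
  by_cases c0 : c = 0
  · rw [c0, xzero hr, mul_one, mul_inv_cancel]
  · rw [← mem_Cz.1 ((fr.cz r hr c c0).ge hp), mul_inv_cancel_right]

theorem h_cm (fr : FR F) (hl : l ≠ 0) : h F 44 l ∈ CM (P F 44) (Q F 44) := by
  have hQ := h_Ns (r := 44) (by omega) hl (lQ 44)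
  refine H92.P2a.cm_gen (D := chevF4) (fr.o2 44 (by omega)).2.1 hQ fun r hr c => ?_
  have k : ∀ r < 48, r ∈ lP 44 → chevF4.pairing 44 r = 0 ∨ r ∈ lQ 44 := by decide +kernel
  rcases k r r.2 hr with e | e
  · rw [hx (by omega) r.2 hl, e]; simp
  · exact mul_mem (conj_mem_of_mem_normalizer hQ (x_mem e r.2 c)) (inv_mem (x_mem e r.2 c))

end X

variable {G : Type u} [Group G] [Finite G] {e : XF F →* G} {t g n m w : G} {c : F}

theorem cm_map {A B : Subgroup (XF F)} {a : XF F} (h : a ∈ CM A B) : e a ∈ CM (A.map e) (B.map e) :=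
  ⟨map_mem_Ns h.1, by
    rintro _ ⟨y, hy, rfl⟩
    exact ⟨_, h.2 y hy, by simp⟩⟩

theorem cm_Ns (h : n ∈ CM ((P F 44).map e) ((Q F 44).map e)) : n ∈ Ns ((P F 44).map e) :=
  mem_normalizer_of_cj_le (by
    rintro _ ⟨y, hy, rfl⟩
    simpa using mul_mem (map_mono QP (h.2 y hy)) hy)

section
variable (fr : FR F) (H : B1 e t)
include fr H

omit fr in
theorem mvt (a : XF F) (h : n * t * n⁻¹ = t * e (x F 44 c)) :
    e a * n * t * (e a * n)⁻¹ = t * e (a * x F 44 c * a⁻¹) := by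
  rw [mul_inv_rev, ← mul_assoc, mul_assoc _ n, mul_assoc (e a), h, ← conj_mul, H.conj_t, map_mul,
    map_mul, map_inv]

theorem nQ : Ns ((P F 44).map e) ≤ Ns ((Q F 44).map e) := by
  rw [(fr.o2 44 (by omega)).eq, map_pCoreOf_of_injective H.inj]
  exact normalizer_le_normalizer_pCoreOf _

theorem nZ : Ns ((Q F 44).map e) ≤ Ns ((Z F 44).map e) := by
  rw [← fr.zq 44 (by omega), map_commutator]
  exact le_normalizer_commutator le_rfl le_rfl

theorem nP (ab : AB e t) (c0 : c ≠ 0) (h : g * t * g⁻¹ = t * e (x F 44 c))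
    (h' : g * e (x F 44 c) = e (x F 44 c) * g) : g ∈ Ns ((P F 44).map e) := by
  have k : ∀ p ∈ P F 44, e p * e (x F 44 c) = e (x F 44 c) * e p := fun p hp => by
    rw [← map_mul, ← map_mul, mul_inv_eq_iff_eq_mul.1 (Px fr (by omega) hp c)]
  have h1 : cjs g⁻¹ ((P F 44).map e) ≤ e.range := ab.pf _ (by
    rintro _ ⟨_, ⟨p, hp, rfl⟩, rfl⟩
    refine mem_Cz.2 ?_
    calc _ = g⁻¹ * (g * t * g⁻¹ * e p) * g := by simp [mul_assoc]
      _ = g⁻¹ * (e p * (g * t * g⁻¹)) * g := by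
        rw [h, mul_assoc t, ← k p hp, ← mul_assoc t, H.comm, mul_assoc (e p)]
      _ = _ := by simp [mul_assoc]) (by
    rw [← map_commutator, ← map_commutator]
    exact map_mono (map_mono (fr.perf 44 (by omega))))
  refine inv_mem_iff.1 (mem_normalizer_of_cj_le fun a ha => ?_)
  obtain ⟨u, rfl⟩ := h1 ha
  obtain ⟨_, ⟨p, hp, rfl⟩, e1⟩ := ha
  refine ⟨u, fr.cz 44 (by omega) c c0 ▸ mem_Cz.2 (H.inj ?_), rfl⟩
  rw [map_mul, map_mul, ← e1]
  calc _ = g⁻¹ * (g * e (x F 44 c) * g⁻¹ * e p) * g := by simp [mul_assoc]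
    _ = g⁻¹ * (e p * (g * e (x F 44 c) * g⁻¹)) * g := by rw [h', mul_inv_cancel_right, k p hp]
    _ = _ := by simp [mul_assoc]

omit fr in
theorem eqv (hn : n ∈ CM ((P F 44).map e) ((Q F 44).map e)) (fr : FR F) {θ : XF F → XF F}
    (hθ : ∀ a ∈ Q F 44, n * e a * n⁻¹ = e (θ a)) : ∀ p ∈ P F 44, ∃ ζ ∈ Q F 44, ∀ u ∈ Q F 44,
      θ (p * u * p⁻¹) = ζ * (p * θ u * p⁻¹) * ζ⁻¹ := fun p hp => by
  obtain ⟨ζ, hζ, e1⟩ := hn.2 _ ⟨p, hp, rfl⟩
  refine ⟨ζ, hζ, fun u hu => H.inj ?_⟩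
  rw [← hθ _ (conj_mem_of_mem_normalizer ((fr.o2 44 (by omega)).2.1 hp) hu)]
  simp only [map_mul, map_inv]
  rw [← hθ u hu, e1]
  group

omit fr in
theorem tr_of {κ : F} (hw : w ∈ Cs ((Y F 44).map e)) (c0 : c ≠ 0)
    (h1 : w * t * w⁻¹ = t * e (x F 44 c)) (h2 : ∀ s, S s → ip 44 s = 0 → ∀ d,
      cm w (e (x F s d)) = e (x F (ad 44 s) (κ * d))) : Tr e t (κ * c⁻¹) := fun a => by
  have k : ∀ s < 48, H46.SF.sh s = true → ip 44 s = 0 → ad 44 s < 48 ∧ chevF4.pairing 44 s = 0 ∧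
    chevF4.pairing 44 (ad 44 s) = 2 := by decide +kernel
  by_cases a0 : a = 0
  · refine ⟨1, one_mem _, by simp [a0, xzero], fun s hs h0 d => ?_⟩
    simp [cm, a0, xzero (k s hs.1 hs.2 h0).1]
  obtain ⟨l, hl⟩ := H59.SO.exists_sq (a * c⁻¹)
  have l0 : l ≠ 0 := by
    rintro rfl
    exact mul_ne_zero a0 (inv_ne_zero c0) (by rw [← hl, mul_zero])
  refine ⟨e (h F 44 l) * w * (e (h F 44 l))⁻¹, conj_mem_of_mem_normalizer
    (normalizer_le_normalizer_centralizer _ (map_mem_Ns (h_Ns (by omega) l0 _))) hw, ?_,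
    fun s hs h0 d => ?_⟩
  · have := mvt H (h F 44 l) h1
    rw [h44 l0, hl, inv_mul_cancel_right₀ c0] at this
    rw [← this, mul_assoc _ _ t, ← map_inv, ← H.comm, map_inv]
    group
  · obtain ⟨k1, k2, k3⟩ := k s hs.1 hs.2 h0
    have e1 := congrArg e (hx (r := 44) (by omega) hs.1 l0 d)
    have e2 := congrArg e (hx (r := 44) (by omega) k1 l0 (κ * d))
    rw [k2, zpow_zero, one_mul, map_mul, map_mul, map_inv] at e1
    rw [k3, zpow_two, hl, map_mul, map_mul, map_inv, ← h2 s hs h0] at e2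
    rw [show κ * c⁻¹ * a * d = a * c⁻¹ * (κ * d) by ring, ← e2]
    conv_lhs => rw [← e1]
    unfold cm
    group

theorem fin (fe : FE F) (hn : n ∈ CM ((P F 44).map e) ((Q F 44).map e)) (c0 : c ≠ 0)
    (h1 : n * t * n⁻¹ = t * e (x F 44 c)) : ∃ k, Tr e t k := by
  have PQ := (fr.o2 44 (by omega)).2.1
  obtain ⟨θ, a1, hθ⟩ := exists_autOn H.inj hn.1
  obtain ⟨l, l0, hl⟩ := fe.qe θ a1 fun p hp u hu => by
    obtain ⟨ζ, hζ, k⟩ := eqv H hn fr hθ p hp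
    rw [k u hu, ← fr.zq 44 (by omega)]
    exact commutator_mem_commutator hζ (conj_mem_of_mem_normalizer (PQ hp) (a1.bij.1 hu))
  have m1 := mul_mem (cm_map (e := e) (inv_mem (h_cm fr l0))) hn
  have m2 := mvt H (h F 44 l)⁻¹ h1
  have c1 : (l * l)⁻¹ * c ≠ 0 := by simp [l0, c0]
  rw [show (h F 44 l)⁻¹ * x F 44 c * (h F 44 l)⁻¹⁻¹ = x F 44 ((l * l)⁻¹ * c) by
    have := h44 l0 ((l * l)⁻¹ * c)
    rw [mul_inv_cancel_left₀ (mul_ne_zero l0 l0)] at this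
    conv_lhs => rw [← this]
    group] at m2
  obtain ⟨θ', a2, hθ'⟩ := exists_autOn H.inj m1.1
  obtain ⟨ζ, hζ, k⟩ := fe.hq θ' a2 (fun u hu => by
    have : θ' u = (h F 44 l)⁻¹ * θ u * h F 44 l := H.inj (by
      rw [← hθ' u hu, map_mul, map_mul, ← hθ u hu, map_inv]; group)
    rw [this]
    convert conj_mem_of_mem_normalizer' (h_Ns (r := 44) (by omega) l0 [44]) (hl u hu) using 1
    group) (eqv H m1 fr hθ')
  generalize e (h F 44 l)⁻¹ * n = m at m1 m2 hθ'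
  have w1 := mul_mem (cm_map (e := e) (inv_mem (cm_self PQ hζ))) m1
  have w2 := mvt H ζ⁻¹ m2
  rw [Px fr (by omega) (inv_mem (QP hζ))] at w2
  obtain ⟨φ, a3, hφ⟩ := exists_autOn H.inj (cm_Ns w1)
  obtain ⟨v, hv, κ, k1, k2⟩ := fe.coc φ a3 fun u hu => H.inj (by
    rw [← hφ u (QP hu), mul_inv_rev, ← mul_assoc, mul_assoc _ m, mul_assoc (e ζ⁻¹), hθ' u hu, k u hu,
      ← map_inv, ← map_mul, ← map_mul]
    congr 1; group)
  generalize e ζ⁻¹ * m = w at w2 hφ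
  have w3 := mvt H v⁻¹ w2
  rw [Px fr (by omega) (inv_mem (QP (VQ hv)))] at w3
  have w4 : ∀ y ∈ P F 44, e v⁻¹ * w * e y * (e v⁻¹ * w)⁻¹ = e (v⁻¹ * φ y * v) := fun y hy => by
    rw [map_mul, map_mul, ← hφ y hy, map_inv]; group
  refine ⟨_, tr_of H (κ := κ) (mem_Cs_map.2 fun y hy => ?_) c1 w3 fun s hs h0 d => ?_⟩
  · have := w4 y (GS_mono (by decide +kernel) hy)
    rw [k1 y hy, show v⁻¹ * (v * y * v⁻¹) * v = y by group] at this
    exact (mul_inv_eq_iff_eq_mul.1 this).symm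
  · have k : ∀ s < 48, H46.SF.sh s = true → ip 44 s = 0 → ad 44 s < 48 ∧ s ∈ lP 44 ∧
      s ∈ lP (ad 44 s) := by decide +kernel
    obtain ⟨k3, k4, k5⟩ := k s hs.1 hs.2 h0
    rw [cm, w4 _ (x_mem k4 hs.1 d), k2 s hs h0, ← map_inv, ← map_mul,
      ← Px fr k3 (x_mem k5 hs.1 d) (κ * d)]
    congr 1
    conv_lhs => rw [← Px fr k3 (inv_mem (x_mem k5 hs.1 d)) (κ * d)]
    group

theorem big (fe : FE F) {l : F} (l0 : l ≠ 0) (l1 : l ≠ 1) (gP : g ∈ Ns ((P F 44).map e))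
    (c0 : c ≠ 0) (h1 : g * t * g⁻¹ = t * e (x F 44 c)) : ∃ k, Tr e t k := by
  have gQ := nQ fr H gP
  have n1 := H92.P2a.Cm.conj (inv_mem gP) (inv_mem gQ) (cm_map (e := e) (h_cm fr l0))
  obtain ⟨_, hb, e1⟩ := conj_mem_of_mem_normalizer (inv_mem (nZ fr H gQ))
    (mem_map_of_mem e ((mem_Z (by omega)).2 ⟨c + l * l * c, rfl⟩))
  obtain ⟨b, rfl⟩ := (mem_Z (by omega)).1 hb
  refine fin fr H fe n1 (c := b) (fun b0 => ?_) ?_
  · rw [b0, xzero (by omega), map_one, eq_comm, conj_eq_one_iff, map_eq_one_iff _ H.inj,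
      ← xzero (r := 44) (by omega)] at e1
    have := xinj (by omega) e1
    have h3 : (l + 1) ^ 2 * c = 0 := by grind
    have h4 := pow_eq_zero_iff two_ne_zero |>.1 ((mul_eq_zero.1 h3).resolve_right c0)
    grind
  · have := mvt H (h F 44 l) h1
    rw [h44 l0] at this
    calc _ = g⁻¹ * (e (h F 44 l) * g * t * (e (h F 44 l) * g)⁻¹) * g := by group
      _ = g⁻¹ * (t * e (x F 44 c) * e (x F 44 (c + l * l * c))) * g := by
        rw [this, mul_assoc t, ← map_mul, xadd (by omega), CharTwo.add_cancel_left]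
      _ = _ := by rw [e1, ← h1]; group

theorem small (fe : FE F) (fb : FB F) (hF : Nat.card F = 2) (gP : g ∈ Ns ((P F 44).map e))
    (c0 : c ≠ 0) (h1 : g * t * g⁻¹ = t * e (x F 44 c)) : ∃ k, Tr e t k := by
  have PQ := (fr.o2 44 (by omega)).2.1
  obtain ⟨θ, a1, hθ⟩ := exists_autOn H.inj gP
  obtain ⟨p, hp, k⟩ := fb hF θ a1
  have h2 := mvt H p⁻¹ h1
  rw [Px fr (by omega) (inv_mem hp)] at h2
  refine fin fr H fe ⟨mul_mem (map_mem_Ns (PQ (inv_mem hp))) (nQ fr H gP), ?_⟩ c0 h2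
  rintro _ ⟨y, hy, rfl⟩
  refine ⟨_, conj_mem_of_mem_normalizer' (PQ hp) (k y hy), ?_⟩
  simp only [map_mul, map_inv]
  rw [← hθ y hy]
  group

end

theorem jobP2a (hAB : JobAB.{u}) (hFR : JobFR) (hFE : JobFE) (hFB : JobFB) : JobP2a.{u} := by
  intro F _ _ _ G _ _ e t H
  obtain ⟨g, c, c0, h1, h2⟩ := H.mv
  have gP := nP (hFR F) H.toB1 (hAB F G e t H.toCE.b0) c0 h1 h2
  by_cases hF : Nat.card F = 2
  · exact small (hFR F) H.toB1 (hFE F) (hFB F) hF gP c0 h1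
  · obtain ⟨l, l0, l1⟩ := H59.SO.exists_ne_zero_one hF
    exact big (hFR F) H.toB1 (hFE F) l0 l1 gP c0 h1

end H92.SfP
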