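import Cfsg.Agent.H64.SFMod

/-! STD-F4, job UF: the involution `t` fixes a unique coset of `M = N(G₁)`. -/

set_option autoImplicit false

namespace H92.SfU

open Cfsg.Lie H63 H65 H64 H64.SF
open H64.SG (O2 Syl Cz Cs Ns cjs Is2 Inv2 IsO2 fx Cov UF)
open H59.SO (NS CE Ind B0 B1 cje)
open H86.WR (XF)

universe u

section Gen

variable {G : Type*} [Group G]

/-- In a dihedral group, `(s t) ^ (2 j + 1) t` is conjugate to `s`. -/
theorem dih {s t : G} (hs : s * s = 1) (ht : t * t = 1) (j : ℕ) :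
    (s * t) ^ j * s * ((s * t) ^ j)⁻¹ * t = (s * t) ^ (2 * j + 1) := by
  have hs' : s⁻¹ = s := inv_eq_of_mul_eq_one_right hs
  have ht' : t⁻¹ = t := inv_eq_of_mul_eq_one_right ht
  have h1 : s * (s * t)⁻¹ * s⁻¹ = s * t := by
    rw [mul_inv_rev, hs', ht']
    calc s * (t * s) * s = s * t * (s * s) := by group
      _ = s * t := by rw [hs, mul_one]
  have h2 : s * ((s * t) ^ j)⁻¹ * s⁻¹ = (s * t) ^ j := by
    rw [← inv_pow, ← conj_pow, h1]
  calc (s * t) ^ j * s * ((s * t) ^ j)⁻¹ * t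
      = (s * t) ^ j * (s * ((s * t) ^ j)⁻¹ * s⁻¹) * (s * t) := by group
    _ = (s * t) ^ (2 * j + 1) := by rw [h2, two_mul, pow_succ, pow_add]

theorem exists_odd [Finite G] (g : G) : ∃ j, Is2 (g ^ (2 * j + 1)) := by
  obtain ⟨k, m, hm, e⟩ := Nat.exists_eq_two_pow_mul_odd (orderOf_pos g).ne'
  obtain ⟨j, rfl⟩ := hm
  exact ⟨j, k, by rw [← pow_mul, mul_comm, ← e, pow_orderOf_eq_one]⟩

theorem map_O2 {X : Type*} [Group X] (e : X →* G) (he : Function.Injective e) {A : Subgroup X}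
    {B : Subgroup G} (h : A.map e ≤ B) {z : X} (hz : z ∈ O2 A) : e z ∈ O2 B := by
  have : O2 A ≤ (O2 B).comap e := by
    refine (Subgroup.closure_le _).2 ?_
    rintro a ⟨ha, ho⟩
    exact Subgroup.subset_closure ⟨h ⟨a, ha, rfl⟩, by rwa [orderOf_injective e he]⟩
  exact this hz

end Gen

variable {F : Type} [Field F] [Finite F] [CharP F 2] {G : Type u} [Group G] [Finite G]
  {e : XF F →* G} {t s : G}

/-- Two commuting conjugates. -/
theorem key (hFA : FA F) (hAB : JobAB.{u}) (h : B0 e t) {Gd : XF F → Prop}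
    (gd : ∀ u, IsConj t (t * e u) → u = 1 ∨ Gd u) (hc : IsConj t s) (cm : t * s = s * t)
    {ψ : MulAut (XF F)} (i : Ind e s ψ) (ho : Outer ψ) {z : XF F} (hz : z ∈ O2 (fx ψ))
    (z2 : Inv2 z) (ng : ¬ Gd z) : s = t := by
  obtain ⟨g, rfl⟩ := _root_.isConj_iff.1 hc
  have h' : B0 (cje g e) (g * t * g⁻¹) := h.cje g
  have ab := hAB F G _ _ h'
  have tt := h.inv.1
  have m1 : e z ∈ O2 (Cz (g * t * g⁻¹)) :=
    map_O2 e h.inj (by rw [i.map_fx h.inj]; exact inf_le_right) hz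
  have zz : e z * e z = 1 := by rw [← map_mul, z2.1, map_one]
  obtain ⟨z', hz'⟩ := ab.ol _ m1 (H64.SG.is2_of_sq zz)
  have tm : t ∈ Cz (g * t * g⁻¹) := H64.SG.mem_Cz.2 cm.symm
  obtain ⟨χ, hχ⟩ := H59.SO.exists_ind h'.inj (h'.cz tm)
  by_cases hi : ∃ u, χ = MulAut.conj u
  · obtain ⟨u, rfl⟩ := hi
    obtain ⟨uu, e1 | e1⟩ := h'.inner hFA.ns cm.symm tt hχ
    · exact absurd (e1 ▸ hc.symm) (ab.nr u)
    by_cases u1 : u = 1
    · rw [u1, map_one, mul_one] at e1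
      exact e1.symm
    obtain ⟨-, u', -, -, -, e2, -⟩ := ab.edge g⁻¹ u _ ⟨uu, u1⟩ (by rw [← e1]; group)
      (H64.SG.isO2_pCoreOf _)
    have e3 : e u' = cje g e u := by rw [← e2, H59.SO.cje_apply]; group
    have e4 : g * t * g⁻¹ = t * e u'⁻¹ := by
      rw [map_inv, e3]
      exact eq_mul_inv_of_mul_eq e1.symm
    have i2 : Ind e (t * e u'⁻¹) (1 * MulAut.conj u'⁻¹) :=
      (H59.SO.ind_one_iff.2 h.cen).mul (H59.SO.ind_conj _)
    rw [one_mul, ← e4] at i2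
    exact absurd (i.unique h.inj i2) (ho _)
  · exfalso
    have c1 : χ z' = z' := (hχ.comm_iff h'.inj).1 (by rw [hz']; exact h.toB1.comm z)
    have c2 : z' * z' = 1 := (H59.SO.sq_e h'.inj).1 (by rw [hz', zz])
    obtain ⟨l, hl⟩ := hFA.inv χ (hχ.sq h'.inj tt) (fun u e => hi ⟨u, e⟩) z' (by rw [c1, c2])
    have c3 : cje g e l * t * (cje g e l)⁻¹ = t * e z := by
      have := hχ l⁻¹
      rw [h.toB1.comm z, ← hz', hl, map_mul, ← map_inv χ, ← this, map_inv]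
      group
    rcases gd z (_root_.isConj_iff.2 ⟨_, c3⟩) with e1 | e1
    · exact z2.2 e1
    · exact ng e1

theorem jobUF (hFA : JobFA) (hAB : JobAB.{u}) : JobUF.{u} := by
  intro F _ _ _ Y _ _ G _ _ ι τ Gd U A e t G₁ c Us mf e0 ea
  have b0 : B0 e t := e0.toCE.b0
  have ab := hAB F G e t b0
  have tt := e0.inv.1
  have tn := e0.tn
  have le : G₁ ≤ Ns G₁ := Subgroup.le_normalizer
  have fin : ∀ s, IsConj t s → s ∈ Ns G₁ → Is2 (s * t) → ∃ m ∈ Ns G₁, s = m * t * m⁻¹ := by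
    intro s hc hs h2
    have ss : s * s = 1 := by
      obtain ⟨g, rfl⟩ := _root_.isConj_iff.1 hc
      rw [conj_mul, tt]; group
    have st : s * t ∈ Ns G₁ := mul_mem hs tn
    have ast : c.ac (s * t) = c.ac s * τ := by rw [c.ac_mul _ hs _ tn, e0.act]
    by_cases i1 : ∃ y, c.ac s = MulAut.conj y
    · obtain ⟨y, hy⟩ := i1
      obtain ⟨g, -, u, e1⟩ := ea.ic s (ea.inn s hs (H64.SG.is2_of_sq ss) y hy) ss
      exact absurd (hc.trans (_root_.isConj_iff.2 ⟨g⁻¹, by rw [e1]; group⟩)) (ab.nr u)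
    by_cases i2 : ∃ y, c.ac (s * t) = MulAut.conj y
    · obtain ⟨y, hy⟩ := i2
      have e1 : s * t * t = s := by rw [mul_assoc, tt, mul_one]
      obtain ⟨g, hg, e2 | ⟨a, a0, ng, e2⟩⟩ := ea.cl _ (ea.inn _ st h2 y hy) (by rw [e1, ss])
      · exact ⟨g, le hg, e1 ▸ e2⟩
      · rw [e1] at e2
        rcases e0.gd (x F 47 a) (hc.trans (_root_.isConj_iff.2 ⟨g⁻¹, by rw [e2]; group⟩)) with e3 | e3
        · exact absurd ((x_eq_one (by decide)).1 e3) a0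
        · exact absurd e3 ng
    have b2 : c.ac s * c.ac s = 1 := by rw [← c.ac_mul _ hs _ hs, ss, c.ac_one]
    obtain ⟨y, β, ψ, z, e1, e2, e3, ho, hz, z2, ng⟩ := mf.phi (c.ac s) b2 (ast ▸ c.is2_ac st h2)
      (fun y e => i1 ⟨y, e⟩) (fun y e => i2 ⟨y, ast.trans e⟩)
    obtain ⟨w, hw, rfl⟩ := c.surj y
    have wn := le hw
    set s₁ := w * s * w⁻¹ with hs₁
    have s1n : s₁ ∈ Ns G₁ := mul_mem (mul_mem wn hs) (inv_mem wn)
    have s11 : s₁ * s₁ = 1 := by rw [hs₁, conj_mul, ss]; group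
    have a1 : c.ac s₁ = β := by rw [hs₁, c.ac_conj wn hs, c.ac_of_mem hw, e1]
    have bb : β * β = 1 := by rw [← a1, ← c.ac_mul _ s1n _ s1n, s11, c.ac_one]
    have pn : s₁ * t ∈ Ns G₁ := mul_mem s1n tn
    have ap : c.ac (s₁ * t) = β * τ := by rw [c.ac_mul _ s1n _ tn, e0.act, a1]
    have bt : β * τ * (β * τ) = 1 := by
      calc β * τ * (β * τ) = β * (τ * β) * τ := by group
        _ = β * β * (τ * τ) := by rw [← e2]; group
        _ = 1 := by rw [bb, mf.t2, one_mul]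
    have k1 : s₁ * t * (s₁ * t) ∈ Cs G₁ :=
      c.ac_ker _ (mul_mem pn pn) (by rw [c.ac_mul _ pn _ pn, ap, bt])
    obtain ⟨j, hj⟩ := H64.SG.odd_orderOf_of_mem ea.odd k1
    have d := dih s11 tt j
    set m := (s₁ * t) ^ j with hm
    have mn : m ∈ Ns G₁ := pow_mem pn j
    set s₂ := m * s₁ * m⁻¹ with hs₂
    have s2n : s₂ ∈ Ns G₁ := mul_mem (mul_mem mn s1n) (inv_mem mn)
    have s22 : s₂ * s₂ = 1 := by rw [hs₂, conj_mul, s11]; group
    have q : s₂ * t * (s₂ * t) = 1 := by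
      rw [d, ← ((Commute.refl (s₁ * t)).mul_pow _), ← hj, pow_orderOf_eq_one]
    have cm : t * s₂ = s₂ * t := by
      have h1 : (s₂ * t)⁻¹ = s₂ * t := inv_eq_of_mul_eq_one_right q
      rw [← h1, mul_inv_rev, inv_eq_of_mul_eq_one_right tt, inv_eq_of_mul_eq_one_right s22]
    have a2 : c.ac s₂ = β := by
      have cb : Commute (β * τ) β := by
        show β * τ * β = β * (β * τ)
        rw [mul_assoc, ← e2]
      rw [hs₂, c.ac_conj mn s1n, hm, c.ac_pow pn, ap, a1, (cb.pow_left j).eq, mul_inv_cancel_right]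
    have ind : Ind e s₂ ψ := by
      obtain ⟨ψ', h'⟩ := H59.SO.exists_ind b0.inj (b0.cz (H64.SG.mem_Cz.2 cm))
      have : ψ' = ψ := MulEquiv.ext fun u => mf.inj (by
        rw [← e0.pi, ← h' u, c.ac_pi _ s2n _ (e0.le ⟨u, rfl⟩), a2, e0.pi, e3])
      exact this ▸ h'
    have c2 : IsConj t s₂ :=
      (hc.trans (_root_.isConj_iff.2 ⟨w, rfl⟩)).trans (_root_.isConj_iff.2 ⟨m, rfl⟩)
    have k := key (hFA F) hAB b0 e0.gd c2 cm ind ho hz z2 ng
    refine ⟨(m * w)⁻¹, inv_mem (mul_mem mn wn), ?_⟩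
    rw [← k, hs₂, hs₁]; group
  refine ⟨e0.inv, tn, fun g hg => ?_⟩
  have ss : g * t * g⁻¹ * (g * t * g⁻¹) = 1 := by rw [conj_mul, tt]; group
  obtain ⟨j, hj⟩ := exists_odd (g * t * g⁻¹ * t)
  have mn : (g * t * g⁻¹ * t) ^ j ∈ Ns G₁ := pow_mem (mul_mem hg tn) j
  rw [← dih ss tt j] at hj
  set a := (g * t * g⁻¹ * t) ^ j
  obtain ⟨m, hm, e1⟩ := fin _ ((_root_.isConj_iff.2 ⟨g, rfl⟩).trans (_root_.isConj_iff.2 ⟨a, rfl⟩))
    (mul_mem (mul_mem mn hg) (inv_mem mn)) hj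
  have : m⁻¹ * a * g ∈ Cz t := H64.SG.mem_Cz.2 (by
    calc t * (m⁻¹ * a * g) = m⁻¹ * (m * t * m⁻¹) * a * g := by group
      _ = m⁻¹ * a * g * t := by rw [← e1]; group)
  have h3 := mul_mem (mul_mem (inv_mem mn) hm) (ea.ct this)
  rwa [show a⁻¹ * m * (m⁻¹ * a * g) = g by group] at h3

end H92.SfU
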