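import Cfsg.Agent.H64.SFMod
import Cfsg.Agent.H64.SGK89

/-! STD-F4, jobs CU and DI: the centralisers of `eQ_σ`, `eQ_θ` and of `t e x_θ(a)` lie in `M`. -/

set_option autoImplicit false
set_option linter.unusedSectionVars false

namespace H92.SfC

open Cfsg.Lie H63 H65 H64 H64.SF H98 Subgroup
open H64.SG (O2 Syl Cz Cs Ns cjs Is2 Inv2 IsO2 fx Cov UF mem_Cz mem_Cs is2_of_sq Cs_le_Ns
  odd_orderOf_of_mem)
open H59.SO (NS CE Ind B0 B1 cje)
open H67.SA (cm)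
open H86.WR (XF US)
open scoped commutatorElement

universe u

theorem cm_mem {G : Type*} [Group G] (a b : G) : cm a b ∈ _root_.commutator G :=
  commutator_mem_commutator (mem_top a) (mem_top b)

section Cov

variable {Y : Type} [Group Y] {G : Type u} [Group G] {L : Subgroup G} (c : Cov Y L)

theorem ac_cm {a b : G} (ha : a ∈ Ns L) (hb : b ∈ Ns L) : c.ac (cm a b) = cm (c.ac a) (c.ac b) := by
  rw [cm, c.ac_mul _ (mul_mem (mul_mem ha hb) (inv_mem ha)) _ (inv_mem hb), c.ac_conj ha hb,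
    c.ac_inv hb]

/-- A subgroup of a perfect `L` that covers `Y` is `L`. -/
theorem le_of_im {D : Subgroup G} (hp : L ≤ ⁅L, L⁆) (h : c.im D = ⊤) : L ≤ D := by
  have hk : ∀ l ∈ L, ∃ d ∈ D, d ∈ L ∧ ∃ k ∈ L, k ∈ Cs L ∧ l = d * k := fun l hl => by
    obtain ⟨d, hd, dl, e⟩ := c.mem_im.1 (h ▸ mem_top (c.pi l))
    have m : d⁻¹ * l ∈ L := mul_mem (inv_mem dl) hl
    exact ⟨d, hd, dl, _, m, c.ker_cen _ m (by
      rw [c.pi_mul _ (inv_mem dl) _ hl, c.pi_inv dl, e, inv_mul_cancel]), by group⟩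
  refine hp.trans (commutator_le.2 fun a ha b hb => ?_)
  obtain ⟨d, hd, dl, k, kl, kc, rfl⟩ := hk a ha
  obtain ⟨d', hd', dl', k', kl', kc', rfl⟩ := hk b hb
  have e1 := mem_Cs.1 kc _ hb
  have e2 := mem_Cs.1 kc' _ dl
  have : ⁅d * k, d' * k'⁆ = ⁅d, d'⁆ := by
    rw [commutatorElement_def, commutatorElement_def]
    calc d * k * (d' * k') * (d * k)⁻¹ * (d' * k')⁻¹
        = d * (k * (d' * k')) * k⁻¹ * d⁻¹ * (d' * k')⁻¹ := by group
      _ = d * d' * (k' * d⁻¹ * k'⁻¹) * d'⁻¹ := by rw [← e1]; group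
      _ = d * d' * d⁻¹ * d'⁻¹ := by
        rw [show k' * d⁻¹ * k'⁻¹ = d⁻¹ * (d * k') * d⁻¹ * k'⁻¹ by group, e2]; group
  rw [this, commutatorElement_def]
  exact D.mul_mem (D.mul_mem (D.mul_mem hd hd') (inv_mem hd)) (inv_mem hd')

end Cov

variable {F : Type} [Field F] [Finite F] [CharP F 2] {Y : Type} [Group Y] [Finite Y] {G : Type u}
  [Group G] [Finite G] {ι : XF F →* Y} {τ : MulAut Y} {Gd : XF F → Prop} {U : Subgroup Y}
  {A : ℕ → Y → Prop} {e : XF F →* G} {t : G} {G₁ : Subgroup G} {c : Cov Y G₁} {Us : Subgroup G}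

section

variable (mf : MF ι τ Gd U A) (e0 : E0 ι τ Gd U e t G₁ c Us) (ea : EA Gd e t G₁ c Us)
include mf e0

omit [Finite F] [CharP F 2] [Finite Y] [Finite G] mf in
theorem mem1 (u : XF F) : e u ∈ G₁ := e0.le ⟨u, rfl⟩

omit [Finite F] [CharP F 2] [Finite Y] [Finite G] mf in
theorem map_le (B : Subgroup (XF F)) : B.map e ≤ G₁ := (map_le_range _ _).trans e0.le

omit [Finite F] [CharP F 2] [Finite Y] [Finite G] mf in
theorem ac_fix {m : G} (hm : m ∈ Ns G₁) {u : XF F} (h : e u * m = m * e u) :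
    c.ac m (ι u) = ι u := by
  rw [← e0.pi]; exact c.ac_of_comm hm (mem1 e0 u) h.symm

omit [Finite F] [CharP F 2] [Finite Y] in
theorem co {j : ℕ} (hj : j = 44 ∨ j = 47) {m : G} (hm : m ∈ Ns G₁) (h : m ∈ Cs ((Q F j).map e))
    (ho : Odd (orderOf m)) : m ∈ Cs G₁ :=
  c.ac_ker m hm ((mf.ca2 j hj _ fun u hu => ac_fix e0 hm (H59.SO.mem_Cs_map.1 h u hu)).eq_one
    (H64.SG.odd_orderOf_of_pow ho (by rw [← c.ac_pow hm, pow_orderOf_eq_one, c.ac_one])))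

include ea

omit [Finite Y] [Finite G] in
theorem tt_sh {u : XF F} (h : Sh u) : IsConj t (t * e u) := by
  obtain ⟨w, -, hw⟩ := ea.tx u (h.inv2 (by decide)).1 (by
    rcases mf.dich with h1 | h1
    · exact h1 u
    · exact (h1.1 u).2 h)
  exact _root_.isConj_iff.2 ⟨w, hw.symm⟩

omit [Finite Y] [Finite G] in
theorem cm_mem_Q (fr : FR F) {j : ℕ} (hj : j = 44 ∨ j = 47) {m : G} (hm : m ∈ Ns G₁)
    (h : m ∈ Cs ((Q F j).map e)) (h2 : Is2 (cm m t)) : cm m t ∈ (Q F j).map e := by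
  have tn := e0.tn
  have tt := e0.inv.1
  have ht : t ∈ Cs ((Q F j).map e) := H59.SO.Cs_range_le _ e0.cen
  have kn : cm m t ∈ Ns G₁ := mul_mem (mul_mem (mul_mem hm tn) (inv_mem hm)) (inv_mem tn)
  have kc : cm m t ∈ Cs ((Q F j).map e) :=
    mul_mem (mul_mem (mul_mem h ht) (inv_mem h)) (inv_mem ht)
  obtain ⟨y, hy⟩ := mf.k2 _ (ac_cm c hm tn ▸ cm_mem _ _) (c.is2_ac kn h2)
  have k1 := ea.inn _ kn h2 y hy
  have ki : t * cm m t * t⁻¹ = (cm m t)⁻¹ := by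
    rw [cm, inv_eq_of_mul_eq_one_right tt]
    calc t * (m * t * m⁻¹ * t) * t = t * m * t * m⁻¹ * (t * t) := by group
      _ = _ := by rw [tt, mul_inv_rev, inv_eq_of_mul_eq_one_right tt, mul_inv_rev, mul_inv_rev,
        inv_eq_of_mul_eq_one_right tt]; group
  generalize cm m t = k at *
  have yc : c.pi k ∈ Cs ((Q F j).map ι) := H59.SO.mem_Cs_map.2 fun u hu => by
    rw [← e0.pi, ← c.pi_mul _ (mem1 e0 u) _ k1, H59.SO.mem_Cs_map.1 kc u hu,
      c.pi_mul _ k1 _ (mem1 e0 u)]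
  have y2 := mf.ce j hj _ yc
  obtain ⟨v, hv⟩ := (mf.fix (c.pi k)).1 (by
    rw [← e0.act, ← c.ac_pi _ tn _ k1, ki, c.pi_inv k1, inv_eq_of_mul_eq_one_right y2])
  have v2 : v * v = 1 := mf.inj (by rw [map_mul, hv, y2, map_one])
  have e1 : k = e v := c.eq_of_pi_eq k1 (mem1 e0 v) h2 ((is2_of_sq v2).map e) (by rw [e0.pi, hv])
  rw [e1] at kc ⊢
  have hv' := (H59.SO.e_mem_Cs_map e0.inj).1 kc
  rw [fr.cq j (by omega)] at hv'
  exact mem_map_of_mem e (US_mono (by rcases hj with rfl | rfl <;> decide) hv')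

end

theorem jobCU (hFR : JobFR) : JobCU.{u} := by
  intro F _ _ _ Y _ _ G _ _ ι τ Gd U A e t G₁ c Us mf e0 ea h
  have fr := hFR F
  have ht : ∀ j, t ∈ Cs ((Q F j).map e) := fun j => H59.SO.Cs_range_le _ e0.cen
  have hC : ∀ j, Cs G₁ ≤ Cs ((Q F j).map e) := fun j => centralizer_anti (map_le e0 _)
  have key : ∀ j, j = 44 ∨ j = 47 → Odd (Nat.card (O2 (Cs ((Q F j).map e)))) ∧
      ∀ g ∈ Cs ((Q F j).map e), ∃ o ∈ O2 (Cs ((Q F j).map e)), ∃ m ∈ Ns G₁, g = o * m := by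
    intro j hj
    obtain ⟨O, o1, o2, o3, o4⟩ := H9.UF.jobK5 h (IsConj.refl t) h.mem (Cs ((Q F j).map e))
      ((Q F j).map e ⊓ Cs ((Q F j).map e)) (ht j) inf_le_right
      (le_normalizer_of_le_centralizer (centralizer_anti inf_le_left))
      (((fr.o2 j (by omega)).2.2.1.map e).to_le inf_le_left)
      (fun g hg _ => centralizer_anti inf_le_left hg)
      (fun m a1 a2 a3 => ⟨cm_mem_Q mf e0 ea fr hj a2 a1 a3,
        (Cs _).mul_mem (mul_mem (mul_mem a1 (ht j)) (inv_mem a1)) (inv_mem (ht j))⟩)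
    refine ⟨(H64.SG.odd_card_sup o3 ea.odd ((hC j).trans o2)).of_dvd_nat (card_dvd_of_le
      ((closure_le _).2 fun g hg => ?_)), fun g hg => ?_⟩
    · obtain ⟨o, ho, m, a1, a2, e1⟩ := o4 g hg.1
      refine e1 ▸ mul_mem (mem_sup_left ho) (mem_sup_right (co mf e0 hj a2 a1
        (H64.SG.odd_orderOf_of_pow_mem o3 hg.2 ?_)))
      have h0 := H64.SG.mul_pow_mem (inv_mem ho) (o2 hg.1) (orderOf g)
      rwa [pow_orderOf_eq_one, inv_one, mul_one, show o⁻¹ * g = m by rw [e1]; group] at h0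
    · obtain ⟨o, ho, m, -, a2, e1⟩ := o4 g hg
      exact ⟨o, H64.SG.mem_O2_of_odd (o1 ho) (odd_orderOf_of_mem o3 ho), m, a2, e1⟩
  have h1 : ∀ j, j = 44 ∨ j = 47 → O2 (Cs ((Q F j).map e)) ≤ Cs ((P F j).map e) := by
    intro j hj o ho
    have : P F j ≤ (Cz o).comap e := (fr.gP j hj).trans ((closure_le _).2 fun u hu => by
      have := H9.UF.jobK6 h (IsConj.refl t) h.mem (tt_sh mf e0 ea hu.2)
        (le_normalizer (mem1 e0 u)) (by rw [← map_mul, (hu.2.inv2 (by decide)).1, map_one])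
        (e0.toB1.comm u) _ (key j hj).1 (H64.SG.Ns_le_Ns_O2 _ (le_normalizer (ht j)))
        (H64.SG.Ns_le_Ns_O2 _ (normalizer_le_normalizer_centralizer _
          (H59.SO.map_mem_Ns ((fr.o2 j (by omega)).2.1 hu.1))))
        (fun o ho => mem_Cz.2 (mem_Cs.1 (co mf e0 hj ho.2 (H64.SG.O2_le _ ho.1)
          (odd_orderOf_of_mem (key j hj).1 ho.1)) _ (mem1 e0 u))) ho
      exact mem_Cz.2 (mem_Cz.1 this).symm)
    exact H59.SO.mem_Cs_map.2 fun u hu => (mem_Cz.1 (this hu)).symm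
  have h2 : O2 (Cs ((Q F 44).map e)) ≤ O2 (Cs ((Q F 47).map e)) := fun o ho =>
    H64.SG.mem_O2_of_odd (centralizer_anti (map_mono (US_mono (by decide))) (h1 44 (.inl rfl) ho))
      (odd_orderOf_of_mem (key 44 (.inl rfl)).1 ho)
  have h3 : O2 (Cs ((Q F 47).map e)) ≤ O2 (Cs ((Q F 44).map e)) := fun o ho =>
    H64.SG.mem_O2_of_odd (centralizer_anti (map_mono (US_mono (by decide))) (h1 47 (.inr rfl) ho))
      (odd_orderOf_of_mem (key 47 (.inr rfl)).1 ho)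
  set O := O2 (Cs ((Q F 44).map e)) with hO
  have h4 : ∀ u, e u ∈ Cs O := fun u => by
    have : P F 44 ⊔ P F 47 ≤ (Cs O).comap e := sup_le
      (fun u hu => mem_Cs.2 fun o ho => (H59.SO.mem_Cs_map.1 (h1 44 (.inl rfl) ho) u hu).symm)
      (fun u hu => mem_Cs.2 fun o ho => (H59.SO.mem_Cs_map.1 (h1 47 (.inr rfl) (h2 ho)) u hu).symm)
    exact this (fr.top ▸ mem_top u)
  have h5 : G₁ ≤ Cs O := by
    obtain ⟨a, T, ⟨ha, -, -⟩, hg⟩ := mf.gen
    have ac := (mf.bb 44 a ha).2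
    obtain ⟨b, hb, b2, rfl⟩ := c.exists_lift2 (is2_of_sq (mf.ce 44 (.inl rfl) a ac))
    have bn : b ∈ Ns (Cs O) := normalizer_le_normalizer_centralizer _ (H64.SG.Ns_le_Ns_O2 _
      (le_normalizer (H59.SO.mem_Cs_map.2 fun u hu => c.comm_of_pi hb (mem1 e0 u) b2
        (by rw [e0.pi]; exact H59.SO.mem_Cs_map.1 ac u hu))))
    refine le_of_im c e0.perf (top_le_iff.1 (hg ▸ sup_le ?_ ?_))
    · rintro _ ⟨u, rfl⟩
      exact e0.pi u ▸ c.pi_mem_im (h4 u) (mem1 e0 u)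
    · rintro _ ⟨_, ⟨u, rfl⟩, rfl⟩
      have := c.pi_mem_im (conj_mem_of_mem_normalizer bn (h4 u))
        (mul_mem (mul_mem hb (mem1 e0 u)) (inv_mem hb))
      rwa [c.pi_conj hb (mem1 e0 u), e0.pi] at this
  have h6 : O ≤ Ns G₁ := fun o ho =>
    Cs_le_Ns _ (mem_Cs.2 fun g hg => (mem_Cs.1 (h5 hg) o ho).symm)
  refine ⟨fun g hg => ?_, fun g hg => ?_, fun j hj m => co mf e0 hj⟩
  · obtain ⟨o, ho, m, hm, rfl⟩ := (key 44 (.inl rfl)).2 g hg
    exact mul_mem (h6 ho) hm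
  · obtain ⟨o, ho, m, hm, rfl⟩ := (key 47 (.inr rfl)).2 g hg
    exact mul_mem (h6 (h3 ho)) hm

section DI

variable (mf : MF ι τ Gd U A) (e0 : E0 ι τ Gd U e t G₁ c Us) (ea : EA Gd e t G₁ c Us)
  (fr : FR F) {a : F} (a0 : a ≠ 0) (ng : ¬ Gd (x F 47 a))
include mf e0 fr a0 ng

/-- The fixed points of `d = t e z` on `Y`. -/
theorem fx_d {y : Y} : c.ac (t * e (x F 47 a)) y = y ↔ ∃ p ∈ P F 47, y = ι p := by
  have tt : ∀ w, τ (τ w) = w := fun w => by rw [← MulAut.mul_apply, mf.t2, MulAut.one_apply]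
  rw [c.ac_mul _ e0.tn _ (le_normalizer (mem1 e0 _)), e0.act, c.ac_of_mem (mem1 e0 _), e0.pi,
    MulAut.mul_apply, MulAut.conj_apply, ← fr.cz 47 (by omega) a a0]
  constructor
  · intro h
    have h1 : ι (x F 47 a) * y * (ι (x F 47 a))⁻¹ = τ y := by rw [← tt (_ * y * _), h]
    have h2 := mf.fz a a0 ng y h1
    obtain ⟨p, rfl⟩ := (mf.fix y).1 h2
    rw [h2, mul_inv_eq_iff_eq_mul, ← map_mul, ← map_mul] at h1
    exact ⟨p, mem_Cz.2 (mf.inj h1), rfl⟩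
  · rintro ⟨p, hp, rfl⟩
    rw [← map_mul ι, mem_Cz.1 hp, map_mul ι, mul_inv_cancel_right]
    exact (mf.fix _).2 ⟨p, rfl⟩

omit mf ng in
theorem mem_d {p : XF F} (hp : p ∈ P F 47) : e p ∈ Cz (t * e (x F 47 a)) := by
  rw [← fr.cz 47 (by omega) a a0] at hp
  refine mem_Cz.2 ?_
  rw [mul_assoc, ← map_mul, mem_Cz.1 hp, map_mul, ← mul_assoc, e0.toB1.comm p, mul_assoc]

include ea

/-- `C_M(d) ≤ C(t)`. -/
theorem cen_t (fc : FC F) {m : G} (hm : m ∈ Ns G₁) (hd : m ∈ Cz (t * e (x F 47 a))) :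
    m * t * m⁻¹ * t⁻¹ = 1 := by
  have tn := e0.tn
  have tt := e0.inv.1
  have ti := inv_eq_of_mul_eq_one_right tt
  set z := x F 47 a with hz
  have dn : t * e z ∈ Ns G₁ := mul_mem tn (le_normalizer (mem1 e0 z))
  have td : t ∈ Cz (t * e z) := mem_Cz.2 (by rw [mul_assoc, ← e0.toB1.comm])
  have kn : cm m t ∈ Ns G₁ := mul_mem (mul_mem (mul_mem hm tn) (inv_mem hm)) (inv_mem tn)
  have kd : cm m t ∈ Cz (t * e z) := mul_mem (mul_mem (mul_mem hd td) (inv_mem hd)) (inv_mem td)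
  have st : ∀ g ∈ Ns G₁, g ∈ Cz (t * e z) → ∀ y, c.ac (t * e z) y = y →
      c.ac (t * e z) (c.ac g y) = c.ac g y := fun g gn gd y hy => by
    rw [← MulAut.mul_apply, ← c.ac_mul _ dn _ gn, mem_Cz.1 gd, c.ac_mul _ gn _ dn, MulAut.mul_apply, hy]
  have f1 : ∀ p ∈ P F 47, c.ac (cm m t) (ι p) = ι p := fun p hp => by
    obtain ⟨p', -, e1⟩ := (fx_d mf e0 fr a0 ng).1 (st _ (inv_mem hm) (inv_mem hd) _
      ((fx_d mf e0 fr a0 ng).2 ⟨p, hp, rfl⟩))
    rw [cm, c.ac_mul _ (mul_mem (mul_mem hm tn) (inv_mem hm)) _ (inv_mem tn), c.ac_mul _ (mul_mem hm tn) _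
      (inv_mem hm), c.ac_mul _ hm _ tn, ti, e0.act, MulAut.mul_apply, MulAut.mul_apply,
      MulAut.mul_apply, (mf.fix _).2 ⟨p, rfl⟩, e1, (mf.fix _).2 ⟨p', rfl⟩, ← e1, ← MulAut.mul_apply,
      ← c.ac_mul _ hm _ (inv_mem hm), mul_inv_cancel, c.ac_one, MulAut.one_apply]
  obtain ⟨y, hy⟩ := mf.k2 _ (ac_cm c hm tn ▸ cm_mem _ _)
    (mf.ca2 47 (.inr rfl) _ fun u hu => f1 u ((fr.o2 47 (by omega)).1 hu))
  have f2 : c.ac (t * e z) y = y := mf.ns.conj_inj (by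
    have h1 : c.ac (t * e z) * c.ac (cm m t) = c.ac (cm m t) * c.ac (t * e z) := by
      rw [← c.ac_mul _ dn _ kn, mem_Cz.1 kd, c.ac_mul _ kn _ dn]
    rw [hy] at h1
    refine MulEquiv.ext fun w => ?_
    obtain ⟨w, rfl⟩ := (c.ac (t * e z)).surjective w
    have h2 := congrArg (fun β : MulAut Y => β w) h1
    simpa using h2)
  obtain ⟨p, hp, rfl⟩ := (fx_d mf e0 fr a0 ng).1 f2
  obtain ⟨ζ, hζ, e1⟩ := fc.cZ (MulAut.conj p) fun r hr b => mf.inj (by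
    have := f1 _ (x_mem hr (List.mem_range.1 (List.mem_filter.1 hr).1) b)
    rwa [hy, MulAut.conj_apply, ← map_inv, ← map_mul, ← map_mul] at this)
  obtain rfl := ns.conj_inj e1
  obtain ⟨b, hb⟩ := (mem_Z (by omega)).1 hζ
  have p2 : e p * e p = 1 := by rw [← map_mul, hb, x_sq (by omega), map_one]
  have k1 : (e p)⁻¹ * cm m t ∈ Cs G₁ := c.exists_split kn (mem1 e0 p) (by rw [hy, e0.pi])
  have pd : e p ∈ Cz (t * e z) := mem_d e0 fr a0 hp
  have ki : t * cm m t * t⁻¹ = (cm m t)⁻¹ := by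
    rw [cm, ti]
    calc t * (m * t * m⁻¹ * t) * t = t * m * t * m⁻¹ * (t * t) := by group
      _ = _ := by rw [tt, mul_inv_rev, ti, mul_inv_rev, mul_inv_rev, ti]; group
  have k2 := mem_Cz.1 (mul_mem (inv_mem pd) kd)
  obtain ⟨k, hk⟩ : ∃ k, cm m t = e p * k := ⟨(e p)⁻¹ * cm m t, (mul_inv_cancel_left _ _).symm⟩
  rw [hk, inv_mul_cancel_left] at k1 k2
  have k3 : t * k = k * t := by
    have := mem_Cs.1 k1 _ (mem1 e0 z)
    refine mul_right_cancel (b := e z) ?_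
    rw [mul_assoc, ← this, ← mul_assoc, k2, mul_assoc]
  have k4 : k * k = 1 := by
    rw [hk, ← mul_assoc, e0.toB1.comm, mul_assoc (e p), k3, ← mul_assoc, mul_inv_cancel_right,
      eq_inv_iff_mul_eq_one] at ki
    calc k * k = e p * e p * k * k := by rw [p2, one_mul]
      _ = e p * (e p * k) * k := by group
      _ = e p * (k * e p) * k := by rw [mem_Cs.1 k1 _ (mem1 e0 p)]
      _ = e p * k * (e p * k) := by group
      _ = 1 := ki
  rw [(is2_of_sq k4).eq_one (odd_orderOf_of_mem ea.odd k1), mul_one] at hk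
  rcases e0.gd p (_root_.isConj_iff.2 ⟨m, by
    rw [e0.toB1.comm, ← hk, cm, inv_mul_cancel_right]⟩) with h1 | h1
  · rw [h1, map_one] at hk
    exact hk
  · rcases mf.dich with h2 | h2
    · exact absurd (h2 _) ng
    · exact absurd ((h2.1 p).1 h1) (fr.shL p (US_mono (by decide) hζ))

end DI

theorem jobDI (hFR : JobFR) (hFC : JobFC) : JobDI.{u} := by
  intro F _ _ _ Y _ _ G _ _ ι τ Gd U A e t G₁ c Us mf e0 ea h ec a a0 ng
  have fr := hFR F
  have tt := e0.inv.1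
  have cz := fr.cz 47 (by omega) a a0
  have ct := fun m => cen_t (m := m) mf e0 ea fr a0 ng (hFC F)
  set z := x F 47 a with hz
  have dd : t * e z * (t * e z) = 1 := by
    rw [mul_assoc, ← mul_assoc (e z), ← e0.toB1.comm, mul_assoc, ← map_mul, x_sq (by omega), map_one,
      mul_one, tt]
  have pd : ∀ p ∈ P F 47, e p ∈ Cz (t * e z) := fun p hp => mem_d e0 fr a0 hp
  have zn : Cz (t * e z) ≤ Ns (zpowers (t * e z)) := fun g hg =>
    Cs_le_Ns _ (H64.SG.mem_Cs_zpowers.2 (mem_Cz.1 hg))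
  have nz : Ns (zpowers (t * e z)) ≤ Cz (t * e z) := fun g hg => by
    obtain ⟨k, hk⟩ := mem_zpowers_iff.1 (conj_mem_of_mem_normalizer hg (mem_zpowers _))
    have d2 : (t * e z) ^ (2 : ℤ) = 1 := by rw [zpow_two, dd]
    obtain ⟨j, rfl | rfl⟩ := Int.even_or_odd' k
    · rw [zpow_mul, d2, one_zpow, eq_comm, conj_eq_one_iff] at hk
      exact mem_Cz.2 (by rw [hk, one_mul, mul_one])
    · rw [zpow_add, zpow_mul, d2, one_zpow, one_mul, zpow_one, eq_mul_inv_iff_mul_eq] at hk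
      exact mem_Cz.2 hk
  refine zn.trans (H64.SG.jobK8 h (IsConj.refl t) h.mem ?_ ?_
    (fun m m1 m2 => ct m m2 (nz m1) ▸ one_mem _) (e '' {u | u ∈ P F 47 ∧ Sh u}) ?_ ?_ ?_)
  · rw [inv_eq_of_mul_eq_one_right dd, e0.toB1.comm, ← mul_assoc, mul_inv_cancel_right,
      e0.toB1.comm]
  · rw [show (4 : ℕ) = 2 * 2 from rfl, pow_mul, pow_two (t * e z), dd, one_pow]
  · rintro _ ⟨u, hu, rfl⟩
    exact ⟨by rw [← map_mul, (hu.2.inv2 (by decide)).1, map_one], le_normalizer (mem1 e0 u),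
      (mem_Cz.1 (pd u hu.1)).symm, e0.toB1.comm u, tt_sh mf e0 ea hu.2⟩
  · rw [← MonoidHom.map_closure]
    exact (centralizer_anti (map_mono ((fr.o2 47 (by omega)).1.trans (fr.gP 47 (.inr rfl))))).trans
      ec.cuT
  · rintro O hM ho hn hd _ ⟨v, -, rfl⟩ o oO
    have hq : ∀ o ∈ O, o ∈ Ns ((Q F 47).map e) := fun o oO => by
      have ot : o ∈ Cz t := mem_Cz.2 (by
        have := ct o (hM oO) (hd oO)
        rw [mul_inv_eq_one, mul_inv_eq_iff_eq_mul] at this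
        exact this.symm)
      have oz : o ∈ Cz (e z) := by
        have := (Cz o).mul_mem (x := t⁻¹) (inv_mem (mem_Cz.2 (mem_Cz.1 ot).symm))
          (mem_Cz.2 (mem_Cz.1 (hd oO)).symm)
        rw [inv_mul_cancel_left] at this
        exact mem_Cz.2 (mem_Cz.1 this).symm
      rw [(fr.o2 47 (by omega)).eq, map_pCoreOf_of_injective e0.inj]
      refine normalizer_le_normalizer_pCoreOf _ (Subgroup.mem_normalizer_fintype ?_)
      rintro _ ⟨p, hp, rfl⟩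
      obtain ⟨p', e1⟩ := conj_mem_of_mem_normalizer (e0.cz ot) ⟨p, rfl⟩
      refine ⟨p', cz ▸ mem_Cz.2 ((H59.SO.e_comm_iff e0.inj).1 (mem_Cz.1 ?_)), e1⟩
      rw [e1]
      exact mul_mem (mul_mem oz (mem_Cz.2 ((H59.SO.e_comm_iff e0.inj).2 (mem_Cz.1 (cz ▸ hp)))))
        (inv_mem oz)
    have oc : o ∈ Cs ((Q F 47).map e) := mem_Cs.2 fun q hq' => by
      have q1 : q ∈ Ns O := by
        obtain ⟨u, hu, rfl⟩ := hq'
        exact hn ⟨zn (pd u ((fr.o2 47 (by omega)).1 hu)), le_normalizer (mem1 e0 u)⟩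
      have m1 : q * o * q⁻¹ * o⁻¹ ∈ O := mul_mem (conj_mem_of_mem_normalizer q1 oO) (inv_mem oO)
      have m2 : q * o * q⁻¹ * o⁻¹ ∈ (Q F 47).map e := by
        rw [show q * o * q⁻¹ * o⁻¹ = q * (o * q⁻¹ * o⁻¹) by group]
        exact mul_mem hq' (conj_mem_of_mem_normalizer (hq o oO) (inv_mem hq'))
      have := (H64.SG.isPGroup_iff_is2.1 ((fr.o2 47 (by omega)).2.2.1.map e) _ m2).eq_one
        (odd_orderOf_of_mem ho m1)
      rwa [mul_inv_eq_one, mul_inv_eq_iff_eq_mul] at this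
    exact mem_Cz.2 (mem_Cs.1 (ec.co 47 (.inr rfl) o (hM oO) oc (odd_orderOf_of_mem ho oO)) _
      (mem1 e0 v))

end H92.SfC
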