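import Cfsg.Agent.H28.TESpec

/-! Tower NF (S1308), chapter TE part 1: job HZ. -/

set_option autoImplicit false

open Cfsg Subgroup H14 H98 H1.Gold H31.S2 H14.GC H14.FE H14.NF H28.TE
open scoped commutatorElement

namespace H92.TeHZ

universe u

variable {G : Type u} [Group G]

theorem side {Q Q₁ E F Q' E' : Subgroup G} (hy : HY Q) (v1 : Vx Q Q₁) (v' : Vx Q Q')
    (hE : E ≤ Q₁) (hEF : E ≤ F) (hE' : E' ≤ Q') (hin : ∀ f ∈ F, f ∈ Q' → f ∈ E') {g v e : G}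
    (hg : g ∈ nor F) (hv : v ∈ cen E') (hfix : ∀ f ∈ F, v * f = f * v → f ∈ E') (he : e ∈ E)
    (ie : GC.Inv e) (hc : g * v * g⁻¹ * e = e * (g * v * g⁻¹)) :
    ∀ e₂ ∈ E, g * v * g⁻¹ * e₂ = e₂ * (g * v * g⁻¹) := by
  have hF : ∀ x ∈ E, g⁻¹ * x * g ∈ F := fun x hx => by
    have := conj_mem_of_mem_normalizer (inv_mem hg) (hEF hx)
    rwa [inv_inv] at this
  have h1 : g⁻¹ * e * g ∈ E' := by
    refine hfix _ (hF e he) ?_
    calc v * (g⁻¹ * e * g) = g⁻¹ * (g * v * g⁻¹ * e) * g := by group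
      _ = g⁻¹ * (e * (g * v * g⁻¹)) * g := by rw [hc]
      _ = g⁻¹ * e * g * v := by group
  have h2 : Q₁ = cj g Q' := by
    by_contra hne
    exact hy.ti _ _ v1 (vx_cj v' g) hne e ⟨hE he, mem_cj.2 (hE' h1)⟩ ie
  intro e₂ he₂
  have h3 : g⁻¹ * e₂ * g ∈ E' := hin _ (hF e₂ he₂) (mem_cj.1 (h2 ▸ hE he₂))
  have h4 : g⁻¹ * e₂ * g * v = v * (g⁻¹ * e₂ * g) := mem_centralizer_iff.1 hv _ h3
  calc g * v * g⁻¹ * e₂ = g * (v * (g⁻¹ * e₂ * g)) * g⁻¹ := by group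
    _ = g * (g⁻¹ * e₂ * g * v) * g⁻¹ := by rw [h4]
    _ = e₂ * (g * v * g⁻¹) := by group

theorem jobHZ : H28.TE.JobHZ.{u} := by
  intro kt G _ _ Q Q₁ E Q₂ T h y z g v hy hz hzz hc hg hv hw
  have K := kt G Q Q₁ E Q₂ T h
  have K' := kt G Q Q₂ T Q₁ E h.symm
  have hEF : E ≤ E ⊔ T := le_sup_left
  have yE : ∀ e ∈ E, e * y = y * e := fun e he => mem_centralizer_iff.1 hy.ce e he
  -- `z` normalises `E`
  have zE : ∀ e ∈ E, z * e * z⁻¹ ∈ E := by
    intro e he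
    have hf : z * e * z⁻¹ ∈ E ⊔ T := conj_mem_of_mem_normalizer hz (hEF he)
    refine K.fix y hy _ hf ?_
    have h1 : z * e * z⁻¹ * (z * y * z⁻¹ * y⁻¹) = z * y * z⁻¹ * y⁻¹ * (z * e * z⁻¹) :=
      mem_centralizer_iff.1 hc _ hf
    have h2 : z * y * z⁻¹ * y⁻¹ * (y * (z * e * z⁻¹)) =
        z * y * z⁻¹ * y⁻¹ * (z * e * z⁻¹ * y) := by
      calc z * y * z⁻¹ * y⁻¹ * (y * (z * e * z⁻¹)) = z * (y * e) * z⁻¹ := by group
        _ = z * (e * y) * z⁻¹ := by rw [yE e he]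
        _ = z * e * z⁻¹ * (z * y * z⁻¹ * y⁻¹) * y := by group
        _ = z * y * z⁻¹ * y⁻¹ * (z * e * z⁻¹) * y := by rw [h1]
        _ = z * y * z⁻¹ * y⁻¹ * (z * e * z⁻¹ * y) := by group
    exact mul_left_cancel h2
  -- a fixed involution
  obtain ⟨e, he, ie, ez⟩ : ∃ e ∈ E, GC.Inv e ∧ e * z = z * e := by
    obtain ⟨e₀, he₀, i₀⟩ := four_exists_inv h.fE
    by_cases h0 : z * e₀ * z⁻¹ = e₀
    · refine ⟨e₀, he₀, i₀, ?_⟩
      calc e₀ * z = z * e₀ * z⁻¹ * z := by rw [h0]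
        _ = z * e₀ := by group
    · have hm : e₀ * (z * e₀ * z⁻¹) ∈ E := mul_mem he₀ (zE e₀ he₀)
      refine ⟨_, hm, ⟨fun h1 => h0 ?_, h.elE _ hm⟩, ?_⟩
      · exact mul_left_cancel (h1.trans i₀.2.symm)
      · have h1 : e₀ * (z * z) = z * z * e₀ := mem_centralizer_iff.1 hzz _ (hEF he₀)
        have h2 : e₀ * (z * e₀ * z⁻¹) = z * e₀ * z⁻¹ * e₀ := K.abF _ (hEF he₀) _ (hEF (zE e₀ he₀))
        calc e₀ * (z * e₀ * z⁻¹) * z = z * e₀ * z⁻¹ * e₀ * z := by rw [h2]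
          _ = z * e₀ * z⁻¹ * (e₀ * (z * z)) * z⁻¹ := by group
          _ = z * e₀ * z⁻¹ * (z * z * e₀) * z⁻¹ := by rw [h1]
          _ = z * (e₀ * (z * e₀ * z⁻¹)) := by group
  -- `z` and `g v g⁻¹` act alike on `E`
  have key : ∀ x ∈ E, x * z = z * x ↔ g * v * g⁻¹ * x = x * (g * v * g⁻¹) := by
    intro x hx
    generalize g * v * g⁻¹ = w at hw
    have h1 : x * (z * y * w⁻¹) = z * y * w⁻¹ * x := mem_centralizer_iff.1 hw _ (hEF hx)
    constructor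
    · intro h2
      have h3 : z * y * w⁻¹ * (w * x) = z * y * w⁻¹ * (x * w) := by
        calc z * y * w⁻¹ * (w * x) = z * (y * x) := by group
          _ = z * x * y := by rw [← yE x hx, mul_assoc]
          _ = x * z * y := by rw [h2]
          _ = x * (z * y * w⁻¹) * w := by group
          _ = z * y * w⁻¹ * x * w := by rw [h1]
          _ = z * y * w⁻¹ * (x * w) := by group
      exact mul_left_cancel h3
    · intro h2
      have h3 : x * z * y = z * x * y := by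
        calc x * z * y = x * (z * y * w⁻¹) * w := by group
          _ = z * y * w⁻¹ * x * w := by rw [h1]
          _ = z * y * w⁻¹ * (x * w) := by group
          _ = z * y * w⁻¹ * (w * x) := by rw [h2]
          _ = z * (y * x) := by group
          _ = z * x * y := by rw [← yE x hx, mul_assoc]
      exact mul_right_cancel h3
  have hE1 : E ≤ Q₁ := h.sE.le.trans inf_le_left
  have hT2 : T ≤ Q₂ := h.sT.le.trans inf_le_left
  refine mem_centralizer_iff.2 fun x hx => (key x hx).2 ?_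
  rcases hv with hv | hv
  · exact side h.hy h.v1 h.v1 hE1 hEF hE1 K.inE hg hv.ce (K.fix v hv) he ie ((key e he).1 ez) x hx
  · refine side h.hy h.v1 h.v2 hE1 hEF hT2 K.inT hg hv.ce (fun f hf => K'.fix v hv f ?_) he ie
      ((key e he).1 ez) x hx
    rwa [sup_comm]

end H92.TeHZ
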