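/- Row S3338: the frame of `2²⁰ : U₆(2)`. -/
import Cfsg.Agent.H2.BMC5
import Cfsg.Agent.H39.SESpec
import Cfsg.Agent.H12.Linearize
import Cfsg.Agent.H59.SU
import Cfsg.Agent.H93.Cj

set_option autoImplicit false

open H46.BM H21.BM H73 Equiv H6 Cfsg H2.BM H39.SE Subgroup
open scoped Matrix

namespace H92.SE

theorem exists_beta {φ : SU 6 F4 2 →* GM} (h : ∀ g, φ g = 1 ↔ g ∈ Subgroup.center _) :
    ∃ β : GM, U ≤ φ.range.map (MulAut.conj β).toMonoidHom := by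
  have H := mon h
  obtain ⟨y, B⟩ := H.exists_bas
  obtain ⟨γ, hγ⟩ := exists_gam H B
  let ψ : SU 6 F4 2 →* Mt :=
    (Units.coeHom _).comp ((MulAut.conj γ⁻¹).toMonoidHom.comp φ)
  have hs : ∀ {q a}, ChkS q a → ψ (pS q) = dec2 20 a := fun hq => by
    simpa [ψ] using conj_σ B hγ hq
  have hr : ∀ {s t a}, ChkR s t a → ψ (rS s t) = dec2 20 a := fun hq => by
    simpa [ψ] using conj_r B hγ hq
  have s0 := hs (q := swap 0 1) (a := cS0) (by unfold ChkS; decide +kernel)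
  have s1 := hs (q := swap 1 2) (a := cS1) (by unfold ChkS; decide +kernel)
  have s2 := hs (q := swap 2 3) (a := cS2) (by unfold ChkS; decide +kernel)
  have s3 := hs (q := swap 3 4) (a := cS3) (by unfold ChkS; decide +kernel)
  have s4 := hs (q := swap 4 5) (a := cS4) (by unfold ChkS; decide +kernel)
  have r45 := hr (s := 4) (t := 5) (a := cR45) (by unfold ChkR; decide +kernel)
  have r54 := hr (s := 5) (t := 4) (a := cR54) (by unfold ChkR; decide +kernel)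
  have r12 := hr (s := 1) (t := 2) (a := cR12) (by unfold ChkR; decide +kernel)
  have r21 := hr (s := 2) (t := 1) (a := cR21) (by unfold ChkR; decide +kernel)
  have sp : ψ (rS 1 2 * pS (swap 0 1) * rS 2 1) = dec2 20 cSp := by
    rw [map_mul, map_mul, r12, s0, r21, ← dec_mm, ← dec_mm]
    exact congrArg (dec2 20) (by decide +kernel)
  have cp : ∀ p ∈ [swap (0 : Fin 6) 1, swap 1 2, swap 2 3, swap 4 5], Commute (ψ tS) (ψ (pS p)) :=
    fun p hp => Commute.map (tS_p p hp) ψ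
  have tt : ψ tS = dec2 20 cT := by
    refine tau_eq (fun a ha => ?_) ?_ ?_
    · simp only [cK, List.mem_cons, List.not_mem_nil, or_false] at ha
      rcases ha with rfl | rfl | rfl | rfl | rfl
      exacts [s0 ▸ cp _ (by simp), s1 ▸ cp _ (by simp), s2 ▸ cp _ (by simp), s4 ▸ cp _ (by simp),
        r45 ▸ Commute.map tS_r ψ]
    · rw [← map_mul, show tS * tS = 1 from su_ext tM_sq, map_one]
    · rw [← sp, ← map_mul, ← map_mul, tS_braid, map_mul ψ _ (_ * _ * _), map_mul ψ _ tS]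
  refine ⟨Bm * γ⁻¹, (Subgroup.closure_le _).2 fun g hg => ?_⟩
  · obtain ⟨k, hk, rfl⟩ := exists_gen hg
    obtain ⟨x, hx⟩ := wc_mem (S := cG) (K := MonoidHom.mrange ψ) (fun a ha => by
      simp only [cG, List.mem_cons, List.not_mem_nil, or_false] at ha
      rcases ha with rfl | rfl | rfl | rfl | rfl | rfl | rfl | rfl
      exacts [⟨_, s0⟩, ⟨_, s1⟩, ⟨_, s2⟩, ⟨_, s3⟩, ⟨_, s4⟩, ⟨_, r45⟩, ⟨_, r54⟩, ⟨_, tt⟩]) (gw ⟨k, hk⟩)
    refine ⟨φ x, ⟨x, rfl⟩, ?_⟩
    have e1 : Rl (Bm * (γ⁻¹ * φ x * γ) * Bm⁻¹) (ap (gc (k + 1))) := rl_of_val (by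
      rw [← gw_eq ⟨k, hk⟩, dec_mm, dec_mm, ← hx, Units.val_mul, Units.val_mul]
      simp only [ψ, MonoidHom.comp_apply, MulEquiv.coe_toMonoidHom, MulAut.conj_apply, inv_inv]
      rfl)
    rw [← ext_basis (g := Bm * (γ⁻¹ * φ x * γ) * Bm⁻¹) (h := gen (k + 1)) fun i => by
      rw [← vd_shl, e1, rl_gen (by omega)]]
    simp [mul_assoc]

universe u v

theorem exists_beta' (F : Type v) [Field F] [Fintype F] (hF : Fintype.card F = 4)
    (θ : PSU 6 F 2 →* GM) (hθ : Function.Injective θ) :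
    ∃ β : GM, θ.range.map (MulAut.conj β).toMonoidHom = U := by
  let e := H55.suCongr (FiniteField.ringEquivOfCardEq (F4.card_eq.trans hF.symm)) 6 2
  let φ : SU 6 F4 2 →* GM := θ.comp ((QuotientGroup.mk' _).comp e.toMonoidHom)
  obtain ⟨β, a1⟩ := exists_beta (φ := φ) (fun g => by
    rw [H59.mem_center_congr e, ← QuotientGroup.eq_one_iff, ← hθ.eq_iff, map_one]; rfl)
  refine ⟨β, (Subgroup.eq_of_le_of_card_ge (a1.trans (Subgroup.map_mono ?_)) ?_).symm⟩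
  · rintro _ ⟨g, rfl⟩
    exact ⟨_, rfl⟩
  · rw [card_map_range θ hθ, card_PSU6 F hF]
    exact le_card_U

theorem elem {X : Type*} [Group X] [Finite X] {A : Subgroup X} {n : ℕ}
    (hA : Nat.card A = 2 ^ (n + 1)) (hmin : ∀ B : Subgroup X, B ≤ A →
      (∀ h ∈ normalizer (A : Set X), ∀ b ∈ B, h * b * h⁻¹ ∈ B) → B = ⊥ ∨ B = A) :
    IsElementaryAbelian 2 A := by
  let B : Subgroup X :=
    { carrier := {y | y ∈ A ∧ y ∈ H93.Ct A ∧ y ^ 2 = 1}
      one_mem' := ⟨one_mem _, one_mem _, one_pow _⟩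
      mul_mem' := fun {a b} ha hb => ⟨mul_mem ha.1 hb.1, mul_mem ha.2.1 hb.2.1, by
        rw [Commute.mul_pow (show Commute a b from H93.mem_Ct'.1 hb.2.1 a ha.1), ha.2.2, hb.2.2,
          mul_one]⟩
      inv_mem' := fun ha => ⟨inv_mem ha.1, inv_mem ha.2.1, by rw [inv_pow, ha.2.2, inv_one]⟩ }
  rcases hmin B (fun y hy => hy.1) (fun h hh b hb => ⟨H93.conj_mem_of_Nm hh hb.1,
    H93.conj_mem_Ct_of_Nm hh hb.2.1, by rw [conj_pow, hb.2.2]; simp⟩) with h | h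
  · exfalso
    have pA : IsPGroup 2 A := IsPGroup.of_card hA
    have : Nontrivial A := Finite.one_lt_card_iff_nontrivial.1 (by
      rw [hA]; exact Nat.one_lt_two_pow n.succ_ne_zero)
    have := pA.center_nontrivial
    obtain ⟨k, hk0, hk⟩ := (pA.to_subgroup (center A)).nontrivial_iff_card.1 this
    obtain ⟨z, hz⟩ := exists_prime_orderOf_dvd_card' (G := center A) 2
      (hk ▸ dvd_pow_self 2 hk0.ne')
    have h1 : (z.1 : X) ∈ B := ⟨z.1.2, H93.mem_Ct'.2 fun x hx =>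
      congrArg Subtype.val (mem_center_iff.1 z.2 ⟨x, hx⟩),
      congrArg (fun t : center A => (t.1 : X)) (hz ▸ pow_orderOf_eq_one z)⟩
    rw [h, mem_bot] at h1
    rw [show z = 1 from Subtype.ext (Subtype.ext h1), orderOf_one] at hz
    exact absurd hz (by decide)
  · exact ⟨⟨⟨fun a b => Subtype.ext (H93.mem_Ct'.1 (h.ge b.2).2.1 a a.2)⟩⟩,
      fun a ha => (h.ge ha).2.2⟩

theorem jobF : JobF.{u, v} := by
  classical
  intro X _ _ A H K hA hH KH hAK hsup F _ _ hF hK hmin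
  subst hH
  have simp6 : IsSimpleGroup (PSU 6 F 2) :=
    H59.isSimpleGroup_PSU (q := 2) hF (by decide) (by decide)
  obtain ⟨K₀, n0, ⟨e⟩, hc, hi⟩ : ∃ K₀ : Subgroup K, K₀.Normal ∧ Nonempty (K₀ ≃* PSU 6 F 2) ∧
      centralizer (K₀ : Set K) = ⊥ ∧ ∀ x y, x ∉ K₀ → y ∉ K₀ → x * y ∈ K₀ := by
    rcases hK with ⟨⟨e⟩⟩ | ⟨K₀, h1, h2, h3, h4⟩
    · have := e.isSimpleGroup
      refine ⟨⊤, inferInstance, ⟨topEquiv.trans e⟩, ?_, fun x _ h => absurd trivial h⟩
      rw [coe_top, centralizer_univ]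
      refine (IsSimpleGroup.eq_bot_or_eq_top_of_normal _ inferInstance).resolve_right fun h => ?_
      have := @IsSimpleGroup.prime_card K (Group.commGroupOfCenterEqTop h) this
      rw [Nat.card_congr e.toEquiv, card_PSU6 F hF] at this
      exact Nat.not_prime_of_dvd_of_lt (m := 2) (by decide) le_rfl (by decide) this
    · exact ⟨K₀, h1, h3, h4, fun x y hx hy => by simp [mul_mem_iff_of_index_two h2, hx, hy]⟩
  have := e.isSimpleGroup
  have hN : ∀ N : Subgroup K, N.Normal → N = ⊥ ∨ K₀ ≤ N := fun N hN => by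
    rcases (hN.subgroupOf K₀).eq_bot_or_eq_top with h | h
    · refine Or.inl (eq_bot_iff.2 fun x hx => hc ▸ mem_centralizer_iff.2 fun y hy => ?_)
      exact (commute_of_normal_of_disjoint _ _ hN n0 (subgroupOf_eq_bot.1 h) x y hx hy).eq.symm
    · exact Or.inr (subgroupOf_eq_top.1 h)
  have el := elem hA hmin
  have cm : ∀ a ∈ A, ∀ b ∈ A, a * b = b * a := fun a ha b hb =>
    congrArg Subtype.val (el.1.is_comm.comm ⟨a, ha⟩ ⟨b, hb⟩)
  have dec : ∀ h ∈ normalizer (A : Set X), ∃ a ∈ A, ∃ k ∈ K, h = a * k := fun h hh => by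
    obtain ⟨a, ha, k, hk, e⟩ := (H93.mem_sup_of_le_Nm' KH).1 (hsup ▸ hh)
    exact ⟨a, ha, k, hk, e.symm⟩
  obtain ⟨c, ρ, h1, h2⟩ := H12.exists_matrix_rep el hA
  let ρK : K →* GM := ρ.comp (inclusion KH)
  have inj : Function.Injective ρK := by
    rw [← MonoidHom.ker_eq_bot_iff]
    refine (hN _ inferInstance).resolve_right fun h => ?_
    have h0 : ∀ x ∈ K₀, ∀ a ∈ A, (x : X) * a * (x : X)⁻¹ = a := fun x hx =>
      H93.mem_Ct.1 ((h2 _).1 (h hx))
    obtain ⟨a, ha, a1, fa⟩ : ∃ a ∈ A, a ≠ 1 ∧ ∀ x : K, (x : X) * a * (x : X)⁻¹ = a := by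
      obtain ⟨a, ha, a1⟩ := (bot_or_exists_ne_one A).resolve_left fun e => by
        rw [e, card_bot] at hA
        exact absurd hA (by decide)
      by_cases hk : ∀ x : K, (x : X) * a * (x : X)⁻¹ = a
      · exact ⟨a, ha, a1, hk⟩
      obtain ⟨k, hk⟩ := not_forall.1 hk
      have k0 : k ∉ K₀ := fun e => hk (h0 k e a ha)
      have ka := H93.conj_mem_of_Nm (KH k.2) ha
      refine ⟨_, mul_mem ha ka, fun e => hk ?_, fun x => ?_⟩
      · rw [← inv_eq_of_mul_eq_one_right e, inv_eq_of_mul_eq_one_right (sq a ▸ el.2 a ha)]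
      by_cases hx : x ∈ K₀
      · exact h0 x hx _ (mul_mem ha ka)
      have e1 := h0 _ (hi x k hx k0) a ha
      have e2 := h0 _ (hi k⁻¹ x (fun e => k0 (inv_mem_iff.1 e)) hx) a ha
      simp only [coe_mul, coe_inv] at e1 e2
      calc _ = k * ((k : X)⁻¹ * x * a * ((k : X)⁻¹ * x)⁻¹) * (k : X)⁻¹ *
          ((x : X) * k * a * ((x : X) * k)⁻¹) := by group
        _ = _ := by rw [e1, e2, cm _ ka _ ha]
    rcases hmin (zpowers a) (zpowers_le.2 ha) (fun h hh b hb => by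
      obtain ⟨a', ha', k, hk, rfl⟩ := dec h hh
      obtain ⟨i, rfl⟩ := hb
      have := fa ⟨k, hk⟩
      dsimp only at this ⊢
      rw [← conj_zpow, mul_inv_rev, mul_assoc a', mul_assoc a', ← mul_assoc (k * a), this,
        ← mul_assoc, cm _ ha' _ ha, mul_inv_cancel_right]
      exact zpow_mem_zpowers _ _) with e | e
    · exact a1 (zpowers_eq_bot.1 e)
    · rw [← e, Nat.card_zpowers] at hA
      exact absurd (hA ▸ orderOf_le_of_pow_eq_one two_pos (el.2 a ha)) (by decide)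
  obtain ⟨β, hβ⟩ := exists_beta' F hF (ρK.comp (K₀.subtype.comp e.symm.toMonoidHom))
    (inj.comp (K₀.subtype_injective.comp e.symm.injective))
  have hU : ∀ u, u ∈ U ↔ ∃ x ∈ K₀, β * ρK x * β⁻¹ = u := fun u => by
    rw [← hβ]
    exact ⟨fun ⟨_, ⟨s, hs⟩, h⟩ => ⟨_, (e.symm s).2, by rw [← h, ← hs]; rfl⟩,
      fun ⟨x, hx, h⟩ => ⟨_, ⟨e ⟨x, hx⟩, by simp⟩, h⟩⟩
  have AH : A ≤ normalizer (A : Set X) := le_normalizer
  refine ⟨fun x => if h : x ∈ A then β • (c ⟨x, h⟩).toAdd else 0,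
    fun x => if h : x ∈ normalizer (A : Set X) then β * ρ ⟨x, h⟩ * β⁻¹ else 1, AH, KH,
    fun a ha b hb => ?_, fun a ha h => ?_, fun w => ?_, cm, fun g hg h hh => ?_,
    fun h hh a ha => ?_, fun h hh => ?_, dec, fun k hk h => ?_, fun w hw => ?_,
    fun N hNK hn n1 => ?_⟩
  · simp only [dif_pos ha, dif_pos hb, dif_pos (mul_mem ha hb)]
    rw [← smul_add, ← toAdd_mul, ← map_mul]
    rfl
  · simp only [dif_pos ha, smul_eq_zero_iff_eq, toAdd_eq_zero, map_eq_one_iff _ c.injective] at h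
    exact congrArg Subtype.val h
  · exact ⟨_, (c.symm (.ofAdd (β⁻¹ • w))).2, by simp⟩
  · simp only [dif_pos hg, dif_pos hh, dif_pos (mul_mem hg hh)]
    rw [show ρ ⟨g * h, mul_mem hg hh⟩ = ρ ⟨g, hg⟩ * ρ ⟨h, hh⟩ from map_mul ρ ⟨g, hg⟩ ⟨h, hh⟩]
    group
  · simp only [dif_pos hh, dif_pos ha, dif_pos (H93.conj_mem_of_Nm hh ha)]
    rw [mul_smul, mul_smul, inv_smul_smul]
    exact congrArg (β • ·) (h1 ⟨h, hh⟩ ⟨a, ha⟩).symm
  · obtain ⟨a, ha, k, hk, rfl⟩ := dec h hh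
    intro w hw
    obtain ⟨x, hx, rfl⟩ := (hU w).1 hw
    refine (hU _).2 ⟨_, n0.conj_mem x hx ⟨k, hk⟩, ?_⟩
    have : ρ ⟨a * k, hh⟩ = ρK ⟨k, hk⟩ := by
      rw [show ρ ⟨a * k, hh⟩ = ρ ⟨a, AH ha⟩ * ρK ⟨k, hk⟩ from map_mul ρ ⟨a, AH ha⟩ ⟨k, KH hk⟩,
        (h2 _).2 (mem_centralizer_iff.2 fun b hb => cm b hb a ha), one_mul]
    simp only [dif_pos hh, this, map_mul, map_inv]
    group
  · simp only [dif_pos (KH hk), conj_eq_one_iff] at h
    exact congrArg Subtype.val (inj (a₁ := ⟨k, hk⟩) (a₂ := 1) (h.trans (map_one _).symm))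
  · obtain ⟨x, -, rfl⟩ := (hU w).1 hw
    exact ⟨x, x.2, dif_pos (KH x.2)⟩
  · have h3 : K₀ ≤ N.subgroupOf K := (hN _ ⟨fun n hn' k => hn k k.2 n hn'⟩).resolve_left
      fun h => n1 (by rwa [subgroupOf_eq_bot, disjoint_iff, inf_eq_left.2 hNK] at h)
    obtain ⟨z, hz⟩ := exists_prime_orderOf_dvd_card' (G := K₀) 2 (by
      rw [Nat.card_congr e.toEquiv, card_PSU6 F hF]; decide)
    refine ⟨z.1, h3 z.2, fun h => ?_, ?_⟩
    · rw [show z = 1 from Subtype.ext (Subtype.ext h), orderOf_one] at hz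
      exact absurd hz (by decide)
    · rw [← sq]
      exact congrArg (fun t : K₀ => (t.1 : X)) (hz ▸ pow_orderOf_eq_one z)

end H92.SE
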