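/- Row S3338: strong closure of `2²⁰` when `2²⁰ : U₆(2)` is strongly `3`-embedded. -/
import Cfsg.Agent.H92.SEF
import Cfsg.Agent.H41.C3SC1
import Cfsg.Agent.H1.CoprimeGen

set_option autoImplicit false

open Cfsg H46.BM H39.SE H98 Subgroup

namespace H92.SE

universe u

variable {X : Type u} [Group X] {A H K : Subgroup X} {cl : X → M} {ρ : X → GM} {a b d g h k v w : X}

namespace Fr
variable (F : Fr A H K cl ρ)
include F

theorem one : ρ 1 = 1 := by simpa using F.ρ_mul 1 H.one_mem 1 H.one_mem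

theorem inv (hh : h ∈ H) : ρ h⁻¹ = (ρ h)⁻¹ := by
  rw [eq_inv_iff_mul_eq_one, ← F.ρ_mul _ (inv_mem hh) _ hh, inv_mul_cancel, one F]

theorem pow (hh : h ∈ H) (n : ℕ) : ρ (h ^ n) = ρ h ^ n := by
  induction n with
  | zero => simpa using one F
  | succ n ih => rw [pow_succ, F.ρ_mul _ (pow_mem hh n) _ hh, ih, pow_succ]

theorem sq (ha : a ∈ A) : a * a = 1 :=
  F.cl_ker _ (mul_mem ha ha) (by rw [F.cl_mul a ha a ha, add_self])

theorem invA (ha : a ∈ A) : a⁻¹ = a := inv_eq_of_mul_eq_one_right (sq F ha)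

theorem cl_inj (ha : a ∈ A) (hb : b ∈ A) (e : cl a = cl b) : a = b := by
  have := F.cl_ker _ (mul_mem ha hb) (by rw [F.cl_mul a ha b hb, e, add_self])
  rw [← invA F ha]
  exact inv_eq_of_mul_eq_one_right this

theorem ρA (ha : a ∈ A) : ρ a = 1 := eq_one_of_smul fun v => by
  obtain ⟨b, hb, rfl⟩ := F.cl_surj v
  rw [← F.act a (F.AH ha) b hb, F.comm a ha b hb, mul_inv_cancel_right]

theorem ρ_ak (ha : a ∈ A) (hk : k ∈ H) : ρ (a * k) = ρ k := by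
  rw [F.ρ_mul _ (F.AH ha) _ hk, ρA F ha, one_mul]

theorem memA (hh : h ∈ H) (e : ρ h = 1) : h ∈ A := by
  obtain ⟨a, ha, k, hk, rfl⟩ := F.dec h hh
  rw [ρ_ak F ha (F.KH hk)] at e
  rwa [F.inj k hk e, mul_one]

theorem K_inj (hk : k ∈ K) (hh : h ∈ K) (e : ρ k = ρ h) : k = h :=
  mul_inv_eq_one.1 (F.inj _ (mul_mem hk (inv_mem hh)) (by
    rw [F.ρ_mul _ (F.KH hk) _ (F.KH (inv_mem hh)), inv F (F.KH hh), e, mul_inv_cancel]))

theorem K_comm (hk : k ∈ K) (hh : h ∈ K) (e : ρ k * ρ h = ρ h * ρ k) : k * h = h * k :=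
  K_inj F (mul_mem hk hh) (mul_mem hh hk) (by
    rw [F.ρ_mul _ (F.KH hk) _ (F.KH hh), F.ρ_mul _ (F.KH hh) _ (F.KH hk), e])

theorem ord (hk : k ∈ K) (e : orderOf (ρ k) = 3) : orderOf k = 3 := by
  have := Fact.mk Nat.prime_three
  refine orderOf_eq_prime (F.inj _ (pow_mem hk 3) ?_) ?_
  · rw [pow F (F.KH hk), ← e, pow_orderOf_eq_one]
  · rintro rfl
    rw [one F, orderOf_one] at e
    exact absurd e (by decide)

/-- the image of the elements of `A` in a subgroup -/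
def im (S : Subgroup X) : AddSubgroup M where
  carrier := {m | ∃ a ∈ A, a ∈ S ∧ cl a = m}
  zero_mem' := ⟨1, one_mem _, one_mem _, by simpa using F.cl_mul 1 A.one_mem 1 A.one_mem⟩
  add_mem' := by
    rintro _ _ ⟨a, ha, ha', rfl⟩ ⟨b, hb, hb', rfl⟩
    exact ⟨a * b, mul_mem ha hb, mul_mem ha' hb', F.cl_mul a ha b hb⟩
  neg_mem' := fun h => by rwa [neg_eq]

theorem mem_im {S : Subgroup X} (ha : a ∈ A) (h : cl a ∈ im F S) : a ∈ S := by
  obtain ⟨b, hb, hb', e⟩ := h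
  exact cl_inj F hb ha e ▸ hb'

end Fr

/-- the situation of a counterexample -/
structure St (A H K : Subgroup X) (cl : X → M) (ρ : X → GM) : Prop where
  F : Fr A H K cl ρ
  f : Facts3
  hH : H = normalizer (A : Set X)
  se : ∀ g, g ∉ H → ¬ 3 ∣ Nat.card ↥(H ⊓ H.map (MulAut.conj g).toMonoidHom)

/-- commutes with an element of order three -/
def T (H : Subgroup X) (v : X) : Prop := ∃ d ∈ H, orderOf d = 3 ∧ d * v = v * d

/-- the bad element -/
def Z (A K : Subgroup X) (cl : X → M) (ρ : X → GM) (v : X) : Prop :=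
  ∃ a ∈ A, ∃ k ∈ K, cl a = e 7 ∧ ρ k = tB ∧ v = a * k

/-- fused out of `A` -/
def Out (A H : Subgroup X) (a : X) : Prop := ∃ g, g * a * g⁻¹ ∈ H ∧ g * a * g⁻¹ ∉ A

namespace St
variable [Finite X] (s : St A H K cl ρ)
include s

omit [Finite X] in
theorem cA (hh : h ∈ H) (ha : a ∈ A) : h * a * h⁻¹ ∈ A :=
  conj_mem_of_mem_normalizer (s.hH ▸ hh) ha

omit [Finite X] in
theorem S (hd : d ∈ H) (e : orderOf d = 3) (h : g * d * g⁻¹ ∈ H) : g ∈ H := by
  by_contra n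
  refine s.se g n ?_
  rw [← e, ← (MulAut.conj g).orderOf_eq d]
  exact orderOf_dvd_natCard _ (mem_inf.2 ⟨h, conj_mem_cj hd⟩)

theorem syl {Y : Subgroup X} (hd : d ∈ H) (e : orderOf d = 3) (hY : d ∈ Y) :
    ∃ P, IsSyl 3 P Y ∧ P ≤ H := by
  have := Fact.mk Nat.prime_three
  obtain ⟨P, hP, l⟩ := exists_isSyl_le (p := 3) (H := Y ⊓ H) (H98.isPGroup_zpowers (x := d) (k := 1)
    (by rw [pow_one, ← e, pow_orderOf_eq_one])) (zpowers_le.2 (mem_inf.2 ⟨hY, hd⟩))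
  refine ⟨P, isSyl_of_isSyl_normalizer (hP.of_le (le_inf (hP.le.trans inf_le_left) le_normalizer)
    fun n hn => mem_inf.2 ⟨hn.1, s.S hd e ?_⟩), hP.le.trans inf_le_right⟩
  exact (hP.le (conj_mem_of_mem_normalizer hn.2 (l (mem_zpowers d)))).2

theorem two (h1 : T H v) (h2 : T H (g * v * g⁻¹)) : ∃ h ∈ H, h * v * h⁻¹ = g * v * g⁻¹ := by
  have := Fact.mk Nat.prime_three
  obtain ⟨d, hd, e, c⟩ := h1
  obtain ⟨d', hd', e', c'⟩ := h2
  obtain ⟨P, hP, l⟩ := s.syl (Y := centralizer {g * v * g⁻¹}) hd' e'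
    (mem_centralizer_singleton_iff.2 c')
  obtain ⟨y, hy, l'⟩ := hP.exists_cj_le (H98.isPGroup_zpowers (x := g * d * g⁻¹) (k := 1)
    (by rw [pow_one, conj_pow, ← e, pow_orderOf_eq_one]; simp))
    (zpowers_le.2 (mem_centralizer_singleton_iff.2 (by
      calc _ = g * (d * v) * g⁻¹ := by group
        _ = _ := by rw [c]; group)))
  refine ⟨y * g, s.S hd e ?_, ?_⟩
  · convert l (l' (conj_mem_cj (mem_zpowers _))) using 1
    group
  · calc _ = y * (g * v * g⁻¹) * y⁻¹ := by group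
      _ = _ := by rw [mem_centralizer_singleton_iff.1 hy, mul_inv_cancel_right]

omit [Finite X] in
theorem three (ha : a ∈ A) : T H a := by
  obtain ⟨d, hd, e, f⟩ := s.f.fix3 (cl a)
  obtain ⟨k, hk, rfl⟩ := s.F.onto d hd
  exact ⟨k, s.F.KH hk, Fr.ord s.F hk e, mul_inv_eq_iff_eq_mul.1
    (Fr.cl_inj s.F (s.cA (s.F.KH hk) ha) ha (by rw [s.F.act k (s.F.KH hk) a ha, f]))⟩

omit [Finite X] in
theorem shift {m : X} (ha : a ∈ A) (hb : b ∈ A) (hm : m ∈ A) (hk : k ∈ H)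
    (e : cl b = cl a + (cl m + ρ k • cl m)) : m * (a * k) * m⁻¹ = b * k := by
  have h1 := s.cA hk hm
  rw [← Fr.cl_inj s.F (mul_mem (mul_mem hm ha) h1) hb (by
    rw [s.F.cl_mul _ (mul_mem hm ha) _ h1, s.F.cl_mul _ hm _ ha, s.F.act k hk m hm, e]; abel),
    Fr.invA s.F hm]
  group

theorem four (ha : a ∈ A) (h1 : g * a * g⁻¹ ∈ H) (h2 : g * a * g⁻¹ ∉ A) :
    ∃ h ∈ H, Z A K cl ρ (h * (g * a * g⁻¹) * h⁻¹) := by
  have F := s.F
  have hT : ¬ T H (g * a * g⁻¹) := fun t => by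
    obtain ⟨h, hh, e⟩ := s.two (s.three ha) t
    exact h2 (e ▸ s.cA hh ha)
  have v2 : g * a * g⁻¹ * (g * a * g⁻¹) = 1 := by
    calc _ = g * (a * a) * g⁻¹ := by group
      _ = 1 := by rw [Fr.sq F ha]; group
  obtain ⟨b, hb, k, hk, e⟩ := F.dec _ h1
  rw [e] at h1 h2 hT v2 ⊢
  have kH := F.KH hk
  have r2 : ρ k * ρ k = 1 := by rw [← Fr.ρ_ak F hb kH, ← F.ρ_mul _ h1 _ h1, v2, Fr.one F]
  have k2 : k * k = 1 := F.inj _ (mul_mem hk hk) (by rw [F.ρ_mul _ kH _ kH, r2])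
  have fx : ρ k • cl b = cl b := by
    rw [← F.act k kH b hb, inv_eq_of_mul_eq_one_right k2]
    congr 1
    exact (eq_inv_of_mul_eq_one_right (by rw [← v2]; group)).trans (Fr.invA F hb)
  rcases s.f.bad (ρ k) (F.nor k kH) r2 (fun e => h2 (Fr.memA F h1 (by rwa [Fr.ρ_ak F hb kH])))
    (cl b) fx with ⟨d, hd, o, c, m, em⟩ | ⟨d, hd, m, c, em⟩ <;>
    obtain ⟨k', hk', rfl⟩ := F.onto d hd <;> obtain ⟨m, hm, rfl⟩ := F.cl_surj m <;>
    have k'H := F.KH hk'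
  · exfalso
    have := Fact.mk Nat.prime_three
    have e1 := s.shift hb (s.cA k'H hb) hm kH (by rw [F.act k' k'H b hb, em])
    have xH : m⁻¹ * k' ∈ H := mul_mem (F.AH (inv_mem hm)) k'H
    have e2 : Commute (m⁻¹ * k') (b * k) := by
      calc _ = m⁻¹ * (k' * b * k'⁻¹ * (k' * k)) := by group
        _ = m⁻¹ * (k' * b * k'⁻¹ * k) * k' := by rw [Fr.K_comm F hk' hk c]; group
        _ = _ := by rw [← e1]; group
    have e3 : ρ (m⁻¹ * k') = ρ k' := Fr.ρ_ak F (inv_mem hm) k'H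
    refine hT ⟨_, pow_mem xH 2, orderOf_eq_prime ?_ fun e => ?_, e2.pow_left 2⟩
    · rw [← pow_mul, mul_comm 2, pow_mul, pow_two]
      exact Fr.sq F (Fr.memA F (pow_mem xH 3) (by
        rw [Fr.pow F xH, e3, ← o, pow_orderOf_eq_one]))
    · have := Fr.pow F xH 2
      rw [e, Fr.one F, e3] at this
      exact absurd (o ▸ orderOf_dvd_of_pow_eq_one this.symm) (by decide)
  · obtain ⟨a₀, h0, e0⟩ := F.cl_surj (H46.BM.e 7)
    have hk0 : k' * k * k'⁻¹ ∈ K := mul_mem (mul_mem hk' hk) (inv_mem hk')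
    have r0 : ρ (k' * k * k'⁻¹) = tB := by
      rw [F.ρ_mul _ (mul_mem k'H kH) _ (inv_mem k'H), F.ρ_mul _ k'H _ kH, Fr.inv F k'H, c]
    have e1 := s.shift h0 (s.cA k'H hb) hm (F.KH hk0) (by rw [F.act k' k'H b hb, em, e0, r0])
    refine ⟨m⁻¹ * k', mul_mem (F.AH (inv_mem hm)) k'H, a₀, h0, _, hk0, e0, r0, ?_⟩
    calc _ = m⁻¹ * (k' * b * k'⁻¹ * (k' * k * k'⁻¹)) * m := by group
      _ = _ := by rw [← e1]; group

theorem five (ha : a ∈ A) (hb : b ∈ A) (h1 : Out A H a) (h2 : Out A H b) :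
    qf (cl a) = qf (cl b) := by
  obtain ⟨g, g1, g2⟩ := h1
  obtain ⟨g', g1', g2'⟩ := h2
  obtain ⟨h, -, a1, p1, k1, q1, c1, r1, e1⟩ := s.four ha g1 g2
  obtain ⟨h', -, a2, p2, k2, q2, c2, r2, e2⟩ := s.four hb g1' g2'
  rw [Fr.cl_inj s.F p1 p2 (c1.trans c2.symm), Fr.K_inj s.F q1 q2 (r1.trans r2.symm), ← e2] at e1
  have e3 : (h' * g')⁻¹ * (h * g) * a * ((h' * g')⁻¹ * (h * g))⁻¹ = b := by
    calc _ = (h' * g')⁻¹ * (h * (g * a * g⁻¹) * h⁻¹) * (h' * g') := by group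
      _ = _ := by rw [e1]; group
  obtain ⟨y, hy, e⟩ := s.two (s.three ha) (e3 ▸ s.three hb)
  rw [← e3, ← e, s.F.act y hy a ha, s.f.iso _ (s.F.nor y hy)]

theorem exists_c : ∃ c, ∀ a ∈ A, qf (cl a) = c → ∀ g, g * a * g⁻¹ ∈ H → g * a * g⁻¹ ∈ A := by
  by_cases h : ∃ b ∈ A, Out A H b
  · obtain ⟨b, hb, o⟩ := h
    refine ⟨qf (cl b) + 1, fun a ha e g hg => ?_⟩
    by_contra n
    rw [s.five ha hb ⟨g, hg, n⟩ o] at e
    simp at e
  · refine ⟨0, fun a ha _ g hg => ?_⟩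
    by_contra n
    exact h ⟨a, ha, g, hg, n⟩

theorem weak (h : cj g A ≤ H) : g ∈ H := by
  obtain ⟨c, hc⟩ := s.exists_c
  have := s.f.span c (Fr.im s.F (cj g⁻¹ A)) fun v hv => by
    obtain ⟨a, ha, rfl⟩ := s.F.cl_surj v
    exact ⟨a, ha, mem_cj.2 (by simpa using hc a ha hv g (h (conj_mem_cj ha))), rfl⟩
  exact s.hH ▸ mem_normalizer_of_cj_le (cj_le_iff.2 fun a ha =>
    Fr.mem_im s.F ha (this ▸ AddSubgroup.mem_top _))

theorem cent (hk : k ∈ H) (r : ρ k = tB) :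
    centralizer ((A ⊓ centralizer {k} : Subgroup X) : Set X) ≤ H := by
  have := Fact.mk Nat.prime_three
  have F := s.F
  have mem : ∀ a ∈ A, a ∈ centralizer {k} ↔ tB • cl a = cl a := fun a ha => by
    rw [← r, ← F.act k hk a ha, mem_centralizer_singleton_iff]
    exact ⟨fun e => by rw [← e, mul_inv_cancel_right], fun e =>
      (mul_inv_eq_iff_eq_mul.1 (Fr.cl_inj F (s.cA hk ha) ha e)).symm⟩
  have nrm : ∀ x ∈ H, ρ x * tB = tB * ρ x →
      x ∈ normalizer ((A ⊓ centralizer {k} : Subgroup X) : Set X) := fun x hx c =>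
    mem_normalizer_of_cj_le (by
      rintro _ ⟨a, ha, rfl⟩
      have h1 := s.cA hx ha.1
      refine mem_inf.2 ⟨h1, (mem _ h1).2 ?_⟩
      rw [F.act x hx a ha.1, ← mul_smul, ← c, mul_smul, (mem a ha.1).1 ha.2])
  obtain ⟨d1, u1, d2, u2, o1, o2, c, nz, c1, c2⟩ := s.f.nine
  obtain ⟨k1, hk1, rfl⟩ := F.onto d1 u1
  obtain ⟨k2, hk2, rfl⟩ := F.onto d2 u2
  have n1 := nrm k1 (F.KH hk1) c1
  have n2 := nrm k2 (F.KH hk2) c2
  have p1 := Fr.ord F hk1 o1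
  have p2 := Fr.ord F hk2 o2
  have cm := Fr.K_comm F hk1 hk2 c
  have h4 : ∀ y ∈ centralizer ((A ⊓ centralizer {k} : Subgroup X) : Set X), y ∈ H → y ^ 4 = 1 :=
    fun y hy yH => by
      have := s.f.cfix (ρ y) (s.f.iso _ (F.nor y yH)) fun v hv => by
        obtain ⟨a, ha, rfl⟩ := F.cl_surj v
        rw [← F.act y yH a ha, ← mem_centralizer_iff.1 hy a (mem_inf.2 ⟨ha, (mem a ha).2 hv⟩),
          mul_inv_cancel_right]
      have := Fr.sq F (Fr.memA F (mul_mem yH yH) (by rwa [F.ρ_mul _ yH _ yH]))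
      rw [← this, show 4 = 2 * 2 from rfl, pow_mul, sq, sq]
  generalize A ⊓ centralizer {k} = D at n1 n2 h4
  obtain ⟨P, hP, l⟩ := s.syl (F.KH hk1) p1 n1
  have nY := normalizer_le_normalizer_centralizer D
  have h3 := hP.inf_of_le_normalizer (centralizer_le_normalizer _) (hP.le.trans nY)
  have h5 : ¬ 3 ∣ Nat.card (centralizer (D : Set X)) := h3.eq_bot_iff.1 (eq_bot_iff.2 fun y hy => by
    obtain ⟨i, hi⟩ := isPGroup_iff_forall.1 hP.isPGroup y hy.1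
    exact (pow_eq_one_iff_of_coprime (Nat.Coprime.pow_left i (by decide))).1
      ⟨hi, h4 y hy.2 (l hy.1)⟩)
  have ab : IsMulCommutative (closure {k1, k2}) := isMulCommutative_closure (by
    rintro _ (rfl | rfl) _ (rfl | rfl) <;> simp [cm])
  have e3 : ∀ x ∈ closure ({k1, k2} : Set X), x ^ 3 = 1 := fun x hx => by
    induction hx using closure_induction with
    | mem x hx => rcases hx with rfl | rfl <;> [rw [← p1]; rw [← p2]] <;> exact pow_orderOf_eq_one _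
    | one => simp
    | mul x y hx hy h1 h2 =>
      rw [Commute.mul_pow (congrArg Subtype.val (ab.is_comm.comm ⟨x, hx⟩ ⟨y, hy⟩)), h1, h2, mul_one]
    | inv x _ h => rw [inv_pow, h, inv_one]
  have lE : ∀ L : Subgroup X, k1 ∈ L → k2 ∈ L → closure {k1, k2} ≤ L := fun L h1 h2 =>
    (closure_le _).2 (by rintro _ (rfl | rfl) <;> assumption)
  refine H1.le_of_noncyclic_centralizer_le (A := closure {k1, k2}) (fun hc => nz ?_)
    ((lE _ n1 n2).trans nY) ?_ H fun x hx x1 y hy => ?_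
  · obtain ⟨x, hx⟩ := (Subgroup.isCyclic_iff_exists_zpowers_eq_top _).1 hc
    obtain ⟨i, hi⟩ : k2 ∈ zpowers k1 := by
      rw [eq_of_le_of_card_ge (zpowers_le.2 (subset_closure (by simp) : k1 ∈ closure {k1, k2})) (by
        rw [Nat.card_zpowers, p1, ← hx, Nat.card_zpowers]
        exact orderOf_le_of_pow_eq_one three_pos (e3 x (hx ▸ mem_zpowers x)))]
      exact subset_closure (by simp)
    obtain ⟨j, hj⟩ := mem_powers_iff_mem_zpowers.2 (⟨i, hi⟩ : k2 ∈ zpowers k1)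
    rw [← hj, Fr.pow F (F.KH hk1)]
    exact pow_mem (mem_zpowers _) j
  · obtain ⟨i, hi⟩ := IsPGroup.iff_card.1 (isPGroup_iff_forall.2 fun x hx =>
      ⟨1, by rw [pow_one]; exact e3 x hx⟩ : IsPGroup 3 (closure ({k1, k2} : Set X)))
    rw [hi]
    exact Nat.Coprime.pow_left i ((Nat.Prime.coprime_iff_not_dvd Nat.prime_three).2 h5)
  · have xH := lE H (F.KH hk1) (F.KH hk2) hx
    exact s.S xH (orderOf_eq_prime (e3 x hx) x1) (by
      rwa [mem_centralizer_singleton_iff.1 hy.2, mul_inv_cancel_right])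

theorem closed (ha : a ∈ A) (h1 : g * a * g⁻¹ ∈ H) : g * a * g⁻¹ ∈ A := by
  by_contra h2
  have := Fact.mk Nat.prime_two
  have F := s.F
  obtain ⟨h, hh, a₀, h0, k, hk, -, r, e⟩ := s.four ha h1 h2
  have r' : ρ (h * (g * a * g⁻¹) * h⁻¹) = tB := by rw [e, Fr.ρ_ak F h0 (F.KH hk), r]
  have vH : h * (g * a * g⁻¹) * h⁻¹ ∈ H := mul_mem (mul_mem hh h1) (inv_mem hh)
  have vA : h * (g * a * g⁻¹) * h⁻¹ ∉ A := fun e => h2 (by
    simpa [mul_assoc] using s.cA (inv_mem hh) e)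
  have vB : h * (g * a * g⁻¹) * h⁻¹ ∈ cj (h * g) A := mem_cj.2 (by simpa [mul_assoc] using ha)
  generalize h * (g * a * g⁻¹) * h⁻¹ = v, h * g = x at r' vH vA vB
  have pA : IsPGroup 2 A := isPGroup_iff_forall.2 fun a ha => ⟨1, by
    rw [pow_one, pow_two, Fr.sq F ha]⟩
  have ab : A ≤ centralizer (A : Set X) := fun a ha =>
    mem_centralizer_iff.2 fun b hb => F.comm b hb a ha
  have ab' : ∀ x, cj x A ≤ centralizer (cj x A : Set X) := fun x =>
    cj_centralizer x A ▸ cj_mono x ab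
  have nB : ∀ x, normalizer (cj x A : Set X) = cj x H := fun x => by rw [← cj_normalizer, s.hH]
  obtain ⟨P, hP, l⟩ := exists_isSyl_le (H := centralizer {v} ⊓ cj x H) (isPGroup_cj x pA)
    (le_inf ((ab' x).trans (centralizer_le (by simpa using vB))) (cj_mono x F.AH))
  have hP' : IsSyl 2 P (centralizer {v}) := isSyl_of_isSyl_normalizer (hP.of_le
    (le_inf (hP.le.trans inf_le_left) le_normalizer) fun n hn => mem_inf.2 ⟨hn.1, mem_cj.2 (s.weak (by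
      rw [← cj_cj, ← cj_cj, cj_le_iff, inv_inv]
      exact (cj_le_of_le l hn.2).trans (hP.le.trans inf_le_right)))⟩)
  obtain ⟨y, hy, l'⟩ := hP'.exists_le_cj (pA.to_le inf_le_left) (inf_le_right (a := A))
  have l2 : A ⊓ centralizer {v} ≤ cj (y * x) H :=
    l'.trans (cj_cj y x H ▸ cj_mono y (hP.le.trans inf_le_right))
  have vB' : v ∈ cj (y * x) A := by
    have := conj_mem_cj (g := y) vB
    rwa [cj_cj, mem_centralizer_singleton_iff.1 hy, mul_inv_cancel_right] at this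
  generalize y * x = z at l2 vB'
  obtain ⟨c, hc⟩ := s.exists_c
  have mem : ∀ a ∈ A, a ∈ centralizer {v} ↔ tB • cl a = cl a := fun a ha => by
    rw [← r', ← F.act v vH a ha, mem_centralizer_singleton_iff]
    exact ⟨fun e => by rw [← e, mul_inv_cancel_right], fun e =>
      (mul_inv_eq_iff_eq_mul.1 (Fr.cl_inj F (s.cA vH ha) ha e)).symm⟩
  have l3 := s.f.spanB c (Fr.im F (cj z A)) fun w h1 h2 => by
    obtain ⟨a, ha, rfl⟩ := F.cl_surj w
    refine ⟨a, ha, mem_cj.2 ?_, rfl⟩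
    simpa using hc a ha h2 z⁻¹ (by simpa using mem_cj.1 (l2 (mem_inf.2 ⟨ha, (mem a ha).2 h1⟩)))
  have l4 : A ⊓ centralizer {v} ≤ cj z A := fun a ha =>
    Fr.mem_im F ha.1 (l3 ((mem a ha.1).1 ha.2))
  have zH := s.weak (((ab' z).trans (centralizer_anti l4)).trans (s.cent vH r'))
  exact vA (cj_eq_self (s.hH ▸ zH) ▸ vB')

end St

theorem jobG : JobG.{u} := by
  intro f X _ _ A H K cl ρ F hO hH _
  by_contra hn
  push Not at hn
  have s : St A H K cl ρ := ⟨F, f, hH, hn.2⟩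
  refine hn.1 (hH.trans (normalizer_eq_top_iff.2 (H41.C3.gold_end A (fun _ => Fr.sq F) hO
    (fun v hv g h => s.closed hv (hH ▸ h)) fun N n1 n2 n3 => ?_)))
  by_cases h : N ⊓ K = ⊥
  · refine Or.inl (le_antisymm (fun x hx => ?_) n2)
    obtain ⟨a, ha, k, hk, rfl⟩ := F.dec x (hH ▸ n3 hx)
    have : k ∈ N ⊓ K := mem_inf.2 ⟨(mul_mem_cancel_left (n2 ha)).1 hx, hk⟩
    rw [h, mem_bot] at this
    rwa [this, mul_one]
  · obtain ⟨y, hy, y1, y2⟩ := F.even (N ⊓ K) inf_le_right (fun k hk n hn => mem_inf.2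
      ⟨conj_mem_of_mem_normalizer (n1 (hH.le (F.KH hk))) hn.1,
        mul_mem (mul_mem hk hn.2) (inv_mem hk)⟩) h
    exact Or.inr ⟨y, hy.1, y2, fun e => y1 (F.inj y hy.2 (Fr.ρA F e))⟩

theorem s3338 (hN : JobN) (hM : JobM) {X : Type*} [Group X] [Finite X]
    (hO : oddCore X = ⊥) (A : Subgroup X) (hA : Nat.card A = 2 ^ 20)
    (H : Subgroup X) (hH : H = Subgroup.normalizer (A : Set X))
    (K : Subgroup X) (hKH : K ≤ H) (hAK : A ⊓ K = ⊥) (hHAK : A ⊔ K = H)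
    (F : Type*) [Field F] [Fintype F] (hF : Fintype.card F = 4)
    (hK : Nonempty (K ≃* PSU 6 F 2) ∨
      ∃ K₀ : Subgroup K, K₀.Normal ∧ K₀.index = 2 ∧ Nonempty (K₀ ≃* PSU 6 F 2) ∧
        Subgroup.centralizer (K₀ : Set K) = ⊥)
    (hmin : ∀ B : Subgroup X, B ≤ A → (∀ h ∈ H, ∀ b ∈ B, h * b * h⁻¹ ∈ B) → B = ⊥ ∨ B = A) :
    H = ⊤ ∨ ∃ g : X, g ∉ H ∧ 3 ∣ Nat.card ↥(H ⊓ H.map (MulAut.conj g).toMonoidHom) := by
  obtain ⟨cl, ρ, h⟩ := jobF X A H K hA hH hKH hAK hHAK F hF hK hmin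
  exact jobG (hM hN) X A H K cl ρ h hO hH hmin

end H92.SE
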