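import Cfsg.Agent.H23.BMe
import Cfsg.Agent.H77.SEU
import Cfsg.Agent.H39.SESpec

/-! Chapter SE of `blueprints/PS3B.md`, job `M`: elements of order three of `U₆(2)` on `F₂²⁰`. -/

set_option autoImplicit false

namespace H92.SEM

open Cfsg H46.BM H23.BM H49
open H39.SE (Nor ph tB FactsN Facts3)

/-- `∃` over a list, reducing quickly -/
noncomputable def anyB {α : Type} (p : α → Bool) (L : List α) : Bool := !allB (fun a => !p a) L

theorem of_anyB {α : Type} {p : α → Bool} {L : List α} (h : anyB p L = true) :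
    ∃ a ∈ L, p a = true := by
  rw [anyB, Bool.not_eq_true', ← Bool.not_eq_true, allB_iff] at h
  push Not at h
  obtain ⟨a, h1, h2⟩ := h
  exact ⟨a, h1, by simpa using h2⟩

theorem rp_of {g : GM} {a b : ℕ} (h : Rp g a) (e : Nat.beq a b = true) : Rp g b :=
  Nat.eq_of_beq_eq_true e ▸ h

/-- the linear map of a matrix code -/
def L (X : ℕ) (v : M) : M := (H73.dec2 20 X).mulVec v

theorem L_vd (X u : ℕ) : L X (vd u) = vd (ap X u) := by
  rw [ap_eq]; exact H21.BM.ap_spec X u

theorem L_add (X : ℕ) (u v : M) : L X (u + v) = L X u + L X v := Matrix.mulVec_add _ _ _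

theorem L_zero (X : ℕ) : L X 0 = 0 := Matrix.mulVec_zero _

theorem vd_x (u v : ℕ) : vd (Nat.xor u v) = vd u + vd v := vd_xor u v

variable {s : GM} {a : ℕ}

/-- the projection of the basis vector `j` to the fixed space -/
noncomputable def px (a Y j : ℕ) : ℕ :=
  frc (2 ^ j) fun u => Nat.xor u (ap Y (Nat.xor (ap a u) u))

theorem fixle (h : Rp s a) (Y : ℕ) (S : AddSubgroup M) (H : ∀ j < 20, vd (px a Y j) ∈ S) {v : M}
    (hv : s • v = v) : v ∈ S := by
  have key : ∀ v, v + L Y (s • v + v) ∈ S := fun v => by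
    induction v using M_ind with
    | h0 => rw [smul_zero, add_zero, L_zero, add_zero]; exact S.zero_mem
    | h i v ih =>
      have := H i i.2
      rw [px, frc_eq, vd_x, ← L_vd, vd_x, ← h.smul, vd_pow] at this
      rw [smul_add, add_add_add_comm (s • e i), L_add, add_add_add_comm]
      exact S.add_mem this ih
  have := key v
  rwa [hv, add_self, L_zero, add_zero] at this

/-- `u` and `w` agree modulo `[M, s]` -/
noncomputable def eqv (a Y u w : ℕ) : Bool :=
  frc (Nat.xor u w) fun x => frc (ap Y x) fun z => Nat.beq x (Nat.xor z (ap a z))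

theorem of_eqv (h : Rp s a) {Y u w : ℕ} (H : eqv a Y u w = true) :
    ∃ m, vd u = vd w + (m + s • m) := by
  rw [eqv, frc_eq, frc_eq, Nat.beq_eq] at H
  refine ⟨vd (ap Y (Nat.xor u w)), ?_⟩
  rw [h.smul, ← vd_x, ← H, vd_x, add_comm (vd u), ← add_assoc, add_self, zero_add]

/-- the columns of `F` span the fixed space modulo `[M, s]` -/
noncomputable def cov (a F C Y k : ℕ) : Bool := allN 20 fun j => frc (px a Y j) fun p =>
  frc (ap C p) fun c => andB (Nat.blt c (2 ^ k)) (eqv a Y p (ap F c))

theorem cover (h : Rp s a) {F C Y k : ℕ} (H : cov a F C Y k = true) {v : M} (hv : s • v = v) :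
    ∃ i < 2 ^ k, ∃ m, v = vd (ap F i) + (m + s • m) := by
  let S : AddSubgroup M :=
    { carrier := {v | ∃ i < 2 ^ k, ∃ m, v = vd (ap F i) + (m + s • m)}
      zero_mem' := ⟨0, Nat.two_pow_pos k, 0, by rw [← L_vd, vd_zero, L_zero, smul_zero]; simp⟩
      add_mem' := by
        rintro _ _ ⟨i, hi, m, rfl⟩ ⟨j, hj, n, rfl⟩
        refine ⟨i ^^^ j, Nat.xor_lt_two_pow hi hj, m + n, ?_⟩
        rw [← L_vd F (i ^^^ j), vd_xor, L_add, L_vd, L_vd, smul_add]
        abel
      neg_mem' := fun hv => by rwa [neg_eq] }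
  refine fixle h Y S (fun j hj => ?_) hv
  have := allN_iff.1 H j hj
  rw [frc_eq, frc_eq, andB_iff, Nat.blt_eq] at this
  exact ⟨_, this.1, of_eqv h this.2⟩

/-- depth table -/
def dp (T i : ℕ) : ℕ := Nat.land (Nat.shiftRight T (Nat.mul 4 i)) 15

/-- the words of `W` commute with the element of code `a` -/
noncomputable def cmW (a : ℕ) (w : List ℕ) : Bool := frc (wc w) fun c => Nat.beq (mm c a) (mm a c)

theorem of_cmW (h : Rp s a) {w : List ℕ} (H : cmW a w = true) : wv w * s = s * wv w := by
  rw [cmW, frc_eq] at H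
  exact ((rp_wv w).mul h).beq (h.mul (rp_wv w)) H

/-- a spanning forest of the action of the centralizer on the cosets -/
noncomputable def trC (a F C Y v0 n T : ℕ) (W : List (List ℕ)) (base : ℕ → Bool) : Bool :=
  andB (allB (cmW a) W) (allN n fun i => frc (Nat.xor (ap F i) v0) fun u => orB
    (anyB (fun w => frc (apw w u) fun u' => frc (ap C (Nat.xor u' v0)) fun j =>
      andB (andB (Nat.blt j n) (Nat.blt (dp T j) (dp T i))) (eqv a Y u' (Nat.xor (ap F j) v0))) W)
    (base u))

theorem tree (h : Rp s a) (P : M → Prop) (h1 : ∀ v m, P v → P (v + (m + s • m)))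
    (h2 : ∀ g ∈ U, g * s = s * g → ∀ v, P (g • v) → P v) {base : ℕ → Bool}
    (hb : ∀ u, base u = true → P (vd u)) {F C Y v0 n T : ℕ} {W : List (List ℕ)}
    (H : trC a F C Y v0 n T W base = true) : ∀ i < n, P (vd (Nat.xor (ap F i) v0)) := by
  rw [trC, andB_iff, allB_iff, allN_iff] at H
  refine tree_ind (dp T) fun i hi => ?_
  have := H.2 i hi
  rw [frc_eq, orB_iff] at this
  rcases this with k | k
  · obtain ⟨w, hw, k⟩ := of_anyB k
    rw [frc_eq, frc_eq, andB_iff, andB_iff, Nat.blt_eq, Nat.blt_eq] at k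
    obtain ⟨m, e⟩ := of_eqv h k.2
    refine .inr ⟨_, k.1.1, k.1.2, fun p => h2 _ (wv_U w) (of_cmW h (H.1 w hw)) _ ?_⟩
    rw [wv_smul, e]
    exact h1 _ _ p
  · exact .inl (hb _ k)

/-- the first alternative -/
def Q (s : GM) (v : M) : Prop :=
  ∃ d ∈ U, orderOf d = 3 ∧ d * s = s * d ∧ ∃ m, d • v = v + (m + s • m)

/-- the second alternative -/
def B2 (s : GM) (v : M) : Prop :=
  ∃ g ∈ U, ∃ m, g * s * g⁻¹ = tB ∧ g • v = e 7 + (m + tB • m)

theorem nor_U {g : GM} (hg : g ∈ U) : Nor g := fun _ hu =>
  U.mul_mem (U.mul_mem hg hu) (U.inv_mem hg)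

theorem Q.add {v : M} (m : M) (h : Q s v) : Q s (v + (m + s • m)) := by
  obtain ⟨d, h1, h2, h3, n, h4⟩ := h
  refine ⟨d, h1, h2, h3, n + m + d • m, ?_⟩
  have e : v + (m + s • m) + (n + m + d • m + (s • n + s • m + s • d • m)) =
      v + (n + s • n) + (d • m + s • d • m) + (m + m) + (s • m + s • m) := by abel
  rw [smul_add, smul_add, h4, ← mul_smul, h3, mul_smul, smul_add, smul_add, e, add_self, add_self,
    add_zero, add_zero]

theorem Q.conj {g : GM} (hg : Nor g) {v : M} (h : Q s v) : Q (g * s * g⁻¹) (g • v) := by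
  obtain ⟨d, h1, h2, h3, n, h4⟩ := h
  refine ⟨g * d * g⁻¹, hg d h1, ?_, by rw [conj_mul, conj_mul, h3], g • n, ?_⟩
  · rw [← h2]; exact ((MulAut.conj g).orderOf_eq d :)
  · rw [conj_smul, conj_smul, h4, smul_add, smul_add]

theorem B2.add {v : M} (m : M) (h : B2 s v) : B2 s (v + (m + s • m)) := by
  obtain ⟨g, h1, n, h2, h3⟩ := h
  refine ⟨g, h1, n + g • m, h2, ?_⟩
  rw [smul_add, smul_add, h3, ← conj_smul g s, h2, smul_add]
  abel

theorem B2.conj {g : GM} (hg : g ∈ U) {v : M} (h : B2 s v) : B2 (g * s * g⁻¹) (g • v) := by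
  obtain ⟨k, h1, n, h2, h3⟩ := h
  exact ⟨k * g⁻¹, U.mul_mem h1 (U.inv_mem hg), n, by rw [← h2]; group,
    by rw [mul_smul, inv_smul_smul, h3]⟩

theorem conj_back {g : GM} (h : g * s = s * g) : g⁻¹ * s * g⁻¹⁻¹ = s := by
  rw [inv_inv, mul_assoc, ← h, inv_mul_cancel_left]

theorem Q.back {g : GM} (hg : g ∈ U) (h : g * s = s * g) (v : M) (H : Q s (g • v)) : Q s v := by
  have := H.conj (nor_U (U.inv_mem hg))
  rwa [conj_back h, inv_smul_smul] at this

theorem B2.back {g : GM} (hg : g ∈ U) (h : g * s = s * g) (v : M) (H : B2 s (g • v)) :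
    B2 s v := by
  have := H.conj (U.inv_mem hg)
  rwa [conj_back h, inv_smul_smul] at this

/-- the word has order three -/
noncomputable def o3 (w : List ℕ) : Bool :=
  frc (wc w) fun c => andB (Nat.beq (mm c (mm c c)) one0) (!Nat.beq c one0)

theorem of_o3 {w : List ℕ} (H : o3 w = true) : orderOf (wv w) = 3 := by
  rw [o3, frc_eq, andB_iff, Bool.not_eq_true', ← Bool.not_eq_true] at H
  have : Fact (Nat.Prime 3) := ⟨Nat.prime_three⟩
  refine orderOf_eq_prime ?_ fun e => H.2 ((rp_wv w).beq_of_eq Rp.one e)
  rw [pow_three]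
  exact ((rp_wv w).mul ((rp_wv w).mul (rp_wv w))).beq Rp.one H.1

/-- a word of the list fixes the coset of `u` -/
noncomputable def bQ (a Y : ℕ) (D : List (List ℕ)) (u : ℕ) : Bool :=
  anyB (fun w => eqv a Y (apw w u) u) D

theorem of_bQ (h : Rp s a) {Y : ℕ} {D : List (List ℕ)}
    (hD : allB (fun w => andB (o3 w) (cmW a w)) D = true) (u : ℕ) (H : bQ a Y D u = true) :
    Q s (vd u) := by
  obtain ⟨w, hw, k⟩ := of_anyB H
  have := andB_iff.1 (allB_iff.1 hD w hw)
  exact ⟨wv w, wv_U w, of_o3 this.1, of_cmW h this.2, by rw [wv_smul]; exact of_eqv h k⟩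

theorem allQ (h : Rp s a) (F C Y k T : ℕ) (W D : List (List ℕ))
    (H : andB (andB (cov a F C Y k) (allB (fun w => andB (o3 w) (cmW a w)) D))
      (trC a F C Y 0 (2 ^ k) T W (bQ a Y D)) = true) {v : M} (hv : s • v = v) : Q s v := by
  rw [andB_iff, andB_iff] at H
  obtain ⟨i, hi, m, rfl⟩ := cover h H.1.1 hv
  have := tree h (Q s) (fun _ m p => p.add m) (fun _ => Q.back) (of_bQ h H.1.2) H.2 i hi
  rw [vd_x, vd_zero, add_zero] at this
  exact this.add m

theorem rp_t0 : Rp (t0)
    0x8000040000200001000008000040000200001000008008040000200001000008040040000200001020008100040200200201 :=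
  rp_of (rp_gn 0) (by decide +kernel)

theorem Q_t0 {v : M} (hv : (t0) • v = v) : Q (t0) v :=
  allQ rp_t0
    0x80000400000000020000100000000000000080000400000000020000100000000000000000000
    0x800004000010000080000100000800002000010
    0x40000040000080000400000000000000200000000000000000001000000000000000000000000000000000000000000000
    8
    0x2431234123412221233232323322333223212341223123312433323443253332322122314231323142313241423122212332323233223332243532433324333223323232332233323421232132213321342134214321222123343245432333321340314033103340133041304310433014303130341034301320213032102220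
    [[6], [7], [8], [2, 0, 2], [2, 4, 1, 4, 2]] [[8, 6], [2, 4, 1, 4, 0, 2]] (by decide +kernel) hv

theorem rp_tC : Rp (tB * (b1 * a1 * t0 * a1 * b1))
    0x80000c00002000090000080008400002000010000080080400a220029100b48804844001020028102100891c0402002a162b :=
  rp_of (Rp.mul ((rp_gn 0).mul (((rp_gn 2).mul (rp_gn 0)).mul (rp_gn 2)))
    (((((rp_gn 6).mul (rp_gn 2)).mul (rp_gn 0)).mul (rp_gn 2)).mul (rp_gn 6))) (by decide +kernel)

theorem Q_tC {v : M} (hv : (tB * (b1 * a1 * t0 * a1 * b1)) • v = v) : Q (tB * (b1 * a1 * t0 * a1 * b1)) v :=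
  allQ rp_tC
    0x0
    0x0
    0x4000000000000280035400108001c44022800020402380014800000000000000000000000000000000000000004014100000
    0
    0x0
    [] [[6, 8, 2]] (by decide +kernel) hv

theorem rp_ph : Rp (ph)
    0x80000400002000030000080000c00002000010000180000400002000010000180000400002000030000080000c0000200001 :=
  rp_of (rp_iv _ _) (by decide +kernel)

theorem Q_ph {v : M} (hv : (ph) • v = v) : Q (ph) v :=
  allQ rp_ph
    0x8000040000000000000000000000002000000000000001000008000000000000004000000000000000000000000200001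
    0x8000040000020000040000200000400000200001
    0x100000000004000000000000000800000000000000000000800000000000000100000000004000000000000000
    8
    0x2222343322222222233313233222111133323343111122332224231411330000233333423333222223331434223331223343445222331111222333141122000024343433333322222332142322221111443435443444333322222313111100002433243332334233233314322233312233233423334243422223331211220000
    [[0], [1], [2], [4], [6], [8]] [[1, 0], [4, 2]] (by decide +kernel) hv

theorem rp_tph : Rp (t0 * ph)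
    0x80000400002000030000080000c00002000010000180080400002000010000180400400002000030200083000c0200200201 :=
  rp_of (H92.SEM.rp_t0.mul rp_ph) (by decide +kernel)

theorem Q_tph {v : M} (hv : (t0 * ph) • v = v) : Q (t0 * ph) v :=
  allQ rp_tph
    0x0
    0x0
    0x40000040100000000004000000000000200800000000000000001000800000000000000100000010004000000000000000
    0
    0x0
    [] [[8, 6]] (by decide +kernel) hv

/-- the code of `tB` -/
def cB : ℕ :=
  0x8000040000200001000008000040008200001000808000040040200001004008000040280201401008008040048140240141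

/-- a section of `1 + tB` -/
def YB : ℕ :=
  0x200000200000280001400008000040000000000000000200200000000000000000201000000000000000000000000000000

theorem rp_tB : Rp tB cB := rp_of ((rp_gn 0).mul (((rp_gn 2).mul (rp_gn 0)).mul (rp_gn 2))) (by decide +kernel)

theorem Q_tB {v : M} (hv : tB • v = v) : Q tB v ∨ B2 tB v := by
  obtain ⟨i, hi, m, rfl⟩ := cover rp_tB (F := 0x8000020000800000000040000100004000000000000000000000000000000)
    (C := 0x1000001000280000280) (Y := YB) (k := 4) (by decide +kernel) hv
  have ad : ∀ v m, Q tB v ∨ B2 tB v → Q tB (v + (m + tB • m)) ∨ B2 tB (v + (m + tB • m)) :=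
    fun _ m p => p.imp (Q.add m) (B2.add m)
  have := tree rp_tB (fun v => Q tB v ∨ B2 tB v) ad
    (fun _ h1 h2 v p => p.imp (Q.back h1 h2 v) (B2.back h1 h2 v))
    (base := fun u => orB (bQ cB YB [[3, 4, 3, 2], [6, 2, 8, 4, 1, 4, 8, 2, 6, 6, 2, 0, 2, 6, 4, 9, 4, 3, 4, 3, 2]] u) (eqv cB YB u 128))
    (fun u k => (orB_iff.1 k).imp (of_bQ rp_tB (by decide +kernel) u) fun k => by
      obtain ⟨m, e1⟩ := of_eqv rp_tB k
      exact ⟨1, U.one_mem, m, by group, by rw [one_smul, e1, ← vd_pow 7]; rfl⟩)
    (F := 0x8000020000800000000040000100004000000000000000000000000000000)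
    (C := 0x1000001000280000280) (Y := YB) (v0 := 0) (n := 16) (T := 0x2103031410121200)
    (W := [[2], [3, 4, 3], [6, 2, 0, 2, 6], [6, 2, 8, 4, 1, 4, 8, 2, 6]]) (by decide +kernel) i hi
  rw [vd_x, vd_zero, add_zero] at this
  exact ad _ m this

theorem ap_one {u : ℕ} (hu : u < 2 ^ 20) : ap one0 u = u :=
  vd_inj (ap_lt _ _) hu (by rw [← Rp.one.smul, one_smul])

theorem Q_low {u : ℕ} (hu : u < 1024) : Q 1 (e 19 + vd u) := by
  have := tree Rp.one (Q 1) (fun _ m p => p.add m) (fun _ => Q.back)
    (of_bQ Rp.one (Y := 0) (D := [[2, 4]]) (by decide +kernel)) (F := one0) (C := one0) (Y := 0)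
    (v0 := 524288) (n := 1024)
    (T := 0x4455335511115544222244553344444433441111445544443355445533550000442244222244333322444433333344333322335544223333114422441144222244551111335544553355445511114444222233554455554444554455445500004422334433224433442244332255443333443322443344331155224411443333222244554455444433552222335544444455335522224433225533552244111133443322333333333333334433222222443344223344222222443344224411112233333333223344333333334422334433334433223344332244333322332222445544554455222244554455445522224455555544443333334444443344111133443344334433443344333322334444223333443333333344444444333333332244334444444433333333333344332233443333223333224433444444333333333333332244334422443333333344444444334433333333334433444444222222443333224444332244333333333322443333442244443333334433333333333333333333333333223322222222333322222233222233221133223311441111333333333333222233332222443311114433333322221111224433332233000033444444444444444455334444444444334433442233333311332222112211113344334433444433334433444444443344333344333333222233333322330000)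
    (W := [[2], [3], [4], [5], [6], [7], [8], [9]]) (by decide +kernel) u hu
  rwa [vd_x, ap_one (by omega), ← e19_eq, add_comm] at this

theorem chkA : allN 512 (fun A => Nat.blt (Nat.xor 524288
    (ap (rg A) (Nat.xor 524288 (Nat.mul 1024 A)))) 1024) = true := by decide +kernel

theorem Q_top {v : M} (hv : v 19 = 1) : Q 1 v := by
  obtain ⟨u, hu, rfl⟩ := exists_vd v
  have h1 : u.testBit 19 = true := H21.BM.b2z_eq_one.1 hv
  have h2 : 524288 ≤ u := Nat.ge_two_pow_of_testBit h1
  have hA : (u - 524288) / 1024 < 512 := by omega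
  have e1 : u = (524288 ^^^ 1024 * ((u - 524288) / 1024)) ^^^ u % 1024 := by
    have c : allN 512 (fun A => Nat.beq (Nat.xor 524288 (Nat.mul 1024 A))
      (Nat.mul 1024 (Nat.add 512 A))) = true := by decide +kernel
    have c1 : 524288 ^^^ 1024 * ((u - 524288) / 1024) = 2 ^ 10 * (512 + (u - 524288) / 1024) :=
      Nat.eq_of_beq_eq_true (allN_iff.1 c _ hA)
    have c2 : u % 1024 < 2 ^ 10 := by omega
    rw [c1]
    refine Nat.eq_of_testBit_eq fun i => ?_
    have c3 : u = 2 ^ 10 * (512 + (u - 524288) / 1024) + u % 1024 := by omega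
    rw [Nat.testBit_xor, Nat.testBit_two_pow_mul]
    conv_lhs => rw [c3, Nat.testBit_two_pow_mul_add _ c2]
    by_cases hi : i < 10
    · simp [hi, not_le.2 hi]
    · simp [hi, not_lt.1 hi, Nat.testBit_lt_two_pow
        (c2.trans_le (Nat.pow_le_pow_right (by norm_num) (not_lt.1 hi)))]
  generalize (u - 524288) / 1024 = A at hA e1
  have h3 := r_mem hA
  refine Q.back (R_le_U _ h3) (by rw [mul_one, one_mul]) _ ?_
  have h4 := allN_iff.1 chkA A hA
  rw [Nat.blt_eq] at h4
  obtain ⟨w, hw, e2⟩ := mem_E0.1 ((E (e 0)).add_mem (mem_E0.2 ⟨_, h4, rfl⟩)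
    (E0_smul (R_le_P _ h3) (mem_E0.2 ⟨u % 1024, by omega, rfl⟩)))
  have e3 : r A • vd u = e 19 + vd w := by
    rw [← e2, vd_x, ← e19_eq, ← (rp_r hA).smul, ← add_assoc, ← add_assoc, add_self, zero_add,
      ← smul_add, ← vd_xor]
    exact congrArg (fun z => r A • vd z) e1
  rw [e3]
  exact Q_low hw

theorem fix3 (v : M) : ∃ d ∈ U, orderOf d = 3 ∧ d • v = v := by
  suffices h : Q 1 v by
    obtain ⟨d, h1, h2, -, m, h3⟩ := h
    exact ⟨d, h1, h2, by rwa [one_smul, add_self, add_zero] at h3⟩
  by_cases h : ∀ x ∈ O, bf v x = 0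
  · let S : AddSubgroup M :=
      { carrier := {x | bf v x = 0}
        zero_mem' := (bf_comm _ _).trans (bf_zero_left v)
        add_mem' := fun {x y} (p : bf v x = 0) (q : bf v y = 0) => show bf v (x + y) = 0 by
          rw [bf_add_right, p, q, add_zero]
        neg_mem' := fun hv => by rwa [neg_eq] }
    have h0 : v = 0 := bf_nondeg fun x =>
      ((jobB1 H77.SE.card_U).span S h).ge (AddSubgroup.mem_top x)
    obtain ⟨d, h1, h2, h3, -⟩ := Q_low (u := 0) (by norm_num)
    exact ⟨d, h1, h2, h3, 0, by simp [h0]⟩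
  · push Not at h
    obtain ⟨_, ⟨g, hg, rfl⟩, h⟩ := h
    refine Q.back (U.inv_mem hg) (by rw [mul_one, one_mul]) _ (Q_top ?_)
    rw [← bf_e0 (g⁻¹ • v), ← U_bf hg, smul_inv_smul, bf_comm]
    exact (zmod2_cases _).resolve_left h

theorem spanF (h : Rp s a) (Y : ℕ) (c : Bool) (V : List ℕ)
    (H : allN 20 (fun j => frc (px a Y j) fun p => anyB (fun u => andB
      (andB (Nat.beq (ap a p) p) (Nat.beq (ap a u) u))
      (andB (H21.BM.qc u == c) (H21.BM.qc (Nat.xor p u) == c))) V) = true)
    (S : AddSubgroup M) (hS : ∀ v, s • v = v → qf v = H73.b2z c → v ∈ S) : Fix s ≤ S := by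
  refine fun v hv => fixle h Y S (fun j hj => ?_) hv
  have := allN_iff.1 H j hj
  rw [frc_eq] at this
  obtain ⟨u, -, k⟩ := of_anyB this
  rw [andB_iff, andB_iff, andB_iff, Nat.beq_eq, Nat.beq_eq, beq_iff_eq, beq_iff_eq] at k
  have e1 : s • vd u = vd u := by rw [h.smul, k.1.2]
  have e2 : s • vd (px a Y j) = vd (px a Y j) := by rw [h.smul, k.1.1]
  have := S.add_mem (hS (vd (Nat.xor (px a Y j) u)) (by rw [vd_x, smul_add, e1, e2])
    (k.2.2 ▸ H21.BM.qf_vd _)) (hS _ e1 (k.2.1 ▸ H21.BM.qf_vd _))
  rwa [vd_x, add_assoc, add_self, add_zero] at this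

theorem tB_U : tB ∈ U := U.mul_mem (gn_mem 0) (U.mul_mem (U.mul_mem (gn_mem 2) (gn_mem 0)) (gn_mem 2))

theorem tB_sq : tB * tB = 1 := (rp_tB.mul rp_tB).beq Rp.one (by decide +kernel)

theorem jobM : H39.SE.JobM := fun N =>
  { iso := N.iso
    fix3 := fix3
    bad := fun γ hn h2 h1 v hv => by
      have bk : ∀ {g s : GM}, g * s * g⁻¹ = γ → s • g⁻¹ • v = g⁻¹ • v := by
        rintro g s rfl
        rwa [mul_smul, mul_smul, smul_eq_iff_eq_inv_smul] at hv
      have fw : ∀ {g s : GM}, Nor g → g * s * g⁻¹ = γ → Q s (g⁻¹ • v) → Q γ v := by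
        rintro g s hg rfl p
        have := p.conj hg
        rwa [smul_inv_smul] at this
      change Q γ v ∨ B2 γ v
      by_cases hU : γ ∈ U
      · obtain ⟨g, hg, e1 | e1 | e1⟩ := (jobB1 H77.SE.card_U).invol γ hU h2 h1
        · exact .inl (fw (nor_U hg) e1 (Q_t0 (bk e1)))
        · refine (Q_tB (bk e1)).imp (fw (nor_U hg) e1) fun p => ?_
          have := p.conj hg
          rwa [smul_inv_smul, show g * tB * g⁻¹ = γ from e1] at this
        · exact .inl (fw (nor_U hg) e1 (Q_tC (bk e1)))
      · obtain ⟨g, -, hg, e1⟩ := N.out γ hn h2 hU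
        have tr : ∀ {s : GM}, g * γ * g⁻¹ = s → g⁻¹ * s * g⁻¹⁻¹ = γ := by
          rintro s rfl; group
        rcases e1 with e1 | e1
        · exact .inl (fw hg (tr e1) (Q_ph (bk (tr e1))))
        · exact .inl (fw hg (tr e1) (Q_tph (bk (tr e1))))
    span := fun c S hS => by
      have k : Fix 1 ≤ S := by
        rcases zmod2_cases c with rfl | rfl
        · exact spanF Rp.one 0 false [0] (by decide +kernel) S fun v _ => hS v
        · exact spanF Rp.one 0 true [524289, 262146] (by decide +kernel) S fun v _ => hS v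
      exact eq_top_iff.2 fun v _ => k (one_smul _ v)
    spanB := fun c S hS => by
      rcases zmod2_cases c with rfl | rfl
      · exact spanF rp_tB YB false [0] (by decide +kernel) S hS
      · exact spanF rp_tB YB true [2368, 5248] (by decide +kernel) S hS
    cfix := fun g hg hf => eq_one_of_smul fun v => by
      have h1 : ∀ f, tB • f = f → bf (g • v + v) f = 0 := fun f p => by
        rw [bf_add_left]
        nth_rewrite 1 [← hf f p]
        rw [bf_smul hg, CharTwo.add_self_eq_zero]
      have h2 : tB • (g • v + v) + (g • v + v) = 0 := bf_nondeg fun x => by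
        rw [bf_add_left, ← U_bf tB_U, ← mul_smul, tB_sq, one_smul, ← bf_add_right]
        exact h1 _ (by rw [smul_add, ← mul_smul, tB_sq, one_smul, add_comm])
      have h3 := hf _ ((eq_neg_of_add_eq_zero_left h2).trans (neg_eq _))
      rw [smul_add, add_comm (g • v)] at h3
      rw [mul_smul, add_right_cancel h3]
    nine := by
      let w1 : List ℕ := [3, 4, 3, 2]
      let w2 : List ℕ := [6, 2, 8, 4, 1, 4, 8, 2, 6, 4, 8, 4, 6, 2, 0, 2, 6, 4, 8, 4]
      have o1 : orderOf (wv w1) = 3 := of_o3 (by decide +kernel)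
      refine ⟨wv w1, wv_U _, wv w2, wv_U _, o1, of_o3 (by decide +kernel),
        of_cmW (rp_wv w2) (by decide +kernel), fun h => ?_, of_cmW rp_tB (by decide +kernel),
        of_cmW rp_tB (by decide +kernel)⟩
      classical
      rw [mem_zpowers_iff_mem_range_orderOf, o1, Finset.mem_image] at h
      obtain ⟨i, hi, h⟩ := h
      have hi := Finset.mem_range.1 hi
      interval_cases i
      · exact absurd (Rp.one.beq_of_eq (rp_wv w2) ((pow_zero _).symm.trans h)) (by decide +kernel)
      · exact absurd ((rp_wv w1).beq_of_eq (rp_wv w2) ((pow_one _).symm.trans h))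
          (by decide +kernel)
      · rw [pow_two] at h
        exact absurd (((rp_wv w1).mul (rp_wv w1)).beq_of_eq (rp_wv w2) h) (by decide +kernel) }

end H92.SEM
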