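/- `M₂₄` by its order: a good involution centralizing a Sylow `11`-subgroup (job P2g). -/
import Cfsg.Agent.H45.MSpec4

set_option autoImplicit false

namespace H92.MoP2g
open Cfsg H28 H29 H39 H87 Subgroup H45.MO H45.MN

universe u

theorem core {H : Type*} [Group H] [Finite H] (W : Subgroup H) [W.Normal]
    (h2 : 2 ∣ Nat.card W) (h24 : Nat.card W ∣ 24) (h5 : 5 ∣ Nat.card H) (S : Sylow 2 H) :
    ∃ c ∈ W, orderOf c = 2 ∧ (∀ s ∈ (S : Subgroup H), s * c = c * s) ∧
      ∃ g : H, orderOf g = 5 ∧ g * c = c * g := by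
  have : Fact (Nat.Prime 5) := ⟨by norm_num⟩
  obtain ⟨c, hcW, hcS, hc1, hcc, hcen⟩ := H86.exists_central_involution_mem S h2
    (by rw [normalizer_eq_top]; exact le_top)
  refine ⟨c, hcW, orderOf_eq_prime (by rw [pow_two, hcc]) hc1, hcen, ?_⟩
  set T : Subgroup H := (S : Subgroup H) ⊓ W with hT
  have hF := H13.frattini_inf S W
  have h6 : 5 ∣ Nat.card (normalizer (T : Set H)) := by
    have h7 : W.index ∣ Nat.card (normalizer (T : Set H)) := by
      rw [← relIndex_top_right, ← hF, relIndex_sup_right]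
      exact relIndex_dvd_card _ _
    have h8 : 5 ∣ W.index := by
      rw [← W.index_mul_card] at h5
      refine (Nat.Coprime.dvd_of_dvd_mul_right ?_ h5)
      exact Nat.Coprime.coprime_dvd_right h24 (by norm_num)
    exact h8.trans h7
  obtain ⟨g, hg, hg5⟩ := H43.exists_mem_orderOf 5 h6
  refine ⟨g, hg5, ?_⟩
  have h9 := H83.Ord.conj_modEq (p := 5) (K := T) (hg5 ▸ pow_orderOf_eq_one g) hg
  have hTp : IsPGroup 2 T := S.isPGroup'.to_inf_left
  obtain ⟨i, hi⟩ := hTp.exists_card_eq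
  obtain ⟨j, hj⟩ := (hTp.to_inf_left (K := centralizer ({g} : Set H))).exists_card_eq
  have hT24 : Nat.card T ∣ 24 := (card_dvd_of_le inf_le_right).trans h24
  have hji : Nat.card (T ⊓ centralizer ({g} : Set H) : Subgroup H) ∣ Nat.card T :=
    card_dvd_of_le inf_le_left
  have hi3 : i ≤ 3 := by
    by_contra h
    have : 2 ^ 4 ∣ 24 := (pow_dvd_pow 2 (by omega)).trans (hi ▸ hT24)
    omega
  rw [hi, hj] at h9 hji
  have hj3 : j ≤ i := (Nat.pow_dvd_pow_iff_le_right (by norm_num)).1 hji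
  have hij : i = j := by
    unfold Nat.ModEq at h9
    interval_cases i <;> interval_cases j <;> simp_all
  have heq : T ⊓ centralizer ({g} : Set H) = T :=
    eq_of_le_of_card_ge inf_le_left (by rw [hi, hj, hij])
  have hcT : c ∈ T ⊓ centralizer ({g} : Set H) := by rw [heq]; exact ⟨hcS, hcW⟩
  exact (mem_centralizer_singleton_iff.1 hcT.2).symm

variable {G : Type u} [Group G] [Fintype G]

theorem conj_mem {p : ℕ} [Fact p.Prime] {P : Sylow p G} {V : Subgroup G} (hC : Cpl P V) {n v : G}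
    (hn : n ∈ Nor (P : Subgroup G)) (hv : v ∈ V) : n * v * n⁻¹ ∈ V := by
  have h0 := normal_subgroupOf_centralizer_normalizer ((P : Subgroup G) : Set G)
  have h1 : n * v * n⁻¹ ∈ Cen (P : Subgroup G) :=
    h0.conj_mem ⟨v, centralizer_le_normalizer _ (hC.le hv)⟩ (hC.le hv) ⟨n, hn⟩
  obtain ⟨y, hy, w, hw, h2⟩ := hC.ex _ h1
  by_cases h3 : y = 1
  · rw [h2, h3, one_mul]; exact hw
  · have h4 := hC.dvd_order hy h3 hw
    have h5 : orderOf (n * v * n⁻¹) = orderOf v := (MulAut.conj n).orderOf_eq v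
    rw [← h2, h5] at h4
    exact absurd h4 (hC.reg v hv)

theorem jobP2g : H45.M24.JobP2g.{u} := by
  intro G _ _ e v m hm ⟨n, L, E, s, A⟩
  obtain ⟨hp, P, V, -, -, -, -, -, hC, -, hv, he, -⟩ := A.br
  have hVN : V ≤ Nor (P : Subgroup G) := hC.le.trans (centralizer_le_normalizer _)
  have : (V.subgroupOf (Nor (P : Subgroup G))).Normal :=
    ⟨fun x hx g => conj_mem hC g.2 hx⟩
  have h8 : Nat.card (Nor (P : Subgroup G)) = 11 * e * v := by
    rw [← ((Cen (P : Subgroup G)).subgroupOf (Nor (P : Subgroup G))).index_mul_card,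
      Nat.card_congr (subgroupOfEquivOfLe (centralizer_le_normalizer _)).toEquiv, hC.card_cen,
      ← he, ← hv]
    exact mul_left_comm _ _ _ |>.trans (mul_assoc _ _ _).symm
  have hW : Nat.card (V.subgroupOf (Nor (P : Subgroup G))) = v := by
    rw [Nat.card_congr (subgroupOfEquivOfLe hVN).toEquiv, hv]
  have hnum : 2 ∣ v ∧ v ∣ 24 ∧ 5 ∣ 11 * e * v ∧ ∃ j, m = 55 * 2 ^ j ∧ 2 ^ j ∣ 11 * e * v := by
    simp only [List.mem_cons, Prod.mk.injEq, List.not_mem_nil, or_false] at hm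
    rcases hm with ⟨rfl, rfl, rfl⟩ | ⟨rfl, rfl, rfl⟩ | ⟨rfl, rfl, rfl⟩
    · exact ⟨by norm_num, by norm_num, by norm_num, 1, by norm_num, by norm_num⟩
    · exact ⟨by norm_num, by norm_num, by norm_num, 3, by norm_num, by norm_num⟩
    · exact ⟨by norm_num, by norm_num, by norm_num, 3, by norm_num, by norm_num⟩
  obtain ⟨n2, n24, n5, j, rfl, hj⟩ := hnum
  obtain ⟨S⟩ : Nonempty (Sylow 2 (Nor (P : Subgroup G))) := inferInstance
  obtain ⟨z, hzV, hz, hzS, g, hg, hgz⟩ := core (V.subgroupOf (Nor (P : Subgroup G)))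
    (hW.symm ▸ n2) (hW.symm ▸ n24) (h8.symm ▸ n5) S
  have h4 : (P : Subgroup G) ≤ centralizer {(z : G)} := fun x hx =>
    mem_centralizer_singleton.2 (hC.le hzV x hx)
  have h5 := card_sylow_modEq_one 11 (centralizer {(z : G)})
  have h6 := (Nor (P.subtype h4 : Subgroup (centralizer {(z : G)}))).index_mul_card
  rw [(P.subtype h4).card_eq_index_normalizer] at h5
  have h7 : Nat.card (Nor (P.subtype h4 : Subgroup (centralizer {(z : G)}))) =
      Nat.card (Nor (P : Subgroup G) ⊓ centralizer {(z : G)} : Subgroup G) := by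
    generalize centralizer {(z : G)} = K at h4
    rw [Sylow.coe_subtype, Nor, ← subgroupOf_normalizer_eq h4, ← inf_subgroupOf_right,
      Nat.card_congr (subgroupOfEquivOfLe inf_le_right).toEquiv]
  rw [h7] at h6
  have h9 : 11 ∣ Nat.card (Nor (P : Subgroup G) ⊓ centralizer {(z : G)} : Subgroup G) :=
    hC.card.symm.dvd.trans (card_dvd_of_le (le_inf le_normalizer h4))
  have k5 : 5 ∣ Nat.card (Nor (P : Subgroup G) ⊓ centralizer {(z : G)} : Subgroup G) := by
    have h1 : (g : G) ∈ (Nor (P : Subgroup G) ⊓ centralizer {(z : G)} : Subgroup G) :=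
      ⟨g.2, mem_centralizer_singleton_iff.2 (congrArg Subtype.val hgz)⟩
    have := Subgroup.orderOf_dvd_natCard _ h1
    rwa [orderOf_coe, hg] at this
  have k2 : 2 ^ j ∣ Nat.card (Nor (P : Subgroup G) ⊓ centralizer {(z : G)} : Subgroup G) := by
    have h1 : 2 ^ j ∣ Nat.card (S : Subgroup (Nor (P : Subgroup G))) := by
      rw [S.card_eq_multiplicity]
      refine pow_dvd_pow 2 ((Nat.prime_two.pow_dvd_iff_le_factorization Nat.card_pos.ne').1 ?_)
      rw [h8]; exact hj
    refine h1.trans ?_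
    rw [← card_map_of_injective (Nor (P : Subgroup G)).subtype_injective]
    refine card_dvd_of_le ?_
    rintro _ ⟨x, hx, rfl⟩
    exact ⟨x.2, mem_centralizer_singleton_iff.2 (congrArg Subtype.val (hzS x hx))⟩
  refine ⟨z, by rw [orderOf_coe, hz], _, h8 ▸ card_dvd_of_le inf_le_left, ?_,
    card_dvd_of_le inf_le_right, ?_⟩
  · refine Nat.Coprime.mul_dvd_of_dvd_of_dvd (Nat.Coprime.pow_right _ (by norm_num)) ?_ k2
    exact Nat.Coprime.mul_dvd_of_dvd_of_dvd (m := 11) (n := 5) (by norm_num) h9 k5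
  · rw [cc, ← h6, Nat.mul_div_cancel _ Nat.card_pos]
    exact h5

end H92.MoP2g
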