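import Cfsg.Agent.H92.DP0BSpec

/-! S3275, chapter U0, section B, slot BF. -/

set_option autoImplicit false

namespace H92.DPB

open Subgroup Cfsg H98 H48.DP H57.DPC H48.DP2

universe u

theorem jobBF : JobBF.{u} := by
  intro kl G _ _ E h e1 e2 one big X0 Y0 hX0 hY0 eX0 eY0 hn0
  have : Fact (Nat.Prime 2) := ⟨Nat.prime_two⟩
  by_contra hne0
  obtain ⟨⟨X, Y⟩, ⟨hX, hY, eX, eY, hn⟩, hm⟩ := Set.exists_max_image
    {p : Subgroup G × Subgroup G | IsPGroup 2 p.1 ∧ IsPGroup 2 p.2 ∧ E ≤ No p.1 ∧ E ≤ No p.2 ∧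
      ¬ IsPGroup 2 ↥(p.1 ⊔ p.2)} (fun p => Nat.card ↥(p.1 ⊓ p.2)) (Set.toFinite _)
    ⟨(X0, Y0), hX0, hY0, eX0, eY0, hn0⟩
  simp only at hX hY eX eY hn hm
  have key : ∀ T U : Subgroup G, IsPGroup 2 T → IsPGroup 2 U → E ≤ No T → E ≤ No U →
      X ⊓ Y < T ⊓ U → IsPGroup 2 ↥(T ⊔ U) := fun T U h1 h2 h3 h4 h5 => by
    by_contra h6
    have := hm (T, U) ⟨h1, h2, h3, h4, h6⟩
    exact h5.ne (eq_of_le_of_card_ge h5.le this)
  have hJ : X ⊓ Y ≠ ⊥ := fun e => hne0 (by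
    have := hm (X0, Y0) ⟨hX0, hY0, eX0, eY0, hn0⟩
    simp only [e, card_bot] at this
    exact (card_le_one_iff_eq_bot _).1 this)
  have l1 : X ⊓ Y < X := lt_of_le_of_ne inf_le_left fun e =>
    hn (by rw [sup_eq_right.2 (inf_eq_left.1 e)]; exact hY)
  have l2 : X ⊓ Y < Y := lt_of_le_of_ne inf_le_right fun e =>
    hn (by rw [sup_eq_left.2 (inf_eq_right.1 e)]; exact hX)
  have m1 := lt_inf_normalizer hX l1
  have m2 := lt_inf_normalizer hY l2
  have eJ : E ≤ No (X ⊓ Y) := le_normalizer_inf eX eY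
  have n1 : E ≤ No (X ⊓ No (X ⊓ Y)) := le_normalizer_inf eX (le_normalizer_normalizer eJ)
  have n2 : E ≤ No (Y ⊓ No (X ⊓ Y)) := le_normalizer_inf eY (le_normalizer_normalizer eJ)
  have tw : Tw E (No (X ⊓ Y)) := ⟨_, _, inf_le_right, inf_le_right, hX.to_inf_left,
    hY.to_inf_left, n1, n2, fun hT => by
      have eT := le_normalizer_sup n1 n2
      have h1 := key _ X hT hX eT eX (m1.trans_le (le_inf le_sup_left inf_le_left))
      have h2 := key _ Y h1 hY (le_normalizer_sup eT eX) eY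
        (m2.trans_le (le_inf (le_sup_right.trans le_sup_left) inf_le_left))
      exact hn (h2.to_le (sup_le_sup_right le_sup_right Y))⟩
  have hH : No (X ⊓ Y) ≠ ⊤ := no_ne_top h hX.to_inf_left hJ
  obtain ⟨e, he, he1, tw'⟩ := kl G _ E h hH eJ
    (fun B hB hle => (big _ B hH eJ hB hle).not_tw tw) e1 e2 tw
  exact (one e he he1).not_tw tw'

end H92.DPB
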