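/- Sylow 2-subgroups without normal elementary abelian subgroups of order eight, with a normal
four-group whose involutions are conjugate: the basic facts. -/
import Cfsg.Agent.H92.GHU4
import Cfsg.Agent.H8.TransferEval

set_option autoImplicit false

namespace H92.GC

open Cfsg Subgroup H98 H86.AG H92.MW H92.GU
open scoped commutatorElement

universe u

variable {G : Type u} [Group G] {A B D D₁ D₂ H K S U V : Subgroup G} {a b c d e g s t u v x y z : G}

/-- `Ω₁(Z(K))`. -/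
def om (K : Subgroup G) : Subgroup G where
  carrier := {y | y ∈ K ∧ y ∈ cen K ∧ y * y = 1}
  one_mem' := ⟨one_mem _, one_mem _, mul_one _⟩
  mul_mem' := fun hx hy => ⟨mul_mem hx.1 hy.1, mul_mem hx.2.1 hy.2.1,
    sq_mul hx.2.2 hy.2.2 (mem_cen.1 hy.2.1 _ hx.1)⟩
  inv_mem' := fun hx => by rwa [inv_of_sq hx.2.2]

theorem cn_eq_com (g x : G) : cn g x = ⁅g, x⁆ * x := by simp [cn, commutatorElement_def]

variable [Finite G]

theorem nor_om (hg : g ∈ nor K) : g ∈ nor (om K) := mem_nor fun _ hx =>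
  ⟨nor_cn hg hx.1, nor_cn (normalizer_le_normalizer_centralizer K hg) hx.2.1, cn_sq g hx.2.2⟩

theorem nor_of_card (hA : A ≤ S) (h : Nat.card S = 2 * Nat.card A) : S ≤ nor A :=
  fun s hs => mem_nor fun x hx => by
    by_cases e : s ∈ A
    · exact cn_mem e hx
    · exact mul_mem_of_card hA h (mul_mem hs (hA hx)) (inv_mem hs)
        (fun r => e ((mul_mem_cancel_right hx).1 r)) fun r => e (inv_mem_iff.1 r)

theorem exists_cen (hS : IsPGroup 2 S) (hK : K ≤ S) (n : S ≤ nor K) (h : K ≠ ⊥) :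
    ∃ z ∈ K, z ≠ 1 ∧ z * z = 1 ∧ ∀ s ∈ S, Commute s z := by
  obtain ⟨⟨y, hy⟩, h1⟩ := (ne_bot_iff_exists_ne_one).1 h
  obtain ⟨a, ha, a1, a2, c⟩ := MW.exists_step hS (N := ⊥) hK (fun s _ y hy => by
    rw [mem_bot.1 hy, cn_one]; exact one_mem _) (fun s hs y hy => nor_cn (n hs) hy) bot_le hy
    fun e => h1 (Subtype.ext e)
  exact ⟨a, ha, a1, a2, fun s hs => cn_eq_iff.1 (inv_mul_eq_one.1 (c s hs)).symm⟩

/-- Conjugation of a central element with the centralizer in the Sylow subgroup. -/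
theorem exists_ext (hS : IsSyl 2 S ⊤) (c : ∀ s ∈ S, Commute s z) (e : cn g u = z) :
    ∃ k, cn k u = z ∧ cj k (S ⊓ centralizer {u}) ≤ S := by
  obtain ⟨n, hn, l⟩ := (hS.of_le (K := centralizer {z}) (fun s hs =>
    mem_centralizer_singleton_iff.2 (c s hs)) le_top).exists_cj_le
    (isPGroup_cj g (hS.isPGroup.to_le (inf_le_left : S ⊓ centralizer {u} ≤ S))) (by
      rintro _ ⟨x, hx, rfl⟩
      exact mem_centralizer_singleton_iff.2 (e ▸ cn_comm g (mem_centralizer_singleton_iff.1 hx.2)))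
  exact ⟨n * g, by rw [← cn_cn, e, cn_of_comm (mem_centralizer_singleton_iff.1 hn)],
    by rwa [← cj_cj]⟩

theorem odd_index (hS : IsSyl 2 S ⊤) : Odd S.index := by
  have := hS.not_dvd_relIndex
  rw [relIndex_top_right] at this
  exact Nat.odd_iff.2 (by omega)

omit [Finite G] in
theorem relIndex_two (hA : A ≤ S) (h : Nat.card S = 2 * Nat.card A) [Finite A] :
    A.relIndex S = 2 := by
  rw [← (A.subgroupOf S).index_mul_card, Nat.card_congr (subgroupOfEquivOfLe hA).toEquiv] at h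
  exact Nat.eq_of_mul_eq_mul_right Nat.card_pos h

/-- The standing hypothesis. -/
structure Bs (S U : Subgroup G) : Prop where
  syl : IsSyl 2 S ⊤
  idx : ∀ K : Subgroup G, K.index ≠ 2
  m3 : ¬ PRankLE 2 2 S
  ne8 : ∀ A ≤ S, S ≤ nor A → (∀ x ∈ A, x * x = 1) → Nat.card A ≤ 4
  le : U ≤ S
  nU : S ≤ nor U
  cU : Nat.card U = 4
  sq : ∀ x ∈ U, x * x = 1
  conj : ∀ u ∈ U, ∀ v ∈ U, u ≠ 1 → v ≠ 1 → ∃ g, cn g u = v

namespace Bs
variable (h : Bs S U)
include h

omit [Finite G] in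
theorem two : IsPGroup 2 S := h.syl.isPGroup

omit [Finite G] in
theorem cm (hx : x ∈ U) (hy : y ∈ U) : Commute x y :=
  comm_of_sq (h.sq x hx) (h.sq y hy) (h.sq _ (mul_mem hx hy))

theorem in4 (hz : z ∈ U) (hd : d ∈ U) (z1 : z ≠ 1) (d1 : d ≠ 1) (n : d ≠ z) (hx : x ∈ U) :
    In4 z d x := in4_of_card h.cU h.sq hz hd z1 d1 (fun e => n (by
      rw [eq_inv_of_mul_eq_one_left e, inv_of_sq (h.sq z hz)])) hx

theorem le_of_cen (hA : A ≤ S) (n : S ≤ nor A) (sq : ∀ x ∈ A, x * x = 1) (c : A ≤ cen U) : A ≤ U := by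
  refine le_sup_right.trans (eq_of_le_of_card_ge le_sup_left (h.cU ▸ h.ne8 _ (sup_le h.le hA)
    (le_normalizer_sup h.nU n) fun x hx => ?_)).ge
  obtain ⟨u, hu, a, ha, rfl⟩ := (mem_sup_right_norm (hA.trans h.nU)).1 hx
  exact sq_mul (h.sq u hu) (sq a ha) (mem_cen.1 (c ha) u hu)

theorem cen_mem (hz : z ∈ S) (z2 : z * z = 1) (c : ∀ s ∈ S, Commute s z) : z ∈ U :=
  h.le_of_cen (A := om S) (fun _ hx => hx.1) (fun _ hs => nor_om (le_normalizer hs))
    (fun _ hx => hx.2.2) (fun _ hx => centralizer_anti h.le hx.2.1) ⟨hz, mem_cen.2 c, z2⟩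

theorem exists_z : ∃ z ∈ U, z ≠ 1 ∧ ∀ s ∈ S, Commute s z :=
  let ⟨z, h1, h2, _, h3⟩ := exists_cen h.two h.le h.nU fun e => by simpa [e] using h.cU
  ⟨z, h1, h2, h3⟩

theorem move (hz : z ∈ U) (z1 : z ≠ 1) (c : ∀ s ∈ S, Commute s z) (hs : s ∈ S) (hd : d ∈ U)
    (n : ¬ Commute s d) : cn s d = d * z := by
  have d1 : d ≠ 1 := fun e => n (e ▸ Commute.one_right s)
  rcases h.in4 hz hd z1 d1 (fun e => n (e ▸ c s hs)) (nor_cn (h.nU hs) hd) with e | e | e | e
  · exact absurd (cn_eq_one.1 e) d1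
  · exact absurd (cn_inj.1 (e.trans (cn_of_comm (c s hs)).symm) ▸ c s hs) n
  · exact absurd (cn_eq_iff.1 e) n
  · exact e

theorem mem_cenU (hz : z ∈ U) (z1 : z ≠ 1) (hd : d ∈ U) (d1 : d ≠ 1) (n : d ≠ z) (c : Commute s z)
    (c' : Commute s d) : s ∈ cen U :=
  mem_cen.2 fun _ hx => ((h.in4 hz hd z1 d1 n hx).comm c c').symm

theorem card_Y (n : ¬ S ≤ cen U) : Nat.card S = 2 * Nat.card (S ⊓ cen U :) := by
  obtain ⟨z, hz, z1, c⟩ := h.exists_z
  obtain ⟨s, hs, n⟩ := SetLike.not_le_iff_exists.1 n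
  obtain ⟨d, hd, n'⟩ : ∃ d ∈ U, ¬ Commute s d := by
    by_contra! r
    exact n (mem_cen.2 fun x hx => (r x hx).symm)
  have d1 : d ≠ 1 := fun e => n' (e ▸ Commute.one_right s)
  have dz : d ≠ z := fun e => n' (e ▸ c s hs)
  refine card_two inf_le_left hs (fun e => n e.2) fun x hx => ?_
  by_cases e : Commute x d
  · exact .inl ⟨hx, h.mem_cenU hz z1 hd d1 dz (c x hx) e⟩
  · refine .inr ⟨mul_mem hx hs, h.mem_cenU hz z1 hd d1 dz (c _ (mul_mem hx hs)) (cn_eq_iff.1 ?_)⟩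
    rw [← cn_cn, h.move hz z1 c hs hd n', cn_mul, h.move hz z1 c hx hd e, cn_of_comm (c x hx),
      mul_mul_sq (h.sq z hz)]

theorem nor_cj (l : cj g (S ⊓ cen U) ≤ S) : S ≤ nor (cj g (S ⊓ cen U)) := by
  by_cases n : S ≤ cen U
  · rw [inf_eq_left.2 n] at l ⊢
    rw [cj_eq_self (mem_normalizer_of_cj_le l)]; exact le_normalizer
  · exact nor_of_card l (by rw [card_cj, h.card_Y n])

omit [Finite G] h in
theorem Y_le (hu : u ∈ U) : S ⊓ cen U ≤ S ⊓ centralizer {u} :=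
  inf_le_inf_left _ (centralizer_le (Set.singleton_subset_iff.2 hu))

/-- `U` contains every normal elementary abelian subgroup. -/
theorem uniq (hA : A ≤ S) (n : S ≤ nor A) (sq : ∀ x ∈ A, x * x = 1) : A ≤ U := by
  refine h.le_of_cen hA n sq fun a ha => mem_cen.2 fun d hd => by_contra fun nc => ?_
  obtain ⟨z, hz, z1, c⟩ := h.exists_z
  have e := h.move hz z1 c (hA ha) hd fun r => nc r.symm
  have d1 : d ≠ 1 := fun e => nc (e ▸ Commute.one_left a)
  have zA : z ∈ A := by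
    have := mul_mem (nor_cn (n (inv_mem (h.le hd))) ha) (inv_mem ha)
    rwa [show cn d⁻¹ a * a⁻¹ = d⁻¹ * cn a d by unfold cn; group, e, inv_mul_cancel_left] at this
  have a1 : a ≠ 1 := fun e => nc (e ▸ Commute.one_right d)
  have az : a * z ≠ 1 := fun r => nc (by
    rw [eq_inv_of_mul_eq_one_left r]; exact (c d (h.le hd)).inv_right)
  have k1 : ∀ {x}, x ≠ 1 → x ∉ (⊥ : Subgroup G) := fun e r => e (mem_bot.1 r)
  have cA : Nat.card A = 4 := le_antisymm (h.ne8 A hA n sq) (by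
    simpa using four_le bot_le zA ha (mul_mem ha zA) (k1 z1) (k1 a1) (k1 az)
      (k1 (by rwa [inv_of_sq (h.sq z hz), ← (c a (hA ha)).eq]))
      (k1 (by rwa [(c a (hA ha)).eq, inv_mul_cancel_left])) (k1 (by rwa [inv_mul_cancel_left])))
  have sa : ∀ s ∈ S, Commute (s * s) a := fun s hs => by
    rcases in4_of_card cA sq zA ha z1 a1 az (nor_cn (n hs) ha) with r | r | r | r
    · exact absurd (cn_eq_one.1 r) a1
    · exact absurd (by rw [cn_inj.1 (r.trans (cn_of_comm (c s hs)).symm), h.sq z hz]) az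
    · exact (cn_eq_iff.1 r).mul_left (cn_eq_iff.1 r)
    · exact cn_eq_iff.1 (by rw [← cn_cn, r, cn_mul, r, cn_of_comm (c s hs), mul_mul_sq (h.sq z hz)])
  obtain ⟨g, e1⟩ := h.conj d hd z hz d1 z1
  obtain ⟨g, e1, l⟩ := exists_ext h.syl c e1
  replace l := (cj_mono g (Y_le hd)).trans l
  have nY := h.nor_cj l
  let K := closure {x | ∃ y ∈ cj g (S ⊓ cen U), y * y = x}
  have KS : K ≤ S := (closure_le _).2 (by rintro _ ⟨y, hy, rfl⟩; exact l (mul_mem hy hy))
  have Ka : K ≤ cj g (centralizer {a}) := (closure_le _).2 (by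
    rintro _ ⟨_, ⟨y, hy, rfl⟩, rfl⟩
    exact ⟨y * y, mem_centralizer_singleton_iff.2 (sa y hy.1), map_mul _ _ _⟩)
  by_cases r : K = ⊥
  · have l4 : S ⊓ cen U ≤ U := h.le_of_cen inf_le_left
      (le_normalizer_inf le_normalizer (le_normalizer_centralizer h.nU)) (fun y hy => cn_eq_one.1 (by
        rw [cn_mul]; exact mem_bot.1 (r.le (Subgroup.subset_closure ⟨_, conj_mem_cj hy, rfl⟩))))
      inf_le_right
    have c8 := h.card_Y fun r => nc (mem_cen.1 (r (hA ha)) d hd)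
    have := card_le_of_le l4
    refine h.m3 fun B hB _ => by_contra fun r => nc ?_
    obtain ⟨k, hk⟩ := card_subgroup_dvd_card B
    have : B = ⊤ := eq_top_of_card_eq B (by
      have : 0 < Nat.card S := Nat.card_pos
      rcases k with _ | _ | k
      · omega
      · omega
      · rw [h.cU] at *; nlinarith)
    exact congrArg Subtype.val (setLike_mul_comm (s := B) (a := ⟨d, h.le hd⟩) (b := ⟨a, hA ha⟩)
      (this ▸ mem_top _) (this ▸ mem_top _))
  obtain ⟨w, hw, w1, w2, c'⟩ := exists_cen h.two KS (fun s hs => mem_normalizer_of_cj_le (by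
    rw [cj_le_iff]
    refine (closure_le _).2 ?_
    rintro _ ⟨y, hy, rfl⟩
    refine mem_cj.2 (subset_closure ⟨_, nor_cn (nY hs) hy, ?_⟩)
    unfold cn; group)) r
  have dz : d ≠ z := fun e => nc (e ▸ (c a (hA ha)).symm)
  rcases h.in4 hz hd z1 d1 dz (h.cen_mem (KS hw) w2 c') with r | rfl | rfl | rfl
  · exact w1 r
  · exact nc (mem_centralizer_singleton_iff.1 (conj_mem_cj_iff.1 (e1.symm ▸ Ka hw :)))
  · exact nc (c' a (hA ha)).symm
  · exact nc (by simpa [mul_mul_sq (h.sq z hz)] using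
      ((c' a (hA ha)).mul_right (c a (hA ha))).symm)

theorem omz (hK : K ≤ S) (n : S ≤ nor K) (hx : x ∈ K) (c : x ∈ cen K) (x2 : x * x = 1) : x ∈ U :=
  h.uniq (A := om K) (fun _ hx => hK hx.1) (fun _ hs => nor_om (n hs)) (fun _ hx => hx.2.2) ⟨hx, c, x2⟩

/-- An involution which commutes with its conjugates lies in `U`. -/
theorem mx (hx : x ∈ S) (x2 : x * x = 1) (c : ∀ s ∈ S, Commute x (cn s x)) : x ∈ U := by
  refine h.omz (K := S ⊓ centralizer {y | ∃ s ∈ S, cn s x = y}) inf_le_left (fun s hs => mem_nor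
    fun y hy => ⟨cn_mem hs hy.1, ?_⟩) ⟨hx, ?_⟩ (mem_cen.2 fun y hy => ?_) x2
  · rintro _ ⟨t, ht, rfl⟩
    have := cn_comm s (show Commute _ _ from hy.2 _ ⟨_, mul_mem (inv_mem hs) ht, rfl⟩)
    rwa [cn_cn, mul_inv_cancel_left] at this
  · rintro _ ⟨t, ht, rfl⟩
    exact (c t ht).symm
  · exact (show Commute _ _ from hy.2 x ⟨1, one_mem _, one_cn x⟩).symm

theorem exists_inv : ∃ t ∈ S, t * t = 1 ∧ t ∉ U := by
  by_contra! r
  refine h.m3 fun B _ e => ?_
  rw [← card_map_of_injective S.subtype_injective]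
  refine (card_le_of_le ?_).trans h.cU.le
  rintro _ ⟨x, hx, rfl⟩
  exact r _ x.2 (congrArg Subtype.val ((pow_two x).symm.trans (e x hx)))

/-- The normalizer of `C_S(U)` is transitive on the involutions of `U`. -/
theorem tr (hu : u ∈ U) (hv : v ∈ U) (u1 : u ≠ 1) (v1 : v ≠ 1) :
    ∃ g ∈ nor (S ⊓ cen U), g ∈ nor U ∧ cn g u = v := by
  obtain ⟨z, hz, z1, c⟩ := h.exists_z
  have k : ∀ u ∈ U, u ≠ 1 → ∃ g ∈ nor (S ⊓ cen U), g ∈ nor U ∧ cn g u = z := fun u hu u1 => by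
    obtain ⟨g, e⟩ := h.conj u hu z hz u1 z1
    obtain ⟨g, e, l⟩ := exists_ext h.syl c e
    replace l := (cj_mono g (Y_le hu)).trans l
    have n : g ∈ nor U := mem_nor fun x hx => h.omz l (h.nor_cj l)
      (conj_mem_cj ⟨h.le hx, mem_cen.2 fun y hy => h.cm hy hx⟩)
      ((cj_centralizer g _).le (conj_mem_cj (mem_cen.2 fun y hy => (mem_cen.1 hy.2 x hx).symm)))
      (cn_sq g (h.sq x hx))
    exact ⟨g, mem_normalizer_of_cj_le (le_inf l (cj_le_of_le inf_le_right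
      (normalizer_le_normalizer_centralizer U n))), n, e⟩
  obtain ⟨g, h1, h2, e⟩ := k u hu u1
  obtain ⟨g', h3, h4, e'⟩ := k v hv v1
  exact ⟨g'⁻¹ * g, mul_mem (inv_mem h3) h1, mul_mem (inv_mem h4) h2, by rw [← cn_cn, e, cn_symm e']⟩

/-- Thompson's transfer lemma. -/
theorem thompson (hA : A ≤ S) (c : Nat.card S = 2 * Nat.card A) (t2 : t * t = 1) :
    ∃ g, cn g t ∈ A := by
  by_contra! r
  obtain ⟨N, -, e, -⟩ := H8.thompson_transfer S A (odd_index h.syl) (relIndex_two hA c) t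
    ((pow_two t).trans t2) r
  exact h.idx N e

end Bs

end H92.GC
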