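/- The case of a strongly closed four-group: it is central, there is an automorphism of order three,
and `Ω₁(Z(S/U))` lifts to `ℤ₄ × ℤ₄`. -/
import Cfsg.Agent.H92.GC1
import Cfsg.Agent.S0130
import Cfsg.Agent.S1237
import Cfsg.Agent.S1248

set_option autoImplicit false
set_option linter.unusedSectionVars false

namespace H92.GC

open Cfsg Subgroup H98 H86.AG H92.MW H92.GU
open scoped commutatorElement

universe u

variable {G : Type u} [Group G] {A D E H K S U V : Subgroup G} {a b c d e f g k s t u v w x y z ρ : G}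

theorem mem_of_cop {m n : ℕ} (hc : m.Coprime n) (h1 : g ^ m ∈ K) (h2 : g ^ n ∈ K) : g ∈ K := by
  have := mul_mem (zpow_mem h1 (m.gcdA n)) (zpow_mem h2 (m.gcdB n))
  rwa [← zpow_natCast, ← zpow_natCast, ← zpow_mul, ← zpow_mul, ← zpow_add, ← Nat.gcd_eq_gcd_ab,
    hc.gcd_eq_one, Nat.cast_one, zpow_one] at this

theorem com_mul (s t e : G) : ⁅s * t, e⁆ = cn s ⁅t, e⁆ * ⁅s, e⁆ := by
  simp only [cn, commutatorElement_def]; group

theorem com_mul' (s x y : G) : ⁅s, x * y⁆ = ⁅s, x⁆ * cn x ⁅s, y⁆ := by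
  simp only [cn, commutatorElement_def]; group

/-- Strong closure of `U`. -/
def Sc (S U : Subgroup G) : Prop := ∀ u ∈ U, ∀ g, cn g u ∈ S → cn g u ∈ U

/-- The standing hypothesis in the strongly closed case. -/
structure Cs (S U : Subgroup G) (ρ : G) : Prop extends Bs S U where
  sc : Sc S U
  cS : S ≤ cen U
  ρS : ρ ∈ nor S
  ρU : ρ ∈ nor U
  pel : ∃ k, ρ ^ 3 ^ k = 1
  fp : ∀ u ∈ U, cn ρ u = u → u = 1

variable [Finite G]

namespace Bs
variable (h : Bs S U)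
include h

theorem sc_of (hA : A ≠ ⊥) (c : IsMulCommutative A) (sc : IsStronglyClosed A S) : Sc S U := by
  have n : S ≤ nor A := fun s hs => mem_nor fun x hx => sc.2 x hx s (cn_mem hs (sc.1 hx))
  obtain ⟨z, hz, z1, z2, c'⟩ := exists_cen h.two sc.1 n hA
  intro u hu g e
  have : u ∈ A := by
    by_cases u1 : u = 1
    · exact u1 ▸ one_mem A
    obtain ⟨k, rfl⟩ := h.conj z (h.cen_mem (sc.1 hz) z2 c') u hu z1 u1
    exact sc.2 z hz k (h.le hu)
  exact h.omz sc.1 n (sc.2 u this g e) (mem_cen.2 fun x hx => setLike_mul_comm hx (sc.2 u this g e))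
    (cn_sq g (h.sq u hu))

variable (sc : Sc S U)
include sc

theorem into (hU : U ≤ H) (hV : V ≤ U) (l : cj g V ≤ H) : ∃ n ∈ H, ∀ x ∈ V, cn (n * g) x ∈ U := by
  have pU := h.two.to_le h.le
  obtain ⟨Q, hQ, l'⟩ := exists_isSyl_le pU hU
  obtain ⟨n, hn, e⟩ := hQ.exists_cj_le (isPGroup_cj g (pU.to_le hV)) l
  obtain ⟨m, -, e'⟩ := h.syl.exists_cj_le hQ.isPGroup le_top
  have nm : m ∈ nor U := mem_nor fun x hx => sc x hx m (e' (conj_mem_cj (l' hx)))
  refine ⟨n, hn, fun x hx => (nor_cn_iff nm).1 ?_⟩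
  rw [cn_cn]
  exact sc x (hV hx) _ (by rw [← cn_cn, ← cn_cn]; exact e' (conj_mem_cj (e (conj_mem_cj (conj_mem_cj hx)))))

theorem sc_cen (hx : x ∈ S ⊓ cen U) (hy : cn g x ∈ S) : cn g x ∈ cen U := by
  obtain ⟨z, hz, z1, c⟩ := h.exists_z
  obtain ⟨n, hn, e⟩ := h.into sc (H := centralizer {x}) (V := zpowers z) (g := g⁻¹) (fun u hu =>
    mem_centralizer_singleton_iff.2 (mem_cen.1 hx.2 u hu)) (zpowers_le.2 hz) (by
      rw [cj, MonoidHom.map_zpowers, zpowers_le, mem_centralizer_singleton_iff]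
      exact (inv_cn_cn g x ▸ cn_comm g⁻¹ (c _ hy) :).symm)
  have e1 : cn (n * g⁻¹) (cn g x) = x := by
    rw [← cn_cn, inv_cn_cn, cn_of_comm (mem_centralizer_singleton_iff.1 hn)]
  replace e := e z (mem_zpowers z)
  generalize cn g x = y at *
  generalize n * g⁻¹ = k at *
  have l1 : cj k (zpowers y ⊔ zpowers z) ≤ cen U := by
    rw [cj_sup, cj, cj, MonoidHom.map_zpowers, MonoidHom.map_zpowers]
    exact sup_le (zpowers_le.2 (e1.symm ▸ hx.2 :)) (zpowers_le.2 (mem_cen.2 fun u hu => h.cm hu e))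
  have l2 : U ≤ nor (zpowers y ⊔ zpowers z) := fun u hu => mem_normalizer_of_cj_le (by
    rw [cj_sup, cj, cj, MonoidHom.map_zpowers, MonoidHom.map_zpowers]
    refine sup_le (zpowers_le.2 ?_) (zpowers_le.2 (mem_sup_right ?_))
    · show cn u y ∈ _
      by_cases r : Commute y u
      · rw [cn_of_comm r.symm]; exact mem_sup_left (mem_zpowers y)
      · rw [show cn u y = u * cn y u⁻¹ * y by unfold cn; group, inv_of_sq (h.sq u hu),
          h.move hz z1 c hy hu r, mul_sq_cancel (h.sq u hu)]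
        exact mul_mem (mem_sup_right (mem_zpowers z)) (mem_sup_left (mem_zpowers y))
    · show cn u z ∈ _
      rw [cn_of_comm (c u (h.le hu))]; exact mem_zpowers z)
  obtain ⟨m, hm, e2⟩ := h.into sc (H := nor (cj k (zpowers y ⊔ zpowers z))) (g := k)
    (le_normalizer_of_le_centralizer (le_centralizer_iff.1 l1)) le_rfl
    ((cj_mono k l2).trans (cj_normalizer k _).le)
  refine (nor_cn_iff (normalizer_le_normalizer_centralizer U (mem_nor e2))).1 (l1 ?_)
  rw [← cn_cn]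
  exact nor_cn hm (conj_mem_cj (mem_sup_left (mem_zpowers y)))

theorem cenU : S ≤ cen U := by
  by_contra n
  have c := h.card_Y n
  obtain ⟨x, hx, n⟩ := SetLike.not_le_iff_exists.1 n
  have ev : ∀ k, Even k → x ^ k ∈ S ⊓ cen U := by
    rintro _ ⟨k, rfl⟩
    rw [pow_add]
    exact mul_self_mem_of_index_two (H := (S ⊓ cen U).subgroupOf S) (relIndex_two inf_le_left c)
      ⟨_, pow_mem hx k⟩
  obtain ⟨N, -, e, -⟩ := H8.thompson_transfer_general S _ (odd_index h.syl) (relIndex_two inf_le_left c)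
    x (fun k a hk r => by
      obtain ⟨j, rfl⟩ := hk
      have := h.sc_cen sc (g := a) r (by simpa [cn, mul_assoc] using pow_mem hx _)
      simp only [cn, mul_assoc, mul_inv_cancel_left, mul_inv_cancel, mul_one] at this
      rw [pow_succ] at this
      exact n ((Subgroup.mul_mem_cancel_left _ (mem_inf.1 (ev _ (even_two_mul j))).2).1 this))
    fun k a hk r => ⟨r, by
      simpa [cn] using h.sc_cen sc (g := a⁻¹) (ev k hk) (by simpa [cn] using r)⟩
  exact h.idx N e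

theorem exists_cs : ∃ ρ, Cs S U ρ := by
  have cU := h.cenU sc
  obtain ⟨z, hz, z1, c⟩ := h.exists_z
  obtain ⟨d, hd, n⟩ := exists_not_mem (A := zpowers z) (D := U) (by
    rw [Nat.card_zpowers, h.cU, orderOf_eq_prime ((pow_two z).trans (h.sq z hz)) z1]; omega)
  have d1 : d ≠ 1 := fun e => n (e ▸ one_mem _)
  have dz : d ≠ z := fun e => n (e ▸ mem_zpowers z)
  obtain ⟨g, g1, g2, e⟩ := h.tr hz hd z1 d1
  rw [inf_eq_left.2 cU] at g1
  have gz : g ∉ centralizer {z} := fun r =>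
    dz (e.symm.trans (cn_of_comm (mem_centralizer_singleton_iff.1 r)))
  have sq : ∀ g ∈ nor S, g ^ 2 ∈ centralizer {z} → g ∈ centralizer {z} := fun g hg r => by
    obtain ⟨i, m, hm, e⟩ := Nat.exists_eq_pow_mul_and_not_dvd (orderOf_pos g).ne' 2 (by omega)
    refine mem_of_cop ((Nat.Prime.coprime_iff_not_dvd Nat.prime_two).2 hm) r
      (mem_centralizer_singleton_iff.2 (c _ (h.syl.le_of_le_normalizer' (two_zpowers (n := i) ?_)
        le_top (zpowers_le.2 (pow_mem hg m)) (mem_zpowers _))))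
    rw [← pow_mul, mul_comm, ← e, pow_orderOf_eq_one]
  have cube : g ^ 3 ∈ centralizer {z} := by
    have e2 : cn g d = d * z := by
      rcases h.in4 hz hd z1 d1 dz (nor_cn g2 hd) with r | r | r | r
      · exact absurd (cn_eq_one.1 r) d1
      · exact absurd (sq g g1 (mem_centralizer_singleton_iff.2 (cn_eq_iff.1 (by
          rw [pow_two, ← cn_cn, e, r])))) gz
      · exact absurd (cn_inj.1 (r.trans e.symm)) dz
      · exact r
    refine mem_centralizer_singleton_iff.2 (cn_eq_iff.1 ?_)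
    rw [pow_succ, pow_two, ← cn_cn, ← cn_cn, e, e2, cn_mul, e, e2, (h.cm hd hz).eq,
      mul_mul_sq (h.sq d hd)]
  obtain ⟨i, m, hm, e'⟩ := Nat.exists_eq_pow_mul_and_not_dvd (orderOf_pos g).ne' 3 (by omega)
  have r1 : g ^ m ∉ centralizer {z} := fun r =>
    gz (mem_of_cop ((Nat.Prime.coprime_iff_not_dvd Nat.prime_three).2 hm) cube r)
  refine ⟨g ^ m, h, sc, cU, pow_mem g1 m, pow_mem g2 m,
    ⟨i, by rw [← pow_mul, mul_comm, ← e', pow_orderOf_eq_one]⟩, fun u hu r => by_contra fun u1 => ?_⟩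
  have g1 := pow_mem g1 m
  have g2 := pow_mem g2 m
  generalize g ^ m = ρ at *
  have uz : u ≠ z := fun q => r1 (mem_centralizer_singleton_iff.2 (cn_eq_iff.1 (q ▸ r)))
  refine r1 (sq ρ g1 (mem_centralizer_singleton_iff.2 (cn_eq_iff.1 ?_)))
  rcases h.in4 hz hu z1 u1 uz (nor_cn g2 hz) with q | q | q | q
  · exact absurd (cn_eq_one.1 q) z1
  · rw [pow_two, ← cn_cn, q, q]
  · exact absurd (cn_inj.1 (r.trans q.symm)) uz
  · rw [pow_two, ← cn_cn, q, cn_mul, q, r, mul_sq_cancel (h.sq u hu)]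

end Bs

/-- The preimage of `Ω₁(Z(S/U))`. -/
def EE (h : Cs S U ρ) : Subgroup G where
  carrier := {x | x ∈ S ∧ x * x ∈ U ∧ ∀ s ∈ S, ⁅s, x⁆ ∈ U}
  one_mem' := ⟨one_mem _, by simp, by simp⟩
  mul_mem' := fun {x y} hx hy => ⟨mul_mem hx.1 hy.1, by
    have := mul_mem (mul_mem hx.2.1 (hy.2.2 _ (inv_mem hx.1))) hy.2.1
    convert this using 1; simp only [commutatorElement_def]; group, fun s hs =>
      com_mul' s x y ▸ mul_mem (hx.2.2 s hs) (nor_cn (h.nU hx.1) (hy.2.2 s hs))⟩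
  inv_mem' := fun {x} hx => ⟨inv_mem hx.1, mul_inv_rev x x ▸ inv_mem hx.2.1, fun s hs => by
    have := nor_cn (h.nU (inv_mem hx.1)) (inv_mem (hx.2.2 s hs))
    convert this using 1; simp only [cn, commutatorElement_def]; group⟩

namespace Cs
variable (h : Cs S U ρ)
include h

omit [Finite G] in
theorem cu (hs : s ∈ S) (hu : u ∈ U) : Commute s u := (mem_cen.1 (h.cS hs) u hu).symm

theorem mxU (hx : x ∈ S) (x2 : x * x = 1) (c : ∀ s ∈ S, ⁅s, x⁆ ∈ U) : x ∈ U :=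
  h.mx hx x2 fun s hs => cn_eq_com s x ▸ (h.cu hx (c s hs)).mul_right (Commute.refl x)

theorem inE (hx : x ∈ EE h) (x2 : x * x = 1) : x ∈ U := h.mxU hx.1 x2 hx.2.2

theorem UE : U ≤ EE h := fun _ hu => ⟨h.le hu, mul_mem hu hu, fun _ hs =>
  (commutatorElement_eq_one_iff_commute.2 (h.cu hs hu)).symm ▸ one_mem _⟩

theorem nE (h1 : g ∈ nor S) (h2 : g ∈ nor U) : g ∈ nor (EE h) := mem_nor fun x hx =>
  ⟨nor_cn h1 hx.1, cn_mul g x x ▸ nor_cn h2 hx.2.1, fun s hs => by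
    rw [← cn_inv_cn g s, ← cn_com]; exact nor_cn h2 (hx.2.2 _ (nor_cn (inv_mem h1) hs))⟩

theorem SE : S ≤ nor (EE h) := fun _ hs => h.nE (le_normalizer hs) (h.nU hs)

theorem ρE : ρ ∈ nor (EE h) := h.nE h.ρS h.ρU

theorem cml (hs : s ∈ S) (ht : t ∈ S) (he : e ∈ EE h) : ⁅s * t, e⁆ = ⁅s, e⁆ * ⁅t, e⁆ := by
  rw [com_mul, cn_of_comm (h.cu hs (he.2.2 t ht)), (h.cm (he.2.2 t ht) (he.2.2 s hs)).eq]

theorem cmr (hs : s ∈ S) (hx : x ∈ S) (he : e ∈ EE h) : ⁅s, x * e⁆ = ⁅s, x⁆ * ⁅s, e⁆ := by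
  rw [com_mul', cn_of_comm (h.cu hx (he.2.2 s hs))]

theorem cmi (hs : s ∈ S) (he : e ∈ EE h) : ⁅s⁻¹, e⁆ = ⁅s, e⁆ := by
  have := h.cml (inv_mem hs) hs he
  rw [inv_mul_cancel, commutatorElement_one_left] at this
  rw [eq_inv_of_mul_eq_one_left this.symm, inv_of_sq (h.sq _ (he.2.2 s hs))]

theorem sqD (hs : s ∈ S) : s * s ∈ S ⊓ cen (EE h) := ⟨mul_mem hs hs, mem_cen.2 fun e he =>
  (commutatorElement_eq_one_iff_commute.1 (by rw [h.cml hs hs he, h.sq _ (he.2.2 s hs)])).symm⟩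

theorem comD (hs : s ∈ S) (ht : t ∈ S) : ⁅s, t⁆ ∈ S ⊓ cen (EE h) := by
  have m := mul_mem hs ht
  refine mem_inf.2 ⟨mul_mem (mul_mem m (inv_mem hs)) (inv_mem ht), mem_cen.2 fun e he =>
    (commutatorElement_eq_one_iff_commute.1 ?_).symm⟩
  rw [commutatorElement_def s, h.cml (mul_mem m (inv_mem hs)) (inv_mem ht) he,
    h.cml m (inv_mem hs) he, h.cml hs ht he, h.cmi hs he, h.cmi ht he, mul_assoc]
  exact h.sq _ (mul_mem (he.2.2 s hs) (he.2.2 t ht))

theorem nD : S ≤ nor (S ⊓ cen (EE h)) :=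
  le_normalizer_inf le_normalizer (le_normalizer_centralizer h.SE)

theorem UD : U ≤ S ⊓ cen (EE h) := fun _ hu => ⟨h.le hu, mem_cen.2 fun _ he => h.cu he.1 hu⟩

theorem ρ2 (hu : u ∈ U) (u1 : u ≠ 1) : cn ρ u ≠ u ∧ cn ρ (cn ρ u) = cn ρ u * u := by
  have m := nor_cn h.ρU hu
  have n := mt (h.fp u hu) u1
  refine ⟨n, ?_⟩
  rcases h.in4 hu m u1 (mt cn_eq_one.1 u1) n (nor_cn h.ρU m) with q | q | q | q
  · exact absurd (cn_eq_one.1 (cn_eq_one.1 q)) u1
  · have := h.fp _ (mul_mem hu m) (by rw [cn_mul, q, (h.cm hu m).eq])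
    exact absurd ((eq_inv_of_mul_eq_one_right this).trans (inv_of_sq (h.sq u hu))) n
  · exact absurd (cn_inj.1 q) n
  · exact q

theorem exists_d : ∃ d ∈ EE h, d ∈ cen (EE h) ∧ d ∉ U := by
  by_contra! r
  have l : S ⊓ cen (EE h) ≤ U := fun y hy => by_contra fun n => by
    obtain ⟨a, ha, a1, a2, c⟩ := MW.exists_step h.two inf_le_left (fun s hs y hy => nor_cn (h.nU hs) hy)
      (fun s hs y hy => nor_cn (h.nD hs) hy) h.UD hy n
    refine a1 (r a ⟨ha.1, a2, fun s hs => ?_⟩ ha.2)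
    have := nor_cn (h.nU ha.1) (c s hs)
    convert this using 1; simp only [cn, commutatorElement_def]; group
  obtain ⟨t, ht, t2, n⟩ := h.exists_inv
  exact n (h.mxU ht t2 fun s hs => l (h.comD hs ht))

theorem sqrt (hw : w ∈ U) : ∃ d ∈ EE h, d ∈ cen (EE h) ∧ d * d = w := by
  obtain ⟨d, h1, h2, n⟩ := h.exists_d
  have d1 : d * d ≠ 1 := fun e => n (h.inE h1 e)
  have nC := normalizer_le_normalizer_centralizer _ h.ρE
  rcases h.in4 h1.2.1 (nor_cn h.ρU h1.2.1) d1 (mt cn_eq_one.1 d1) (h.ρ2 h1.2.1 d1).1 hw with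
    rfl | rfl | rfl | rfl
  · exact ⟨1, one_mem _, one_mem _, mul_one _⟩
  · exact ⟨d, h1, h2, rfl⟩
  · exact ⟨_, nor_cn h.ρE h1, nor_cn nC h2, (cn_mul ..).symm⟩
  · exact ⟨_, nor_cn h.ρE (nor_cn h.ρE h1), nor_cn nC (nor_cn nC h2), by
      rw [← cn_mul, ← cn_mul, (h.ρ2 h1.2.1 d1).2]⟩

/-- elements with the same square -/
theorem eq_sq (_hx : x ∈ S) (_hd : d ∈ S) (c : Commute x d) (e : x * x = d * d) :
    d⁻¹ * x * (d⁻¹ * x) = 1 := by
  rw [mul_assoc, ← mul_assoc x, c.inv_right.eq, mul_assoc, e]; group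

theorem abE : EE h ≤ cen (EE h) := fun x hx => by
  obtain ⟨d, h1, h2, e⟩ := h.sqrt hx.2.1
  simpa using mul_mem h2 (h.UD (h.inE (mul_mem (inv_mem h1) hx)
    (h.eq_sq hx.1 h1.1 (mem_cen.1 h2 x hx) e.symm))).2

theorem cE (hx : x ∈ EE h) (hy : y ∈ EE h) : Commute x y := mem_cen.1 (h.abE hy) x hx

theorem card_E : Nat.card (EE h) = 16 := by
  let f : EE h →* G := MonoidHom.mk' (fun x => x * x) fun x y => by
    simp only [coe_mul, mul_assoc]; rw [comm_left (h.cE y.2 x.2)]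
  have e1 : f.range = U := le_antisymm (by rintro _ ⟨x, rfl⟩; exact x.2.2.1) fun w hw =>
    let ⟨d, h1, _, e⟩ := h.sqrt hw
    ⟨⟨d, h1⟩, e⟩
  have e2 : f.ker = U.subgroupOf (EE h) := Subgroup.ext fun x => ⟨h.inE x.2, h.sq x⟩
  rw [← card_mul_index f.ker, index_ker, e1, e2, Nat.card_congr (subgroupOfEquivOfLe h.UE).toEquiv,
    h.cU]

theorem fpE (hx : x ∈ EE h) (e : cn ρ x = x) : x = 1 :=
  h.fp x (h.inE hx (h.fp _ hx.2.1 (by rw [cn_mul, e]))) e

/-- Alperin's theorem on centralizers of abelian normal subgroups. -/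
theorem alp (hx : x ∈ S ⊓ cen (EE h)) (e : x ^ 4 = 1) : x ∈ EE h := by
  have l : EE h ≤ S := fun _ hx => hx.1
  have : ((EE h).subgroupOf S).Normal := normal_subgroupOf_of_le_normalizer h.SE
  refine Cfsg.Agent.S0130.result h.two 2 (by norm_num) ((EE h).subgroupOf S)
    ⟨⟨fun a b => Subtype.ext (Subtype.ext (h.cE a.2 b.2))⟩⟩ (fun a ha => Subtype.ext ?_)
    (fun B hB c e l => le_antisymm (fun b hb => ?_) l) ⟨x, hx.1⟩
    (fun a ha => Subtype.ext (mem_cen.1 hx.2 a ha)) (Subtype.ext e)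
  · show (a : G) ^ (2 * 2) = 1
    rw [pow_mul, pow_two, pow_two]; exact h.sq _ ha.2.1
  have k : ∀ b ∈ B, b * b = 1 → (b : G) ∈ U := fun b hb e => h.mx b.2 (congrArg Subtype.val e)
    fun s hs => congrArg Subtype.val (setLike_mul_comm hb (hB.conj_mem b hb ⟨s, hs⟩))
  obtain ⟨d, h1, -, e'⟩ := h.sqrt (k _ (mul_mem hb hb) (by
    rw [← pow_two, ← pow_two, ← pow_mul]; exact e b hb))
  have dB : (⟨d, h1.1⟩ : S) ∈ B := l h1
  show (b : G) ∈ EE h
  simpa using mul_mem h1 (h.UE (k _ (mul_mem (inv_mem dB) hb) (Subtype.ext (h.eq_sq b.2 h1.1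
    (congrArg Subtype.val (setLike_mul_comm hb dB)) e'.symm))))

theorem invD (hx : x ∈ S ⊓ cen (EE h)) (e : x * x = 1) : x ∈ U :=
  h.inE (h.alp hx (by rw [show 4 = 2 * 2 from rfl, pow_mul, pow_two x, e, one_pow])) e

theorem abD (hx : x ∈ S ⊓ cen (EE h)) (hy : y ∈ S ⊓ cen (EE h)) : Commute x y := by
  have nρ : ρ ∈ nor (S ⊓ cen (EE h)) := le_normalizer_inf (H := zpowers ρ) (zpowers_le.2 h.ρS)
    (le_normalizer_centralizer (zpowers_le.2 h.ρE)) (mem_zpowers ρ)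
  have ED : EE h ≤ S ⊓ cen (EE h) := fun _ hx => ⟨hx.1, h.abE hx⟩
  have iD : ∀ {x}, x ∈ S ⊓ cen (EE h) → x * x = 1 → x ∈ U := h.invD
  have UD := h.UD
  have cD : ∀ e ∈ EE h, ∀ x ∈ S ⊓ cen (EE h), Commute e x := fun e he x hx => mem_cen.1 hx.2 e he
  have pD := h.two.to_le (inf_le_left : S ⊓ cen (EE h) ≤ S)
  generalize S ⊓ cen (EE h) = D at *
  have := Fintype.ofFinite (GaloisField 2 4)
  have hF : Fintype.card (GaloisField 2 4) = 16 := by
    rw [← Nat.card_eq_fintype_card, GaloisField.card 2 4 (by norm_num)]; rfl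
  have o2 : ∀ s : D, orderOf s = 2 → (s : G) ∈ U ∧ (s : G) ≠ 1 := fun s e =>
    ⟨iD s.2 (congrArg Subtype.val ((pow_two s).symm.trans (e ▸ pow_orderOf_eq_one s))),
      fun r => by simp [show s = 1 from Subtype.ext r] at e⟩
  rcases Cfsg.Agent.S1237.result pD (fun B _ e => by
      rw [← card_map_of_injective D.subtype_injective]
      refine (card_le_of_le ?_).trans h.cU.le
      rintro _ ⟨x, hx, rfl⟩
      exact iD x.2 (congrArg Subtype.val ((pow_two x).symm.trans (e x hx))))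
    (fun r => by
      have := r (U.subgroupOf D) ⟨⟨fun a b => Subtype.ext (Subtype.ext (h.cm a.2 b.2))⟩⟩
        fun a ha => Subtype.ext ((pow_two (a : G)).trans (h.sq _ ha))
      rw [Nat.card_congr (subgroupOfEquivOfLe UD).toEquiv, h.cU] at this
      omega)
    (D.normalizerMonoidHom ⟨ρ, nρ⟩) (fun s t hs ht => by
      obtain ⟨h1, s1⟩ := o2 s hs
      rcases h.in4 h1 (nor_cn h.ρU h1) s1 (mt cn_eq_one.1 s1) (h.ρ2 h1 s1).1 (o2 t ht).1 with
        r | r | r | r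
      · exact absurd r (o2 t ht).2
      · exact ⟨0, Subtype.ext r.symm⟩
      · exact ⟨1, Subtype.ext r.symm⟩
      · exact ⟨2, Subtype.ext (r.trans (h.ρ2 h1 s1).2.symm).symm⟩) hF default with ⟨n, -, ⟨e⟩⟩ | ⟨⟨e⟩⟩
  · exact congrArg Subtype.val (e.injective (by rw [map_mul, map_mul, mul_comm]) :
      (⟨x, hx⟩ : D) * ⟨y, hy⟩ = ⟨y, hy⟩ * ⟨x, hx⟩)
  · obtain ⟨d, h1, -, n⟩ := h.exists_d
    have := (Cfsg.Agent.S1248.result hF default).2.1
    have := IsKleinFour.mul_self (⟨e ⟨d, ED h1⟩, mem_center_iff.2 fun g => by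
      obtain ⟨g, rfl⟩ := e.surjective g
      rw [← map_mul, ← map_mul]
      exact congrArg e (Subtype.ext (cD d h1 g g.2).symm)⟩ : center _)
    rw [Subtype.ext_iff, coe_mul, ← map_mul, coe_one, map_eq_one_iff e e.injective] at this
    exact absurd (h.inE h1 (congrArg Subtype.val this)) n

end Cs

end H92.GC
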