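/- The case of a strongly closed four-group is impossible. -/
import Cfsg.Agent.H92.GC2

set_option autoImplicit false
set_option linter.unusedSectionVars false

namespace H92.GC

open Cfsg Subgroup H98 H86.AG H92.MW H92.GU H94.GH
open scoped commutatorElement

universe u

variable {G : Type u} [Group G] {A D L S T U : Subgroup G} {a d e f g k s t u w x y z ρ : G}

/-! ### Matrices over the field with two elements -/

abbrev V2 := ZMod 2 × ZMod 2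
def R2 (v : V2) : V2 := (v.2, v.1 + v.2)
def ph (m : V2 × V2) (v : V2) : V2 := v.1 • m.1 + v.2 • m.2
def rh (m : V2 × V2) : V2 × V2 := (R2 m.2 + R2 m.1, R2 m.1)
def sg (m : V2 × V2) : V2 × V2 := m + rh m + rh (rh m)
def iD : V2 × V2 := ((1, 0), (0, 1))

section
set_option synthInstance.maxSize 1024

theorem mA : ∀ (v : V2) (m : V2 × V2), v ≠ 0 → ph m (ph m v) = ph m v →
    ph (rh m) (ph (rh m) v) = ph (rh m) v → ph (rh (rh m)) (ph (rh (rh m)) v) = ph (rh (rh m)) v →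
    ph (sg m) (ph (sg m) v) = ph (sg m) v → m = 0 ∨ m = iD := by decide
theorem mB : ∀ m : V2 × V2, rh (sg m) = sg m ∧ sg (rh m) = sg m ∧ m + m = 0 ∧
    (sg m = iD → sg (m + iD) = 0) ∧ (sg m = 0 → rh m = m → m = 0) := by decide
theorem mC : ∀ (m : V2 × V2) (v : V2), rh m = m → ph m v = v → v ≠ 0 → m = iD := by decide
theorem mD : ∀ m n : V2 × V2, sg (m + n) = sg m + sg n ∧ (sg m = 0 → m ≠ 0 → sg n = 0 →
    n = 0 ∨ m + n = 0 ∨ rh m + n = 0 ∨ m + rh m + n = 0) := by decide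
theorem mE : ∀ (m : V2 × V2) (v : V2), sg m = 0 → m ≠ 0 → (ph m v = 0 → v = 0) ∧ rh m ≠ 0 ∧
    m + rh m ≠ 0 ∧ m + (m + rh m) ≠ 0 ∧ rh m + (m + rh m) ≠ 0 := by decide
theorem mF : ∀ a b c : V2, a + b = c → a = c + b := by decide
end

variable [Finite G]

theorem card_four (hA : A ≤ D) (hx : x ∈ D) (hy : y ∈ D) (hw : w ∈ D) (h1 : x ∉ A)
    (h2 : y ∉ A) (h3 : w ∉ A) (h4 : x⁻¹ * y ∉ A) (h5 : x⁻¹ * w ∉ A) (h6 : y⁻¹ * w ∉ A)
    (c : ∀ g ∈ D, g ∈ A ∨ x⁻¹ * g ∈ A ∨ y⁻¹ * g ∈ A ∨ w⁻¹ * g ∈ A) :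
    Nat.card D = 4 * Nat.card A := by
  have h := Nat.card_eq_of_bijective _ ⟨coset_inj hx hy hw h1 h2 h3 h4 h5 h6, fun q => by
    obtain ⟨g, rfl⟩ := QuotientGroup.mk_surjective q
    rcases c g g.2 with e | e | e | e
    exacts [⟨0, QuotientGroup.eq.2 (by simpa [mem_subgroupOf] using e)⟩, ⟨1, QuotientGroup.eq.2 e⟩,
      ⟨2, QuotientGroup.eq.2 e⟩, ⟨3, QuotientGroup.eq.2 e⟩]⟩
  rw [card_eq_card_quotient_mul_card_subgroup (A.subgroupOf D),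
    Nat.card_congr (subgroupOfEquivOfLe hA).toEquiv, ← h, Nat.card_eq_fintype_card, Fintype.card_fin]

/-- Coordinates for the action of `S` on `E`. -/
structure Co (h : Cs S U ρ) (co : G → V2) (M : G → V2 × V2) : Prop where
  eq0 : ∀ x ∈ U, co x = 0 ↔ x = 1
  com : ∀ g ∈ S, ∀ e ∈ EE h, co ⁅g, e⁆ = ph (M g) (co (e * e))
  mul : ∀ g ∈ S, ∀ k ∈ S, M (g * k) = M g + M k
  rho : ∀ g ∈ S, M (cn ρ g) = rh (M g)
  ker : ∀ g ∈ S, M g = 0 ↔ g ∈ cen (EE h)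

namespace Cs
variable (h : Cs S U ρ)
include h

theorem com_sq (hs : s ∈ S) (he : e ∈ EE h) (hd : d ∈ EE h) (r : e * e = d * d) :
    ⁅s, e⁆ = ⁅s, d⁆ := by
  have m := h.inE (mul_mem (inv_mem hd) he) (h.eq_sq he.1 hd.1 (h.cE he hd) r)
  rw [← mul_inv_cancel_left d e, h.cmr hs hd.1 (h.UE m),
    commutatorElement_eq_one_iff_commute.2 (h.cu hs m), mul_one]

theorem exists_co : ∃ co M, Co h co M := by
  obtain ⟨e, he, -, n⟩ := h.exists_d
  have he' := nor_cn h.ρE he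
  have w1 : e * e ≠ 1 := fun r => n (h.inE he r)
  obtain ⟨r1, r2⟩ := h.ρ2 he.2.1 w1
  have i4 : ∀ x ∈ U, In4 (e * e) (cn ρ (e * e)) x := fun x hx =>
    h.in4 he.2.1 (nor_cn h.ρU he.2.1) w1 (mt cn_eq_one.1 w1) r1 hx
  obtain ⟨w, hw⟩ : ∃ w, w = e * e := ⟨_, rfl⟩
  obtain ⟨w', hw'⟩ : ∃ w', w' = cn ρ w := ⟨_, rfl⟩
  rw [← hw, ← hw'] at r1 r2 i4
  rw [← hw] at w1
  have m : w ∈ U := hw ▸ he.2.1
  have m' : w' ∈ U := hw' ▸ nor_cn h.ρU m
  let ev : V2 → G := fun v => w' ^ v.2.val * w ^ v.1.val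
  have p : ∀ w ∈ U, ∀ a b : ZMod 2, w ^ (a + b).val = w ^ a.val * w ^ b.val := fun w hw a b => by
    rw [ZMod.val_add, ← pow_add, ← pow_eq_pow_mod _ ((pow_two w).trans (h.sq w hw))]
  have ad : ∀ v v', ev (v + v') = ev v * ev v' := fun v v' => by
    simp only [ev, Prod.fst_add, Prod.snd_add, p _ m, p _ m', mul_assoc]
    rw [comm_left ((h.cm m m').pow_pow _ _)]
  have e0 : ev 0 = 1 := by simp [ev]
  have e1 : ev (1, 0) = w := by simp [ev, ZMod.val_one]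
  have e2 : ev (0, 1) = w' := by simp [ev, ZMod.val_one]
  have e3 : ev (1, 1) = w' * w := by simp [ev, ZMod.val_one]
  have inj : Function.Injective ev := fun v v' r => by
    have : ev (v + v') = 1 := by rw [ad, r, ← ad, show ∀ v : V2, v + v = 0 by decide, e0]
    rcases (show ∀ v v' : V2, v = v' ∨ v + v' = (1, 0) ∨ v + v' = (0, 1) ∨ v + v' = (1, 1) by decide)
      v v' with q | q | q | q
    · exact q
    · exact absurd (e1 ▸ q ▸ this) w1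
    · exact absurd (cn_eq_one.1 (hw' ▸ e2 ▸ q ▸ this)) w1
    · rw [q, e3] at this
      exact absurd ((eq_inv_of_mul_eq_one_left this).trans (inv_of_sq (h.sq w m))) r1
  have li := Function.leftInverse_invFun inj
  generalize Function.invFun ev = co at li
  have sj : ∀ x ∈ U, ∃ v, ev v = x := fun x hx => by
    rcases i4 x hx with rfl | rfl | rfl | rfl
    exacts [⟨_, e0⟩, ⟨_, e1⟩, ⟨_, e2⟩, ⟨_, e3⟩]
  have add : ∀ x ∈ U, ∀ y ∈ U, co (x * y) = co x + co y := fun x hx y hy => by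
    obtain ⟨v, rfl⟩ := sj x hx
    obtain ⟨v', rfl⟩ := sj y hy
    rw [← ad, li, li, li]
  have c0 : co 1 = 0 := e0 ▸ li _
  have c1 : co w = (1, 0) := e1 ▸ li _
  have c2 : co w' = (0, 1) := e2 ▸ li _
  have c3 : co (w' * w) = (1, 1) := e3 ▸ li _
  have eq0 : ∀ x ∈ U, co x = 0 ↔ x = 1 := fun x hx => ⟨fun r => by
    obtain ⟨v, rfl⟩ := sj x hx
    rw [li] at r; rw [r, e0], fun r => r ▸ c0⟩
  have cR : ∀ x ∈ U, co (cn ρ x) = R2 (co x) := fun x hx => by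
    rcases i4 x hx with rfl | rfl | rfl | rfl
    · rw [cn_one, c0]; rfl
    · rw [← hw', c1, c2]; rfl
    · rw [r2, c2, c3]; rfl
    · rw [cn_mul, r2, ← hw', add _ (mul_mem m' m) _ m', c2, c3]; rfl
  have com : ∀ g ∈ S, ∀ x ∈ EE h, co ⁅g, x⁆ = ph (co ⁅g, e⁆, co ⁅g, cn ρ e⁆) (co (x * x)) :=
    fun g hg x hx => by
      have q : w' = cn ρ e * cn ρ e := by rw [hw', hw, cn_mul]
      rcases i4 _ hx.2.1 with r | r | r | r <;> rw [r]
      · rw [h.com_sq hg hx (one_mem _) (r.trans (mul_one 1).symm), commutatorElement_one_right, c0]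
        simp [ph]
      · rw [h.com_sq hg hx he (r.trans hw), c1]; simp [ph]
      · rw [h.com_sq hg hx he' (r.trans q), c2]; simp [ph]
      · rw [h.com_sq hg hx (mul_mem he he') (r.trans (by
          rw [q, hw, (h.cE he he').eq]; simp only [mul_assoc]; rw [comm_left (h.cE he he')])), c3,
          h.cmr hg he.1 he', add _ (he.2.2 g hg) _ (he'.2.2 g hg)]
        simp [ph]
  refine ⟨co, fun g => (co ⁅g, e⁆, co ⁅g, cn ρ e⁆), eq0, com, fun g hg k hk => ?_, fun g hg => ?_,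
    fun g hg => ⟨fun r => mem_cen.2 fun x hx => ?_, fun r => ?_⟩⟩
  · rw [h.cml hg hk he, h.cml hg hk he', add _ (he.2.2 g hg) _ (he.2.2 k hk),
      add _ (he'.2.2 g hg) _ (he'.2.2 k hk)]; rfl
  · have := com _ (nor_cn h.ρS hg) _ (nor_cn h.ρE he')
    rw [← cn_com, ← cn_com, ← cn_mul, ← cn_mul, ← hw, ← hw', r2, c3, cR _ (he.2.2 g hg),
      cR _ (he'.2.2 g hg)] at this
    rw [← cn_com, cR _ (he.2.2 g hg)]
    exact Prod.ext (mF _ _ _ (by simpa [ph] using this.symm)) rfl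
  · refine (commutatorElement_eq_one_iff_commute.1 ((eq0 _ (hx.2.2 g hg)).1 ?_)).symm
    rw [com g hg x hx, r]; simp [ph]
  · rw [commutatorElement_eq_one_iff_commute.2 (mem_cen.1 r e he).symm,
      commutatorElement_eq_one_iff_commute.2 (mem_cen.1 r _ he').symm, c0]; rfl

/-- A conjugate in `S` of an involution outside `U` is outside `U`. -/
theorem out (ht : t ∈ S) (n : t ∉ U) : cn g t ∉ U := fun r =>
  n (inv_cn_cn g t ▸ h.sc _ r g⁻¹ ((inv_cn_cn g t).symm ▸ ht))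

theorem E4 (he : e ∈ EE h) : e⁻¹ * e⁻¹ = e * e := by
  rw [← mul_inv_rev, inv_of_sq (h.sq _ he.2.1)]

end Cs

namespace Co
variable {h : Cs S U ρ} {co : G → V2} {M : G → V2 × V2} (c : Co h co M)
include c

theorem one : M 1 = 0 := (c.ker 1 (one_mem _)).2 (one_mem _)

theorem inv (hg : g ∈ S) : M g⁻¹ = M g := by
  rw [← add_zero (M g⁻¹), ← (mB (M g)).2.2.1, ← add_assoc, ← c.mul _ (inv_mem hg) _ hg,
    inv_mul_cancel, c.one, zero_add]

theorem tr (hg : g ∈ S) : g * cn ρ g * cn ρ (cn ρ g) ∈ S ∧ M (g * cn ρ g * cn ρ (cn ρ g)) = sg (M g) := by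
  have h1 := nor_cn h.ρS hg
  have h2 := nor_cn h.ρS h1
  exact ⟨mul_mem (mul_mem hg h1) h2, by
    rw [c.mul _ (mul_mem hg h1) _ h2, c.mul _ hg _ h1, c.rho _ h1, c.rho _ hg]; rfl⟩

/-- `E` is self-centralizing. -/
theorem DE : S ⊓ cen (EE h) ≤ EE h := fun y hy => by_contra fun n => by
  have ED : EE h ≤ S ⊓ cen (EE h) := fun _ hx => ⟨hx.1, h.abE hx⟩
  obtain ⟨f, hf, f1, f2, q⟩ := MW.exists_step h.two inf_le_left (fun s hs y hy => nor_cn (h.SE hs) hy)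
    (fun s hs y hy => nor_cn (h.nD hs) hy) ED hy n
  have v0 : co (f * f * (f * f)) ≠ 0 := fun r => f1 (h.alp hf (by
    rw [← (c.eq0 _ f2.2.1).1 r]; simp only [pow_succ, pow_zero, one_mul, mul_assoc]))
  have k : ∀ g ∈ S, ph (M g) (ph (M g) (co (f * f * (f * f)))) = ph (M g) (co (f * f * (f * f))) :=
    fun g hg => by
      have ha : ⁅g, f⁆ ∈ EE h := by
        have := nor_cn (h.SE hf.1) (q g hg)
        convert this using 1; simp only [cn, commutatorElement_def]; group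
      have e1 : ⁅g, f * f⁆ = ⁅g, f⁆ * ⁅g, f⁆ := by
        rw [com_mul', cn_of_comm (mem_cen.1 hf.2 _ ha).symm]
      have e2 := commutatorElement_eq_one_iff_commute.2 (h.abD (h.sqD hg) hf)
      rw [com_mul, cn_eq_com, mul_assoc] at e2
      rw [← c.com g hg _ f2, e1, ← c.com g hg _ ha, eq_inv_of_mul_eq_one_left e2,
        inv_of_sq (h.sq _ ha.2.1)]
  have k2 : ∀ g ∈ S, M g = 0 ∨ M g = iD := fun g hg => by
    have h1 := nor_cn h.ρS hg
    refine mA _ _ v0 (k g hg) (c.rho g hg ▸ k _ h1) ?_ ((c.tr hg).2 ▸ k _ (c.tr hg).1)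
    rw [← c.rho g hg, ← c.rho _ h1]; exact k _ (nor_cn h.ρS h1)
  obtain ⟨t, ht, t2, n⟩ := h.exists_inv
  have tD : t ∉ S ⊓ cen (EE h) := fun r => n (h.invD r t2)
  obtain ⟨g, r⟩ := h.thompson inf_le_left (card_two inf_le_left ht tD fun x hx =>
    (k2 x hx).imp (fun r => ⟨hx, (c.ker x hx).1 r⟩) fun r => ⟨mul_mem hx ht,
      (c.ker _ (mul_mem hx ht)).1 (by
        rw [c.mul x hx t ht, r, (k2 t ht).resolve_left fun r => tD ⟨ht, (c.ker t ht).1 r⟩,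
          (mB iD).2.2.1])⟩) t2
  exact h.out ht n (h.invD r (cn_sq g t2))

theorem kerE (hg : g ∈ S) : M g = 0 ↔ g ∈ EE h :=
  ⟨fun r => c.DE ⟨hg, (c.ker g hg).1 r⟩, fun r => (c.ker g hg).2 (h.abE r)⟩

theorem sing (ht : t ∈ S) (t2 : t * t = 1) (n : t ∉ U) : ∃ v, ph (M t) v = v ∧ v ≠ 0 := by
  obtain ⟨s, hs, n⟩ : ∃ s ∈ S, ⁅s, t⁆ ∉ U := by
    by_contra! r
    exact n (h.mxU ht t2 r)
  have ha := c.DE (h.comD hs ht)
  refine ⟨co (⁅s, t⁆ * ⁅s, t⁆), ?_, fun r => n (h.inE ha ((c.eq0 _ ha.2.1).1 r))⟩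
  rw [← c.com t ht _ ha, ← h.E4 ha]
  congr 1
  simp only [commutatorElement_def, mul_inv_rev, inv_inv, inv_of_sq t2, mul_assoc, mul_sq_cancel t2]

/-- The linear parts. -/
theorem lin (hg : g ∈ S) : sg (M g) = 0 ∨ sg (M g) = iD ∧ ∃ τ ∈ S, τ * τ = 1 ∧ τ ∉ U ∧ M τ = iD := by
  obtain ⟨hk, e⟩ := c.tr hg
  generalize g * cn ρ g * cn ρ (cn ρ g) = k at hk e
  have h1 := nor_cn h.ρS hk
  have m : k⁻¹ * cn ρ k ∈ EE h := (c.kerE (mul_mem (inv_mem hk) h1)).1 (by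
    rw [c.mul _ (inv_mem hk) _ h1, c.inv hk, c.rho k hk, e, (mB _).1, (mB _).2.2.1])
  let f : EE h → EE h := fun x => ⟨x * (cn ρ x)⁻¹, mul_mem x.2 (inv_mem (nor_cn h.ρE x.2))⟩
  have hi : Function.Injective f := fun x y r => by
    have r : (x : G) * (cn ρ x)⁻¹ = y * (cn ρ y)⁻¹ := congrArg Subtype.val r
    refine Subtype.ext (inv_mul_eq_one.1 (h.fpE (mul_mem (inv_mem y.2) x.2) ?_)).symm
    rw [cn_mul, cn_inv]
    calc _ = (y : G)⁻¹ * (y * (cn ρ y)⁻¹) * cn ρ x := by group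
      _ = _ := by rw [← r]; group
  obtain ⟨x, r⟩ := Finite.injective_iff_surjective.1 hi ⟨_, m⟩
  replace r : (x : G) * (cn ρ x)⁻¹ = k⁻¹ * cn ρ k := congrArg Subtype.val r
  have fx : cn ρ (k * x) = k * x := by
    rw [cn_mul, ← mul_inv_cancel_left k (cn ρ k), ← r]; group
  have m1 := mul_mem hk x.2.1
  have e1 : M (k * x) = sg (M g) := by rw [c.mul _ hk _ x.2.1, (c.kerE x.2.1).2 x.2, add_zero, e]
  have t2 := h.fpE (c.DE (h.sqD m1)) (by rw [cn_mul, fx])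
  by_cases n : k * x ∈ U
  · exact .inl (e1 ▸ (c.kerE m1).2 (h.UE n))
  · obtain ⟨v, r1, r2⟩ := c.sing m1 t2 n
    have := mC _ v (e1 ▸ (mB _).1) r1 r2
    exact .inr ⟨e1 ▸ this, _, m1, t2, n, this⟩

/-- The semilinear elements. -/
def LL : Subgroup G where
  carrier := {g | g ∈ S ∧ sg (M g) = 0}
  one_mem' := ⟨one_mem _, by rw [c.one]; rfl⟩
  mul_mem' := fun hx hy => ⟨mul_mem hx.1 hy.1, by rw [c.mul _ hx.1 _ hy.1, (mD _ _).1, hx.2, hy.2]; rfl⟩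
  inv_mem' := fun hx => ⟨inv_mem hx.1, (c.inv hx.1).symm ▸ hx.2⟩

theorem EL : EE h ≤ c.LL := fun _ hx => ⟨hx.1, ((c.kerE hx.1).2 hx).symm ▸ rfl⟩

theorem ρL : ρ ∈ nor c.LL := mem_nor fun x hx =>
  ⟨nor_cn h.ρS hx.1, by rw [c.rho x hx.1, (mB _).2.1, hx.2]⟩

theorem kit (ht : t ∈ c.LL) (t2 : t * t = 1) (n : t ∉ U) : (∀ s ∈ c.LL, ⁅s, t⁆ ∈ U) ∧
    (Nat.card S = 2 * Nat.card c.LL → ∃ T, S ⊓ nor T ≤ c.LL ∧ UB S T c.LL ρ) := by
  have t0 : M t ≠ 0 := fun r => n (h.inE ((c.kerE ht.1).1 r) t2)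
  have h1 := nor_cn c.ρL ht
  have h2 := mul_mem ht h1
  have m2 : M (t * cn ρ t) = M t + rh (M t) := by rw [c.mul _ ht.1 _ h1.1, c.rho t ht.1]
  have q : ∀ {x y}, x ∈ c.LL → y ∈ c.LL → (x⁻¹ * y ∈ EE h ↔ M x + M y = 0) := fun hx hy => by
    rw [← c.kerE (mul_mem (inv_mem hx.1) hy.1), c.mul _ (inv_mem hx.1) _ hy.1, c.inv hx.1]
  obtain ⟨-, n1, n2, n3, n4⟩ := mE _ 0 ht.2 t0
  have a1 : t ∉ EE h := mt (c.kerE ht.1).2 t0
  have a2 : cn ρ t ∉ EE h := mt (c.kerE h1.1).2 (c.rho t ht.1 ▸ n1)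
  have a3 : t * cn ρ t ∉ EE h := mt (c.kerE h2.1).2 (m2 ▸ n2)
  have a4 : t⁻¹ * cn ρ t ∉ EE h := mt (q ht h1).1 (c.rho t ht.1 ▸ n2)
  have a5 : t⁻¹ * (t * cn ρ t) ∉ EE h := mt (q ht h2).1 (m2 ▸ n3)
  have a6 : (cn ρ t)⁻¹ * (t * cn ρ t) ∉ EE h := mt (q h1 h2).1 (by rw [m2, c.rho t ht.1]; exact n4)
  have cov : ∀ g ∈ c.LL, g ∈ EE h ∨ t⁻¹ * g ∈ EE h ∨ (cn ρ t)⁻¹ * g ∈ EE h ∨
      (t * cn ρ t)⁻¹ * g ∈ EE h := fun g hg => by
    rw [← c.kerE hg.1, q ht hg, q h1 hg, q h2 hg, m2, c.rho t ht.1]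
    exact (mD _ _).2 ht.2 t0 hg.2
  have cL := card_four c.EL ht h1 h2 a1 a2 a3 a4 a5 a6 cov
  rw [h.card_E] at cL
  have fp : ∀ x ∈ c.LL, cn ρ x = x → x = 1 := fun x hx e =>
    h.fpE ((c.kerE hx.1).1 ((mB _).2.2.2.2 hx.2 (by rw [← c.rho x hx.1, e]))) e
  have f3 : F3 c.LL ρ := by
    obtain ⟨k, hk⟩ := h.pel
    have h1 : EE h ≤ centralizer {ρ ^ 3} := by
      obtain ⟨m, hm⟩ := nine h.ρE hk
      have hd := card_dvd_of_le (inf_le_left : EE h ⊓ centralizer {ρ ^ 3} ≤ EE h)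
      rw [h.card_E] at hm hd
      obtain ⟨j, hj, e⟩ := (Nat.dvd_prime_pow Nat.prime_two).1 (show _ ∣ 2 ^ 4 from hd)
      refine inf_eq_left.1 (eq_of_le_of_card_ge inf_le_left ?_)
      rw [h.card_E]; rw [e] at hm ⊢
      interval_cases j <;> omega
    have h2 : c.LL ≤ centralizer {ρ ^ 3} := by
      obtain ⟨m, hm⟩ := nine c.ρL hk
      have hd := card_dvd_of_le (inf_le_left : c.LL ⊓ centralizer {ρ ^ 3} ≤ c.LL)
      have hl := card_le_of_le (le_inf c.EL h1)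
      rw [cL] at hm hd
      rw [h.card_E] at hl
      obtain ⟨j, hj, e⟩ := (Nat.dvd_prime_pow Nat.prime_two).1 (show _ ∣ 2 ^ 6 from hd)
      refine inf_eq_left.1 (eq_of_le_of_card_ge inf_le_left ?_)
      rw [cL]; rw [e] at hm hl ⊢
      interval_cases j <;> omega
    refine ⟨h.two.to_le fun _ hx => hx.1, c.ρL, fun x hx => tri_of c.ρL (fun y hy => ?_) fp hx⟩
    rw [cn_cn, cn_cn, show ρ * ρ * ρ = ρ ^ 3 by rw [pow_succ, pow_two]]
    exact cn_of_comm (mem_centralizer_singleton_iff.1 (h2 hy)).symm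
  have c1 := (f3.comm ht).symm
  have c2 := (Commute.refl t).mul_left c1
  have dec : ∀ g ∈ c.LL, ∃ x ∈ S, ∃ e ∈ EE h, Commute x t ∧ x * x = 1 ∧ g = x * e ∧
      (x = 1 ∨ x = t ∨ x = cn ρ t ∨ x = t * cn ρ t) := fun g hg => by
    rcases cov g hg with e | e | e | e
    exacts [⟨1, one_mem _, g, e, Commute.one_left t, mul_one 1, (one_mul g).symm, .inl rfl⟩,
      ⟨t, ht.1, _, e, rfl, t2, by group, .inr (.inl rfl)⟩,
      ⟨_, h1.1, _, e, c1, cn_sq ρ t2, by group, .inr (.inr (.inl rfl))⟩,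
      ⟨_, h2.1, _, e, c2, sq_mul t2 (cn_sq ρ t2) c1.symm, by group, .inr (.inr (.inr rfl))⟩]
  have LU : ∀ s ∈ c.LL, ⁅s, t⁆ ∈ U := fun s hs => by
    obtain ⟨x, hx, e, he, c1, -, rfl, -⟩ := dec s hs
    rw [com_mul, commutatorElement_eq_one_iff_commute.2 c1, mul_one, ← commutatorElement_inv]
    exact nor_cn (h.nU hx) (inv_mem (he.2.2 t ht.1))
  have mT : ∀ {x}, x ∈ c.LL ⊓ centralizer {t} ↔ x ∈ c.LL ∧ Commute x t :=
    mem_inf.trans (and_congr_right fun _ => mem_centralizer_singleton_iff)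
  generalize c.LL ⊓ centralizer {t} = T at mT
  have dT : ∀ g ∈ T, ∃ x ∈ S, ∃ e ∈ U, x * x = 1 ∧ g = x * e ∧
      (x = 1 ∨ x = t ∨ x = cn ρ t ∨ x = t * cn ρ t) := fun g hg => by
    obtain ⟨x, hx, e, he, c1, x2, rfl, r⟩ := dec g (mT.1 hg).1
    refine ⟨x, hx, e, h.inE he ((c.eq0 _ he.2.1).1 ((mE _ _ ht.2 t0).1 ?_)), x2, rfl, r⟩
    rw [← c.com t ht.1 e he, commutatorElement_eq_one_iff_commute.2 (show Commute t e by
      simpa using (c1.inv_left.mul_left (mT.1 hg).2).symm), c.eq0 _ (one_mem _)]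
  have sq : ∀ g ∈ T, g * g = 1 := fun g hg => by
    obtain ⟨x, hx, e, he, x2, rfl, -⟩ := dT g hg
    exact sq_mul x2 (h.sq e he) (h.cu hx he)
  have cm : ∀ x ∈ T, ∀ y ∈ T, Commute x y := fun x hx y hy =>
    comm_of_sq (sq x hx) (sq y hy) (sq _ (mul_mem hx hy))
  have UT : U ≤ T := fun u hu => mT.2 ⟨c.EL (h.UE hu), (h.cu ht.1 hu).symm⟩
  have TL : T ≤ c.LL := fun _ hx => (mT.1 hx).1
  have nU : ∀ {x}, x ∉ EE h → x ∉ U := fun r q => r (h.UE q)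
  have cT := card_four UT (mT.2 ⟨ht, rfl⟩) (mT.2 ⟨h1, c1⟩) (mT.2 ⟨h2, c2⟩) (nU a1)
    (nU a2) (nU a3) (nU a4) (nU a5) (nU a6)
    fun g hg => by
      obtain ⟨x, -, e, he, -, rfl, rfl | rfl | rfl | rfl⟩ := dT g hg
      exacts [.inl (by rwa [one_mul]), .inr (.inl (by rwa [inv_mul_cancel_left])),
        .inr (.inr (.inl (by rwa [inv_mul_cancel_left]))),
        .inr (.inr (.inr (by rwa [inv_mul_cancel_left])))]
  rw [h.cU] at cT
  have nT : c.LL ≤ nor T := fun s hs => mem_nor fun x hx => mT.2 ⟨cn_mem hs (TL hx), by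
    have := cn_comm s (mT.1 hx).2
    rw [cn_eq_com s t] at this
    simpa only [inv_mul_cancel_left] using
      (h.cu (cn_mem hs (TL hx)).1 (LU s hs)).inv_right.mul_right this⟩
  refine ⟨LU, fun cS => ?_⟩
  have r : S ⊓ nor T ≤ c.LL := fun x hx => by_contra fun n => absurd (h.ne8 T (fun _ hx => (TL hx).1)
    (fun s hs => by
      by_cases e : s ∈ c.LL
      · exact nT e
      · simpa using mul_mem (nT (mul_mem_of_card (fun _ hx => hx.1) cS hs hx.1 e n))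
          (inv_mem (mem_inf.1 hx).2)) sq) (by omega)
  refine ⟨T, r, ⟨⟨⟨⟨fun x y => Subtype.ext (cm _ x.2 _ y.2)⟩⟩, fun x hx => (pow_two x).trans (sq x hx)⟩,
    cT⟩, TL, fun _ hx => hx.1, cL, nT, fun x hx => mT.2 ⟨hx.1, (mem_cen.1 hx.2 t (mT.2 ⟨ht, rfl⟩)).symm⟩,
    h.pel, mem_nor fun x hx => mT.2 ⟨nor_cn c.ρL (TL hx), ?_⟩, c.ρL,
    fun x hx e => fp x hx (cn_of_comm e), fun x hx => r hx.1.1⟩
  have := cn_comm ρ (cm x hx _ (inv_mem (mT.2 ⟨h2, c2⟩)))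
  rwa [← f3.sq_eq ht, f3.cube ht] at this

theorem false : False := by
  by_cases r : S ≤ c.LL
  · obtain ⟨t, ht, t2, n⟩ := h.exists_inv
    exact n (h.mxU ht t2 fun s hs => (c.kit (r ht) t2 n).1 s (r hs))
  obtain ⟨g, hg, r⟩ := SetLike.not_le_iff_exists.1 r
  obtain ⟨-, τ, hτ, τ2, n, e⟩ := (c.lin hg).resolve_left fun q => r ⟨hg, q⟩
  have LS : c.LL ≤ S := fun _ hx => hx.1
  have τL : τ ∉ c.LL := fun q => absurd (e ▸ q.2 :) (by decide : sg iD ≠ 0)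
  have c2 := card_two LS hτ τL fun x hx => (c.lin hx).imp (fun q => ⟨hx, q⟩) fun q => ⟨mul_mem hx hτ, by
    rw [c.mul x hx τ hτ, e, (mB _).2.2.2.1 q.1]⟩
  obtain ⟨k, ht⟩ := h.thompson LS c2 τ2
  obtain ⟨T, top, ub⟩ := (c.kit ht (cn_sq k τ2) (h.out hτ n)).2 c2
  generalize c.LL = L at *
  obtain ⟨T', x⟩ := UB.ux h.two ub
  have sw := (x.dich (x.normal hτ)).resolve_left fun f => τL (top ⟨hτ, f.1⟩)
  obtain ⟨τ, e1, s2, pl⟩ := x.exists_pl h.syl hτ (mem_cen.2 fun z hz =>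
    (h.cu hτ (h.omz LS x.normal hz.1 hz.2 (x.zsq hz))).symm)
  have hτ := x.mem_S e1 hτ
  have cτ := mem_cen.1 (x.pl_cen pl hτ)
  let E : Subgroup G :=
    { carrier := {x | x ∈ zen L ∨ x * τ ∈ zen L}
      one_mem' := Or.inl (one_mem _)
      mul_mem' := by
        rintro x y (a | a) (b | b)
        · exact Or.inl (mul_mem a b)
        · exact Or.inr (mul_assoc x y τ ▸ mul_mem a b)
        · exact Or.inr (by rw [mul_assoc, (cτ y b).eq, ← mul_assoc]; exact mul_mem a b)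
        · refine Or.inl ?_
          have := mul_mem a b
          rwa [mul_assoc, ← (cτ _ b).eq, mul_mul_sq s2] at this
      inv_mem' := by
        rintro x (a | a)
        · exact Or.inl (inv_mem a)
        · refine Or.inr ?_
          have e2 : x⁻¹ * τ = cn τ (x * τ)⁻¹ * (τ * τ) := by unfold cn; group
          rw [e2, s2, mul_one, cn_of_comm (cτ _ (inv_mem a)).symm]
          exact inv_mem a }
  exact UT.false (E := E) ⟨x, hτ, x.swp_U e1 sw, s2, pl, fun y hy f => top ⟨hy, f.1⟩,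
    fun _ => Iff.rfl⟩ h.syl h.idx

end Co

/-- There is no strongly closed abelian subgroup. -/
theorem Bs.nab (h : Bs S U) (c : IsMulCommutative A) (sc : IsStronglyClosed A S) : A = ⊥ := by
  by_contra n
  obtain ⟨ρ, k⟩ := h.exists_cs (h.sc_of n c sc)
  obtain ⟨co, M, c⟩ := k.exists_co
  exact c.false

end H92.GC
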