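import Cfsg.Agent.H53.KUSpec

/-! Tower KU (S2196), slots B3b and Et. -/

set_option autoImplicit false

namespace H92.KU

open Cfsg H59 H53.WU H53.KU Module

theorem gn_ne {F : Type} [Field F] [Fintype F] {q : ℕ} (hF : Fintype.card F = q ^ 2) {x : F}
    (h : Gn x) : frob hF x ≠ x := fun e => by
  let M : AddSubgroup F :=
    { carrier := {y | frob hF y = y}
      add_mem' := fun {a b} ha hb => by
        change frob hF (a + b) = a + b
        rw [map_add, show frob hF a = a from ha, show frob hF b = b from hb]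
      zero_mem' := map_zero (frob hF)
      neg_mem' := fun {a} ha => by
        change frob hF (-a) = -a
        rw [map_neg, show frob hF a = a from ha] }
  rcases h M (fun y hy => by
    change frob hF (x * y) = x * y
    rw [map_mul, e, show frob hF y = y from hy]) with k | k
  · have : (1 : F) ∈ M := map_one (frob hF)
    rw [k] at this
    exact one_ne_zero (AddSubgroup.mem_bot.1 this)
  · exact frob_ne_id hF (RingHom.ext fun y => show y ∈ M from k ▸ AddSubgroup.mem_top y)

theorem o_map {S : KS} {z : S.V} (h : S.O z) {k : S.G} (hk : k ∈ S.K) : S.O (k.1 z) :=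
  ⟨h.1.map k, fun t ht => by
    have := HS.conj_Zs k⁻¹ ht
    rw [show (k⁻¹ : S.G).1 (k.1 z) = z from k.1.symm_apply_apply z] at this
    simpa [mul_assoc] using mul_mem (mul_mem hk (h.2 this)) (inv_mem hk)⟩

theorem jobB3b : JobB3b := by
  intro S M sp rf uniq g1
  obtain ⟨r1, r2, r3⟩ := rf
  have hr := S.hr
  have sm : ∀ (a : S.F) (x y : S.V), S.B (a • x) y = frob S.hF a * S.B x y := form_smul_left
  have tz : ∀ v ∈ M, ∀ w ∈ M, frob S.hF (S.B v w) = -S.B v w := fun v hv w hw =>
    eq_neg_of_add_eq_zero_right (r2 v hv w hw)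
  have ker : ∀ φ : S.V →ₗ[S.F] S.F, (∀ m ∈ M, S.B m m = 0 → φ m = 0) → ∀ v, φ v = 0 := by
    intro φ h v
    have : Submodule.span S.F {x | S.O x} ≤ LinearMap.ker φ := Submodule.span_le.2 fun z hz => by
      obtain ⟨s, s0, hs⟩ := r3 z hz
      have := h _ hs (by simp [hz.1.2])
      rw [map_smul, smul_eq_mul, mul_eq_zero] at this
      exact this.resolve_left s0
    exact this (sp ▸ Submodule.mem_top)
  have out : ∀ x y : S.V, ∃ z ∈ M, S.B z z = 0 ∧ z ∉ Submodule.span S.F {x, y} := fun x y => by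
    by_contra k
    push Not at k
    have : Submodule.span S.F {x | S.O x} ≤ Submodule.span S.F {x, y} :=
      Submodule.span_le.2 fun z hz => by
        obtain ⟨s, s0, hs⟩ := r3 z hz
        exact (Submodule.smul_mem_iff _ s0).1 (k _ hs (by simp [hz.1.2]))
    have h1 := Submodule.finrank_mono this
    rw [sp, finrank_top] at h1
    classical
    have h2 := finrank_span_finset_le_card (R := S.F) ({x, y} : Finset S.V)
    have h3 := Finset.card_le_two (a := x) (b := y)
    rw [Set.finrank, Finset.coe_pair] at h2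
    change S.toHS.n ≤ _ at h1
    omega
  obtain ⟨x, xM, xx, x0⟩ := out 0 0
  have x0' : x ≠ 0 := fun e => x0 (by rw [e]; exact zero_mem _)
  obtain ⟨y1, y1M, y11, h1⟩ : ∃ y ∈ M, S.B y y = 0 ∧ S.B x y ≠ 0 := by
    by_contra k
    push Not at k
    exact x0' (S.h.nondeg x (ker _ k))
  have rq : ∀ m ∈ M, frob S.hF (-(S.B x m / S.B x y1)) = -(S.B x m / S.B x y1) := fun m hm => by
    rw [map_neg, map_div₀, tz _ xM _ hm, tz _ xM _ y1M, neg_div_neg_eq]
  have pr : ∀ m ∈ M, m + (-(S.B x m / S.B x y1)) • y1 ∈ M := fun m hm =>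
    add_mem hm (r1 _ (rq m hm) _ y1M)
  have pr0 : ∀ m, S.B x (m + (-(S.B x m / S.B x y1)) • y1) = 0 := fun m => by
    rw [map_add, map_smul, smul_eq_mul]; field_simp; ring
  obtain ⟨z, zM, zz, z0⟩ := out x y1
  obtain ⟨y, hy⟩ : ∃ y, y = z + (-(S.B x z / S.B x y1)) • y1 := ⟨_, rfl⟩
  have yM : y ∈ M := hy ▸ pr z zM
  have xy : S.B x y = 0 := hy ▸ pr0 z
  have yy : S.B y y = 0 := by
    have e1 : S.B z y1 = -S.B y1 z := by rw [← S.h.symm, tz _ y1M _ zM]
    have e2 := rq z zM
    generalize -(S.B x z / S.B x y1) = r at hy e2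
    rw [hy]
    simp only [map_add, LinearMap.add_apply, map_smul, sm, smul_eq_mul, zz, y11, e1, e2]
    ring
  have yx : y ∉ Submodule.span S.F {x} := fun k => z0 (by
    have k1 : y ∈ Submodule.span S.F {x, y1} := Submodule.span_mono (by simp) k
    have k2 : y1 ∈ Submodule.span S.F {x, y1} := Submodule.subset_span (by simp)
    have := sub_mem k1 (Submodule.smul_mem _ (-(S.B x z / S.B x y1)) k2)
    rwa [hy, add_sub_cancel_right] at this)
  obtain ⟨y2, y2M, h2, h3⟩ : ∃ v ∈ M, S.B x v = 0 ∧ S.B y v ≠ 0 := by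
    by_contra k
    push Not at k
    obtain ⟨d, hd, hd'⟩ := S.h.exists_perp_ne_zero yx
    have := ker (S.B y - (S.B y y1 / S.B x y1) • S.B x) (fun m hm _ => by
      have := k _ (pr m hm) (pr0 m)
      rw [map_add, map_smul, smul_eq_mul] at this
      simp only [LinearMap.sub_apply, LinearMap.smul_apply, smul_eq_mul]
      linear_combination this) d
    simp only [LinearMap.sub_apply, LinearMap.smul_apply, mem_perp_singleton.1 hd, smul_zero,
      sub_zero] at this
    exact hd' this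
  obtain ⟨h, hK, a, b, c, ea, eb, gn⟩ := g1 x y ⟨⟨x0', xx⟩, yy, xy, fun c e =>
    yx (e ▸ Submodule.smul_mem _ c (Submodule.mem_span_singleton_self x))⟩
  have rf' : S.RF (M.map h.1.toAddEquiv.toAddMonoidHom) := by
    refine ⟨?_, ?_, ?_⟩
    · rintro c hc _ ⟨v, hv, rfl⟩
      exact ⟨c • v, r1 c hc v hv, map_smul h.1 c v⟩
    · rintro _ ⟨v, hv, rfl⟩ _ ⟨w, hw, rfl⟩
      change S.B (h.1 v) (h.1 w) + S.B (h.1 v) (h.1 w) ^ S.q = 0
      rw [h.2.1 v w]
      exact r2 v hv w hw
    · intro z hz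
      obtain ⟨s, s0, hs⟩ := r3 _ (o_map hz (inv_mem hK))
      refine ⟨s, s0, _, hs, ?_⟩
      change h.1 (s • h.1.symm z) = s • z
      rw [map_smul, h.1.apply_symm_apply]
  obtain ⟨s, s0, hs⟩ := uniq _ rf'
  · have k : ∀ v ∈ M, ∀ w ∈ M, frob S.hF (S.B (h.1 w) (s • v)) = -S.B (h.1 w) (s • v) := by
      intro v hv w hw
      obtain ⟨v', hv', e⟩ := hs v hv
      rw [← e]
      change frob S.hF (S.B (h.1 w) (h.1 v')) = -S.B (h.1 w) (h.1 v')
      rw [h.2.1 w v', tz _ hw _ hv']
    have k1 := k _ y1M _ xM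
    have k2 := k _ y2M _ yM
    rw [ea] at k1
    rw [eb] at k2
    simp only [map_add, LinearMap.add_apply, map_smul, sm, smul_eq_mul, map_mul, frob_frob, h2,
      mul_zero, add_zero, tz _ xM _ y1M, tz _ yM _ y2M] at k1 k2
    have a1 : frob S.hF s * a = s * frob S.hF a := mul_right_cancel₀ h1 (by linear_combination -k1)
    have b1 : frob S.hF s * b = s * frob S.hF b := mul_right_cancel₀ h3 (by linear_combination -k2)
    refine gn_ne S.hF gn ?_
    have b0 : (b : S.F) ≠ 0 := b.ne_zero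
    have b0' := S.h.conj_ne_zero b0
    rw [Units.val_div_eq_div_val, map_div₀, div_eq_div_iff b0' b0]
    exact mul_left_cancel₀ s0 (by linear_combination (a : S.F) * b1 - (b : S.F) * a1)

theorem jobEt : JobEt := by
  intro S m Φ hm g a hg
  rcases Nat.even_or_odd' S.n with ⟨k, hk | hk⟩
  swap
  · exact Or.inl ⟨k, hk⟩
  right
  let φ : Fin m ⊕ Fin m → Dual S.F S.V := Sum.elim (fun i => S.B (Φ.f i)) fun i => S.B (Φ.e i)
  have hφ : ∀ i j, φ i (Sum.elim Φ.e Φ.f j) = if j = i then 1 else 0 := by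
    rintro (i | i) (j | j) <;> simp [φ, Φ.ee, Φ.ff, Φ.ef, Φ.fe, eq_comm]
  have li : LinearIndependent S.F (Sum.elim Φ.e Φ.f) :=
    LinearIndependent.of_pairwise_dual_eq_zero_one _ φ (fun i j h => (hφ i j).trans (if_neg h.symm))
      fun i => by rw [hφ, if_pos rfl]
  let b : Basis (Fin m ⊕ Fin m) S.F S.V := Basis.mk li (li.span_eq_top_of_card_eq_finrank' (by
    rw [Fintype.card_sum, Fintype.card_fin]
    change _ = S.n
    omega)).ge
  have hb : ∀ i v, b.repr v i = φ i v := fun i v => by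
    have : b.coord i = φ i := b.ext fun j => by
      rw [Basis.coord_apply, Basis.repr_self, Finsupp.single_apply, Basis.mk_apply, hφ]
    rw [← this, Basis.coord_apply]
  have up : ∀ {g : S.G} {a : Fin m → S.Fˣ}, Φ.Ev g a → ∀ i j : Fin m, j ≤ i →
      S.B (Φ.f i) (g.1 (Φ.e j)) = if i = j then (a j : S.F) else 0 := fun {g a} hg i j h => by
    have := Φ.f_W h (hg j)
    rw [map_sub, map_smul, Φ.fe, sub_eq_zero] at this
    rw [this]
    simp
  have e1 : LinearMap.toMatrix b b g.1.toLinearMap =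
      Matrix.fromBlocks (Matrix.of fun i j => S.B (Φ.f i) (g.1 (Φ.e j)))
        (Matrix.of fun i j => S.B (Φ.f i) (g.1 (Φ.f j))) 0
        (Matrix.of fun i j => S.B (Φ.e i) (g.1 (Φ.f j))) := by
    ext (i | i) (j | j) <;> rw [LinearMap.toMatrix_apply, hb, Basis.mk_apply]
    · rfl
    · rfl
    · exact Φ.e_W i (hg.map_W _ (Φ.e_mem_W (Nat.lt_succ_self j.1)))
    · rfl
  have lo : ∀ i j : Fin m, i ≤ j → S.B (Φ.e i) (g.1 (Φ.f j)) =
      if j = i then frob S.hF ((a i)⁻¹ : S.Fˣ) else 0 := fun i j h => by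
    rw [← g.1.apply_symm_apply (Φ.e i), g.2.1, ← S.h.symm]
    have := up hg.inv j i h
    change S.B (Φ.f j) (g.1.symm (Φ.e i)) = _ at this
    rw [this]
    split_ifs <;> simp
  have e2 := LinearMap.det_toMatrix b g.1.toLinearMap
  rw [e1, Matrix.det_fromBlocks_zero₂₁, Matrix.det_of_isUpperTriangular (fun i j h => by
      have h' : j < i := h
      rw [Matrix.of_apply, up hg i j h'.le, if_neg h'.ne']),
    Matrix.det_of_isLowerTriangular _ (fun i j h => by
      have h' : i < j := h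
      rw [Matrix.of_apply, lo i j h'.le, if_neg h'.ne']), ← LinearEquiv.coe_det, g.2.2] at e2
  simp only [Matrix.of_apply, up hg _ _ le_rfl, lo _ _ le_rfl, if_true, ← map_prod, ← Units.coe_prod,
    Finset.prod_inv_distrib] at e2
  generalize ∏ i, a i = x at e2
  refine Units.ext ?_
  rw [Units.val_pow_eq_pow_val, Units.val_one, ← pow_q_eq_self_iff S.hF x.ne_zero,
    ← frob_apply S.hF]
  rw [Units.val_inv_eq_inv_val, map_inv₀, Units.val_one,
    mul_inv_eq_one₀ (S.h.conj_ne_zero x.ne_zero)] at e2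
  exact e2.symm

end H92.KU
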