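import Cfsg.Agent.H63.A8Def
import Cfsg.Agent.H67.SABasic

/-! A8S (row S3152), slot WH: `W = 2⁶` gives `CP`, `W = 4³` gives the Higman-Sims configuration. -/

set_option autoImplicit false

namespace H92.A8

open H64.SG (O2 Syl Cz Cs Ns cjs Is2 Inv2)
open H67.SA H63.A8 Subgroup
open scoped IsMulCommutative

universe u

theorem two_tors {M : Type*} [AddCommGroup M] {p v : M} (hv : v + v = 0)
    (hp : p ∈ AddSubgroup.zmultiples v) : p = 0 ∨ p = v := by
  obtain ⟨k, rfl⟩ := AddSubgroup.mem_zmultiples_iff.1 hp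
  obtain ⟨g, rfl | rfl⟩ := Int.even_or_odd' k
  · left; linear_combination (norm := module) g • hv
  · right; linear_combination (norm := module) g • hv

theorem akey {M : Type*} [AddCommGroup M] (a b c : M →+ M) {x y z θ : M}
    (x4 : x + x + (x + x) = 0) (y4 : y + y + (y + y) = 0) (z4 : z + z + (z + z) = 0)
    (hθ : θ ∈ AddSubgroup.zmultiples (x + x) ⊔ AddSubgroup.zmultiples (y + y) ⊔
      AddSubgroup.zmultiples (z + z))
    (ax : a x = x + y + θ) (ay : a y = y) (az : a z = -z) (aa : a (a x) = x)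
    (bx : b x = x) (by' : b y = -y) (cx : c x = -x) (cy : c y = y)
    (rel : b (a x) = c (a (b x))) (y2 : y + y ≠ 0) (xy : x + x + (y + y) ≠ 0) :
    a x = -x + y + z + z ∨ a x = -x + -y + z + z := by
  obtain ⟨_, h1, r, hr, rfl⟩ := AddSubgroup.mem_sup.1 hθ
  obtain ⟨p, hp, q, hq, rfl⟩ := AddSubgroup.mem_sup.1 h1
  have q2 : q + q = 0 := by rcases two_tors y4 hq with rfl | rfl <;> simp [y4]
  have r2 : r + r = 0 := by rcases two_tors z4 hr with rfl | rfl <;> simp [z4]
  have aq : a q = q := by rcases two_tors y4 hq with rfl | rfl <;> simp [ay]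
  have bq : b q = q := by
    rcases two_tors y4 hq with rfl | rfl
    · simp
    · rw [map_add, by']; linear_combination (norm := module) -y4
  have cq : c q = q := by rcases two_tors y4 hq with rfl | rfl <;> simp [cy]
  have ar : a r = r := by
    rcases two_tors z4 hr with rfl | rfl
    · simp
    · rw [map_add, az]; linear_combination (norm := module) -z4
  rcases two_tors x4 hp with rfl | rfl
  · rw [ax] at aa
    simp only [map_add, map_zero, ax, ay, aq, ar] at aa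
    exact absurd (by linear_combination (norm := module) aa - q2 - r2) y2
  rcases two_tors z4 hr with rfl | rfl
  · rw [bx, ax] at rel
    simp only [map_add, map_zero, bx, by', cx, cy, bq, cq] at rel
    exact absurd (by linear_combination (norm := module) rel - x4 + y4) xy
  rcases two_tors y4 hq with rfl | rfl
  · left; rw [ax]; linear_combination (norm := module) x4
  · right; rw [ax]; linear_combination (norm := module) x4 + y4

variable {G : Type u} [Group G]

/-- Conjugation on an abelian subgroup, additively. -/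
def act {W : Subgroup G} {g : G} (hg : g ∈ Ns W) : Additive W →+ Additive W :=
  AddMonoidHom.mk' (fun v => Additive.ofMul ⟨g * v.toMul.1 * g⁻¹,
    (mem_normalizer_iff.1 hg _).1 v.toMul.2⟩) fun _ _ => Subtype.ext (conj_mul).symm

variable {F : Type} [Field F] [Finite F] [CharP F 2] {e : SLn 3 F →* G} {t : G} {W : Subgroup G}

variable (e W) in
/-- A normalised generator over `x_0l`. -/
structure Ok (l : Fin 4) (v : G) : Prop where
  mem : v ∈ W
  sq : v * v = e (x 0 l 1)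
  cen : ∀ j, j ≠ 0 → e (x j l 1) * v * (e (x j l 1))⁻¹ = v
  inv : ∀ j m, j ≠ 0 → m ≠ 0 → j ≠ m → l ≠ j → l ≠ m → e (x j m 1) * v * (e (x j m 1))⁻¹ = v⁻¹

omit [Finite F] in
theorem ee (i j : Fin 4) : e (x i j 1) * e (x i j 1) = 1 := by rw [← map_mul, x_mul_self, map_one]

omit [Finite F] in
theorem Ok.neg {l : Fin 4} {v : G} (h : Ok e W l v) : Ok e W l v⁻¹ :=
  ⟨inv_mem h.mem, by rw [← mul_inv_rev, h.sq, inv_eq_of_mul_eq_one_left (ee _ _)],
    fun j hj => by rw [← conj_inv, h.cen j hj],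
    fun j m a b c d f => by rw [← conj_inv, h.inv j m a b c d f]⟩

omit [Finite F] in
theorem cjx {j l : Fin 4} (j0 : j ≠ 0) (l0 : l ≠ 0) (jl : j ≠ l) :
    e (x j l 1) * e (x 0 j 1) * (e (x j l 1))⁻¹ = e (x 0 j 1) * e (x 0 l 1) := by
  have := x_conj (F := F) j0.symm jl l0.symm 1 1
  rw [x_inv, mul_one] at this
  rw [← map_inv, ← map_mul, ← map_mul, ← map_mul, x_inv]
  congr 1
  have h1 := x_mul_self (F := F) 0 j 1
  have h2 := x_mul_self (F := F) j l 1
  generalize x 0 j (1 : F) = a, x j l (1 : F) = b, x 0 l (1 : F) = c at *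
  calc b * a * b = a * (a * b * a) * b := by rw [← mul_assoc, ← mul_assoc, h1, one_mul]
    _ = _ := by rw [this, mul_assoc, mul_assoc, h2, mul_one]

omit [Finite F] in
theorem key (hp : Par8 3 F) (hc : CH e t) (hw : WD e t W) (sq : ∀ v ∈ W, v * t * v⁻¹ = t * (v * v))
    {j l k : Fin 4} (j0 : j ≠ 0) (l0 : l ≠ 0) (k0 : k ≠ 0) (jl : j ≠ l) (kj : k ≠ j) (kl : k ≠ l)
    {a b c : G} (ha : Ok e W j a) (hb : Ok e W l b) (hd : Ok e W k c) :
    e (x j l 1) * a * (e (x j l 1))⁻¹ = a⁻¹ * b * c * c ∨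
      e (x j l 1) * a * (e (x j l 1))⁻¹ = a⁻¹ * b⁻¹ * c * c := by
  have : IsMulCommutative W := le_centralizer_iff_isMulCommutative.1 hw.ab
  have nr : ∀ {i m : Fin 4}, m ≠ 0 → e (x i m 1) ∈ Ns W := fun h =>
    hw.pr (mem_map_of_mem _ (x_mem_Pat (S := fun _ b => b ≠ 0) h 1))
  have v1 : ∀ {m : Fin 4}, m ≠ 0 → e (x 0 m 1) ≠ 1 := fun h k =>
    one_ne_zero ((x_mem_center h.symm).1 (hc.ker k))
  have a' := (mem_normalizer_iff.1 (nr (i := j) l0) _).1 ha.mem
  have ab := mul_mem ha.mem hb.mem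
  have hθ := mul_mem (inv_mem ab) a'
  have θ2 : (a * b)⁻¹ * (e (x j l 1) * a * (e (x j l 1))⁻¹) ∈ (Er 3 F).map e := by
    refine hw.fix _ hθ (mem_centralizer_singleton_iff.2 (mul_inv_eq_iff_eq_mul.1 ?_))
    rw [sq _ hθ, Commute.mul_mul_mul_comm (setLike_mul_comm a' (inv_mem ab)), conj_mul, ha.sq,
      cjx j0 l0 jl, ← mul_inv_rev, Commute.mul_mul_mul_comm (setLike_mul_comm hb.mem ha.mem), ha.sq,
      hb.sq, inv_mul_cancel, mul_one]
  have all : ∀ m : Fin 4, m = 0 ∨ m = j ∨ m = l ∨ m = k := by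
    revert j0 l0 k0 jl kj kl
    generalize j = j, l = l, k = k
    revert j l k
    decide
  have := akey (M := Additive W) (act (nr (i := j) l0)) (act (nr (i := k) j0)) (act (nr (i := k) l0))
    (x := .ofMul ⟨a, ha.mem⟩) (y := .ofMul ⟨b, hb.mem⟩) (z := .ofMul ⟨c, hd.mem⟩)
    (θ := .ofMul ⟨_, hθ⟩) (Subtype.ext ?_) (Subtype.ext ?_) (Subtype.ext ?_) ?_
    (Subtype.ext (mul_inv_cancel_left _ _).symm) (Subtype.ext (hb.cen j j0))
    (Subtype.ext (hd.inv j l j0 l0 jl kj kl)) (Subtype.ext ?_) (Subtype.ext (ha.cen k k0))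
    (Subtype.ext (hb.inv k j k0 j0 kj kl.symm jl.symm))
    (Subtype.ext (ha.inv k l k0 l0 kl kj.symm jl)) (Subtype.ext (hb.cen k k0)) (Subtype.ext ?_)
    (fun h => v1 l0 (hb.sq ▸ congrArg Subtype.val h)) fun h => ?_
  · exact this.imp (congrArg Subtype.val) (congrArg Subtype.val)
  · change a * a * (a * a) = 1
    rw [ha.sq, ee]
  · change b * b * (b * b) = 1
    rw [hb.sq, ee]
  · change c * c * (c * c) = 1
    rw [hd.sq, ee]
  · suffices H : ∀ S : AddSubgroup (Additive W),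
        Additive.ofMul ⟨a, ha.mem⟩ + Additive.ofMul ⟨a, ha.mem⟩ ∈ S →
        Additive.ofMul ⟨b, hb.mem⟩ + Additive.ofMul ⟨b, hb.mem⟩ ∈ S →
        Additive.ofMul ⟨c, hd.mem⟩ + Additive.ofMul ⟨c, hd.mem⟩ ∈ S → Additive.ofMul ⟨_, hθ⟩ ∈ S from
      H _ (AddSubgroup.mem_sup_left (AddSubgroup.mem_sup_left (AddSubgroup.mem_zmultiples _)))
        (AddSubgroup.mem_sup_left (AddSubgroup.mem_sup_right (AddSubgroup.mem_zmultiples _)))
        (AddSubgroup.mem_sup_right (AddSubgroup.mem_zmultiples _))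
    intro S s1 s2 s3
    have : (Er 3 F).map e ≤ (AddSubgroup.toSubgroup' S).map W.subtype := by
      refine map_Pat_le.2 fun i m _ hi d => ?_
      subst hi
      rcases hp.fld d with rfl | rfl
      · rw [x_zero, map_one]; exact one_mem _
      rcases all m with rfl | rfl | rfl | rfl
      · rw [x_self, map_one]; exact one_mem _
      · exact ⟨⟨a, ha.mem⟩ * ⟨a, ha.mem⟩, s1, ha.sq⟩
      · exact ⟨⟨b, hb.mem⟩ * ⟨b, hb.mem⟩, s2, hb.sq⟩
      · exact ⟨⟨c, hd.mem⟩ * ⟨c, hd.mem⟩, s3, hd.sq⟩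
    obtain ⟨v, hv, e1⟩ := this θ2
    exact (Subtype.ext e1 : v = ⟨_, hθ⟩) ▸ hv
  · change e (x j l 1) * (e (x j l 1) * a * (e (x j l 1))⁻¹) * (e (x j l 1))⁻¹ = a
    rw [← mul_assoc, ← mul_assoc, ee, one_mul, mul_assoc, ← mul_inv_rev, ee, inv_one, mul_one]
  · change e (x k j 1) * (e (x j l 1) * a * (e (x j l 1))⁻¹) * (e (x k j 1))⁻¹ =
      e (x k l 1) * (e (x j l 1) * (e (x k j 1) * a * (e (x k j 1))⁻¹) * (e (x j l 1))⁻¹) *
        (e (x k l 1))⁻¹
    have := congrArg e (x_conj (F := F) kj jl kl 1 1)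
    rw [mul_one, map_mul, map_mul, map_mul, map_inv, mul_inv_eq_iff_eq_mul] at this
    calc _ = e (x k j 1) * e (x j l 1) * a * (e (x k j 1) * e (x j l 1))⁻¹ := by group
      _ = _ := by rw [this]; group
  · have h1 : a * a * (b * b) = 1 := congrArg Subtype.val h
    rw [ha.sq, hb.sq] at h1
    have h2 := congrArg (fun g => e (x j k 1) * g * (e (x j k 1))⁻¹) h1
    have h3 : e (x j k 1) * e (x 0 l 1) = e (x 0 l 1) * e (x j k 1) := by
      rw [← map_mul, ← map_mul, x_comm k0 jl]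
    simp only [← conj_mul] at h2
    rw [cjx j0 k0 kj.symm, h3, mul_inv_cancel_right, mul_assoc, ← map_mul, x_comm k0 l0.symm,
      map_mul, ← mul_assoc, h1] at h2
    exact v1 k0 (by simpa using h2)

theorem jobWH : J8WH.{u} := by
  intro n F _ _ _ hp G _ _ e t W w hc hw hn
  obtain rfl := hp.three
  have : IsMulCommutative W := le_centralizer_iff_isMulCommutative.1 hw.ab
  rcases hn.chi with ⟨-, chi⟩ | ⟨sq, chi⟩
  · refine Or.inl fun c => ?_
    rcases hp.fld c with rfl | rfl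
    · exact ⟨1, one_mem _, by simp⟩
    refine ⟨w (la 3), mem_Cs_map_Pat.2 fun i j ij h c => ?_, hn.del _ (by decide)⟩
    rcases hp.fld c with rfl | rfl
    · simp
    by_cases i0 : i = 0
    · exact setLike_mul_comm (hw.le (mem_map_of_mem _ (i0 ▸ x_mem_Row i j (1 : F)))) (hn.mem _ (by decide))
    by_cases j3 : j = la 3
    · rw [j3]; exact hn.cen i _ i0 (by decide)
    · exact chi i j _ i0 h.1 (by decide) ij h.2.symm (Ne.symm j3)
  right
  have ok : ∀ l, l ≠ 0 → Ok e W l (w l) := fun l l0 =>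
    ⟨hn.mem l l0, mul_left_cancel ((sq _ (hn.mem l l0)).symm.trans (hn.del l l0)),
      fun j j0 => by rw [hn.cen j l j0 l0, mul_inv_cancel_right],
      fun j m a b c d f => chi j m l a b l0 c d f⟩
  have ti : ∀ v ∈ W, t * v * t⁻¹ = v⁻¹ := fun v hv => by
    obtain ⟨s, hs, e1⟩ := hw.into v hv
    have e2 := sq v hv
    have e3 : v * v * (v * v) = 1 := by
      rw [mul_left_cancel (e2.symm.trans e1), ← map_mul, sq_Row hs, map_one]
    have tt := hc.inv.1
    refine eq_inv_of_mul_eq_one_left ?_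
    calc t * v * t⁻¹ * v = t * (v * t * v⁻¹) * (v * v) * v⁻¹ * v := by
          rw [inv_eq_of_mul_eq_one_left tt]; group
      _ = 1 := by
          rw [e2, ← mul_assoc t t, tt, one_mul, e3]; group
  have o1 := ok 1 (by decide)
  obtain ⟨w₂, o2, a1⟩ : ∃ w₂, Ok e W 2 w₂ ∧
      e (x 1 2 1) * w 1 * (e (x 1 2 1))⁻¹ = (w 1)⁻¹ * w₂ * w 3 * w 3 :=
    (key hp hc hw sq (by decide) (by decide) (by decide) (by decide) (by decide) (by decide) o1
      (ok 2 (by decide)) (ok 3 (by decide))).elim (fun h => ⟨_, ok 2 (by decide), h⟩)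
      fun h => ⟨_, (ok 2 (by decide)).neg, h⟩
  obtain ⟨w₃, o3, b2⟩ : ∃ w₃, Ok e W 3 w₃ ∧
      e (x 2 3 1) * w₂ * (e (x 2 3 1))⁻¹ = w₂⁻¹ * w₃ * w 1 * w 1 :=
    (key hp hc hw sq (by decide) (by decide) (by decide) (by decide) (by decide) (by decide) o2
      (ok 3 (by decide)) o1).elim (fun h => ⟨_, ok 3 (by decide), h⟩)
      fun h => ⟨_, (ok 3 (by decide)).neg, h⟩
  have le : WW (w 1) w₂ w₃ ≤ W := (closure_le _).2 (by
    rintro _ (rfl | rfl | rfl)
    exacts [o1.mem, o2.mem, o3.mem])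
  let Sq : Subgroup G :=
    { carrier := {g | ∃ y ∈ WW (w 1) w₂ w₃, y * y = g}
      one_mem' := ⟨1, one_mem _, one_mul 1⟩
      mul_mem' := by
        rintro _ _ ⟨y, hy, rfl⟩ ⟨y', hy', rfl⟩
        exact ⟨_, mul_mem hy hy', Commute.mul_mul_mul_comm (setLike_mul_comm (le hy') (le hy)) _ _⟩
      inv_mem' := by
        rintro _ ⟨y, hy, rfl⟩
        exact ⟨_, inv_mem hy, (mul_inv_rev _ _).symm⟩ }
  have hS : (Er 3 F).map e ≤ Sq := by
    refine map_Pat_le.2 fun i m im hi d => ?_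
    subst hi
    rcases hp.fld d with rfl | rfl
    · rw [x_zero, map_one]; exact one_mem _
    obtain rfl | rfl | rfl : m = 1 ∨ m = 2 ∨ m = 3 := by revert m; decide
    exacts [⟨_, subset_closure (by simp), o1.sq⟩, ⟨_, subset_closure (by simp), o2.sq⟩,
      ⟨_, subset_closure (by simp), o3.sq⟩]
  have ge : W ≤ WW (w 1) w₂ w₃ := fun v hv => by
    obtain ⟨s, hs, e1⟩ := hw.into v hv
    obtain ⟨y, hy, e2⟩ := hS (mem_map_of_mem e hs)
    have m := mul_mem hv (inv_mem (le hy))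
    obtain ⟨y', hy', e3⟩ := hS (hw.fix _ m (mem_centralizer_singleton_iff.2
      (mul_inv_eq_iff_eq_mul.1 (by
        rw [sq _ m, Commute.mul_mul_mul_comm (setLike_mul_comm (inv_mem (le hy)) hv),
          mul_left_cancel ((sq v hv).symm.trans e1), ← e2]
        group))))
    rw [eq_mul_inv_iff_mul_eq] at e3
    exact e3 ▸ mul_mem (mul_mem hy' hy') hy
  refine ⟨w 1, w₂, w₃, setLike_mul_comm o1.mem o2.mem, setLike_mul_comm o1.mem o3.mem,
    setLike_mul_comm o2.mem o3.mem, o1.sq, o2.sq, o3.sq, ti _ o1.mem, ti _ o2.mem, ti _ o3.mem, ?_,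
    o2.cen 1 (by decide), o3.inv 1 2 (by decide) (by decide) (by decide) (by decide) (by decide),
    o1.inv 2 3 (by decide) (by decide) (by decide) (by decide) (by decide), b2,
    o3.cen 2 (by decide), le_antisymm le ge ▸ hw.pr, fun o h1 h2 h3 => ?_⟩
  · rw [a1, mul_assoc, mul_assoc _ w₃, o3.sq, (ok 3 (by decide)).sq]
  · rcases hc.ck o h1 h2 with rfl | rfl
    · exact one_mem _
    · rw [orderOf_eq_prime (p := 2) (by rw [pow_two, hc.inv.1]) hc.inv.2] at h3
      exact absurd h3 (by decide)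

end H92.A8
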