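import Cfsg.Agent.H67.SPSpec

/-! STD-SP, slot P2a: all translations of `t X_l` are induced by the centraliser of `Q`. -/

set_option autoImplicit false
set_option linter.unusedSectionVars false

namespace H92.SpP

open H98 Subgroup H67.SP H67.UA
open H64.SG (Cz Cs Ns cjs mem_Cz mem_Cs)
open H59.SO (AutOn B1 exists_autOn mem_map_e map_mem_Ns mem_Cs_map)

universe u

section Gen
variable {G : Type*} [Group G]

/-- The elements that normalise `A` and centralise `S` modulo `A`. -/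
def Cm (S : Set G) (A : Subgroup G) : Subgroup G where
  carrier := {n | n ∈ Ns A ∧ ∀ y ∈ S, n * y * n⁻¹ * y⁻¹ ∈ A}
  one_mem' := ⟨one_mem _, fun y _ => by simp⟩
  mul_mem' := fun {n m} hn hm => ⟨mul_mem hn.1 hm.1, fun y hy => by
    have := mul_mem (conj_mem_of_mem_normalizer hn.1 (hm.2 y hy)) (hn.2 y hy)
    convert this using 1; group⟩
  inv_mem' := fun {n} hn => ⟨inv_mem hn.1, fun y hy => by
    have := conj_mem_of_mem_normalizer' hn.1 (inv_mem (hn.2 y hy))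
    convert this using 1; group⟩

theorem Cm.conj {Y A : Subgroup G} {g n : G} (hg : g ∈ Ns Y) (hA : g ∈ Ns A) (hn : n ∈ Cm Y A) :
    g * n * g⁻¹ ∈ Cm (Y : Set G) A :=
  ⟨mul_mem (mul_mem hA hn.1) (inv_mem hA), fun y hy => by
    have := conj_mem_of_mem_normalizer hA (hn.2 _ (conj_mem_of_mem_normalizer' hg hy))
    convert this using 1; group⟩

theorem exists_ne_zero_one {F : Type} [Field F] [Finite F] (h : Nat.card F ≠ 2) :
    ∃ l : F, l ≠ 0 ∧ l ≠ 1 := by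
  by_contra h0
  push Not at h0
  exact h (Nat.card_eq_two_iff' (0 : F) |>.2 ⟨1, one_ne_zero, fun y hy => h0 y hy⟩)

end Gen

variable {n : ℕ} {F : Type} [Field F] [StarRing F] [TrivialStar F] [CharP F 2] [Finite F]
  [Base n F]

/-- The root elements at `e₀`. -/
noncomputable abbrev Zc (n : ℕ) (c : F) : XU n F := Tc c (ev 0)

section X

variable {u p : XU n F} {c l : F}

theorem xadd (a b : F) : Zc n a * Zc n b = Zc n (a + b) :=
  (Tc_add (FV.iso _) (star_trivial a) (star_trivial b)).symm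

theorem xone (h : Zc n c = 1) : c = 0 := Tc_eq_one (ev_ne 0) (FV.iso _) (star_trivial c) h

theorem Px (hp : p ∈ PP n F) (c : F) : p * Zc n c * p⁻¹ = Zc n c := by
  rw [Tc_conj (FV.iso _) (star_trivial c), mem_Stab.1 hp]

theorem hz (hl : l ≠ 0) (a : F) : hT n F l * Zc n a * (hT n F l)⁻¹ = Zc n (l * l * a) := by
  rw [Tc_conj (FV.iso _) (star_trivial a), (FV.tor l hl).2.1, Tc_smul, nm, star_trivial]

theorem hy (hl : l ≠ 0) {y : Vn n F} (h : Hy y) : hT n F l * TT y * (hT n F l)⁻¹ = TT y := by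
  rw [Tc_conj (FV.iso _) (star_one _), (FV.tor l hl).2.2.2 y h]

theorem QP : QQ n F ≤ PP n F := (FR.o2 _ (ev_ne 0)).1
theorem PQ : PP n F ≤ Ns (QQ n F) := (FR.o2 _ (ev_ne 0)).2.1

theorem Qeq : QQ n F = Cfsg.pCoreOf 2 (PP n F) := (FR.o2 _ (ev_ne 0)).eq

theorem xzero : Tc (0 : F) (ev 0 : Vn n F) = 1 := EE_zero _

theorem Qcomm {a b : XU n F} (ha : a ∈ QQ n F) (hb : b ∈ QQ n F) : a * b * a⁻¹ = b := by
  rw [mem_Cs.1 ((FR.cq _ (ev_ne 0)).ge hb) a ha, mul_inv_cancel_right]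

theorem h_NP (hl : l ≠ 0) : hT n F l ∈ Ns (PP n F) := by
  refine inv_mem_iff.1 (mem_normalizer_of_cj_le fun a ha => mem_Stab.2 ?_)
  have h1 := mem_Stab.1 (mem_cj.1 ha)
  rw [inv_inv, ac_mul, ac_mul] at h1
  have h2 := congrArg (ac (hT n F l)⁻¹) h1
  have h3 : ac (hT n F l)⁻¹ (ev 0) = l⁻¹ • ev 0 := by
    apply ac_inj (hT n F l)
    rw [ac_ac_inv, ac_smul, (FV.tor l hl).2.1, smul_smul, inv_mul_cancel₀ hl, one_smul]
  rw [ac_inv_ac, h3, ac_smul] at h2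
  exact smul_right_injective _ (inv_ne_zero hl) h2

theorem h_NQ (hl : l ≠ 0) : hT n F l ∈ Ns (QQ n F) := by
  rw [Qeq]
  exact normalizer_le_normalizer_pCoreOf _ (h_NP hl)

theorem h_cm (hl : l ≠ 0) : hT n F l ∈ Cm (PP n F) (QQ n F) := by
  refine ⟨h_NQ hl, fun p hp => ?_⟩
  obtain ⟨u, hu, s, hs, rfl⟩ := FW.ps p hp
  have h1 := mem_Cz.1 (FW.genS (Cz (hT n F l))
    (fun y h => mem_Cz.2 (mul_inv_eq_iff_eq_mul.1 (hy hl h))) hs)
  have := mul_mem (conj_mem_of_mem_normalizer (h_NQ hl) hu) (inv_mem hu)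
  convert this using 1
  calc _ = hT n F l * u * (s * (hT n F l)⁻¹ * s⁻¹) * u⁻¹ := by group
    _ = _ := by rw [show s * (hT n F l)⁻¹ * s⁻¹ = (hT n F l)⁻¹ by
      rw [mul_inv_eq_iff_eq_mul, mul_inv_eq_iff_eq_mul, mul_assoc, ← h1]; simp]

theorem pc_eq : Pc (Cz (xb n F)) = PP n F := by
  rw [FR.cz _ _ (ev_ne 0) one_ne_zero]
  exact le_antisymm (Pc_le _) (le_Pc le_rfl (FR.perf _ (ev_ne 0)))

end X

variable {G : Type u} [Group G] [Finite G] {e : XU n F →* G} {t g m w : G} {c : F}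

theorem cm_map {A B : Subgroup (XU n F)} {a : XU n F} (h : a ∈ Cm A B) :
    e a ∈ Cm (A.map e) (B.map e) :=
  ⟨map_mem_Ns h.1, by
    rintro _ ⟨y, hy, rfl⟩
    exact ⟨_, h.2 y hy, by simp⟩⟩

theorem cm_Ns (h : m ∈ Cm ((PP n F).map e) ((QQ n F).map e)) : m ∈ Ns ((PP n F).map e) :=
  mem_normalizer_of_cj_le (by
    rintro _ ⟨y, hy, rfl⟩
    simpa using mul_mem (map_mono QP (h.2 y hy)) hy)

section
variable (H : B1 e t)
include H

theorem mvt (a : XU n F) (h : m * t * m⁻¹ = t * e (Zc n c)) :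
    e a * m * t * (e a * m)⁻¹ = t * e (a * Zc n c * a⁻¹) := by
  rw [mul_inv_rev, ← mul_assoc, mul_assoc _ m, mul_assoc (e a), h, ← conj_mul, H.conj_t, map_mul,
    map_mul, map_inv]

theorem nQ : Ns ((PP n F).map e) ≤ Ns ((QQ n F).map e) := by
  rw [Qeq, map_pCoreOf_of_injective H.inj]
  exact normalizer_le_normalizer_pCoreOf _

theorem nZ : Ns ((PP n F).map e) ≤ Ns ((ZL n F).map e) := by
  have : ZL n F = PP n F ⊓ Cs (PP n F) := by
    rw [FR.zP _ (ev_ne 0), eq_comm, inf_eq_right]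
    intro z hz
    obtain ⟨c, rfl⟩ := (FV.mem_Zl _ _).1 hz
    exact mem_Stab.2 (ac_EE_self (FV.ok _ _ _ (by simp)))
  rw [this, map_inf_centralizer H.inj]
  exact le_normalizer_inf le_rfl (normalizer_le_normalizer_centralizer _)

theorem tr_of {κ : F} (hw : w ∈ Cs ((QQ n F).map e)) (c0 : c ≠ 0)
    (h1 : w * t * w⁻¹ = t * e (Zc n c)) (h2 : ∀ y, Hy y → w * e (TT y) * w⁻¹ =
      e (TT y * EE (ev 0) ((κ * rt (1 + q0 y)) • y) (κ ^ 2 * q0 y))) :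
    Tr e t (κ * (rt c)⁻¹) := fun a => by
  by_cases a0 : a = 0
  · refine ⟨1, one_mem _, by simp [a0], fun y _ _ => by simp [a0]⟩
  have r0 : rt c ≠ 0 := H81.SU.rt_ne c0
  have r1 : rt c * rt c = c := by rw [← pow_two]; exact H81.SU.rt_sq c
  have l0 : a * (rt c)⁻¹ ≠ 0 := mul_ne_zero a0 (inv_ne_zero r0)
  refine ⟨e (hT n F (a * (rt c)⁻¹)) * w * (e (hT n F (a * (rt c)⁻¹)))⁻¹, conj_mem_of_mem_normalizer
    (normalizer_le_normalizer_centralizer _ (map_mem_Ns (h_NQ l0))) hw, ?_, fun y k1 k2 => ?_⟩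
  · have := mvt H (hT n F (a * (rt c)⁻¹)) h1
    rw [hz l0] at this
    rw [TT, Tc_smul, show nm a * 1 = a * (rt c)⁻¹ * (a * (rt c)⁻¹) * c by
      rw [nm, star_trivial]; nth_rewrite 3 [← r1]; field_simp, ← this, mul_assoc _ _ t, ← map_inv,
      ← H.comm, map_inv]
    group
  · have e1 := congrArg e (hy l0 ⟨k1, k2⟩)
    have e2 := EE_conj (FV.ok (ev 0) ((κ * rt (1 + q0 y)) • y) (κ ^ 2 * q0 y)
      (by rw [hf_smul_left, k1, mul_zero])) (hT n F (a * (rt c)⁻¹))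
    rw [(FV.tor _ l0).2.1, ac_smul, (FV.tor _ l0).2.2.2 y ⟨k1, k2⟩, EE_smul, smul_smul, nm,
      star_trivial] at e2
    rw [EE_smul, smul_smul, nm, star_trivial,
      show a * (κ * (rt c)⁻¹ * rt (1 + q0 y)) = a * (rt c)⁻¹ * (κ * rt (1 + q0 y)) by ring,
      show a * a * ((κ * (rt c)⁻¹) ^ 2 * q0 y) = a * (rt c)⁻¹ * (a * (rt c)⁻¹) * (κ ^ 2 * q0 y) by ring,
      ← e2]
    simp only [map_mul, map_inv] at e1 ⊢
    have e3 := h2 y ⟨k1, k2⟩
    rw [map_mul] at e3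
    generalize e (hT n F (a * (rt c)⁻¹)) = h at e1 ⊢
    calc _ = h * (w * (h⁻¹ * (h * e (TT y) * h⁻¹) * h) * w⁻¹) * h⁻¹ := by rw [e1]; group
      _ = h * (w * e (TT y) * w⁻¹) * h⁻¹ := by group
      _ = _ := by
        rw [e3]
        conv_rhs => rw [← e1]
        simp only [mul_assoc, inv_mul_cancel_left]

theorem fin (qe : QE n F) (coc : COC n F) (hn : m ∈ Cm ((PP n F).map e) ((QQ n F).map e))
    (c0 : c ≠ 0) (h1 : m * t * m⁻¹ = t * e (Zc n c)) : ∃ k, Tr e t k := by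
  obtain ⟨θ, a1, hθ⟩ := exists_autOn H.inj hn.1
  obtain ⟨l, l0, hl⟩ := qe θ a1 fun p hp u hu => by
    obtain ⟨ζ, hζ, e1⟩ := hn.2 _ ⟨p, hp, rfl⟩
    rw [← Qcomm hζ (conj_mem_of_mem_normalizer (PQ hp) (a1.bij.1 hu))]
    refine H.inj ?_
    rw [← hθ _ (conj_mem_of_mem_normalizer (PQ hp) hu)]
    simp only [map_mul, map_inv]
    rw [← hθ u hu, e1]
    group
  have m1 := mul_mem (cm_map (e := e) (inv_mem (h_cm l0))) hn
  have m2 := mvt H (hT n F l)⁻¹ h1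
  have c1 : (l * l)⁻¹ * c ≠ 0 := by simp [l0, c0]
  rw [show (hT n F l)⁻¹ * Zc n c * (hT n F l)⁻¹⁻¹ = Zc n ((l * l)⁻¹ * c) by
    have := hz (n := n) l0 ((l * l)⁻¹ * c)
    rw [mul_inv_cancel_left₀ (mul_ne_zero l0 l0)] at this
    conv_lhs => rw [← this]
    group] at m2
  have m3 : ∀ u ∈ QQ n F, e (hT n F l)⁻¹ * m * e u * (e (hT n F l)⁻¹ * m)⁻¹ = e u := fun u hu => by
    calc _ = e (hT n F l)⁻¹ * (m * e u * m⁻¹) * (e (hT n F l)⁻¹)⁻¹ := by group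
      _ = _ := by rw [hθ u hu, hl u hu]; simp only [map_mul, map_inv]; group
  generalize e (hT n F l)⁻¹ * m = w at m1 m2 m3
  obtain ⟨φ, a3, hφ⟩ := exists_autOn H.inj (cm_Ns m1)
  obtain ⟨ζ, hζ, κ, k⟩ := coc φ a3 fun u hu => H.inj (by rw [← hφ u (QP hu), m3 u hu])
  have w3 := mvt H ζ⁻¹ m2
  rw [Px (inv_mem (QP hζ))] at w3
  have w4 : ∀ y ∈ PP n F, e ζ⁻¹ * w * e y * (e ζ⁻¹ * w)⁻¹ = e (ζ⁻¹ * φ y * ζ) := fun y hy => by
    rw [map_mul, map_mul, ← hφ y hy, map_inv]; group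
  refine ⟨_, tr_of H (κ := κ) (mem_Cs_map.2 fun y hy => ?_) c1 w3 fun y hy => ?_⟩
  · have := w4 y (QP hy)
    rw [H.inj ((hφ y (QP hy)).symm.trans (m3 y hy)), ← Qcomm hζ hy,
      show ζ⁻¹ * (ζ * y * ζ⁻¹) * ζ = y by group, Qcomm hζ hy] at this
    exact (mul_inv_eq_iff_eq_mul.1 this).symm
  · rw [w4 _ (mem_Stab.2 (by
      rw [ac_Tc (FV.iso _) (star_one _), hf_symm hy.1, mul_zero, zero_smul, add_zero])), k y hy]
    congr 1; group

theorem big (qe : QE n F) (coc : COC n F) {l : F} (l0 : l ≠ 0) (l1 : l ≠ 1)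
    (gP : g ∈ Ns ((PP n F).map e)) (c0 : c ≠ 0) (h1 : g * t * g⁻¹ = t * e (Zc n c)) :
    ∃ k, Tr e t k := by
  have gQ := nQ H gP
  have n1 := Cm.conj (inv_mem gP) (inv_mem gQ) (cm_map (e := e) (h_cm l0))
  obtain ⟨_, hb, e1⟩ := conj_mem_of_mem_normalizer (inv_mem (nZ H gP))
    (mem_map_of_mem e ((FV.mem_Zl _ _).2 ⟨c + l * l * c, rfl⟩))
  obtain ⟨b, rfl⟩ := (FV.mem_Zl _ _).1 hb
  refine fin H qe coc n1 (c := b) (fun b0 => ?_) ?_
  · rw [b0, xzero, map_one, eq_comm, conj_eq_one_iff, map_eq_one_iff _ H.inj] at e1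
    have := xone e1
    have h3 : (l + 1) ^ 2 * c = 0 := by grind
    have h4 := pow_eq_zero_iff two_ne_zero |>.1 ((mul_eq_zero.1 h3).resolve_right c0)
    grind
  · have := mvt H (hT n F l) h1
    rw [hz l0] at this
    calc _ = g⁻¹ * (e (hT n F l) * g * t * (e (hT n F l) * g)⁻¹) * g := by group
      _ = g⁻¹ * (t * e (Zc n c) * e (Zc n (c + l * l * c))) * g := by
        rw [this, mul_assoc t, ← map_mul, xadd, CharTwo.add_cancel_left]
      _ = _ := by rw [e1, ← h1]; group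

theorem small (qe : QE n F) (coc : COC n F) (fb : FB n F) (hF : Nat.card F = 2)
    (gP : g ∈ Ns ((PP n F).map e)) (c0 : c ≠ 0) (h1 : g * t * g⁻¹ = t * e (Zc n c)) :
    ∃ k, Tr e t k := by
  obtain ⟨θ, a1, hθ⟩ := exists_autOn H.inj gP
  obtain ⟨p, hp, k⟩ := fb hF θ a1
  have h2 := mvt H p⁻¹ h1
  rw [Px (inv_mem hp)] at h2
  refine fin H qe coc ⟨mul_mem (map_mem_Ns (PQ (inv_mem hp))) (nQ H gP), ?_⟩ c0 h2
  rintro _ ⟨y, hy, rfl⟩
  refine ⟨_, conj_mem_of_mem_normalizer' (PQ hp) (k y hy), ?_⟩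
  simp only [map_mul, map_inv]
  rw [← hθ y hy]
  group

end

theorem jobP2a : JobP2a.{u} := by
  intro n F _ _ _ _ _ _ G _ _ e t _ _ qe coc fb H hB
  obtain ⟨g, h1, h2⟩ := hB
  have gP : g ∈ Ns ((PP n F).map e) := by
    have := (ab H.toCE.b0).edge g _ _ h1 (mul_inv_eq_iff_eq_mul.2 h2)
    rw [pc_eq] at this
    exact cj_eq_self_iff.1 this
  by_cases hF : Nat.card F = 2
  · exact small H.toB1 qe coc fb hF gP one_ne_zero h1
  · obtain ⟨l, l0, l1⟩ := exists_ne_zero_one hF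
    exact big H.toB1 qe coc l0 l1 gP one_ne_zero h1

end H92.SpP
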