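import Cfsg.Agent.H82.HRKit

/-! HR tower (`blueprints/HR.md`): jobs G11 and N6. -/

set_option autoImplicit false
set_option linter.unusedSectionVars false

namespace H92.HR

open MulAction Cfsg Subgroup H89.K H98 H82.HR

universe u v

variable {G : Type u} {Ω : Type v} [Group G] [Finite G] [MulAction G Ω] {N : Ω → Subgroup G}
  {q : ℕ} {L : Subgroup G}

theorem ne_bot_of_nab (h : ¬ IsMulCommutative L) : L ≠ ⊥ := fun e => h (e ▸ inferInstance)

/-- The order of a transitive normal subgroup. -/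
theorem card_L (h : T2 G Ω) [L.Normal] (hL : L ≠ ⊥) (a : Ω) :
    Nat.card L = Nat.card Ω * Nat.card ↥(L ⊓ stabilizer G a) := by
  have : IsPretransitive L Ω := ⟨fun x y =>
    let ⟨n, hn, e⟩ := h.normal_trans L hL x y; ⟨⟨n, hn⟩, e⟩⟩
  have e : (stabilizer L a).map L.subtype = L ⊓ stabilizer G a := by
    refine Subgroup.ext fun x => ⟨?_, fun k => ⟨⟨x, k.1⟩, k.2, rfl⟩⟩
    rintro ⟨y, hy, rfl⟩
    exact ⟨y.2, hy⟩
  rw [← index_stabilizer_of_transitive L a, ← (stabilizer L a).index_mul_card, ← e,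
    card_map_of_injective L.subtype_injective]

theorem four_le {M U V : Subgroup G} (h : BF M U V q) : 4 ≤ Nat.card U :=
  h.q4.trans (h.card ▸ card_le_of_le ZZ_le)

theorem jobN6 : JobN6.{u, v} := by
  intro G Ω _ _ _ a h h6 h60
  have := h.finite
  have := h.faithful
  let e : Ω ≃ Fin 6 := Finite.equivFinOfCardEq h6
  let f : G →* Equiv.Perm (Fin 6) := e.permCongrHom.toMonoidHom.comp (toPermHom G Ω)
  have fi : Function.Injective f := e.permCongrHom.injective.comp toPerm_injective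
  have h1 := f.range.index_mul_card
  rw [← Nat.card_congr (MonoidHom.ofInjective fi).toEquiv, h.card_eq_stab a, h6, Nat.card_perm,
    Nat.card_eq_fintype_card (α := Fin 6), Fintype.card_fin] at h1
  obtain ⟨k, hk⟩ := h60
  have h2 : f.range.index * k = 2 := by
    rw [hk] at h1
    simp only [Nat.factorial] at h1
    linarith
  rcases (Nat.dvd_prime Nat.prime_two).1 (Dvd.intro _ h2) with h3 | h3
  · exact Or.inr ⟨MulEquiv.ofBijective f ⟨fi, MonoidHom.range_eq_top.1 (index_eq_one.1 h3)⟩⟩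
  · exact Or.inl ⟨(MonoidHom.ofInjective fi).trans
      (MulEquiv.subgroupCongr (Equiv.Perm.eq_alternatingGroup_of_index_eq_two h3))⟩

/-- An involution of `G_a` commuting with an element of order `5` of `N a` centralises `N a`. -/
theorem cen_of_five {M U V : Subgroup G} (h : BF M U V q) (h60 : Nat.card M = 60) {t y : G}
    (ht : t ∈ nor M) (tt : t * t = 1) (hy : y ∈ M) (y5 : orderOf y = 5) (hc : Commute t y) :
    t ∈ cen M := by
  have : Fact (Nat.Prime 2) := ⟨Nat.prime_two⟩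
  obtain ⟨R, hR, tR⟩ := exists_isSyl_le (p := 2) (Q := zpowers t) (H := nor M)
    (H98.isPGroup_zpowers (k := 1) (by rw [pow_one, pow_two, tt])) (zpowers_le.2 ht)
  have hW := hR.inf_of_le_normalizer le_normalizer hR.le
  have tW : t ∈ nor (R ⊓ M) :=
    le_normalizer_inf (H := R) le_normalizer hR.le (zpowers_le.1 tR)
  obtain ⟨V', h'⟩ := BG.frame ⟨U, V, h⟩ hW
  set W := R ⊓ M
  have h1 := h'.card_N
  rw [h60] at h1
  have h4 : Nat.card W = 4 := by
    obtain ⟨k, hk⟩ := IsPGroup.iff_card.1 hW.isPGroup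
    have h2 : 2 ^ k ∣ 2 ^ 2 * 15 := by
      rw [← hk]; exact (h60 ▸ card_dvd_of_le hW.le : Nat.card W ∣ 60)
    have h3 := Nat.le_of_dvd (by norm_num)
      (Nat.Coprime.dvd_of_dvd_mul_right (Nat.Coprime.pow_left k (by norm_num)) h2)
    have := four_le h'
    omega
  have hB : Nat.card ↥(M ⊓ nor W) = 12 := by
    rw [h'.card_B]
    rw [h4] at h1 ⊢
    omega
  have hd : zpowers y ⊓ (M ⊓ nor W) = ⊥ := (disjoint_of_coprime_natCard (by
    rw [Nat.card_zpowers, y5, hB]; norm_num)).eq_bot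
  have yM : zpowers y ≤ M := zpowers_le.2 hy
  let f : zpowers y → {X | IsSyl 2 X M} := fun x => ⟨cj x W, hW.cj_of_mem (yM x.2)⟩
  have fi : Function.Injective f := fun x x' e => by
    have e1 : cj (x : G) W = cj (x' : G) W := congrArg Subtype.val e
    have h5 : ((x'⁻¹ * x : zpowers y) : G) ∈ (⊥ : Subgroup G) :=
      hd.le ⟨(x'⁻¹ * x).2, yM (x'⁻¹ * x).2, cj_eq_self_iff.1 (by
        rw [coe_mul, coe_inv, ← cj_cj, e1, cj_inv_cj])⟩
    exact (inv_mul_eq_one.1 (Subtype.ext (mem_bot.1 h5))).symm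
  have fs := (fi.bijective_of_nat_card_le (by
    rw [Nat.card_coe_set_eq, h'.card_syl, h4, Nat.card_zpowers, y5])).2
  refine h.ker ht fun X hX => ?_
  obtain ⟨⟨_, k, rfl⟩, e⟩ := fs ⟨X, hX⟩
  obtain rfl : cj (y ^ k) W = X := congrArg Subtype.val e
  rw [← cj_eq_self_iff, cj_cj, (hc.zpow_right k).eq, ← cj_cj, cj_eq_self tW]

theorem jobG11 : JobG11.{u, v} := by
  intro G Ω _ _ _ N q L H hL h11 h60 h660
  have : Fact (Nat.Prime 11) := ⟨by norm_num⟩
  have : Fact (Nat.Prime 5) := ⟨by norm_num⟩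
  have := hL.normal
  have := H.t2.finite
  have L0 := ne_bot_of_nab hL.nab
  have La : ∀ a, N a = L ⊓ stabilizer G a := fun a =>
    eq_of_le_of_card_ge (le_inf (hL.le a) (H.le a)) (by
      have := card_L H.t2 L0 a
      rw [h660, h11] at this
      rw [h60]
      omega)
  obtain ⟨P₀⟩ : Nonempty (Sylow 11 L) := inferInstance
  have hP := isSyl_map_subtype P₀
  set P := (P₀ : Subgroup L).map L.subtype with hPd
  have cP : Nat.card P = 11 := by
    rw [hP.card_eq, h660, show 660 = 11 * 60 by norm_num,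
      Nat.factorization_mul (by norm_num) (by norm_num), Finsupp.add_apply,
      Nat.Prime.factorization_self Fact.out, Nat.factorization_eq_zero_of_not_dvd (by norm_num)]
    norm_num
  have tr : ∀ a b : Ω, ∃ p ∈ P, p • a = b := fun a b => by
    have hd : P ⊓ N a = ⊥ := (disjoint_of_coprime_natCard (by rw [cP, h60]; norm_num)).eq_bot
    have fi : Function.Injective fun x : P => (x : G) • a := fun x x' e => by
      have h5 : ((x'⁻¹ * x : P) : G) ∈ (⊥ : Subgroup G) :=
        hd.le ⟨(x'⁻¹ * x).2, (La a).ge ⟨hP.le (x'⁻¹ * x).2, mem_stabilizer_iff.2 (by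
          rw [coe_mul, coe_inv, mul_smul, inv_smul_eq_iff]; exact e)⟩⟩
      exact (inv_mul_eq_one.1 (Subtype.ext (mem_bot.1 h5))).symm
    obtain ⟨p, e⟩ := (fi.bijective_of_nat_card_le (by rw [h11, cP])).2 b
    exact ⟨p, p.2, e⟩
  -- an element of order `5` of `N_L(P)`
  obtain ⟨y, y5⟩ : ∃ y : normalizer ((P₀ : Subgroup L) : Set L), orderOf y = 5 := by
    refine exists_prime_orderOf_dvd_card' 5 ?_
    have h1 := (normalizer ((P₀ : Subgroup L) : Set L)).index_mul_card
    have h2 := card_sylow_modEq_one 11 L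
    rw [P₀.card_eq_index_normalizer] at h2
    have h3 : 11 ∣ Nat.card (normalizer ((P₀ : Subgroup L) : Set L)) := by
      have := card_dvd_of_le (le_normalizer (H := (P₀ : Subgroup L)))
      rwa [← card_map_of_injective L.subtype_injective, cP] at this
    obtain ⟨k, hk⟩ := h3
    rw [hk, h660] at h1
    rw [hk]
    change (normalizer ((P₀ : Subgroup L) : Set L)).index % 11 = 1 at h2
    generalize (normalizer ((P₀ : Subgroup L) : Set L)).index = n at h1 h2
    have h4 : n * k = 60 := by linarith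
    have h5 : n ≤ 60 := Nat.le_of_dvd (by norm_num) (Dvd.intro _ h4)
    interval_cases n <;> omega
  have yL : ((y : L) : G) ∈ L := (y : L).2
  have yP : ((y : L) : G) ∈ nor P := map_le_normalizer_map L.subtype le_rfl ⟨y, y.2, rfl⟩
  replace y5 : orderOf ((y : L) : G) = 5 := by rw [orderOf_coe, orderOf_coe, y5]
  generalize ((y : L) : G) = y at yL yP y5
  obtain ⟨a, ha⟩ : ∃ a : Ω, y • a = a := by
    obtain ⟨a, ha⟩ := (H98.isPGroup_zpowers (p := 5) (x := y) (k := 1)
      (by rw [pow_one, ← y5, pow_orderOf_eq_one])).nonempty_fixed_point_of_prime_not_dvd_card Ω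
        (by rw [h11]; norm_num)
    exact ⟨a, ha ⟨y, mem_zpowers y⟩⟩
  -- the stabiliser of `a` in `N(P)` embeds in `Aut P`
  let K := nor P ⊓ stabilizer G a
  let ψ : K →* MulAut P := P.normalizerMonoidHom.comp (inclusion inf_le_left)
  have ψi : Function.Injective ψ := (injective_iff_map_eq_one ψ).2 fun k hk =>
    Subtype.ext (H.t2.faith k fun b => by
      obtain ⟨p, hp, rfl⟩ := tr a b
      have e : (⟨k, k.2.1⟩ : nor P) ∈ P.normalizerMonoidHom.ker := hk
      rw [normalizerMonoidHom_ker] at e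
      have e' : p * k = k * p := e p hp
      rw [← mul_smul, ← e', mul_smul, mem_stabilizer_iff.1 k.2.2])
  have : IsCyclic P := isCyclic_of_prime_card cP
  have Kc : ∀ x x' : K, x * x' = x' * x := fun x x' => ψi ((IsCyclic.mulAutMulEquiv P).injective (by
    rw [map_mul, map_mul, map_mul, map_mul, mul_comm]))
  have K10 : Nat.card K ∣ 10 := by
    have := card_dvd_of_injective ψ ψi
    rwa [IsCyclic.card_mulAut, cP] at this
  have yK : y ∈ K := ⟨yP, ha⟩
  have KL : K ≤ L := fun k hk => by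
    have hn : (zpowers (⟨y, yK⟩ : K)).Normal := ⟨fun x hx g => by rwa [Kc g, mul_inv_cancel_right]⟩
    have h1 := (zpowers (⟨y, yK⟩ : K)).index_mul_card
    rw [Nat.card_zpowers, ← orderOf_coe, y5] at h1
    have h2 : (zpowers (⟨y, yK⟩ : K)).index ∣ 2 :=
      Nat.dvd_of_mul_dvd_mul_right (by norm_num : 0 < 5) (h1 ▸ K10)
    obtain ⟨m, hm⟩ := h2
    have h3 : k ^ 2 ∈ L := by
      have := pow_mem ((zpowers (⟨y, yK⟩ : K)).pow_index_mem ⟨k, hk⟩) m
      rw [← pow_mul, ← hm] at this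
      exact (zpowers_le (H := L.subgroupOf K)).2 yL this
    have h4 : k ^ 5 * k ^ 5 = 1 := by
      obtain ⟨j, hj⟩ := K10
      have : (⟨k, hk⟩ : K) ^ 10 = 1 := by rw [hj, pow_mul, pow_card_eq_one', one_pow]
      rw [← pow_add]
      exact congrArg Subtype.val this
    have tK := pow_mem hk 5
    obtain ⟨U, V, hB⟩ := H.bg a
    have h5 := cen_of_five hB (h60 a) (H.nor_N tK.2) h4 ((La a).ge ⟨yL, ha⟩) y5
      (congrArg Subtype.val (Kc ⟨_, tK⟩ ⟨y, yK⟩))
    have h6 : ∀ l ∈ L, l * k ^ 5 * l⁻¹ * (k ^ 5)⁻¹ ∈ P := fun l hl => by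
      obtain ⟨p, hp, e⟩ := tr a (l • a)
      have h7 := h5 (p⁻¹ * l) ((La a).ge ⟨L.mul_mem (L.inv_mem (hP.le hp)) hl,
        mem_stabilizer_iff.2 (by rw [mul_smul, inv_smul_eq_iff, e])⟩)
      have := mul_mem hp (conj_mem_of_mem_normalizer tK.1 (P.inv_mem hp))
      rwa [show p * (k ^ 5 * p⁻¹ * (k ^ 5)⁻¹) = p * (k ^ 5 * (p⁻¹ * l)) * l⁻¹ * (k ^ 5)⁻¹ by group,
        ← h7, show p * (p⁻¹ * l * k ^ 5) = l * k ^ 5 by group] at this
    have := hL.simple
    have h7 : (P₀ : Subgroup L).normalCore = ⊥ :=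
      (P₀ : Subgroup L).normalCore_normal.eq_bot_or_eq_top.resolve_right fun e => by
        have := card_le_of_le (e.ge.trans (normalCore_le _))
        rw [card_top, h660, ← card_map_of_injective L.subtype_injective, cP] at this
        omega
    have h8 : k ^ 5 = 1 := mem_bot.1 (hL.cen.le fun l hl => by
      have h9 : (⟨_, hP.le (h6 l hl)⟩ : L) ∈ (P₀ : Subgroup L).normalCore := fun m => by
        obtain ⟨x, hx, e⟩ := mul_mem (h6 _ (mul_mem m.2 hl)) (inv_mem (h6 _ m.2))
        have e1 : m * ⟨_, hP.le (h6 l hl)⟩ * m⁻¹ = x := Subtype.ext (Eq.symm (e.trans (by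
          simp only [coe_mul, coe_inv]
          group)))
        rw [e1]
        exact hx
      have := congrArg Subtype.val (mem_bot.1 (h7.le h9))
      exact mul_inv_eq_iff_eq_mul.1 (mul_inv_eq_one.1 this))
    have := inv_mem (mul_mem h3 h3)
    rwa [← pow_add, inv_eq_of_mul_eq_one_right ((pow_succ k 4).symm.trans h8)] at this
  refine eq_top_iff.2 fun g _ => ?_
  obtain ⟨n, hn, l, hl, rfl⟩ := hP.frattini_mem (g := g) (by rw [normalizer_eq_top]; trivial)
  obtain ⟨p, hp, e⟩ := tr a (n • a)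
  have := KL (x := p⁻¹ * n) ⟨mul_mem (le_normalizer (inv_mem hp)) hn,
    mem_stabilizer_iff.2 (by rw [mul_smul, inv_smul_eq_iff, e])⟩
  exact mul_mem (by simpa using mul_mem (hP.le hp) this) hl

end H92.HR
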