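import Cfsg.Agent.H92.HrG
import Cfsg.Agent.H82.HoltFinal
import Cfsg.Agent.S0227

/-! HR tower (`blueprints/HR.md`): jobs Soc and H. -/

set_option autoImplicit false
set_option linter.unusedSectionVars false

namespace H92.HR

open MulAction Cfsg Subgroup H89.K H98 H82.HR Equiv

universe u v

variable {G : Type u} {Ω : Type v} [Group G] [Finite G] [MulAction G Ω] {N : Ω → Subgroup G}
  {q : ℕ} {L : Subgroup G}

/-- In odd degree a normal subgroup has a Sylow `2`-subgroup fixing a given point. -/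
theorem exists_syl (h : T2 G Ω) (ho : Odd (Nat.card Ω)) (L : Subgroup G) [L.Normal] (c : Ω) :
    ∃ T, IsSyl 2 T L ∧ T ≤ stabilizer G c := by
  obtain ⟨T, hT⟩ := exists_isSyl 2 L
  obtain ⟨d, -, hd⟩ := H82.TP.odd_fix (Ω := Ω) hT.isPGroup (F := Set.univ) (fun _ _ _ _ => trivial)
    (by rwa [Set.ncard_univ])
  obtain ⟨g, rfl⟩ := h.trans d c
  refine ⟨cj g T, hT.cj_of_mem_normalizer (by rw [normalizer_eq_top]; trivial), ?_⟩
  rintro _ ⟨x, hx, rfl⟩
  exact conj_smul_eq.2 (hd x hx)

theorem not_solvable {M U V : Subgroup G} (h : BF M U V q) : ¬ Group.IsSolvable M := fun k => by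
  have := h.simple
  have h1 := IsSimpleGroup.comm_iff_isSolvable.2 k
  have h2 : M ≤ ⊥ := h.inf_cen ▸ le_inf le_rfl fun x hx y hy =>
    congrArg Subtype.val (h1 ⟨y, hy⟩ ⟨x, hx⟩)
  have := (card_le_of_le (h.sylU.le.trans h2)).trans_eq card_bot
  have := four_le h
  omega

theorem jobSoc : JobSoc.{u, v} := by
  intro G Ω _ _ _ N q H ho ha
  obtain ⟨L, hn, hs, hnc, hc, -⟩ := H82.TP.socle H.t2 ha
  refine ⟨L, hn, hs, hnc, hc, fun c => ?_⟩
  by_contra hle
  obtain ⟨U, V, h⟩ := H.bg c
  have h1 : N c ⊓ L = ⊥ := h.eq_bot inf_le_left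
    (le_normalizer_inf le_normalizer (by rw [normalizer_eq_top]; exact le_top))
    fun e => hle (inf_eq_left.1 e)
  obtain ⟨T, hT, Tc⟩ := exists_syl H.t2 ho L c
  obtain ⟨S, hS⟩ := hT.exists_sylow
  let C : Subgroup (MulAut L) := fixingSubgroup (MulAut L) ((S : Subgroup L) : Set L)
  have key := (Cfsg.Agent.S0227.result (G := L) (fun K hK k => hK.eq_bot_or_eq_top.resolve_right
    fun e => ha (H.t2.aff_of_odd L (ne_bot_of_nab hnc) (by rwa [e, card_top] at k))) S C
    fun φ => (mem_fixingSubgroup_iff _).trans Iff.rfl).2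
  let φ : N c →* C := ((MulAut.conjNormal (H := L)).comp (N c).subtype).codRestrict C fun x =>
    (mem_fixingSubgroup_iff _).2 fun s hs => Subtype.ext (by
      have sT : (s : G) ∈ T := (hS.le hs :)
      have h2 : (x : G) * s * (x : G)⁻¹ * (s : G)⁻¹ ∈ (⊥ : Subgroup G) := h1.le (mem_inf.2 ⟨by
        have := mul_mem x.2 (conj_mem_of_mem_normalizer (H.nor_N (Tc sT)) (inv_mem x.2))
        simpa only [mul_assoc] using this, mul_mem (hn.conj_mem _ s.2 _) (inv_mem s.2)⟩)
      exact mul_inv_eq_one.1 (mem_bot.1 h2))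
  refine not_solvable h (Group.isSolvable_of_isSolvable_injective (f := φ)
    ((injective_iff_map_eq_one φ).2 fun x hx => Subtype.ext (mem_bot.1 (hc.le fun l hl => ?_))))
  have e := congrArg Subtype.val (DFunLike.congr_fun (congrArg Subtype.val hx) ⟨l, hl⟩)
  exact (mul_inv_eq_iff_eq_mul.1 e).symm

theorem three_inv {m : ℕ} (hm : 6 ≤ m) : ∃ x y z : alternatingGroup (Fin m),
    x * x = 1 ∧ y * y = 1 ∧ z * z = 1 ∧ y ≠ 1 ∧ x * y = y * x ∧ z * y = y * z ∧ x * z ≠ z * x := by
  let ι : Fin 6 ↪ Fin m := Fin.castLEEmb hm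
  have k : ∀ a b c d : Fin 6, a ≠ b → c ≠ d →
      Perm.viaEmbeddingHom ι (swap a b * swap c d) ∈ alternatingGroup (Fin m) := fun a b c d h1 h2 => by
    rw [Perm.mem_alternatingGroup, Perm.viaEmbeddingHom_apply, Perm.viaEmbedding, Perm.sign_extendDomain,
      map_mul, Perm.sign_swap h1, Perm.sign_swap h2]
    rfl
  have hi := Perm.viaEmbeddingHom_injective ι
  refine ⟨⟨_, k 0 2 1 3 (by decide) (by decide)⟩, ⟨_, k 0 1 2 3 (by decide) (by decide)⟩,
    ⟨_, k 0 1 4 5 (by decide) (by decide)⟩, ?_, ?_, ?_, ?_, ?_, ?_, ?_⟩ <;>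
  simp only [ne_eq, Subtype.ext_iff, coe_mul, coe_one, ← map_mul, hi.eq_iff,
    map_eq_one_iff _ hi] <;> decide

theorem jobH : JobH.{u, v} := by
  intro G Ω _ _ _ N q L H ho hL hodd
  have : Fact (Nat.Prime 2) := ⟨Nat.prime_two⟩
  have := hL.normal
  have := hL.simple
  have L0 := ne_bot_of_nab hL.nab
  obtain ⟨a, b, -, hab, -⟩ := H.t2.big
  obtain ⟨S, hS, Sa⟩ := exists_syl H.t2 ho L a
  have SN : S ≤ nor (N a) := fun s hs => H.nor_N (Sa hs)
  have hU := hS.inf_of_le_normalizer (hL.le a) SN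
  obtain ⟨V, h⟩ := H.frame hU
  obtain ⟨r, ⟨⟨rS, rN⟩, rc⟩, r2⟩ := H88.exists_involution_of_isPGroup
    (hU.isPGroup.to_le (inf_le_left (b := cen S))) (inf_centralizer_ne_bot hU.isPGroup hS.isPGroup
      (le_normalizer_inf le_normalizer SN) fun e => by
        have := four_le h
        rw [e, card_bot] at this
        omega)
  have ra : r • a = a := Sa rS
  have fix : ∀ d, r • d = d → d = a := fun d hd => by
    by_contra e
    have := (hodd a d (Ne.symm e)).of_dvd_nat
      ((N a ⊓ stabilizer G d).orderOf_dvd_natCard (x := r) ⟨rN, hd⟩)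
    rw [r2] at this
    exact absurd this (by decide)
  obtain ⟨S₀, hS₀⟩ := hS.exists_sylow
  let P := (stabilizer G a).subgroupOf L
  have PN : ∀ x ∈ N a, ∀ hx, (⟨x, hx⟩ : L) ∈ P := fun x hx _ => H.le a hx
  have cP : Nat.card P = Nat.card ↥(L ⊓ stabilizer G a) := by
    rw [← card_map_of_injective L.subtype_injective, subgroupOf_map_subtype, inf_comm]
  rcases H82.HT.holt hL.nab P (fun e => by
      obtain ⟨n, hn, e1⟩ := H.t2.normal_trans L L0 a b
      exact hab ((e.ge (mem_top ⟨n, hn⟩) : n • a = a).symm.trans e1)) ⟨r, hS.le rS⟩ ra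
      ⟨by rw [← orderOf_coe]; exact r2, S₀, hS₀.ge rS, fun x hx => Subtype.ext (rc x (hS₀.le hx :))⟩
      (fun g hg => fix _ (fix_of_comm
        (congrArg Subtype.val (mem_centralizer_singleton_iff.1 hg)) ra))
      (fun g hg => ⟨g, by
        have e : ((g : G) * r * (g : G)⁻¹) • a = a := hg
        have := fix ((g : G)⁻¹ • a) (by rwa [mul_smul, mul_smul, smul_eq_iff_eq_inv_smul] at e)
        exact (inv_smul_eq_iff.1 this).symm, rfl⟩) with ⟨-, S₁, e⟩ | ⟨k, k5, ⟨e1⟩, ⟨e2⟩⟩
  · have h1 := isSyl_map_subtype S₁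
    have h2 : (S₁ : Subgroup L).map L.subtype ≤ nor (N a) := by
      rintro _ ⟨s, hs, rfl⟩
      exact H.nor_N (e.ge (le_normalizer hs))
    have h3 := h1.inf_of_le_normalizer (hL.le a) h2
    obtain ⟨V', h'⟩ := H.frame h3
    obtain ⟨g, hg, e3⟩ := h3.exists_cj_eq h'.sylV
    refine h'.ne (e3.symm.trans (cj_eq_self (le_normalizer_inf (H := N a) (fun x hx => ?_)
      le_normalizer hg)))
    exact map_le_normalizer_map L.subtype le_rfl ⟨⟨x, hL.le a hx⟩, e.le (PN x hx _), rfl⟩
  · have c1 := card_L H.t2 L0 a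
    have c2 : Nat.card (N a) ≤ Nat.card P := cP ▸ card_le_of_le (le_inf (hL.le a) (H.le a))
    rw [← cP, Nat.card_congr e1.toEquiv, Nat.card_congr e2.toEquiv] at c1
    rw [Nat.card_congr e2.toEquiv] at c2
    obtain rfl | rfl | k7 : k = 5 ∨ k = 6 ∨ 7 ≤ k := by omega
    · have h1 := h.card_N
      have h2 := four_le h
      have h3 : 0 < Nat.card (DD (N a) (S ⊓ N a) V) := Nat.card_pos
      rw [nat_card_alternatingGroup, Nat.card_eq_fintype_card (α := Fin _), Fintype.card_fin] at c2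
      norm_num [Nat.factorial] at c2
      nlinarith [Nat.mul_le_mul h2 h3]
    · rw [nat_card_alternatingGroup, nat_card_alternatingGroup,
        Nat.card_eq_fintype_card (α := Fin _), Nat.card_eq_fintype_card (α := Fin _),
        Fintype.card_fin, Fintype.card_fin] at c1
      norm_num [Nat.factorial] at c1
      obtain ⟨j, hj⟩ := ho
      omega
    · have : IsSimpleGroup (alternatingGroup (Fin (k - 1))) :=
        alternatingGroup.isSimpleGroup (by rw [Nat.card_eq_fintype_card, Fintype.card_fin]; omega)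
      have := e2.isSimpleGroup
      let ι : P →* G := L.subtype.comp P.subtype
      have hi : Function.Injective ι := L.subtype_injective.comp P.subtype_injective
      have hn : ((N a).comap ι).Normal := ⟨fun x hx g => by
        rw [mem_comap, map_mul, map_mul, map_inv]
        exact conj_mem_of_mem_normalizer (H.nor_N g.2) hx⟩
      have h1 := hn.eq_bot_or_eq_top.resolve_left fun e => by
        have := congrArg ι (mem_bot.1 (e.le (show (⟨⟨r, hS.le rS⟩, ra⟩ : P) ∈ (N a).comap ι from rN)))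
        exact H82.TP.ne_of_ord r2 (this.trans ι.map_one)
      obtain ⟨x, y, z, h2, h3, h4, h5, h6, h7, h8⟩ := three_inv (m := k - 1) (by omega)
      let f := ι.comp e2.symm.toMonoidHom
      have fi : Function.Injective f := hi.comp e2.symm.injective
      have fN : ∀ x, f x ∈ N a := fun x => h1.ge (mem_top (e2.symm x))
      refine h8 (fi ?_)
      rw [map_mul, map_mul]
      exact h.tr3 (fN x) (fN y) (fN z) (by rw [← map_mul, h2, map_one]) (by rw [← map_mul, h3, map_one])
        (by rw [← map_mul, h4, map_one]) (fun e => h5 ((map_eq_one_iff f fi).1 e))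
        (by rw [← map_mul, h6, map_mul]) (by rw [← map_mul, h7, map_mul])

end H92.HR
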