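import Cfsg.Agent.H92.GoldA1
import Cfsg.Agent.H1.CoprimeGen

/-! Extremely closed abelian `2`-subgroups: `G = N(H) O(G)`. Only the `Z*`-theorem is used. -/

set_option autoImplicit false

namespace H92.XC

open Cfsg Subgroup H14 H98 H1.Gold
open scoped commutatorElement

universe u

variable {G : Type*} [Group G] {H : Subgroup G}

/-- `H` is an extremely closed abelian `2`-subgroup. -/
structure EC (H : Subgroup G) : Prop where
  two : IsPGroup 2 H
  comm : ∀ a ∈ H, ∀ b ∈ H, a * b = b * a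
  cl : ∀ g : G, (H ⊔ cj g H) ⊓ nor H ≤ H

theorem EC.subgroupOf (h : EC H) {M : Subgroup G} (hM : H ≤ M) : EC (H.subgroupOf M) := by
  refine ⟨h.two.comap_subtype, fun a ha b hb => Subtype.ext (h.comm _ ha _ hb), fun g x hx => ?_⟩
  have e : (H.subgroupOf M).map M.subtype = H := by
    rw [subgroupOf_map_subtype, inf_eq_left.2 hM]
  refine h.cl g ⟨?_, ?_⟩
  · have := mem_map_of_mem M.subtype hx.1
    rwa [Subgroup.map_sup, map_cj, e] at this
  · have := map_le_normalizer_map M.subtype (le_refl (nor (H.subgroupOf M))) ⟨x, hx.2, rfl⟩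
    rwa [e] at this

theorem pow_mem_coset {Y : Subgroup G} {k y : G} (hk : k ∈ nor Y) (hy : y ∈ Y) (n : ℕ) :
    (k ^ n)⁻¹ * (k * y) ^ n ∈ Y := by
  induction n with
  | zero => simp
  | succ n ih =>
    have := mul_mem (conj_mem_of_mem_normalizer' hk ih) hy
    rw [pow_succ, pow_succ]
    simpa [mul_assoc] using this

variable [Finite G]

theorem EC.syl (h : EC H) (g : G) : IsSyl 2 H (H ⊔ cj g H) := by
  refine isSyl_of_isSyl_normalizer ?_
  rw [le_antisymm (h.cl g) (le_inf le_sup_left le_normalizer)]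
  exact isSyl_self h.two

theorem EC.sc (h : EC H) : SC H := by
  refine ⟨h.two, fun P hP hHP x hx g hg => ?_⟩
  refine h.cl g ⟨mem_sup_right (conj_mem_cj hx), ?_⟩
  have : P ≤ nor H := fun y hy => by
    have h1 := (h.syl y).eq_of_le (hP.to_le (sup_le hHP (cj_le_of_le_of_mem hHP hy))) le_sup_left
      le_rfl
    exact mem_normalizer_of_cj_le (le_sup_right.trans h1.le)
  exact this hg

theorem EC.map (h : EC H) {G' : Type*} [Group G'] (f : G →* G') (hf : Function.Surjective f) :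
    EC (H.map f) := by
  refine ⟨h.two.map f, ?_, fun g => ?_⟩
  · rintro _ ⟨a, ha, rfl⟩ _ ⟨b, hb, rfl⟩
    rw [← map_mul, ← map_mul, h.comm a ha b hb]
  obtain ⟨g, rfl⟩ := hf g
  rw [← map_cj, ← Subgroup.map_sup]
  rintro _ ⟨⟨x, hx, rfl⟩, hn⟩
  have h1 : x ∈ nor ((H.map f).comap f ⊓ (H ⊔ cj g H)) :=
    le_normalizer_inf (H := zpowers x) (zpowers_le.2 (comap_le_normalizer_comap f le_rfl hn))
      (zpowers_le.2 (le_normalizer hx)) (mem_zpowers x)
  have h2 : IsSyl 2 H ((H.map f).comap f ⊓ (H ⊔ cj g H)) :=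
    (h.syl g).of_le (le_inf (le_comap_map _ _) le_sup_left) inf_le_right
  obtain ⟨a, ha, n, hn, e⟩ := h2.frattini_mem h1
  have h3 : a ∈ H := h.cl g ⟨by
    have := mul_mem hx (inv_mem hn.2)
    rwa [e, mul_inv_cancel_right] at this, ha⟩
  rw [e, map_mul]
  exact mul_mem ⟨a, h3, rfl⟩ hn.1

theorem eq_one_of_odd {Y : Subgroup G} (hH : IsPGroup 2 H) (hY : Odd (Nat.card Y))
    (hn : H ≤ nor Y) {k y : G} (hk : k ∈ H) (hy : y ∈ Y) (ho : Odd (orderOf (k * y))) : k = 1 := by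
  have h1 := pow_mem_coset (hn hk) hy (orderOf (k * y))
  rw [pow_orderOf_eq_one, mul_one, inv_mem_iff] at h1
  have h2 : k ^ orderOf (k * y) ∈ H ⊓ Y := ⟨pow_mem hk _, h1⟩
  rw [H10.W.inf_eq_bot_of_odd hH hY] at h2
  refine mem_bot.1 (mem_of_pow_mem_of_coprime h2 ?_)
  obtain ⟨m, hm⟩ := two_of_mem hH hk
  obtain ⟨j, -, hj⟩ := (Nat.dvd_prime_pow Nat.prime_two).1 (orderOf_dvd_of_pow_eq_one hm)
  rw [hj]
  exact Nat.Coprime.pow_left j (Nat.coprime_two_left.2 ho)

omit [Finite G] in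
theorem odd_of_mem {Y : Subgroup G} (hY : Odd (Nat.card Y)) {y : G} (hy : y ∈ Y) :
    Odd (orderOf y) := hY.of_dvd_nat (Y.orderOf_dvd_natCard hy)

theorem EC.exists_compl (h : EC H) (g : G) :
    ∃ Y : Subgroup G, Odd (Nat.card Y) ∧ H ≤ nor Y ∧ H ⊔ cj g H ≤ H ⊔ Y := by
  refine ⟨res 2 (H ⊔ cj g H), ?_, le_normalizer_res_of_le le_sup_left, (h.syl g).sup_res.ge⟩
  obtain ⟨P, hP⟩ := (h.syl g).exists_sylow
  have h1 := H8.hasNPC_of_normalizer_le_centralizer P (fun x hx => by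
    have e : (H.subgroupOf (H ⊔ cj g H)).map (H ⊔ cj g H).subtype = H := by
      rw [subgroupOf_map_subtype, inf_eq_left.2 le_sup_left]
    have h2 : x ∈ nor (P : Subgroup (H ⊔ cj g H : Subgroup G)) := hx
    rw [hP] at h2
    have h3 := map_le_normalizer_map (H ⊔ cj g H).subtype le_rfl ⟨x, h2, rfl⟩
    rw [e] at h3
    have h4 : (x : G) ∈ H := h.cl g ⟨x.2, h3⟩
    refine mem_centralizer_iff.2 fun y hy => Subtype.ext (h.comm _ ?_ _ h4)
    have : y ∈ (P : Subgroup (H ⊔ cj g H : Subgroup G)) := hy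
    rwa [hP] at this)
  rw [H7.hasNPC_iff_not_dvd] at h1
  rw [res, card_map_of_injective (subtype_injective _), ← Nat.not_even_iff_odd, even_iff_two_dvd]
  exact h1

/-- conjugates of involutions of `H` -/
def D (H : Subgroup G) (b : G) : Prop := ∃ g : G, ∃ t ∈ H, orderOf t = 2 ∧ b = g * t * g⁻¹

omit [Finite G] in
theorem D.conj {b : G} (h : D H b) (x : G) : D H (x * b * x⁻¹) := by
  obtain ⟨g, t, ht, h2, rfl⟩ := h
  exact ⟨x * g, t, ht, h2, by group⟩

omit [Finite G] in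
theorem D.orderOf {b : G} (h : D H b) : orderOf b = 2 := by
  obtain ⟨g, t, -, h2, rfl⟩ := h
  rw [H84.orderOf_conj', h2]

theorem EC.exists_partner (h : EC H) {b : G} (hb : D H b) :
    ∃ t ∈ H, orderOf t = 2 ∧ ∃ Y : Subgroup G, Odd (Nat.card Y) ∧ H ≤ nor Y ∧ t * b ∈ Y := by
  have ho := hb.orderOf
  obtain ⟨g, s, hs, -, e⟩ := hb
  obtain ⟨Y, h1, h2, h3⟩ := h.exists_compl g
  obtain ⟨t, ht, y, hy, e'⟩ := (mem_sup_left_norm h2).1 (h3 (mem_sup_right (e ▸ conj_mem_cj hs)))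
  have h4 := pow_mem_coset (h2 ht) hy 2
  rw [← e', ← ho, pow_orderOf_eq_one, mul_one, inv_mem_iff, ho] at h4
  have h5 : t ^ 2 ∈ H ⊓ Y := ⟨pow_mem ht _, h4⟩
  rw [H10.W.inf_eq_bot_of_odd h.two h1, mem_bot, pow_two] at h5
  refine ⟨t, ht, H84.orderOf_two_of (fun h6 => ?_) h5, Y, h1, h2, ?_⟩
  · have := odd_of_mem h1 hy
    rw [h6, one_mul] at e'
    rw [← e', ho] at this
    exact absurd this (by decide)
  · rw [e', ← mul_assoc, h5, one_mul]; exact hy

theorem EC.unique (h : EC H) {b t t' : G} (hb : D H b) (ht : t ∈ H) (ht' : t' ∈ H)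
    (h1 : Odd (orderOf (t * b))) (h2 : Odd (orderOf (t' * b))) : t = t' := by
  obtain ⟨s, hs, -, Y, h3, h4, h5⟩ := h.exists_partner hb
  have : ∀ x ∈ H, Odd (orderOf (x * b)) → x = s := fun x hx ho =>
    mul_inv_eq_one.1 (eq_one_of_odd h.two h3 h4 (mul_mem hx (inv_mem hs)) h5 (by
      rwa [mul_assoc, inv_mul_cancel_left]))
  rw [this t ht h1, this t' ht' h2]

/-- The stabilizer of the partition of `D`. -/
def EC.stab (h : EC H) : Subgroup G where
  carrier := {g | ∀ b, D H b → ∀ t ∈ H, Odd (orderOf (t * b)) → Odd (orderOf (t * (g * b * g⁻¹)))}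
  one_mem' := fun b _ t _ h => by simpa using h
  mul_mem' := fun {x y} hx hy b hb t ht h => by
    have := hx _ (hb.conj y) t ht (hy b hb t ht h)
    simpa [mul_assoc] using this
  inv_mem' := fun {g} hg b hb t ht h1 => by
    obtain ⟨s, hs, -, Y, h3, -, h5⟩ := h.exists_partner (hb.conj g⁻¹)
    have h6 := hg _ (hb.conj g⁻¹) s hs (odd_of_mem h3 h5)
    rw [show g * (g⁻¹ * b * g⁻¹⁻¹) * g⁻¹ = b by group] at h6
    rw [h.unique hb ht hs h1 h6]
    exact odd_of_mem h3 h5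

omit [Finite G] in
theorem odd_conj {t b g : G} (hc : t * g = g * t) (h : Odd (orderOf (t * b))) :
    Odd (orderOf (t * (g * b * g⁻¹))) := by
  rwa [show t * (g * b * g⁻¹) = g * (t * b) * g⁻¹ by rw [← mul_assoc, ← mul_assoc, hc]; group,
    H84.orderOf_conj']

theorem EC.le_stab (h : EC H) : H ≤ h.stab := fun g hg _ _ t ht h1 =>
  odd_conj (h.comm t ht g hg) h1

theorem EC.mem_stab (h : EC H) {s y : G} (hs : s ∈ H) (hs2 : orderOf s = 2) {O Y₀ : Subgroup G}
    (hO : Odd (Nat.card O)) (hOn : cen1 s ≤ nor O)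
    (hdec : ∀ x ∈ cen1 s, ∃ o ∈ O, ∃ n ∈ nor H, x = o * n)
    (hY₀ : Odd (Nat.card Y₀)) (hn₀ : H ≤ nor Y₀) (hy₀ : y ∈ Y₀) (hy : y ∈ cen1 s) :
    y ∈ h.stab := by
  have hHs : H ≤ cen1 s := fun x hx => mem_cen1.2 (h.comm x hx s hs)
  have hHO : H ≤ nor O := hHs.trans hOn
  have hss := H84.mul_self_of_orderOf_two hs2
  have hcy : ∀ k ∈ H, k * y * k⁻¹ * y⁻¹ ∈ O := fun k hk => by
    obtain ⟨o, ho, n, hn, e⟩ := hdec y hy
    have h1 : k * (n * k⁻¹ * n⁻¹) ∈ H := mul_mem hk (conj_mem_of_mem_normalizer hn (inv_mem hk))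
    have h2 : (k * (n * k⁻¹ * n⁻¹))⁻¹ * (k * o * k⁻¹) * (k * (n * k⁻¹ * n⁻¹)) * o⁻¹ ∈ O :=
      mul_mem (conj_mem_of_mem_normalizer' (hHO h1) (conj_mem_of_mem_normalizer (hHO hk) ho))
        (inv_mem ho)
    have h3 : k * y * k⁻¹ * y⁻¹ = k * (n * k⁻¹ * n⁻¹) *
        ((k * (n * k⁻¹ * n⁻¹))⁻¹ * (k * o * k⁻¹) * (k * (n * k⁻¹ * n⁻¹)) * o⁻¹) := by
      rw [e]; group
    have h4 := eq_one_of_odd h.two hO hHO h1 h2 (h3 ▸ odd_of_mem hY₀
      (mul_mem (conj_mem_of_mem_normalizer (hn₀ hk) hy₀) (inv_mem hy₀)))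
    rw [h3]
    rw [h4] at h2 ⊢
    rwa [one_mul]
  intro b hb t ht h1
  by_cases hts : t = s
  · exact odd_conj (hts ▸ (mem_cen1.1 hy).symm) h1
  have key : ∀ b, D H b → ∀ m : ℕ, Odd m → ∀ t ∈ H, orderOf t = 2 → ∀ Y : Subgroup G,
      H ≤ nor Y → t * b ∈ Y → s * t * (s * b) ^ m ∈ Y := fun b hb m hm t ht ht2 Y hn hY => by
    have htt := H84.mul_self_of_orderOf_two ht2
    have h2 := pow_mem_coset (hn (mul_mem hs ht)) hY m
    have h3 : (s * t) ^ 2 = 1 := by
      rw [Commute.mul_pow (h.comm s hs t ht), pow_two, pow_two, hss, htt, one_mul]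
    obtain ⟨j, rfl⟩ := hm
    rw [pow_succ (s * t), pow_mul, h3, one_pow, one_mul, mul_assoc s t, ← mul_assoc t, htt, one_mul,
      inv_eq_of_mul_eq_one_right (by rw [← pow_two, h3])] at h2
    exact h2
  obtain ⟨t₀, ht₀, ht2, Y, hY, hn, h2⟩ := h.exists_partner hb
  obtain rfl : t = t₀ := h.unique hb ht ht₀ h1 (odd_of_mem hY h2)
  have htt := H84.mul_self_of_orderOf_two ht2
  have hbb := H84.mul_self_of_orderOf_two hb.orderOf
  have hst : s * t * (s * t) = 1 := by
    rw [mul_assoc, ← mul_assoc t, ← h.comm s hs t ht, mul_assoc, htt, mul_one, hss]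
  have hst2 : orderOf (s * t) = 2 := H84.orderOf_two_of (fun e => hts (by
    rw [← hss] at e; exact mul_left_cancel e)) hst
  set w := (s * b) ^ Nat.card Y with hw
  have hw1 : s * t * w ∈ Y := key b hb _ hY t ht ht2 Y hn h2
  have hw2 : w * w = 1 := by
    have h3 := pow_mem_coset (hn (mul_mem hs ht)) h2 2
    rw [pow_two (s * t), hst, inv_one, one_mul, mul_assoc s t, ← mul_assoc t, htt, one_mul] at h3
    rw [hw, ← pow_two, ← pow_mul, mul_comm, pow_mul]
    exact orderOf_dvd_iff_pow_eq_one.1 (Y.orderOf_dvd_natCard h3)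
  have hws : w ∈ cen1 s := mem_cen1.2
    (H84.commute_of_inverts_of_sq (H84.conj_pow_inv (H84.left_inverts hss hbb) _) hw2).symm
  have hw3 : Odd (orderOf (w * (s * t))) := by
    have := odd_of_mem hY hw1
    rwa [← H84.orderOf_conj' w, show w * (s * t * w) * w⁻¹ = w * (s * t) by group] at this
  obtain ⟨j, hj⟩ := H84.exists_pow_conj_of_odd hw2 hst hw3
  have hwD : D H w := ⟨_, s * t, mul_mem hs ht, hst2, hj.symm⟩
  have hwO : s * t * w ∈ O := by
    obtain ⟨o, ho, n, hn', e⟩ := hdec _ (pow_mem (mul_mem hws (hHs (mul_mem hs ht))) j)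
    have hk : n * (s * t) * n⁻¹ ∈ H := conj_mem_of_mem_normalizer hn' (mul_mem hs ht)
    have hkk : n * (s * t) * n⁻¹ * (n * (s * t) * n⁻¹) = 1 := H84.conj_mul_self hst n
    have h3 : n * (s * t) * n⁻¹ * w ∈ O := by
      have := mul_mem (conj_mem_of_mem_normalizer (hHO hk) ho) (inv_mem ho)
      rw [inv_eq_of_mul_eq_one_right hkk] at this
      rw [← hj, e]
      simpa [mul_assoc] using this
    rwa [h.unique hwD hk (mul_mem hs ht) (odd_of_mem hO h3) (odd_of_mem hY hw1)] at h3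
  have hw' : s * t * (y * w * y⁻¹) ∈ O := by
    have := mul_mem (hcy _ (mul_mem hs ht)) (conj_mem_of_mem_normalizer (hOn hy) hwO)
    rwa [show s * t * y * (s * t)⁻¹ * y⁻¹ * (y * (s * t * w) * y⁻¹) = s * t * (y * w * y⁻¹) by
      group] at this
  obtain ⟨t', ht', ht2', Y', hY', hn', h3⟩ := h.exists_partner (hb.conj y)
  have h4 := key _ (hb.conj y) _ hY t' ht' ht2' Y' hn' h3
  have h5 : (s * (y * b * y⁻¹)) ^ Nat.card Y = y * w * y⁻¹ := by
    rw [hw, ← conj_pow]
    congr 1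
    rw [← mul_assoc, ← mul_assoc, ← mem_cen1.1 hy]
    group
  rw [h5] at h4
  have h6 := h.unique (hwD.conj y) (mul_mem hs ht) (mul_mem hs ht') (odd_of_mem hO hw')
    (odd_of_mem hY' h4)
  rw [mul_left_cancel h6]
  exact odd_of_mem hY' h3

theorem mem_cen_of_odd (hO : oddCore G = ⊥) {K : Subgroup G} [K.Normal] {t : G} (ht : t ∈ K)
    (h2 : orderOf t = 2) (h : ∀ k ∈ K, Odd (orderOf (t * (k * t * k⁻¹)))) : t ∈ cen K := by
  have htt := H84.mul_self_of_orderOf_two h2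
  have hiso : IsIsolatedInvolution (⟨t, ht⟩ : K) := by
    refine ⟨by rw [← orderOf_coe]; exact h2, fun g hg => Subtype.ext ?_⟩
    have h1 : t * (g * t * (g : G)⁻¹) = g * t * (g : G)⁻¹ * t := congrArg Subtype.val hg
    have h3 := H84.eq_one_of_odd_of_mul_self (h g g.2) (by
      rw [mul_assoc, ← mul_assoc (g * t * (g : G)⁻¹), ← h1, mul_assoc, H84.conj_mul_self htt,
        mul_one, htt])
    rw [← htt] at h3
    exact mul_left_cancel h3
  have h3 : opp 2 K = ⊥ := by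
    rw [← le_bot_iff, ← hO]
    have : (opp 2 K).Normal := normal_of_top_le_normalizer
      (le_trans (by rw [normalizer_eq_top]) (normalizer_le_normalizer_map_subtype _))
    exact H2.le_oddCore (odd_opp K)
  refine mem_centralizer_iff.2 fun k hk => ?_
  have h4 : t * k * t⁻¹ * k⁻¹ ∈ opp 2 K := ⟨_, H34.zstar hiso ⟨k, hk⟩, rfl⟩
  rw [h3, mem_bot, mul_inv_eq_one, mul_inv_eq_iff_eq_mul] at h4
  exact h4.symm

theorem EC.inf_cen_ne_bot (h : EC H) (hO : oddCore G = ⊥) (hne : H ≠ ⊥)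
    (ih : ∀ M : Subgroup G, H ≤ M → M ≠ ⊤ → nor (H.subgroupOf M) ⊔ oddCore M = ⊤) :
    H ⊓ cen (normalClosure (H : Set G)) ≠ ⊥ := by
  obtain ⟨t, ht, ht2⟩ := GA.exists_invol h.two hne
  have ht1 := H84.ne_one_of_orderOf_two ht2
  by_cases hc : IsCyclic H
  · intro hb
    refine ht1 (mem_bot.1 (hb ▸ ⟨ht, mem_cen_of_odd hO (le_normalClosure ht) ht2 fun k _ => ?_⟩))
    obtain ⟨s, hs, hs2, Y, hY, -, h3⟩ := h.exists_partner (b := k * t * k⁻¹) ⟨k, t, ht, ht2, rfl⟩
    have : s = t := by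
      have e1 : orderOf (⟨s, hs⟩ : H) = 2 := by rw [← orderOf_coe]; exact hs2
      have e2 : orderOf (⟨t, ht⟩ : H) = 2 := by rw [← orderOf_coe]; exact ht2
      classical
      have := Fintype.ofFinite H
      have h4 := IsCyclic.card_orderOf_eq_totient (α := H) (d := 2)
        (e1 ▸ (orderOf_dvd_card : orderOf (⟨s, hs⟩ : H) ∣ Fintype.card H))
      rw [Nat.totient_two, Finset.card_eq_one] at h4
      obtain ⟨a, ha⟩ := h4
      have h5 : ∀ x : H, orderOf x = 2 → x = a := fun x hx => by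
        rw [← Finset.mem_singleton, ← ha]; simpa using hx
      exact congrArg Subtype.val ((h5 _ e1).trans (h5 _ e2).symm)
    rw [this] at h3
    exact odd_of_mem hY h3
  by_cases hz : ∃ s ∈ H, orderOf s = 2 ∧ cen1 s = ⊤
  · obtain ⟨s, hs, hs2, hz⟩ := hz
    intro hb
    refine H84.ne_one_of_orderOf_two hs2 (mem_bot.1 (hb ▸ ⟨hs, ?_⟩))
    exact mem_centralizer_iff.2 fun k _ => mem_cen1.1 (hz ▸ mem_top k)
  push Not at hz
  have hK : normalClosure (H : Set G) ≤ h.stab := by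
    rw [← ncl_top, ncl_le_iff_cj]
    intro g _
    obtain ⟨Y, h1, h2, h3⟩ := h.exists_compl g
    refine le_sup_right.trans (h3.trans (sup_le h.le_stab ?_))
    have : IsMulCommutative H := ⟨⟨fun a b => Subtype.ext (h.comm _ a.2 _ b.2)⟩⟩
    obtain ⟨m, hm⟩ := IsPGroup.iff_card.1 h.two
    refine H1.le_of_noncyclic_centralizer_le hc h2
      (by rw [hm]; exact Nat.Coprime.pow_left m (Nat.coprime_two_left.2 h1)) _ fun a ha ha1 => ?_
    obtain ⟨s, hs, hs2⟩ := GA.exists_invol (h.two.to_le (zpowers_le.2 ha))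
      (fun e => ha1 (zpowers_eq_bot.1 e))
    have hsH := zpowers_le.2 ha hs
    have hHs : H ≤ cen1 s := fun x hx => mem_cen1.2 (h.comm x hx s hsH)
    intro y hy
    have hys : y ∈ cen1 s := cen_le_cen1 hs (cen1_eq a ▸ hy.2)
    refine h.mem_stab hsH hs2 (odd_opp (cen1 s)) (le_normalizer_map_subtype _) (fun x hx => ?_)
      h1 h2 hy.1 hys
    have h4 := ih _ hHs (hz s hsH hs2)
    rw [sup_comm] at h4
    obtain ⟨o, ho, n, hn, e⟩ := (mem_sup_right_norm
      (by rw [normalizer_eq_top]; exact le_top)).1 (h4 ▸ mem_top (⟨x, hx⟩ : cen1 s))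
    refine ⟨o, ⟨o, ho, rfl⟩, n, ?_, congrArg Subtype.val e⟩
    have := map_le_normalizer_map (cen1 s).subtype le_rfl ⟨n, hn, rfl⟩
    rwa [subgroupOf_map_subtype, inf_eq_left.2 hHs] at this
  intro hb
  refine ht1 (mem_bot.1 (hb ▸ ⟨ht, mem_cen_of_odd hO (le_normalClosure ht) ht2 fun k hk => ?_⟩))
  exact hK hk t ⟨1, t, ht, ht2, by simp⟩ t ht (by
    rw [H84.mul_self_of_orderOf_two ht2, orderOf_one]; exact odd_one)

theorem card_quot_lt {N : Subgroup G} [N.Normal] (h : N ≠ ⊥) : Nat.card (G ⧸ N) < Nat.card G := by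
  rw [card_eq_card_quotient_mul_card_subgroup N]
  exact lt_mul_of_one_lt_right Nat.card_pos (N.one_lt_card_iff_ne_bot.2 h)

theorem main (n : ℕ) : ∀ (G : Type u) [Group G] [Finite G], Nat.card G = n →
    ∀ H : Subgroup G, EC H → nor H ⊔ oddCore G = ⊤ := by
  induction n using Nat.strong_induction_on with
  | _ n ih =>
  intro G _ _ hn H h
  subst hn
  by_cases hO : oddCore G = ⊥
  swap
  · have h1 := ih _ (card_quot_lt hO) _ rfl _ (h.map (pq 2 G) pq_surjective)
    rw [show oddCore (G ⧸ oddCore G) = ⊥ from H2.pPrimeCore_quotient_pPrimeCore 2 G,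
      sup_bot_eq] at h1
    have h2 := comap_le_normalizer_comap (pq 2 G) h1.ge
    rw [comap_top, comap_map_eq, ker_pq] at h2
    have h3 : IsSyl 2 H (H ⊔ oddCore G) := by
      refine ⟨le_sup_left, h.two, fun Q hQ h4 h5 => le_antisymm (fun x hx => ?_) h4⟩
      obtain ⟨a, ha, o, ho, rfl⟩ := (mem_sup_left_norm
        (by rw [normalizer_eq_top]; exact le_top)).1 (h5 hx)
      have h6 : o ∈ Q ⊓ oddCore G := ⟨by simpa using Q.mul_mem (Q.inv_mem (h4 ha)) hx, ho⟩
      rw [H10.W.inf_eq_bot_of_odd hQ (H2.odd_card_oddCore G), mem_bot] at h6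
      rwa [h6, mul_one]
    rw [← top_le_iff, ← h3.frattini le_top h2]
    exact sup_le (le_sup_of_le_left inf_le_right) (sup_le_sup_right le_normalizer _)
  by_cases hne : H = ⊥
  · rw [hne, ← top_le_iff]; exact le_sup_of_le_left (le_normalizer_bot _)
  set K := normalClosure (H : Set G) with hK
  have hV := h.inf_cen_ne_bot hO hne fun M hM hM' => ih _ (lt_of_le_of_ne (card_le_card_group M)
    fun e => hM' (card_eq_iff_eq_top M |>.1 e)) _ rfl _ (h.subgroupOf hM)
  set V := H ⊓ cen K with hVdef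
  have hnK : ∀ X : Subgroup G, X ≤ nor K := fun X => by rw [nor, normalizer_eq_top]; exact le_top
  have hVn : V.Normal := normal_of_top_le_normalizer ((h.sc.frattini le_top).trans (sup_le
    (by rw [ncl_top]; exact le_normalizer_of_le_centralizer (le_centralizer_iff.1 inf_le_right))
    (le_normalizer_inf inf_le_right (le_normalizer_centralizer (hnK _)))))
  let f := QuotientGroup.mk' V
  have h1 := ih _ (card_quot_lt hV) _ rfl _ (h.map f (QuotientGroup.mk'_surjective V))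
  set U := (oddCore (G ⧸ V)).comap f with hU
  have hn1 : (U ⊓ cen V).Normal := inferInstance
  have hS : IsSyl 2 V (U ⊓ cen V) := by
    refine ⟨le_inf (fun x hx => ?_) fun x hx => mem_centralizer_iff.2 fun y hy =>
      h.comm y hy.1 x hx.1, h.two.to_le inf_le_left, fun Q hQ h4 h5 => le_antisymm ?_ h4⟩
    · rw [hU, mem_comap, (QuotientGroup.eq_one_iff x).2 hx |> (fun e : f x = 1 => e)]
      exact one_mem _
    · have h6 := H10.W.inf_eq_bot_of_odd (hQ.map f) (H2.odd_card_oddCore (G ⧸ V))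
      rw [inf_eq_left.2 (map_le_iff_le_comap.2 (h5.trans inf_le_left)), Subgroup.map_eq_bot_iff,
        QuotientGroup.ker_mk'] at h6
      exact h6
  have h2 : res 2 (U ⊓ cen V) = ⊥ := by
    have h3 := H99.not_dvd_card_res_of_central hS (le_centralizer_iff.1 inf_le_right)
    have : (res 2 (U ⊓ cen V)).Normal := normal_of_top_le_normalizer
      (le_normalizer_res (by rw [normalizer_eq_top]))
    rw [← le_bot_iff, ← hO]
    exact H2.le_oddCore (by rwa [← Nat.not_even_iff_odd, even_iff_two_dvd])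
  have h3 := hS.eq_of_isPGroup (res_eq_bot_iff.1 h2)
  have h4 : U ≤ nor H := by
    refine H1.le_normalizer_of_commutator_le (le_trans (le_trans ?_ h3.ge) (inf_le_left : V ≤ H))
    refine le_inf (commutator_le_right _ _) (le_trans ?_ (le_centralizer_iff.1 inf_le_right))
    exact (commutator_mono le_normalClosure le_rfl).trans (commutator_le_left _ _)
  have h5 := comap_le_normalizer_comap f (le_refl (nor (H.map f)))
  rw [comap_map_eq, QuotientGroup.ker_mk', sup_eq_left.2 (inf_le_left : V ≤ H)] at h5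
  rw [← top_le_iff, ← comap_top f, ← h1, ← comap_sup_eq f _ _ (QuotientGroup.mk'_surjective V)]
  exact le_sup_of_le_left (sup_le h5 h4)

end H92.XC
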