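/- Fusion systems of sectional rank three: the torus normalizes the next normalizer. -/
import Cfsg.Agent.H87.F3T

set_option autoImplicit false

namespace H92.F3
open Cfsg H92 H93 Subgroup H92.Es H92.P5 H87.F3
open scoped commutatorElement

universe u

variable {Ω : Type u} [Group Ω] {A B E K L M N T U X Y : Subgroup Ω} {g x y : Ω} {p : ℕ}
  [hp : Fact p.Prime] [Finite Ω]

omit hp [Finite Ω] in
theorem nmC (h : Loc p E N L) : L ≤ Nm (L ⊓ Ct E) := fun _ ha =>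
  mem_Nm_inf (le_Nm _ ha) (mem_Nm_Ct (h.nm ha))

/-- an invariant subgroup acting as a `p`-group meets `N` inside `E` -/
theorem rad (h : Loc p E N L) (hK : L ≤ Nm K) (hq : PMod p K (Ct E)) (hx : x ∈ N) (hxK : x ∈ K) :
    x ∈ E := by
  by_contra n
  have h1 : L ⊓ K ≤ N ⊔ (L ⊓ Ct E) := by
    refine h.syl.le_of_normal le_sup_right (nmC h) (fun k hk => ?_) inf_le_left
      fun _ ha => mem_Nm_inf (le_Nm _ ha) (hK ha)
    obtain ⟨n, hn⟩ := hq k hk.2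
    exact ⟨n, pow_mem hk.1 _, hn⟩
  have h2 : L ≤ N ⊔ (L ⊓ Ct E) := by
    refine h.gen _ (fun a ha => ?_) le_sup_right
    refine (cj_mono a (h.sp.sup hx n).le).trans ?_
    rw [cj_sup, cj_eq_of_Nm (h.nm ha), cj_zpowers]
    exact sup_le (h.sp.le.trans le_sup_left) (zpowers_le.2 (h1 (mem_inf.2
      ⟨conj_mem_of_Nm (le_Nm _ ha) (h.le hx), conj_mem_of_Nm (hK ha) hxK⟩)))
  exact h.nn ((H87.F3.pMod_sup h.sp.pg (h.le.trans (nmC h))).mono h2 inf_le_right)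

theorem nm_of_pMod (h : Loc p E N L) (hK : L ≤ Nm K) (hq : PMod p L K) (hU : U ≤ E)
    (h1 : N ≤ Nm U) (h2 : K ≤ Nm U) : L ≤ Nm U := fun _ ha => by
  obtain ⟨x, hx, n, hn, rfl⟩ := h.syl.exists_mul hK hq ha
  exact mul_mem ((sup_le h1 (inf_le_right.trans ((Ct_anti hU).trans (Ct_le_Nm _)))) hx) (h2 hn)

/-- a transvection permutes the lines other than its axis transitively -/
theorem lines (sA : Sp p N A) (sM : Sp p A M) (sX : Sp p X M) (sY : Sp p Y M) (lX : X ≤ N)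
    (lY : Y ≤ N) (nX : ¬ X ≤ A) (nY : ¬ Y ≤ A) (t1 : g ∈ Tv N A)
    (t2 : g ∈ Tv A M) (n : g ∉ Nm X) : ∃ i : ℕ, cj (g ^ i) X = Y := by
  obtain ⟨x, hx, hx'⟩ := SetLike.not_le_iff_exists.1 nX
  obtain ⟨y, hy, hy'⟩ := SetLike.not_le_iff_exists.1 nY
  have xM : x ∉ M := fun e => hx' (sM.le e)
  have hc : x⁻¹ * (g * x * g⁻¹) ∉ M := fun e => n (Nm_of_Tv (A := X) (sX.tv_of (C := M)
    (mem_Tv_self t2.1) sX.nm hx xM (W.com (by rwa [W, zpow_one]) (sX.nm hx))) sX.le le_rfl)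
  obtain ⟨k, hk⟩ := sA.dec (lY hy) hy' (lX hx)
  obtain ⟨j, hj⟩ := sM.dec (t1.2 x (lX hx)) hc (inv_mem hk)
  obtain ⟨i, hi⟩ := mem_powers_iff_mem_zpowers.2
    (⟨j, rfl⟩ : (x⁻¹ * (g * x * g⁻¹)) ^ j ∈ zpowers (x⁻¹ * (g * x * g⁻¹)))
  dsimp only at hi
  rw [← hi] at hj
  have h1 := mul_mem (zpow_mem hy k) (sY.le (mul_mem (inv_mem hj) (tv_pow t1 t2 (lX hx) i)))
  have h2 : g ^ i * x * (g ^ i)⁻¹ ∈ Y := by convert h1 using 1; group
  refine ⟨i, Sp.eq_of_le' (C := M) ?_ sY ?_⟩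
  · simpa only [cj_eq_of_Nm (pow_mem t2.1 i)] using sX.cj (g ^ i)
  · rw [sX.sup hx xM, cj_sup, cj_eq_of_Nm (pow_mem t2.1 i), cj_zpowers]
    exact sup_le sY.le (zpowers_le.2 h2)

theorem jobCA1 : JobCA1.{u} := by
  intro sc tor Ω _ _ p hp N₂ N E L G T d l h2 sr pg l2 n2 lc ex pp hN hext gT lT pT el cd
    dl d1 d2 d3 d5
  have gN := ex.nm
  have l2G : N₂ ≤ G := le_sup_left.trans pp.le
  have lG : N ≤ G := l2.trans l2G
  have lE := lc.sp.le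
  have pT' : IsPGroup p T := lc.sp.pg.to_le (el.le.trans lE)
  have np : ¬ PMod p L (Tv E T) := fun h => lc.nn (PMod.tvct pT' h pT)
  have gM : G ≤ Nm (N ⊓ Tv N T) := fun _ h => mem_Nm_inf (gN h) (mem_Nm_Tv (gN h) (gT h))
  have tM : N ≤ Tv (N ⊓ Tv N T) T := tv_symm (lG.trans gT) inf_le_right
  have lM : N ⊓ Tv N T ≤ E := fun y hy => by
    refine rad lc (K := L ⊓ Tv E T) (fun _ ha => mem_Nm_inf (le_Nm _ ha)
      (mem_Nm_Tv (lc.nm ha) (lT ha))) ?_ hy.1 (mem_inf.2 ⟨lc.le hy.1, Tv_anti lE _ hy.2⟩)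
    exact PMod.tvct pT' (PMod.of_le inf_le_right) (pT.mono inf_le_left le_rfl)
  have TM : T ≤ N ⊓ Tv N T := le_inf (el.le.trans lE) (le_Tv_of_le_Nm (lG.trans gT))
  generalize N ⊓ Tv N T = M at cd gM tM lM TM
  have sM : Sp p E M := ⟨lM, lc.sp.pg.to_le lE, Nat.eq_of_mul_eq_mul_left hp.out.pos (by
    rw [← lc.sp.card, cd, sq, mul_assoc])⟩
  obtain ⟨x, hx, hx'⟩ := lc.sp.ex
  have se : Sec p E L E T := ⟨el.le, le_rfl, lc.nm, lT, el.ab, el.pw⟩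
  rcases sc Ω p E N L E T h2 (sr.mono l2) lc se np with ⟨A₀, P, H, D, q⟩ | ⟨A₂, A₁, c, -⟩
  swap
  · have h1 : M ≤ A₁ := fun y hy => by
      by_contra n
      by_cases n' : y ∈ A₂
      · exact c.n2 x hx hx' y n' n (com_of_tv (tM hx) hy)
      · exact c.n3 x hx hx' y (lM hy) n' (c.s1.le (com_of_tv (tM hx) hy))
    exact absurd ((Sp.eq_of_le sM c.s3 (h1.trans c.s2.le)) ▸ h1) c.s2.not_le
  obtain rfl : M = H := Sp.eq_of_le sM q.sH fun y hy => by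
    by_contra n
    exact q.ne x hx hx' y (lM hy) n (q.lB (com_of_tv (tM hx) hy))
  obtain ⟨y, hy, hy'⟩ := sM.ex
  have tP : N ≤ Tv N P := lc.sp.cyc (q.t1.trans (Tv_le_Nm _ _)) q.t1
  have cP : ⁅x, y⁆ ∈ P := com_of_tv (q.t1 hx) hy
  have cT : ⁅x, y⁆ ∉ T := fun e => q.ne x hx hx' y hy hy' (q.lB e)
  have eP : T ⊔ ⁅N, N⁆ = P := q.s1.eq_of le_sup_left (sup_le q.s1.le (le_of_tv tP))
    fun e => cT (e (mem_sup_right (commutator_mem_commutator hx (lE hy))))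
  have gP : G ≤ Nm P := fun _ h => eP ▸ mem_Nm_sup (gT h) (mem_Nm_commutator (gN h) (gN h))
  have lD : D ≤ E := q.sB.le.trans lM
  have pD : IsPGroup p D := sM.pg.to_le lD
  obtain ⟨h, hh, co, wM, wE, wN, -⟩ := tor Ω p E N L G E M D d l lc ex
    ⟨lD, le_rfl, lc.nm, fun _ ha => Nm_of_Tv (q.tB ha) q.lB le_rfl,
      fun _ ha => mem_Tv_mono (el.ab ha) q.lB lD, fun y hy => q.lB (el.pw y hy)⟩ sM q.sB
    (lG.trans gM) (fun e => by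
      obtain ⟨a, ha, n⟩ := q.ex
      exact n (cj_eq_of_Nm (e ha) ▸ cj_mono a q.lP))
    (PMod.tvct pD (PMod.of_le inf_le_right) (PMod.tvct pT'
      (PMod.of_le (inf_le_left.trans q.tB)) (pT.mono inf_le_left le_rfl))) dl
  obtain ⟨hL, hG⟩ := mem_inf.1 hh
  have hT : h ∈ Ct T := PMod.mem pT hL co
  have hD : h ∈ Ct D := ct_of_tv pT' co (q.tB hL) hT
  have hP : h ∈ Tv M P := by
    have := mem_Tv_inf (Tv_anti lM _ (q.tA hL)) (mem_Tv_self (gM hG))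
    rwa [q.s0.eq_of' (K := A₀ ⊓ M) (le_inf q.s0.le q.lP) inf_le_left
      fun e => q.nH (e.trans inf_le_right)] at this
  obtain ⟨A, sA', lA, tA, nA⟩ := exists_step pg l2 (lM.trans lE) (l2G.trans gN) (l2G.trans gM)
    fun e => hx' (lM (e hx))
  have sA : Sp p N A := ⟨lA, lc.sp.pg, by rw [sA'.card, lc.sp.card, sM.card]⟩
  have tN : N₂ ≤ Tv N A := fun _ hz => sA.tv pg l2 hz (gN (l2G hz)) (nA hz)
  have nA' : ∀ γ ∈ G, cj γ E ≠ A := fun γ hγ e =>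
    n2 ((le_inf le_rfl (e ▸ nA)).trans (hN γ hγ))
  have nE : ∀ g ∈ N₂, g ∈ Nm E → g ∈ N := fun g h1 h2 => hN 1 G.one_mem
    (mem_inf.2 ⟨h1, by rwa [cj_one]⟩)
  have EA : ¬ E ≤ A := fun e => nA' 1 G.one_mem (by rw [cj_one, Sp.eq_of_le lc.sp sA e])
  obtain ⟨g, hg, hg'⟩ := SetLike.not_le_iff_exists.1 n2
  have gA : G ≤ Nm A := fun a ha => by
    by_contra n
    have s1 : Sp p (cj a A) M := by simpa only [cj_eq_of_Nm (gM ha)] using sA'.cj a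
    obtain ⟨i, hi⟩ := lines sA sA' sM s1 lE (cj_eq_of_Nm (gN ha) ▸ cj_mono a lA) EA
      (fun e => n (mem_Nm_of_le e)) (tN hg) (tA hg) fun e => hg' (nE g hg e)
    exact nA' (a⁻¹ * g ^ i) (mul_mem (inv_mem ha) (pow_mem (l2G hg) i))
      (by rw [cj_mul, hi, cj_inv_cj])
  have s2 : Sp p N₂ N := sp_of_le pg (lt_of_le_of_ne l2 fun e => n2 e.ge)
    ((card_le_tv sA' sA (lG.trans gM) tA tN).trans (Nat.mul_le_mul_left _ (card_le_of_le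
      fun z hz => nE z hz.1 (Nm_of_Tv hz.2 lM lE))))
  have pM : IsPGroup p M := sM.pg.to_le lM
  have MN : M ≤ Tv N T := tv_symm (lM.trans (lE.trans (lG.trans gT))) tM
  have hJ : G ⊓ Tv M P ⊓ Ct T ⊓ (Tv N A ⊓ Tv A M) ≤ N₂ ⊔ Ct N := by
    refine pp.le_of_normal le_sup_right (gN.trans (Nm_le_Nm_Ct _)) (pMod_of_cop ?_)
      (inf_le_left.trans (inf_le_left.trans inf_le_left)) fun a ha =>
      mem_Nm_inf (mem_Nm_inf (mem_Nm_inf (le_Nm _ ha) (mem_Nm_Tv (gM ha) (gP ha)))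
        (mem_Nm_Ct (gT ha))) (mem_Nm_inf (mem_Nm_Tv (gN ha) (gA ha)) (mem_Nm_Tv (gA ha) (gM ha)))
    rintro z ⟨⟨⟨-, z1⟩, z2⟩, z3, z4⟩ cz
    have z5 : z ∈ Tv N M := tv_trans sA'.pg cz z3 z4
    have cM := q.lP cP
    have z6 : z ∈ Tv P T := q.s1.tv_of (mem_Tv_of_Ct z2 (Ct_le_Nm _ z2)) q.s1.nm cP cT
      (W.com (by
        simpa using W.comm (W.of_tv z5 hx) (W.of_tv z5 (lE hy)) hx (lE hy) (lM.trans lE)
          (gT (lG hx)) (gT (lG (lE hy))) MN MN (com_of_tv (tM hx) cM) (com_of_tv (tM (lE hy)) cM))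
        (q.s1.nm cP))
    exact ct_of_tv pM cz z5 (ct_of_tv q.s1.pg cz z1 (ct_of_tv pT' cz z6 z2))
  obtain ⟨h₁, n1, e1⟩ := hext h hG (mem_Nm_of_le (by
    rw [cj_sup, cj_eq_of_Nm (mem_Nm_Ct (gN hG))]
    refine sup_le (cj_le_iff.2 fun z hz => ?_) le_sup_right
    have zG := l2G hz
    have : h * z * h⁻¹ * z⁻¹ ∈ N₂ ⊔ Ct N := hJ (mem_inf.2 ⟨comm_mem_of_Nm'
      (mem_Nm_inf (mem_Nm_inf (le_Nm _ zG) (mem_Nm_Tv (gM zG) (gP zG))) (mem_Nm_Ct (gT zG)))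
      (mem_inf.2 ⟨mem_inf.2 ⟨hG, hP⟩, hT⟩), comm_mem_of_Nm
      (mem_Nm_inf (mem_Nm_Tv (gN hG) (gA hG)) (mem_Nm_Tv (gA hG) (gM hG)))
      (mem_inf.2 ⟨tN hz, tA hz⟩)⟩)
    simpa using mul_mem this (mem_sup_left hz)))
  obtain ⟨v, hv, cv, e⟩ := exists_coprime_ext co (gN hG) e1
  have nv : ∀ X ≤ N, h ∈ Nm X → v ∈ Nm X := fun X l hX => Nm_of_div_Ct hX (Ct_anti l e)
  have MN' := lM.trans lE
  refine ⟨1, A, M, D, P, v, ?_⟩
  rw [cj_one]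
  exact ⟨sr, s2, lc.sp, sA, sM, sA', q.sB, q.s1, EA, fun e => hg' (nE g hg (e hg)), q.lP, q.lB,
    q.nP, q.cB, nA, l2G.trans gM, l2G.trans gP, l2G.trans gT, tM, fun y hy => el.pw y (lM hy),
    q.ne, cv, mem_of_mem_zpowers hv n1, nv _ le_rfl (gN hG), nv _ lE (lc.nm hL), nv _ lA (gA hG),
    nv _ MN' (gM hG), nv _ (q.lP.trans MN') (gP hG),
    mem_of_div hD e (Ct_anti (lD.trans lE)), dl, d1, d2, d3, d5,
    fun y hy => (wM y hy).congr (MN' hy) e, fun y hy => (wE y hy).congr (lE hy) e,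
    fun y hy => (wN y hy).congr hy e⟩

end H92.F3
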