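/- Fusion systems of sectional rank three: case IIb. -/
import Cfsg.Agent.H87.F3A

set_option autoImplicit false

namespace H92.F3
open Cfsg H92 H93 Subgroup H92.Es H92.P5 H87.F3
open scoped commutatorElement

universe u

variable {Ω : Type u} [Group Ω] {A A₂ B N P U Y Z E₁ L₁ E₂ L₂ : Subgroup Ω} {p : ℕ}
  [hp : Fact p.Prime] [Finite Ω]

omit hp in
theorem el_max (hs : SR p 3 N) (e : Nat.card A = p ^ 3) (l : A ≤ B) (lN : B ≤ N)
    (hB : El p B ⊥) : B ≤ A :=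
  (eq_of_le_of_card_ge l (e ▸ hs.el lN hB)).ge

theorem card_two' (s1 : Sp p Y Z) (s2 : Sp p Z ⊥) : Nat.card Y = p ^ 2 := by
  rw [Sp.two s1 s2, card_bot, mul_one]

theorem no_four (hs : SR p 3 N) (s1 : Sp p A P) (s2 : Sp p P Y) (e : Nat.card Y = p ^ 2)
    (l : A ≤ N) (hA : El p A ⊥) : False :=
  absurd (hs.el l hA) (by
    rw [Sp.two s1 s2, e, ← pow_add]
    exact not_le.2 (Nat.pow_lt_pow_right hp.out.one_lt (by omega)))

theorem card_com (s1 : Sp p A P) (s2 : Sp p P Y) (h : A ≤ Ct Y) : Nat.card (⁅A, A⁆ :) ≤ p := by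
  obtain ⟨s, hs, hs'⟩ := s1.ex
  obtain ⟨r, hr, hr'⟩ := s2.ex
  obtain ⟨-, h1, h2⟩ := com_gen s1 s2 bot_le (le_tv_bot h) hs hs' hr hr'
  rw [bot_sup_eq] at h2
  refine (card_le_of_le h2).trans ?_
  rw [Nat.card_zpowers]
  exact orderOf_le_of_pow_eq_one hp.out.pos h1

namespace C2
variable (c : C2 p N E₁ L₁ E₂ L₂)
include c

theorem cY : N ⊓ Ct (OZ p E₂) ≤ E₂ :=
  (c.l2.sp.eq_of' (le_inf c.l2.sp.le (le_Ct_OZ _ _)) inf_le_left fun e => c.c2 (by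
    rw [le_antisymm c.l2.OZ_le (le_OZ ((OZ_le _ _).trans c.l2.sp.le) (e.trans inf_le_right)
      fun y hy => hy.2.2)]
    exact fun _ ha => nm_OZ (c.l2.nm ha))).le

theorem ex : ∃ x ∈ E₁, x ∉ E₂ :=
  SetLike.not_le_iff_exists.1 fun e => c.ne (Sp.eq_of_le c.l1.sp c.l2.sp e)

theorem cub (hY : OZ p E₂ ≤ E₁) (k : Cub p E₂ N (OZ p E₂) A₂ (OZ p N) ⊥) : False := by
  have l1 := c.l1.sp.le
  have l2 := c.l2.sp.le
  have e : Nat.card (OZ p E₂) = p ^ 3 := by rw [k.card, card_bot, mul_one]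
  obtain ⟨x, hx, hx'⟩ := ex c
  have nA : L₁ ≤ Nm A₂ := fun a ha => by
    have h1 : cj a A₂ ≤ E₁ := cj_eq_of_Nm (c.l1.nm ha) ▸ cj_mono a (k.s3.le.trans hY)
    have h2 : E₁ ≤ Tv (cj a A₂) (OZ p N) := by
      have := cj_mono a (l1.trans k.t2)
      rwa [cj_eq_of_Nm (c.l1.nm ha), cj_Tv, cj_eq_of_Ct (c.c1 ha)] at this
    refine mem_Nm_of_le fun y hy => ?_
    by_cases h3 : cj a A₂ ≤ E₂
    · have h4 : cj a A₂ ≤ OZ p E₂ := le_sup_left.trans (el_max c.sr e le_sup_right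
        (sup_le (h1.trans l1) (hY.trans l1)) (El.sup (by
          simpa using ((el_OZ p E₂).anti bot_le k.s3.le).cj a) (el_OZ _ _)
          (le_tv_bot (h3.trans (le_Ct_OZ _ _)))))
      by_contra n
      exact k.n3 x (l1 hx) hx' y (h4 hy) n (com_of_tv (h2 hx) hy)
    · obtain ⟨z, hz, hz'⟩ := SetLike.not_le_iff_exists.1 h3
      obtain ⟨w, hw, hw'⟩ := k.s3.ex
      exact absurd (com_symm (com_of_tv (h2 (hY hw)) hz)) (k.n3 z (l1 (h1 hz)) hz' w hw hw')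
  have h1 : E₁ ⊓ Ct A₂ ≤ E₂ := fun y hy => by
    by_contra n
    obtain ⟨w, hw, hw'⟩ := k.s2.ex
    exact k.n2 y (l1 hy.1) n w hw hw' (mem_bot.2 (com_ct hy.2 hw))
  have h2 : OZ p E₂ ≤ OZ p (E₁ ⊓ Ct A₂) := le_OZ
    (le_inf hY ((el_OZ p E₂).ct.trans (Ct_anti k.s3.le))) (h1.trans (le_Ct_OZ _ _))
    fun y hy => hy.2.2
  refine c.y1 ?_
  rw [le_antisymm h2 (el_max c.sr e h2 ((OZ_le _ _).trans (inf_le_left.trans l1)) (el_OZ _ _))]
  exact fun a ha => nm_OZ (mem_Nm_inf (c.l1.nm ha) (mem_Nm_Ct (nA ha)))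

variable (sY : Sp p (OZ p E₂) (OZ p N))
include sY

theorem tY : N ≤ Tv (OZ p E₂) (OZ p N) := fun _ ha =>
  sY.tv c.l2.pg ((OZ_le _ _).trans c.l2.sp.le) ha (nm_OZ (c.l2.sp.nm ha)) (nm_OZ (le_Nm _ ha))

theorem four (lU : U ≤ E₁) (nU : L₁ ≤ Nm U) (el : El p U (OZ p N)) (pw : ∀ y ∈ U, y ^ p = 1)
    (hY : OZ p E₂ ≤ U) (e : Nat.card U = p ^ 4) : False := by
  have lN := lU.trans c.l1.sp.le
  have pU := c.l1.pgE.to_le lU
  have cZ : U ≤ Ct (OZ p N) := lN.trans (le_Ct_OZ _ _)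
  have na : ¬ U ≤ Ct U := fun h => absurd (c.sr.el lN (el_bot h pw)) (by
    rw [e]; exact not_le.2 (Nat.pow_lt_pow_right hp.out.one_lt (by omega)))
  have cD := cen_p4 pU e c.sZ cZ el.ab na
  have cY := card_two' sY c.sZ
  have nD : L₁ ≤ Nm (U ⊓ Ct U) := fun _ ha => mem_Nm_inf (nU ha) (mem_Nm_Ct (nU ha))
  have lD : U ⊓ Ct U ≤ N := inf_le_left.trans lN
  have sD : Sp p (U ⊓ Ct U) (OZ p N) := sp_of c.l1.pg lD (le_inf el.le (le_Ct_comm.1 cZ)) cD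
    (by rw [c.sZ.card, card_bot, mul_one, pow_one])
  have n : ¬ U ⊓ Ct U ≤ OZ p E₂ := fun h =>
    c.y1 (eq_of_le_of_card_ge h (cY.trans cD.symm).le ▸ nD)
  have cD' : U ⊓ Ct U ≤ Ct (OZ p E₂) := inf_le_right.trans (Ct_anti hY)
  have eA : El p (U ⊓ Ct U ⊔ OZ p E₂) ⊥ := El.sup (el_bot
    (inf_le_right.trans (Ct_anti inf_le_left)) fun y hy => pw y hy.1) (el_OZ _ _) (le_tv_bot cD')
  have lA : U ⊓ Ct U ⊔ OZ p E₂ ≤ E₂ := sup_le ((le_inf lD cD').trans (C2.cY c)) (OZ_le _ _)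
  obtain ⟨i, hi⟩ := card_pow c.l2.pgE lA
  have h1 : 2 < i := pow_lt_of_lt (lt_of_le_of_ne le_sup_right fun h => n (le_sup_left.trans h.ge)) cY hi
  have h2 : i ≤ 3 := (Nat.pow_le_pow_iff_right hp.out.one_lt).1
    (hi ▸ c.sr.el (lA.trans c.l2.sp.le) eA)
  obtain rfl : i = 3 := by omega
  have nZ : N ≤ Nm (OZ p N) := fun _ ha => nm_OZ (le_Nm _ ha)
  refine c.c2 (c.l2.trick c.sr c.sZ eA lA hi (fun a ha => ?_) fun h => n ?_)
  · have ha' := c.l2.sp.le ha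
    exact mem_Tv_sup (sD.tv c.l1.pg lD ha' (nD (c.l1.le ha')) (nZ ha')) (tY c sY ha')
      (lD.trans nZ) (((OZ_le _ _).trans c.l2.sp.le).trans nZ)
  · exact le_OZ (le_sup_left.trans lA) (h.trans (Ct_anti le_sup_left)) fun y hy => pw y hy.1

omit sY in
theorem out (hY : OZ p E₂ ≤ E₁) (lU : U ≤ N) (nU : N ≤ Nm U) (s : Sp p U (OZ p E₂)) :
    U ≤ E₂ := fun y hy => by
  by_contra n
  have h1 : U ⊓ E₂ = OZ p E₂ := s.eq_of' (le_inf s.le (OZ_le _ _)) inf_le_left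
    fun e => n (e hy).2
  have h2 : y ∈ Tv E₂ (OZ p E₂) := tv_of_com (s.nm hy) fun e he => h1 ▸ mem_inf.2
    ⟨comm_mem_of_Nm' (nU (c.l2.sp.le he)) hy, comm_mem_of_Nm (c.l2.sp.nm (lU hy)) he⟩
  rcases c.irr (OZ p E₂ ⊓ H9.phi E₂) bot_le inf_le_left (fun a ha =>
    mem_Nm_inf (nm_OZ (c.l2.nm ha)) (nm_phi (c.l2.nm ha))) with h | h
  · have h3 : H9.phi E₂ = ⊥ := by
      by_contra h3
      exact inf_OZ_ne_bot c.l2.pgE (H9.phi_le _) (fun _ ha => nm_phi (le_Nm _ ha)) h3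
        (by rwa [inf_comm])
    have h4 : El p E₂ ⊥ := h3 ▸ el_phi c.l2.pgE
    exact c.ne (Sp.eq_of_le c.l2.sp c.l1.sp
      ((le_OZ le_rfl h4.ct fun y hy => mem_bot.1 (h4.pw y hy)).trans hY)).symm
  · exact n (c.l2.rad (pMod_phi c.l2.pgE) (fun _ ha => mem_Nm_Tv (c.l2.nm ha)
      (nm_phi (c.l2.nm ha))) (lU hy) (mem_Tv_mono h2 (inf_eq_left.1 h) (H9.phi_le _)))

theorem inn (sc : JobSC.{u}) (lU : U ≤ E₂) (nU : N ≤ Nm U) (s : Sp p U (OZ p E₂))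
    (pw : ∀ y ∈ U, y ^ p = 1) : L₂ ≤ Nm U := by
  by_contra n
  have l2 := c.l2.sp.le
  have cY := card_two' sY c.sZ
  have nY : L₂ ≤ Nm (OZ p E₂) := fun _ ha => nm_OZ (c.l2.nm ha)
  have nZ : N ≤ Nm (OZ p N) := fun _ ha => nm_OZ (le_Nm _ ha)
  obtain ⟨V, hV⟩ := exists_om (X := E₂) c.odd le_rfl
  have lV : V ≤ E₂ := fun y hy => ((hV y).1 hy).1
  have lN := lV.trans l2
  have tV : E₂ ≤ Tv V (OZ p E₂) :=
    tv_symm ((l2.trans c.l2.le).trans nY) fun y hy => ((hV y).1 hy).2.1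
  have pV : ∀ y ∈ V, y ^ p = 1 := fun y hy => ((hV y).1 hy).2.2
  have UV : U ≤ V := fun y hy => (hV y).2 ⟨lU hy, tv_symm (s.nm) (fun a ha =>
    s.tv c.l2.pg (lU.trans l2) (l2 ha) (nU (l2 ha)) (nY (c.l2.lE ha))) hy, pw y hy⟩
  have nV : L₂ ≤ Nm V := fun _ ha => nm_om hV (c.l2.nm ha) (nY ha)
  have cV : V ≤ Ct (OZ p E₂) := lV.trans (le_Ct_OZ _ _)
  have cm : ∀ X ≤ V, ⁅X, V⁆ ≤ OZ p E₂ := fun X h => le_of_tv ((h.trans lV).trans tV)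
  rcases sc Ω p E₂ N L₂ V (OZ p E₂) c.odd c.sr c.l2
    ⟨s.le.trans UV, lV, nV, nY, tV, fun y hy => pV y hy ▸ one_mem _⟩
    (fun h => n (c.l2.nm_of_pMod lV nV nY h s.le UV nU)) with ⟨A₀, P, H, D, q⟩ | ⟨A₂, A₁, k, -⟩
  · have h1 := card_com q.s0 q.s1 (q.lA.trans cV)
    rcases c.irr ⁅A₀, A₀⁆ bot_le ((commutator_mono le_rfl q.lA).trans (cm _ q.lA))
      (fun _ ha => mem_Nm_commutator (q.nA₀ ha) (q.nA₀ ha)) with h | h
    · exact no_four c.sr q.s0 q.s1 cY (q.lA.trans lN) (el_bot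
        (commutator_eq_bot_iff_le_centralizer.1 h) fun y hy => pV y (q.lA hy))
    · rw [h, cY] at h1
      exact absurd h1 (not_le.2 (by simpa using Nat.pow_lt_pow_right hp.out.one_lt one_lt_two))
  · have l3 := k.s3.le
    have l1 := k.s2.le.trans l3
    have n2 : N ≤ Nm A₂ := k.t3.trans (Tv_le_Nm _ _)
    have h0 := (commutator_mono le_rfl l3).trans (cm _ l3)
    have h0' := (h0.trans (OZ_le _ _)).trans l2
    have h1 : ⁅A₂, A₂⁆ ≤ OZ p N := le_OZ h0' (fun _ ha => tv_bot.1 (tv_small c.l2.pg h0' bot_le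
      (fun _ ha => mem_Nm_commutator (n2 ha) (n2 ha)) (fun a _ => nm_bot a)
      (by simpa using card_com k.s2 k.s1 (l3.trans cV)) ha))
      fun y hy => (h0 hy).2.2
    have h2 : ⁅⁅N, A₂⁆, V⁆ ≤ OZ p N := H98.three_subgroups nZ ((l3.trans lN).trans nZ)
      (lN.trans nZ) ((commutator_mono (cm _ l3) le_rfl).trans
        (commutator_comm N _ ▸ le_of_tv (tY c sY)))
      ((commutator_mono (commutator_comm N V ▸ le_of_tv k.t3) le_rfl).trans h1)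
    obtain ⟨x, hx, hx'⟩ := c.l2.sp.ex
    obtain ⟨y, hy, hy'⟩ := k.s2.ex
    obtain ⟨z, hz, hz'⟩ := k.s3.ex
    have h3 : A₁ ≤ Tv V (OZ p N) := (k.eq1 hx hx' hy hy').le.trans (sup_le
      (fun a ha => mem_Tv_of_Ct (le_Ct_comm.1 cV ha) (nZ (lN (l1 (k.s1.le ha)))))
      (zpowers_le.2 (tv_of_le ((le_of_tv k.t2).trans ((l1.trans lN).trans nZ)) h2
        (commutator_mem_commutator hx hy))))
    have h4 : ⁅⁅V, N⁆, A₁⁆ ≤ ⊥ := H98.three_subgroups (fun a _ => nm_bot a) (fun a _ => nm_bot a)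
      (fun a _ => nm_bot a) ((commutator_mono (le_of_tv k.t1) le_rfl).trans
        (le_of_tv (le_tv_bot (le_Ct_comm.1 cV))))
      ((commutator_mono (le_of_tv h3) le_rfl).trans
        (le_of_tv (le_tv_bot (le_Ct_comm.1 (le_Ct_OZ _ _)))))
    have h5 : A₂ ≤ Ct A₁ := (k.eq2 hx hx' hz hz').le.trans (sup_le (k.s1.cyc' (l1.trans cV))
      (zpowers_le.2 (commutator_eq_bot_iff_le_centralizer.1 (le_bot_iff.1 h4)
        (commutator_comm N V ▸ commutator_mem_commutator hx hz))))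
    exact no_four c.sr k.s2 k.s1 cY (l3.trans lN) (el_bot (k.s2.cyc' h5) fun y hy => pV y (l3 hy))

end C2

theorem jobR2b : JobR2b.{u} := by
  intro sc Ω _ _ p hp N E₁ L₁ E₂ L₂ c hY
  rcases c.sY with sY | ⟨A₂, k⟩
  swap
  · exact C2.cub c hY k
  have l1 := c.l1.sp.le
  obtain ⟨U, hU⟩ := exists_om (X := E₁) c.odd c.l1.OZ_le
  have lU : U ≤ E₁ := fun y hy => ((hU y).1 hy).1
  have pU : ∀ y ∈ U, y ^ p = 1 := fun y hy => ((hU y).1 hy).2.2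
  have nU : L₁ ≤ Nm U := fun _ ha => nm_om hU (c.l1.nm ha) (Ct_le_Nm _ (c.c1 ha))
  have YU : OZ p E₂ ≤ U := fun y hy => (hU y).2 ⟨hY hy, tv_symm sY.nm (l1.trans (C2.tY c sY)) hy,
    hy.2.2⟩
  have el : El p U (OZ p N) := ⟨sY.le.trans YU,
    fun y hy => Tv_anti lU _ ((hU y).1 hy).2.1, fun y hy => pU y hy ▸ one_mem _⟩
  have cY := card_two' sY c.sZ
  obtain ⟨i, hi⟩ := card_pow c.l1.pgE lU
  have h1 : 2 < i := pow_lt_of_lt (lt_of_le_of_ne YU fun h => c.y1 (h ▸ nU)) cY hi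
  have h2 : i ≤ 4 := (Nat.pow_le_pow_iff_right hp.out.one_lt).1 (by
    have := c.sr U _ (lU.trans l1) el
    rwa [hi, c.sZ.card, card_bot, mul_one, ← pow_succ] at this)
  obtain rfl | rfl : i = 4 ∨ i = 3 := by omega
  · exact C2.four c sY lU nU el pU YU hi
  have s : Sp p U (OZ p E₂) := sp_of c.l1.pgE lU YU hi cY
  have nN := c.l1.le.trans nU
  have l2 := C2.out c hY (lU.trans l1) nN s
  exact c.y1 (c.l1.nm_of_pMod_ct lU nU (c.lk U (lU.trans l1) nU (C2.inn c sY sc l2 nN s pU)) YU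
    fun _ ha => nm_OZ (c.l2.sp.nm ha))

end H92.F3
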