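import Cfsg.Agent.H92.CgCA

/-! CG, job B0 (blueprints/CG.md): conjugates of `z ω` under `C(z)` inside `P`. -/

set_option autoImplicit false
set_option linter.unusedSectionVars false
set_option maxRecDepth 100000
set_option synthInstance.maxSize 4096

namespace H92.CG

open Subgroup Cfsg H98 H1.Gold H86.L34 H88.AS H88.CG Equiv
open H6 (F4)
open H88.TE (mc1)

universe u

/-- An additive group of vectors that are real up to a scalar and a correction. -/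
theorem small (a : AF) {l : F4} (l0 : l ≠ 0) (l1 : l ≠ 1) {x : V6} {B : AddSubgroup V6}
    (h1 : ∀ y ∈ B, ∀ y' ∈ B, bf y y' = 0 ∨ bf y y' = 1) (h2 : ∀ y ∈ B, bf x y = 0)
    (h3 : ∀ y ∈ B, l⁻¹ • y + Xs (l⁻¹ • y) = 0 ∨ l⁻¹ • y + Xs (l⁻¹ • y) = x) : Nat.card B ≤ 16 := by
  classical
  let φ : V6 →+ V6 := AddMonoidHom.mk' (fun y => l⁻¹ • y + F4.w • (l⁻¹ • y + Xs (l⁻¹ • y)))
    fun y y' => by simp only [smul_add, Xs_add]; abel
  have re : ∀ y, Xs (φ y) = φ y := fun y => by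
    change Xs (_ + _) = _ + _
    rw [Xs_add, Xs_smul F4.w, Xs_add, Xs_Xs, smul_add, smul_add, show F4.w ^ 2 = 1 + F4.w by decide,
      add_smul, add_smul, one_smul, one_smul, ← add_assoc (Xs _), ← add_assoc (Xs _), v_self, zero_add]
    abel
  have h4 := a.isoR (B.map φ) (by rintro _ ⟨y, -, rfl⟩; exact re y) (by
    rintro _ ⟨y, hy, rfl⟩ _ ⟨y', hy', rfl⟩
    have e1 := bf_Xs (φ y) (φ y')
    rw [re, re] at e1
    have e2 : bf (φ y) (φ y') = l⁻¹ * (l⁻¹ * bf y y') := by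
      change bf (_ + _) (_ + _) = _
      rcases h3 y hy with e | e <;> rcases h3 y' hy' with e' | e' <;>
        simp [e, e', add_bf, bf_add, smul_bf, bf_smul, h2 _ hy', bf_comm y x, h2 _ hy, bf_self]
    rw [e2] at e1 ⊢
    rcases h1 y hy y' hy' with e | e <;> rw [e] at e1 ⊢
    · simp
    · exact absurd e1 ((by decide : ∀ l : F4, l ≠ 0 → l ≠ 1 →
        l⁻¹ * (l⁻¹ * 1) ≠ (l⁻¹ * (l⁻¹ * 1)) ^ 2) l l0 l1))
  have h5 : Nat.card B ≤ Nat.card (B.map φ × Prop) := Nat.card_le_card_of_injective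
    (fun y => (⟨φ y, AddSubgroup.mem_map_of_mem φ y.2⟩, l⁻¹ • y.1 + Xs (l⁻¹ • y.1) = 0)) fun y y' e => by
      have e1 : φ y = φ y' := congrArg (·.1.1) e
      have e2 : (l⁻¹ • y.1 + Xs (l⁻¹ • y.1) = 0) = (l⁻¹ • y'.1 + Xs (l⁻¹ • y'.1) = 0) :=
        congrArg (·.2) e
      have e3 : l⁻¹ • y.1 + Xs (l⁻¹ • y.1) = l⁻¹ • y'.1 + Xs (l⁻¹ • y'.1) := by
        by_cases k : l⁻¹ • y.1 + Xs (l⁻¹ • y.1) = 0
        · rw [k, e2.mp k]
        · rw [(h3 _ y.2).resolve_left k, (h3 _ y'.2).resolve_left fun j => k (e2.mpr j)]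
      simp only [φ, AddMonoidHom.mk'_apply] at e1
      rw [e3, add_left_inj] at e1
      exact Subtype.ext (smul_right_injective _ (inv_ne_zero l0) e1)
  rw [Nat.card_prod, Nat.card_eq_fintype_card (α := Prop), Fintype.card_prop] at h5
  omega

variable {G : Type u} [Group G] [Finite G] {s : SG G} {θ : s.M →* Perm (Fin 8)} {g k : G}
  {x : V6} {e : F4} (h : Cg s)
include h

theorem cenP (hk : k ∈ s.P) : 4096 ≤ Nat.card ↥(s.P ⊓ cen1 k) := by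
  obtain ⟨x, e, rfl⟩ := h.mem_P.1 hk
  have := cnt (T := s.P) (t := s.p x e) Finset.univ (s.p x) fun g hg => by
    obtain ⟨y, e', rfl⟩ := h.mem_P.1 hg
    exact ⟨_, Finset.mem_univ _, h.p_conj ..⟩
  rw [show (Finset.univ : Finset F4).card = 4 from rfl, h.card_P] at this
  omega

theorem mem_M (hZ : nor s.Z ≤ nor s.P) (h1 : Commute k (s.z 1)) (h2 : Commute k (s.z F4.w)) :
    k ∈ s.M := by
  have : k ∈ cen s.Z := mem_cenZ.2 fun e => mul_inv_eq_iff_eq_mul.2 (by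
    rcases e with _ | _ | _ | _
    exacts [by rw [show s.z F4.o = 1 from h.gr.z0, mul_one, one_mul], h1, h2,
      (show s.z 1 * s.z F4.w = s.z F4.v from h.gr.zz ..) ▸ h1.mul_right h2])
  exact ⟨this, hZ (nZ this)⟩

theorem cjX (hZ : nor s.Z ≤ nor s.P) (hg : g ∈ cen1 (s.z 1)) :
    cj g (s.P ⊓ cen1 (g⁻¹ * s.z F4.w * g)) ≤ s.M := by
  rintro _ ⟨k, hk, rfl⟩
  refine mem_M h hZ (mc1.1 (mul_mem (mul_mem hg (mc1.2 (h.P_cenZ hk.1 _ (h.gr.zZ 1)).symm))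
    (inv_mem hg))) ?_
  simpa [mul_assoc] using (mc1.1 hk.2).map (MulAut.conj g)

theorem mem_Z' (hg : g ∈ cen1 (s.z 1)) (d : g * s.z F4.w * g⁻¹ = s.p x e) (hk : k ∈ cj g s.Z) :
    k = s.p 0 0 ∨ k = s.p 0 1 ∨ ∃ e, k = s.p x e := by
  obtain ⟨_, hk, rfl⟩ := hk
  obtain ⟨e', rfl⟩ := h.mem_Z.1 hk
  have z1 : g * s.z 1 * g⁻¹ = s.z 1 := mul_inv_eq_iff_eq_mul.2 (mc1.1 hg)
  change g * _ * g⁻¹ = _ ∨ g * _ * g⁻¹ = _ ∨ ∃ e, g * _ * g⁻¹ = _
  rcases e' with _ | _ | _ | _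
  · exact .inl (by rw [show s.z F4.o = 1 from h.gr.z0, h.p_one]; simp)
  · exact .inr (.inl (z1.trans (h.p_z 1).symm))
  · exact .inr (.inr ⟨e, d⟩)
  · exact .inr (.inr ⟨_, by
      rw [← show s.z F4.w * s.z 1 = s.z F4.v from h.gr.zz .., ← conj_mul, d, z1, h.p_zr]⟩)

theorem cm (y y' : V6) (e e' : F4) :
    s.p y e * s.p y' e' * (s.p y e)⁻¹ * (s.p y' e')⁻¹ = s.p 0 (bf y y') := by
  rw [h.p_conj, ← h.p_zl, mul_inv_cancel_right, h.p_z]

variable (a : AF) (c : CA s θ) (hZ : nor s.Z ≤ nor s.P) (hg : g ∈ cen1 (s.z 1))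
  (d : g * s.z F4.w * g⁻¹ = s.p x e)
include a c hZ hg d

theorem back : g⁻¹ * s.z F4.w * g ∈ s.P := by
  by_contra n
  have hT := cjX h hZ (inv_mem hg)
  rw [← congrArg (g⁻¹⁻¹ * s.z F4.w * ·) (rfl : g⁻¹ = g⁻¹), inv_inv, d] at hT
  have h1 := cenP h (p_mem x e)
  have h2 := c.card_img a.toAF₁ h hT ((h.P_two.to_le inf_le_left).map _)
  have h3 := a.two _ c.img_le (c.img_two (T := cj g⁻¹ (s.P ⊓ cen1 (s.p x e)))
    ((h.P_two.to_le inf_le_left).map _))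
  have hX : s.Z ≤ s.P ⊓ cen1 (s.p x e) := fun z hz =>
    ⟨h.Z_le_P hz, mc1.2 (h.P_cenZ (p_mem x e) z hz)⟩
  have h4 := h.card_vec' inf_le_left hX
  have zz : ∀ e, g⁻¹ * s.z e * g ∈ s.P → e = 0 ∨ e = 1 := fun e k => by
    rcases e with _ | _ | _ | _
    exacts [.inl rfl, .inr rfl, (n k).elim, (n (by
      rw [← show s.z F4.v * s.z 1 = s.z F4.w from h.gr.zz .., mul_assoc, mul_assoc, ← (mc1.1 hg).eq,
        ← mul_assoc, ← mul_assoc]
      exact mul_mem k (h.Z_le_P (h.gr.zZ 1)))).elim]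
  generalize hX' : s.P ⊓ cen1 (s.p x e) = X at *
  have hP : X ≤ s.P := hX' ▸ inf_le_left
  have h5 := h.card_vec (I := X ⊓ cj g s.P) (inf_le_left.trans hP)
  have h6 : Nat.card ↥(X ⊓ cj g s.P ⊓ s.Z) ≤ 2 := by
    refine (card_le_of_le (K := zpowers (s.z 1)) fun z hz => ?_).trans
      (by rw [Nat.card_zpowers, h.gr.z_ord one_ne_zero])
    obtain ⟨e, rfl⟩ := h.mem_Z.1 hz.2
    rcases zz e (mem_cj.1 hz.1.2) with rfl | rfl
    exacts [h.gr.z0 ▸ one_mem _, mem_zpowers _]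
  have h7 : Nat.card (h.vec (X ⊓ cj g s.P)) ≤ 16 := by
    refine le_trans (AddSubgroup.card_le_of_le (K := perpS (h.vec X)) fun y ⟨e', hy⟩ y' hy' => ?_)
      (a.p64 (h.vec X) (by omega))
    have key : ∀ y' ∈ h.vec X, bf y' y = 0 ∨ bf y' y = 1 := fun y' ⟨e'', hy'⟩ => zz _ (by
      have := mul_mem (conj_mem_of_mem_normalizer (hT (conj_mem_cj hy')).2 (mem_cj.1 hy.2))
        (inv_mem (mem_cj.1 hy.2))
      rw [← h.p_z, ← cm h y' y e'' e']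
      simpa [mul_assoc] using this)
    have k1 : F4.w • y' ∈ h.vec X := by
      obtain ⟨e'', k⟩ := hy'
      rw [← hX'] at k ⊢
      exact ⟨0, p_mem _ _, mc1.2 (h.p_comm.2 (by rw [smul_bf, h.p_comm.1 (mc1.1 k.2), mul_zero]))⟩
    have k2 := key _ k1
    rw [smul_bf] at k2
    exact (key _ hy').resolve_right fun e => by rw [e] at k2; exact absurd k2 (by decide)
  have h8 : Nat.card ↥(cj g⁻¹ X ⊓ s.P) = Nat.card ↥(X ⊓ cj g s.P) := by
    rw [← H98.card_cj g, cj, map_inf _ _ _ (MulAut.conj g).injective]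
    exact congrArg (fun Y => Nat.card ↥(Y ⊓ cj g s.P)) (cj_cj_inv g X)
  rw [H98.card_cj, h8, h5] at h2
  have := Nat.mul_le_mul (Nat.mul_le_mul h6 h7) h3
  omega

theorem b0 {l : F4} {x₀ : V6} (l0 : l ≠ 0) (l1 : l ≠ 1) (x0 : x₀ ≠ 0) (re : Xs x₀ = x₀)
    (hx : x = l • x₀) : False := by
  have hd := back h a c hZ hg d
  have hT := cjX h hZ hg
  have h1 := cenP h hd
  rw [← H98.card_cj g] at h1
  have t2 : IsPGroup 2 (cj g (s.P ⊓ cen1 (g⁻¹ * s.z F4.w * g))) := (h.P_two.to_le inf_le_left).map _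
  have hP : cj g (s.P ⊓ cen1 (g⁻¹ * s.z F4.w * g)) ≤ cj g s.P := map_mono inf_le_left
  have hZ' : s.Z ≤ cj g (s.P ⊓ cen1 (g⁻¹ * s.z F4.w * g)) := fun z hz => by
    obtain ⟨e, rfl⟩ := h.mem_Z.1 hz
    have z1 : g⁻¹ * s.z 1 * g = s.z 1 := by rw [mul_assoc, ← (mc1.1 hg).eq, inv_mul_cancel_left]
    refine mem_cj.2 ⟨?_, mc1.2 (by simpa using (h.gr.zu e 0 0 F4.w).map (MulAut.conj g⁻¹))⟩
    rcases e with _ | _ | _ | _
    exacts [by rw [show s.z F4.o = 1 from h.gr.z0]; simp, z1.symm ▸ h.Z_le_P (h.gr.zZ 1), hd, by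
      rw [← show s.z F4.w * s.z 1 = s.z F4.v from h.gr.zz .., mul_assoc, mul_assoc, ← (mc1.1 hg).eq,
        ← mul_assoc, ← mul_assoc]
      exact mul_mem hd (h.Z_le_P (h.gr.zZ 1))]
  generalize cj g (s.P ⊓ cen1 (g⁻¹ * s.z F4.w * g)) = X at *
  have cz : ∀ k ∈ X, ∀ k' ∈ X, k * k' * k⁻¹ * k'⁻¹ ∈ cj g s.Z := fun k hk k' hk' => mem_cj.2 (by
    simpa [mul_assoc] using h.P_cm (mem_cj.1 (hP hk)) (mem_cj.1 (hP hk')))
  have cd : ∀ k ∈ X, Commute k (s.p x e) := fun k hk => by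
    simpa [mul_assoc, ← d] using (show Commute _ _ from
      (h.P_cenZ (mem_cj.1 (hP hk)) _ (h.gr.zZ F4.w)).symm).map (MulAut.conj g)
  have xn : x ≠ 0 := hx ▸ smul_ne_zero l0 x0
  have el := c.img_el a.toAF₁ h (T := X) fun k hk => by
    rcases mem_Z' h hg d (k := k * k) (mem_cj.2 (by
      simpa [mul_assoc] using h.P_sq (mem_cj.1 (hP hk)))) with e | e | ⟨_, e⟩ <;>
    exact e ▸ p_mem _ _
  have h2 := c.card_img a.toAF₁ h hT t2
  have h3 := a.rk _ c.img_le el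
  have h4 := h.card_vec' (I := X ⊓ s.P) inf_le_right (le_inf hZ' h.Z_le_P)
  have b1 : ∀ y ∈ h.vec (X ⊓ s.P), ∀ y' ∈ h.vec (X ⊓ s.P), bf y y' = 0 ∨ bf y y' = 1 := by
    rintro y ⟨e₁, k₁⟩ y' ⟨e₂, k₂⟩
    rcases mem_Z' h hg d (cm h y y' e₁ e₂ ▸ cz _ k₁.1 _ k₂.1) with e | e | ⟨_, e⟩
    exacts [.inl (h.p_ext e).2, .inr (h.p_ext e).2, (xn (h.p_ext e).1.symm).elim]
  have h5 := a.iso _ b1
  have h6 := a.fix16 _ c.img_le el (by nlinarith)
  have fx : ∀ t : F4, t • x₀ ∈ H88.CG.Fix (H88.CG.img θ X) := by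
    rintro t _ ⟨k, hk, rfl⟩
    have := (c.fixes h k (x := x) (e := e)).1 (by rw [(cd k hk).eq]; simp)
    rw [hx, a.smul] at this
    rw [a.smul, smul_right_injective _ l0 this]
  have h7 := ((show Function.Injective fun t => (⟨_, fx t⟩ : H88.CG.Fix (H88.CG.img θ X)) from fun t t' e =>
    smul_left_injective F4 x0 (congrArg Subtype.val e)).bijective_of_nat_card_le
      (h6.trans (by simp; rfl))).2
  have h8 := small a l0 l1 (x := x₀) b1 (fun y ⟨e', k⟩ => by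
    have := h.p_comm.1 (cd _ k.1).symm
    rwa [hx, smul_bf, mul_eq_zero_iff_left l0] at this) fun y ⟨e', k⟩ => by
    obtain ⟨t, ht⟩ := h7 ⟨l⁻¹ • y + Xs (l⁻¹ • y), by
      rintro _ ⟨j, hj, rfl⟩
      obtain ⟨e'', m⟩ := c.conj_p h j y e'
      have m1 := cz j hj _ k.1
      rw [m, h.p_inv, h.p_mul] at m1
      have m2 : Xs (th (θ j) (l⁻¹ • y) + l⁻¹ • y) = th (θ j) (l⁻¹ • y) + l⁻¹ • y := by
        rw [a.smul, ← smul_add]
        rcases mem_Z' h hg d m1 with e | e | ⟨_, e⟩ <;> rw [(h.p_ext e).1]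
        exacts [by simp [Xs], by simp [Xs], by rw [hx, inv_smul_smul₀ l0, re]]
      rw [Xs_add, a.xs] at m2
      rw [a.add, ← add_left_inj (l⁻¹ • y + Xs (l⁻¹ • y)), v_self, add_add_add_comm, m2, v_self]⟩
    have m : t • x₀ = l⁻¹ • y + Xs (l⁻¹ • y) := congrArg Subtype.val ht
    have m' : Xs (t • x₀) = t • x₀ := by rw [m, Xs_add, Xs_Xs, add_comm]
    rw [Xs_smul, re] at m'
    rcases (by decide : ∀ t : F4, t ^ 2 = t → t = 0 ∨ t = 1) t (smul_left_injective F4 x0 m')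
      with rfl | rfl
    exacts [.inl (by rw [← m, zero_smul]), .inr (by rw [← m, one_smul])]
  nlinarith

omit h a c hZ hg d in
theorem jobB0 : H88.CG.JobB0.{u} := fun G _ _ s θ Q a h c hZ q n0 g hg k => by
  obtain ⟨x, e, d⟩ := h.mem_P.1 k
  rw [← d, q.re]
  by_contra n
  have h1 := h.p_sq x e
  rw [d, conj_mul, h.gr.z_sq, mul_one, mul_inv_cancel, ← h.gr.z0] at h1
  rcases a.orb x (h.gr.z_inj h1).symm with rfl | j | ⟨σ, -, l, l0, j⟩ | j
  · exact n (by decide)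
  · exact h.noL (by decide) (H88.TE.ki_cj.1 (d ▸ (c.ki x e).2 j))
  · have re : Xs (th σ ea) = th σ ea := by rw [a.xs]; rfl
    rw [a.smul] at j
    refine b0 h a c hZ hg d.symm l0 ?_ (fun e => ?_) re j.symm
    · rintro rfl
      exact n (by rw [← j, one_smul, re])
    · exact n (by rw [← j, e, smul_zero]; decide)
  · exact n0 ((_root_.isConj_iff.2 ⟨g * s.h, by
      rw [d, ← mul_one F4.w, ← h.gr.hz]; group⟩).trans (c.nv x e j).symm)

end H92.CG
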