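import Cfsg.Agent.H88.CGKit

/-! CG, job CA (blueprints/CG.md): the action of `C(Z) ⊓ N(P)` on `P / Z`. -/

set_option autoImplicit false
set_option linter.unusedSectionVars false
set_option maxRecDepth 100000
set_option synthInstance.maxSize 4096

namespace H92.CG

open Subgroup Cfsg H98 H1.Gold H86.L34 H88.AS H88.CG Equiv
open H6 (F4)
open H88.TE (mc1)

universe u
variable {G : Type u} [Group G] [Finite G] {s : SG G} {g g' k t w y : G} {x : V6} {c e e' : F4}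
  {σ π : Perm (Fin 8)}

theorem cnt {ι : Type} (F : Finset ι) (f : ι → G) {T : Subgroup G}
    (h : ∀ g ∈ T, ∃ i ∈ F, g * t * g⁻¹ = f i) : Nat.card T ≤ F.card * Nat.card ↥(T ⊓ cen1 t) := by
  classical
  choose k k1 k2 using fun g : T => h g g.2
  have k3 : ∀ g, k (Function.invFun k (k g)) = k g := fun g => Function.invFun_eq ⟨g, rfl⟩
  have : Nonempty T := ⟨1⟩
  rw [← Nat.card_eq_finsetCard, ← Nat.card_prod]
  refine Nat.card_le_card_of_injective (fun g => (⟨k g, k1 g⟩, ⟨((Function.invFun k (k g) : T) : G)⁻¹ * g,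
    T.mul_mem (T.inv_mem (Subtype.prop _)) g.2, mc1.2 ?_⟩)) fun a b e => ?_
  · have := (k2 g).trans ((k3 g ▸ k2 _ :) : _ = f (k g)).symm
    change _ = _
    calc _ = ((Function.invFun k (k g) : T) : G)⁻¹ * (↑g * t * (g : G)⁻¹) * ↑g := by group
      _ = _ := by rw [this]; group
  · have e1 : k a = k b := congrArg (·.1.1) e
    have e2 : _ * (a : G) = _ * b := congrArg (·.2.1) e
    rw [e1, mul_right_inj] at e2
    exact Subtype.ext e2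

/-- `g` induces `σ`. -/
structure Ac (s : SG G) (g : G) (σ : Perm (Fin 8)) : Prop where
  M : g ∈ s.M
  alt : σ ∈ A8
  act : s.Act g (th σ)

/-- The conclusion of `big`. -/
def Bg (s : SG G) (n : ℕ) (t : G) : Prop := ∃ T ≤ s.M ⊓ cen1 t, IsPGroup 2 T ∧ n ≤ Nat.card T

theorem Bg.of {n : ℕ} (hy : y ∈ s.M) (k : Bg s n (y * t * y⁻¹)) : Bg s n t := by
  obtain ⟨T, h1, h2, h3⟩ := k
  refine ⟨cj y⁻¹ T, fun g hg => ?_, h2.map _, by rwa [H98.card_cj]⟩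
  have k := h1 (mem_cj.1 hg)
  refine ⟨by simpa [mul_assoc] using mul_mem (mul_mem (inv_mem hy) k.1) hy, mc1.2 ?_⟩
  simpa [mul_assoc] using (mc1.1 k.2).map (MulAut.conj y⁻¹)

variable (a : AF) (h : Cg s)
include a h

theorem Ac.mul (h1 : Ac s g σ) (h2 : Ac s g' π) : Ac s (g * g') (σ * π) :=
  ⟨mul_mem h1.M h2.M, mul_mem h1.alt h2.alt,
    (funext (a.mul σ π) :) ▸ h.act_mul (nZ h1.M.1) h1.act h2.act⟩

theorem Ac.inv (h1 : Ac s g σ) : Ac s g⁻¹ σ⁻¹ :=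
  ⟨inv_mem h1.M, inv_mem h1.alt, h.act_inv (nZ h1.M.1) h1.act (a.toAF₁.th_inv σ)⟩

theorem Ac.cj (h1 : Ac s g σ) (h2 : Ac s g' π) : Ac s (g * g' * g⁻¹) (σ * π * σ⁻¹) :=
  (h1.mul a h h2).mul a h (h1.inv a h)

theorem Ac.uniq (h1 : Ac s g σ) (h2 : Ac s g π) : σ = π :=
  a.toAF₁.ext (congrFun (h.act_uniq h1.act h2.act))

theorem Ac.all (h1 : Ac s g σ) (x : V6) (e : F4) : ∃ e', g * s.p x e * g⁻¹ = s.p (th σ x) e' :=
  h.act_all (nZ h1.M.1) h1.act x e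

theorem Ac.id (h1 : Ac s g 1) : s.Act g id := (funext a.one : th 1 = _root_.id) ▸ h1.act

theorem ac_P (hg : g ∈ s.P) : Ac s g 1 := by
  obtain ⟨x, e, rfl⟩ := h.mem_P.1 hg
  exact ⟨h.P_le_M hg, one_mem _, (funext a.one :).symm ▸ h.act_p x e⟩

theorem ac_O (hg : g ∈ s.O) : Ac s g 1 := by
  have k : g ∈ cen s.P := fun _ hq => (h.P_cenO hq g hg).symm
  exact ⟨⟨centralizer_le h.Z_le_P k, centralizer_le_normalizer _ k⟩, one_mem _,
    (funext a.one :).symm ▸ h.act_cen k⟩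

theorem ac_w (c : F4) : Ac s (s.w₁ c) (σw c) := ⟨(h.Y_le (h.w₁Y c)).1,
  a.gen ▸ subset_closure (.inl ⟨c, .inl rfl⟩), (funext (a.tw c) :).symm ▸ h.act_w₁ c⟩

theorem ac_l (c : F4) : Ac s (s.l c) (σl c) := ⟨(h.Y_le (h.lY c)).1,
  a.gen ▸ subset_closure (.inl ⟨c, .inr rfl⟩), (funext (a.tl c) :).symm ▸ h.act_l c⟩

theorem ac_τ : Ac s s.τ στ := ⟨(h.Y_le h.τY).1,
  a.gen ▸ subset_closure (.inr rfl), (funext a.tτ :).symm ▸ h.act_τ⟩

/-- The elements that act as even permutations. -/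
def M0 : Subgroup G where
  carrier := {g | ∃ σ, Ac s g σ}
  mul_mem' := fun ⟨_, h1⟩ ⟨_, h2⟩ => ⟨_, h1.mul a h h2⟩
  one_mem' := ⟨1, ac_P a h (one_mem _)⟩
  inv_mem' := fun ⟨_, h1⟩ => ⟨_, h1.inv a h⟩

theorem Y_ac : s.Y ≤ M0 a h := sup_le ((closure_le _).2 (by
    rintro _ (⟨y, rfl | rfl⟩ | rfl)
    exacts [⟨_, ac_w a h y⟩, ⟨_, ac_l a h y⟩, ⟨_, ac_τ a h⟩])) fun _ k => ⟨_, ac_P a h k⟩

theorem ac_Y (hσ : σ ∈ A8) : ∃ y ∈ s.Y, Ac s y σ := by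
  rw [← a.gen] at hσ
  induction hσ using closure_induction with
  | mem _ k =>
    obtain ⟨y, rfl | rfl⟩ | rfl := k
    exacts [⟨_, h.w₁Y y, ac_w a h y⟩, ⟨_, h.lY y, ac_l a h y⟩, ⟨_, h.τY, ac_τ a h⟩]
  | one => exact ⟨1, one_mem _, ac_P a h (one_mem _)⟩
  | mul _ _ _ _ k k' =>
    obtain ⟨y, hy, k⟩ := k
    obtain ⟨y', hy', k'⟩ := k'
    exact ⟨_, mul_mem hy hy', k.mul a h k'⟩
  | inv _ _ k =>
    obtain ⟨y, hy, k⟩ := k
    exact ⟨_, inv_mem hy, k.inv a h⟩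

theorem ex_θ : ∃ θ : M0 a h →* Perm (Fin 8), ∀ g : M0 a h, Ac s g (θ g) := by
  choose f k using fun g : M0 a h => g.2
  exact ⟨MonoidHom.mk' f fun g g' => (k _).uniq a h ((k g).mul a h (k g')), k⟩

/-- A `2`-subgroup of `A₈` that moves `t` inside a small set. -/
theorem lift {T : Subgroup (Perm (Fin 8))} (hT : T ≤ A8) (h2 : IsPGroup 2 T) {ι : Type}
    (F : Finset ι) (f : ι → G) (k : ∀ g, ∀ σ ∈ T, Ac s g σ → ∃ i ∈ F, g * t * g⁻¹ = f i) :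
    ∃ S ≤ s.M ⊓ cen1 t, IsPGroup 2 S ∧ 16384 * Nat.card T ≤ F.card * Nat.card S := by
  obtain ⟨θ, hθ⟩ := ex_θ a h
  have h0 : s.P ≤ M0 a h := le_sup_right.trans (Y_ac a h)
  have h1 : ∀ g ∈ s.P.subgroupOf (M0 a h), θ g = 1 := fun g hg => (hθ g).uniq a h (ac_P a h hg)
  obtain ⟨S, h3, h4⟩ := exists_isSyl_le (H := T.comap θ) (H98.isPGroup_subgroupOf h.P_two _)
    fun g hg => by rw [mem_comap, h1 g hg]; exact one_mem _
  have h5 : S.map θ = T := by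
    have := h3.map θ
    rw [map_comap_eq_self fun σ hσ => ?_] at this
    · exact this.eq_of_isPGroup h2
    obtain ⟨y, hy, k⟩ := ac_Y a h (hT hσ)
    exact ⟨⟨y, _, k⟩, (hθ _).uniq a h k⟩
  have h6 : 16384 * Nat.card T ≤ Nat.card S := by
    rw [← (θ.comp S.subtype).ker.card_mul_index, index_ker, MonoidHom.range_comp, range_subtype, h5,
      ← h.card_P, ← H14.card_subgroupOf_of_le h0, ← H14.card_subgroupOf_of_le h4]
    exact Nat.mul_le_mul_right _ (card_le_of_le fun g hg => h1 _ hg)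
  refine ⟨S.map (M0 a h).subtype ⊓ cen1 t, inf_le_inf_right _ ?_,
    (h3.isPGroup.map _).to_le inf_le_left, h6.trans ?_⟩
  · rintro _ ⟨g, -, rfl⟩
    exact (hθ g).M
  rw [← card_map_of_injective (subtype_injective _)]
  refine cnt F f ?_
  rintro _ ⟨g, hg, rfl⟩
  exact k g _ (h3.le hg) (hθ g)

theorem orbit (hσ : σ ∈ A8) (hx : x ≠ 0) (e e' : F4) :
    ∃ y ∈ s.Y, y * s.p x e * y⁻¹ = s.p (th σ x) e' := by
  obtain ⟨y, hy, k⟩ := ac_Y a h hσ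
  obtain ⟨e₁, k₁⟩ := k.all a h x e
  obtain ⟨v, hv⟩ := bf_onto (x := th σ x) (fun e => hx (by
    rw [← a.toAF₁.inv_th σ x, e, a.toAF₁.zero])) (e₁ + e')
  refine ⟨s.p v 0 * y, mul_mem (mem_sup_right (p_mem _ _)) hy, ?_⟩
  calc _ = s.p v 0 * (y * s.p x e * y⁻¹) * (s.p v 0)⁻¹ := by group
    _ = _ := by rw [k₁, h.p_conj, bf_comm, hv, ← add_assoc, F4.add_self, zero_add]

theorem kc (x : V6) (e : F4) : DV x → ∃ g ∈ s.Y, g * s.r 1 * g⁻¹ = s.p x e := by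
  rintro ⟨σ, hσ, rfl⟩
  exact h.p_r 1 ▸ orbit a h hσ (by decide) 0 e

theorem nv (x : V6) (e : F4) : NV x → IsConj (s.p e0 0) (s.p x e) := by
  rintro ⟨σ, hσ, rfl⟩
  exact (orbit a h hσ (by decide) 0 e).elim fun y k => _root_.isConj_iff.2 ⟨y, k.2⟩

/-- the stabiliser of `r c` modulo `Z` -/
theorem stab (hg : g ∈ cen s.Z) (k : g * s.r 1 * g⁻¹ = s.r 1 * s.z e) :
    ∃ o ∈ s.O, ∃ q ∈ s.P, ∃ δ ∈ s.D, g = o * (q * δ) := by
  have hβ : s.β e ∈ s.P := h.p_β e ▸ p_mem _ _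
  have h1 : Commute (s.β e * g) (s.r 1) := mul_inv_eq_iff_eq_mul.1 (by
    calc _ = s.β e * (g * s.r 1 * g⁻¹) * (s.β e)⁻¹ := by group
      _ = _ := by
        rw [k, ← conj_mul, h.βr, (h.βu ..).eq, mul_inv_cancel_right, one_mul, mul_assoc, h.gr.z_sq,
          mul_one])
  obtain ⟨k', hk, δ, hδ, e1⟩ := (H43.mem_sup_of_comm fun _ hk _ hδ => (hk _ hδ.1).symm).1
    (h.g1.cz ⟨h.cen_r one_ne_zero (mc1.2 h1), mul_mem (h.P_cenZ hβ) hg⟩)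
  obtain ⟨o, ho, c, rfl⟩ := h.ck k' hk 1 one_ne_zero (by
    rw [eq_mul_inv_of_mul_eq e1.symm]
    exact h1.mul_left (Commute.inv_left (h.r_A 1 hδ.1)))
  refine ⟨o, ho, _, mul_mem (inv_mem hβ) (h.p_r c ▸ p_mem _ _), δ, hδ, ?_⟩
  rw [← mul_assoc, ← mul_assoc, ← (h.βO e o ho).inv_left.eq, eq_inv_mul_of_mul_eq e1]
  group

theorem stab' (hg : g ∈ cen s.Z) (k : g * s.r 1 * g⁻¹ = s.r 1 * s.z e) :
    ∃ o ∈ s.O, ∃ y ∈ s.Y, g = o * y :=
  let ⟨o, ho, _, hq, _, hδ, k⟩ := stab a h hg k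
  ⟨o, ho, _, mul_mem (mem_sup_right hq) (h.DY hδ), k⟩

theorem ker (g : G) (hg : g ∈ cen s.Z) (k : s.Act g id) : ∃ o ∈ s.O, ∃ x e, g = o * s.p x e := by
  obtain ⟨e, k1⟩ := k (1, 0, 0, 0, 0, 0)
  obtain ⟨o, ho, q, hq, δ, hδ, k2⟩ := stab a h hg (e := e) (by
    rw [← h.p_r, k1, h.p_zr, zero_add]; rfl)
  have h1 : Ac s g 1 := ⟨⟨hg, h.act_nor (nZ hg) k⟩, one_mem _, (funext a.one :).symm ▸ k⟩
  have h2 := ((ac_P a h hq).inv a h).mul a h (((ac_O a h ho).inv a h).mul a h h1)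
  rw [k2, inv_mul_cancel_left, inv_mul_cancel_left, inv_one, one_mul, one_mul] at h2
  obtain ⟨x, e, k3⟩ := h.mem_P.1 (mul_mem hq (h.QA_le (h.g1.dq δ hδ fun v hv => by
    obtain ⟨x, e, rfl⟩ := h.mem_P.1 (h.QA_le hv)
    exact (h.fixes (nZ h2.M.1) h2.act).2 (a.one x))))
  exact ⟨o, ho, x, e, k3 ▸ k2⟩

theorem OY (hg : g ∈ cen s.Z) (hx : DV x) (hy : y ∈ s.Y) (k : g * (y * s.r 1 * y⁻¹) * g⁻¹ = s.p x e) :
    ∃ o ∈ s.O, ∃ y ∈ s.Y, g = o * y := by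
  obtain ⟨y', hy', k'⟩ := kc a h x e hx
  obtain ⟨o, ho, v, hv, k1⟩ := stab' a h (e := 0) (mul_mem (mul_mem (inv_mem (h.Y_le hy').1.1) hg)
    (h.Y_le hy).1.1) (by
      rw [h.gr.z0, mul_one]
      calc _ = y'⁻¹ * (g * (y * s.r 1 * y⁻¹) * g⁻¹) * y' := by group
        _ = _ := by rw [k, ← k']; group)
  refine ⟨o, ho, _, mul_mem (mul_mem hy' hv) (inv_mem hy), ?_⟩
  rw [← mul_assoc, ← mul_assoc, (h.Y_le hy').2 o ho, mul_assoc y', ← k1]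
  group

theorem nki : ¬ KI s.K (s.p e0 0) := by
  rintro ⟨o, g, k⟩
  obtain ⟨T, h1, h2, h3, h4⟩ := a.st0
  obtain ⟨S, k1, k2, k3⟩ := lift a h (t := s.p e0 0) h1 h2 Finset.univ (s.p e0) fun g σ hσ k => by
    simpa only [h4 σ hσ, Finset.mem_univ, true_and] using k.all a h e0 0
  have k4 := h.g1.bdN (cj g⁻¹ S) (fun v hv => H14.std_centralizer_le h.g0.std
    (t := g⁻¹ * s.p e0 0 * g⁻¹⁻¹) (by rwa [H14.orderOf_conj']) (by simpa using mem_cj.1 k) (mc1.2 (by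
      simpa [mul_assoc] using (mc1.1 (k1 (mem_cj.1 hv)).2).map (MulAut.conj g⁻¹)))) (k2.map _)
  have k5 := h.gp.syl.card_le ((k2.map (MulAut.conj g⁻¹).toMonoidHom).to_le inf_le_left) inf_le_right
  rw [H98.card_cj] at k4
  rw [h.card_R] at k5
  rw [show (Finset.univ : Finset F4).card = 4 from rfl] at k3
  change Nat.card ↥(cj g⁻¹ S ⊓ s.K) ≤ 4 at k5
  omega

theorem nki' (k : IsConj (s.p e0 0) g) : ¬ KI s.K g := fun j => by
  obtain ⟨c, rfl⟩ := _root_.isConj_iff.1 k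
  exact nki a h (H88.TE.ki_cj.1 j)

theorem ki (x : V6) (e : F4) : KI s.K (s.p x e) ↔ DV x := by
  refine ⟨fun k => ?_, fun k => ?_⟩
  · rcases a.orb x (h.gr.z_inj (((h.p_sq x e).symm.trans (H88.TE.KI.sq k)).trans h.gr.z0.symm))
      with rfl | j | ⟨σ, hσ, c, n, rfl⟩ | j
    · rw [h.p_z] at k
      exact (h.noL (fun n => H88.TE.KI.ne k (by rw [n, h.gr.z0])) k).elim
    · exact j
    · obtain ⟨y, -, j⟩ := orbit a h hσ (x := c • ea) (smul_ne_zero n (by decide)) 0 e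
      rw [← j, H88.TE.ki_cj, show c • ea = (0, 0, c, 0, 0, 0) by simp [ea], h.p_u, ← h.gr.nz,
        H88.TE.ki_cj] at k
      exact (h.noL n k).elim
    · exact (nki' a h (nv a h x e j) k).elim
  · obtain ⟨y, -, j⟩ := kc a h x e k
    exact j ▸ H88.TE.KI.cj (h.r_KI one_ne_zero) y

theorem dec (hg : g ∈ s.M) : ∃ o ∈ s.O, ∃ y ∈ s.Y, g = o * y := by
  obtain ⟨x, e, k⟩ := h.mem_P.1 (conj_mem_of_mem_normalizer hg.2 (h.p_r 1 ▸ p_mem _ 0))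
  exact OY a h hg.1 ((ki a h x e).1 (k ▸ H88.TE.KI.cj (h.r_KI one_ne_zero) g)) (one_mem _)
    (by simpa using k.symm)

theorem M_le : s.M ≤ M0 a h := fun g hg => by
  obtain ⟨o, ho, y, hy, rfl⟩ := dec a h hg
  exact mul_mem ⟨_, ac_O a h ho⟩ (Y_ac a h hy)

theorem k2 (k : Ac s g 1) (h2 : ∃ k, g ^ 2 ^ k = 1) : g ∈ s.P := by
  obtain ⟨o, ho, x, e, rfl⟩ := ker a h g k.M.1 (k.id a h)
  rw [h.o_one ho (h.P_cenO (p_mem x e)) ⟨2, h.four (h.P_sq (p_mem x e))⟩ h2, one_mul]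
  exact p_mem x e

theorem nf (hw : w ∈ s.Y) (ww : w * w = 1) (h1 : Ac s w σ) (h2 : Ac s g σ) (gg : g * g ∈ s.Z) :
    ∃ x e, th σ x = x ∧ g = w * s.p x e := by
  have h3 := (h1.inv a h).mul a h h2
  rw [inv_mul_cancel] at h3
  obtain ⟨o, ho, x, e, k⟩ := ker a h _ h3.M.1 (h3.id a h)
  have k1 : g = o * (w * s.p x e) := by
    rw [← mul_assoc, (h.Y_le hw).2 o ho, mul_assoc, ← k, mul_inv_cancel_left]
  obtain ⟨e', k2⟩ := h1.all a h x e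
  have k3 : w * s.p x e * (w * s.p x e) = s.p (th σ x) e' * s.p x e := by
    rw [← k2, inv_eq_of_mul_eq_one_right ww, mul_assoc _ w]
  obtain rfl := h.o_one ho (mul_mem (h.Y_le hw).2 (h.P_cenO (p_mem x e))) ⟨3, by
    rw [show 2 ^ 3 = 2 * 2 ^ 2 from rfl, pow_mul, pow_two (w * _), k3]
    exact h.four (h.P_sq (mul_mem (p_mem _ _) (p_mem _ _)))⟩ ⟨2, k1 ▸ h.four gg⟩
  rw [one_mul] at k1
  rw [k1, k3, h.p_mul, h.p_mem_Z, add_eq_zero_iff_eq_neg, v_neg] at gg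
  exact ⟨x, e, gg, k1⟩

theorem ac_s0 : Ac s s.s0 σ₄ := ⟨(h.Y_le h.s0Y).1, by simp [σ₄], h.act_s0 a.toAF₁⟩

/-- the involutions over `σl 1` -/
theorem nfl (k : Ac s g (σl 1)) (gg : g * g = 1) :
    ∃ c d b f e, c * d = 0 ∧ g = s.l 1 * s.p (c, d, 0, b, f, f) e := by
  obtain ⟨⟨c, d, a', b, f, t⟩, e, k1, rfl⟩ := nf a h (h.lY 1) (h.gr.l_sq 1) (ac_l a h 1) k (gg ▸ one_mem _)
  rw [a.tl] at k1
  have k2 := k1
  simp only [Wl, Prod.mk.injEq, one_pow, one_mul, true_and, add_assoc, add_eq_left] at k2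
  obtain rfl : a' = 0 := k2.2.1
  obtain rfl : f = t := add_eq_zero_iff_eq_neg.1 ((zero_add _).symm.trans k2.1)
  refine ⟨c, d, b, f, e, ?_, rfl⟩
  rw [← mul_assoc, ← congrArg (s.l 1 * s.p (c, d, 0, b, f, f) e * · * s.p (c, d, 0, b, f, f) e)
    (inv_eq_of_mul_eq_one_right (h.gr.l_sq 1)), h.l_p, k1, h.p_mul, v_self, ← h.p_one] at gg
  have := (h.p_ext gg).2
  simp only at this
  linear_combination this - (e + f ^ 2) * F4.two_eq

theorem l_cj (x y : V6) (e : F4) : ∃ e', s.p y 0 * (s.l 1 * s.p x e) * (s.p y 0)⁻¹ =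
    s.l 1 * s.p (Wl 1 y + x + y) e' := by
  obtain ⟨e₁, k⟩ := h.act_l 1 y
  have i := inv_eq_of_mul_eq_one_right (h.gr.l_sq 1)
  have : s.p y 0 * (s.l 1 * s.p x e) * (s.p y 0)⁻¹ =
      s.l 1 * (s.l 1 * s.p y 0 * (s.l 1)⁻¹ * s.p x e * (s.p y 0)⁻¹) := by
    rw [i]; simp only [← mul_assoc, h.gr.l_sq, one_mul]
  rw [this, k, h.p_inv, h.p_mul, h.p_mul]
  exact ⟨_, rfl⟩

theorem l_cj' (c b f e : F4) : ∃ e', IsConj (s.l 1 * s.r c * s.z e') (s.l 1 * s.p (c, 0, 0, b, f, f) e) := by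
  obtain ⟨e', k⟩ := l_cj a h (c, 0, 0, b, f, f) (0, 0, f, 0, b + f, 0) e
  rw [show Wl 1 (0, 0, f, 0, b + f, 0) + (c, 0, 0, b, f, f) + (0, 0, f, 0, b + f, 0) = (c, 0, 0, 0, 0, 0) by
    simp only [Wl]; clear k; revert c b f; decide] at k
  exact ⟨e', (_root_.isConj_iff.2 ⟨_, by rw [k, mul_assoc, ← h.p_r, h.p_zr, zero_add]⟩).symm⟩

theorem lv (c : F4) : IsConj (s.p (c, 0, 0, 0, 0, 1) 0) (s.l 1 * s.r c) := by
  have h1 : s.p (c, 0, 0, 0, 0, 1) 0 = s.v 0 1 * s.r c := by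
    simp [SG.p, h.β_zero, h.hm.one, h.r_A c (h.g0.vA ..)]
  refine _root_.isConj_iff.2 ⟨s.τ⁻¹ * s.n, ?_⟩
  rw [h1, ← conj_mul, h.r_A c (mul_mem (inv_mem h.g0.τA) h.g0.nA), mul_inv_cancel_right]
  calc _ = s.τ⁻¹ * (s.n * s.v 0 1 * s.n⁻¹) * s.τ * s.r c := by group
    _ = _ := by rw [h.g0.nv₂]; group

theorem lA (k : Ac s g (σl 1)) (gg : g * g = 1) (n : ¬ Commute g (s.β 1)) : IsConj (s.p e0 0) g := by
  obtain ⟨c, d, b, f, e, k1, rfl⟩ := nfl a h k gg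
  have c0 : c ≠ 0 := by
    rintro rfl
    refine n ((h.βD 1 _ (h.gr.lD 1)).symm.mul_left ?_)
    rw [← h.p_β, h.p_comm]
    simp [bf]
  obtain rfl := (mul_eq_zero.1 k1).resolve_left c0
  obtain ⟨e', j⟩ := l_cj' a h c b f e
  refine ((nv a h _ 0 (a.nvc c c0)).trans (lv a h c)).trans (IsConj.trans (_root_.isConj_iff.2
    ⟨s.β (c⁻¹ * e'), ?_⟩) j)
  rw [← conj_mul, h.βr, (h.βD _ _ (h.gr.lD 1)).eq, mul_inv_cancel_right, mul_inv_cancel_left₀ c0,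
    mul_assoc]

theorem lB (k : Ac s g (σl 1)) (gg : g * g = 1) :
    IsConj (s.p e0 0) g ∨ ∃ b f e, g = s.l 1 * s.p (0, 0, 0, b, f, f) e := by
  by_cases n : Commute g (s.β 1)
  swap
  · exact .inl (lA a h k gg n)
  by_cases n' : Commute g (s.r 1)
  · obtain ⟨c, d, b, f, e, -, rfl⟩ := nfl a h k gg
    have h1 := (h.βD 1 _ (h.gr.lD 1)).symm.inv_left.mul_left n
    have h2 := (Commute.inv_left (h.r_A 1 (h.g0.lA 1))).mul_left n'
    rw [inv_mul_cancel_left] at h1 h2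
    rw [← h.p_β, h.p_comm] at h1
    rw [← h.p_r, h.p_comm] at h2
    simp only [bf, mul_one, mul_zero, add_zero, zero_add] at h1 h2
    exact .inr ⟨b, f, e, by rw [h1, h2]⟩
  obtain ⟨y, -, j⟩ := ac_Y a h (σ := swap 1 2 * swap 4 5) (by simp)
  obtain ⟨e, j'⟩ := j.all a h (1, 0, 0, 0, 0, 0) 0
  rw [show th (swap 1 2 * swap 4 5) (1, 0, 0, 0, 0, 0) = (0, 1, 0, 0, 0, 0) by decide, h.p_r,
    ← zero_add e, ← h.p_zr, h.p_β] at j'
  have k' := j.cj a h k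
  rw [show swap 1 2 * swap 4 5 * σl 1 * (swap 1 2 * swap 4 5)⁻¹ = σl 1 by decide] at k'
  refine .inl ((lA a h k' (by rw [conj_mul, gg]; group) fun m => n' ?_).trans
    (_root_.isConj_iff.2 ⟨y, rfl⟩).symm)
  have := m.mul_right (k'.M.1 _ (h.gr.zZ e)).symm
  rw [← j'] at this
  simpa [mul_assoc] using this.map (MulAut.conj y⁻¹)

theorem lC (b f e : F4) : KI s.K (s.l 1 * s.p (0, 0, 0, b, f, f) e) := by
  obtain ⟨e', j⟩ := l_cj' a h 0 b f e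
  have k := h.l_p 1 0 0 0 0 (e' ^ 2) (e' ^ 2) 0
  rw [show Wl 1 (0, 0, 0, 0, e' ^ 2, e' ^ 2) = (0, 0, 0, 0, e' ^ 2, e' ^ 2) by simp [Wl], sq_sq,
    one_mul, one_mul, zero_mul, add_zero, ← h.p_zl] at k
  obtain ⟨c, i⟩ := _root_.isConj_iff.1 (((lv a h 0).trans (_root_.isConj_iff.2
    ⟨s.p (0, 0, 0, 0, e' ^ 2, e' ^ 2) 0, by
      rw [h.r_zero, mul_one, eq_mul_inv_of_mul_eq k.symm, ← mul_assoc, ← mul_assoc,
        ← mul_assoc, h.gr.l_sq, one_mul, inv_eq_of_mul_eq_one_right (h.gr.l_sq 1)]⟩)).trans j)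
  exact i ▸ H88.TE.KI.cj ((ki a h _ _).2 a.dvt) c

theorem ac_sq (k : Ac s g σ) (gg : g * g = 1) : σ * σ = 1 :=
  (k.mul a h k).uniq a h (gg ▸ ac_P a h (one_mem _))

theorem two2 (k : Ac s g σ) (gg : g * g = 1) (n : σ ≠ 1) (n' : ¬ FP σ) :
    KI s.K g ∨ IsConj (s.p e0 0) g := by
  obtain ⟨-, π, hπ, j⟩ := ((a.inv σ k.alt (ac_sq a h k gg)).resolve_left n).resolve_right fun j => n' j.1
  obtain ⟨y, -, j'⟩ := ac_Y a h hπ
  rcases lB a h (j ▸ j'.cj a h k) (by rw [conj_mul, gg]; group) with i | ⟨b, f, e, i⟩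
  · exact .inr (i.trans (_root_.isConj_iff.2 ⟨y, rfl⟩).symm)
  · exact .inl (H88.TE.ki_cj.1 (i ▸ lC a h b f e))

theorem big (k : Ac s t σ) (j : KI s.K t) : Bg s 4096 t := by
  have sq : ∀ g, g * t * g⁻¹ * (g * t * g⁻¹) = 1 := fun g => H88.TE.KI.sq (H88.TE.KI.cj j g)
  have cj : ∀ {t σ g π}, Ac s t σ → π ∈ cen1 σ → Ac s g π → Ac s (g * t * g⁻¹) σ := fun k i i' => by
    simpa only [(mc1.1 i).eq, mul_inv_cancel_right] using i'.cj a h k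
  rcases a.inv σ k.alt (ac_sq a h k (H88.TE.KI.sq j)) with rfl | ⟨-, π, hπ, i⟩ | ⟨-, π, hπ, i⟩
  · obtain ⟨x, e, rfl⟩ := h.mem_P.1 (k2 a h k ⟨1, by rw [pow_one, pow_two, H88.TE.KI.sq j]⟩)
    obtain ⟨S, k1, k2, k3⟩ := lift a h (t := s.p x e) bot_le IsPGroup.of_bot Finset.univ (s.p x)
      fun g σ hσ k => by
        simpa only [mem_bot.1 hσ, a.one, Finset.mem_univ, true_and] using k.all a h x e
    rw [show (Finset.univ : Finset F4).card = 4 from rfl, card_bot] at k3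
    exact ⟨S, k1, k2, by omega⟩
  · obtain ⟨y, -, i'⟩ := ac_Y a h hπ
    obtain ⟨T, h1, h2, h3⟩ := a.syl2
    obtain ⟨S, k1, k2, k3⟩ := lift a h (t := y * t * y⁻¹) (h1.trans inf_le_left) h2 Finset.univ
      (fun i : F4 × F4 × F4 => s.l 1 * s.p (0, 0, 0, i.1, i.2.1, i.2.1) i.2.2) fun g σ hσ k' => by
        have m := H88.TE.KI.cj (H88.TE.KI.cj j y) g
        obtain ⟨b, f, e, m⟩ := (lB a h (cj (i ▸ i'.cj a h k) (h1 hσ).2 k')
          (H88.TE.KI.sq m)).resolve_left fun n => nki' a h n m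
        exact ⟨(b, f, e), Finset.mem_univ _, m⟩
    rw [show (Finset.univ : Finset (F4 × F4 × F4)).card = 64 from rfl] at k3
    exact Bg.of i'.M ⟨S, k1, k2, by omega⟩
  · obtain ⟨y, -, i'⟩ := ac_Y a h hπ
    obtain ⟨T, h1, h2, h3⟩ := a.syl4
    let v : F4 × F4 × F4 → F4 → V6 := fun i b => (i.1, i.2.1, b, 0, i.2.2, i.1 + i.2.1 + i.2.2)
    obtain ⟨S, k1, k2, k3⟩ := lift a h (t := y * t * y⁻¹) (h1.trans inf_le_left) h2
      ((Finset.univ.filter fun i => bf k₁ (v i 0) ^ 2 + qf (v i 0) = 0) ×ˢ (Finset.univ : Finset (F4 × F4)))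
      (fun i => s.s0 * s.p (v i.1 i.2.1) i.2.2) fun g σ hσ k' => by
        have m := H88.TE.KI.sq (H88.TE.KI.cj (H88.TE.KI.cj j y) g)
        obtain ⟨x, e, m1, m2⟩ := nf a h h.s0Y h.s0_sq (ac_s0 a h) (cj (i ▸ i'.cj a h k) (h1 hσ).2 k')
          (m ▸ one_mem _)
        rw [m2, ← mul_assoc, ← congrArg (s.s0 * s.p x e * · * s.p x e)
          (inv_eq_of_mul_eq_one_right h.s0_sq), h.s0_p a.toAF₁ m1, ← h.p_zl, mul_assoc, h.p_sq, h.gr.zz,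
          ← h.gr.z0] at m
        obtain ⟨m3, m4⟩ := fix₄ a.toAF₁ m1
        obtain ⟨c, d, a', b, f, t⟩ := x
        obtain rfl : b = 0 := m3
        obtain rfl : t = c + d + f := m4
        refine ⟨((c, d, f), a', e), Finset.mem_product.2 ⟨Finset.mem_filter.2 ⟨Finset.mem_univ _, ?_⟩,
          Finset.mem_univ _⟩, m2⟩
        simpa [v, bf, qf, k₁] using h.gr.z_inj m
    rw [Finset.card_product, show (Finset.univ : Finset (F4 × F4)).card = 16 from rfl,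
      show (Finset.univ.filter fun i => bf k₁ (v i 0) ^ 2 + qf (v i 0) = 0).card = 28 by
        decide +kernel] at k3
    refine Bg.of i'.M ⟨S, k1, k2, ?_⟩
    obtain ⟨n, hn⟩ := k2.exists_card_eq
    rw [hn] at k3 ⊢
    exact Nat.pow_le_pow_right (n := 2) (i := 12) two_pos
      ((Nat.pow_lt_pow_iff_right (a := 2) (n := 11) one_lt_two).1 (by omega))

theorem odd (X : Subgroup G) (hX : X ≤ cen1 (s.z 1)) (ho : Odd (Nat.card X)) (hn : s.P ≤ nor X) :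
    X ≤ s.O := by
  have key : ∀ c ≠ 0, X ⊓ cen1 (s.r c) ≤ s.O := fun c n g hg => by
    have hN := h.cen_r n hg.2
    obtain ⟨m, hm⟩ := ho.of_dvd_nat (X.orderOf_dvd_natCard hg.1)
    have g1 : g ^ (2 * m + 1) = 1 := hm ▸ pow_orderOf_eq_one g
    have g2 : g ^ (m + 1) * g ^ (m + 1) = g := by
      rw [← pow_add, show m + 1 + (m + 1) = 2 * m + 1 + 1 by ring, pow_succ, g1, one_mul]
    obtain ⟨k, hk, δ, hδ, rfl⟩ := (H43.mem_sup_of_comm fun _ hk _ hδ => (hk _ hδ).symm).1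
      (show g ∈ s.K ⊔ s.A from g2 ▸ (h.g1.out2 _ (pow_mem hN (m + 1)) _ (pow_mem hN (m + 1))).elim
        (fun k => mul_mem k k) fun k => k.elim (fun k => mul_mem k k) id)
    have hD : δ ∈ s.D := ⟨hδ, by
      simpa using mul_mem (inv_mem (mc1.2 (hk _ (h.g0.uA 0 0 1)).symm)) (hX hg.1)⟩
    obtain ⟨e, rfl⟩ := h.mem_Z.1 (h.g1.cQ ⟨hδ, fun q hq => by
      have q1 := conj_mem_of_mem_normalizer (h.g1.dQ hD) hq
      have q2 : δ * q * δ⁻¹ * q⁻¹ ∈ X := by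
        have := mul_mem hg.1 (conj_mem_of_mem_normalizer (hn (h.QA_le hq)) (inv_mem hg.1))
        rw [show k * δ * (q * (k * δ)⁻¹ * q⁻¹) = k * (δ * q * δ⁻¹) * k⁻¹ * q⁻¹ by group,
          ← hk _ (h.g1.sylA.le (mem_sup_left q1)), mul_inv_cancel_right] at this
        exact this
      exact (mul_inv_eq_iff_eq_mul.1 (mul_inv_eq_one.1 (H88.TE.eq_one_of_odd
        (ho.of_dvd_nat (X.orderOf_dvd_natCard q2))
        (h.four (h.P_sq (h.QA_le (mul_mem q1 (inv_mem hq)))))))).symm⟩)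
    obtain ⟨o, o1, c', rfl⟩ := h.ck k hk c n (by
      simpa using (mc1.1 hg.2).mul_left (Commute.inv_left (h.r_A c hδ)))
    have p1 : s.r c' * s.z e ∈ s.P := mul_mem (h.p_r c' ▸ p_mem _ _) (h.Z_le_P (h.gr.zZ e))
    have c1 : Commute o (s.r c' * s.z e) := h.P_cenO p1 o o1
    have p2 : (s.r c' * s.z e) ^ 2 = 1 := by
      rw [← h.p_r, h.p_zr, pow_two, h.p_sq, ← h.gr.z0]; simp [qf]
    rw [mul_assoc] at g1 ⊢
    rw [c1.mul_pow, pow_succ (_ * _), pow_mul (_ * _), p2, one_pow, one_mul] at g1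
    exact mul_mem o1 (eq_inv_of_mul_eq_one_right g1 ▸ inv_mem (pow_mem o1 _))
  have rP : ∀ c, s.r c ∈ nor X := fun c => hn (h.p_r c ▸ p_mem _ _)
  refine H14.le_of_four (h.r_ord one_ne_zero) (h.r_ord (c := F4.w) (by decide))
    (by rw [← h.gp.add, ← h.gp.add, add_comm]) (fun e => ?_) (Nat.coprime_two_right.2 ho)
    (rP _) (rP _) (key _ one_ne_zero) (key _ (by decide)) (h.gp.add 1 F4.w ▸ key _ (by decide))
  exact absurd (h.gp.inj (1 + F4.w) (by rw [h.gp.add, e, h.r_sq])) (by decide)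

omit a h in
theorem jobCA : JobCA.{u} := fun G _ _ s a h => by
  obtain ⟨θ, k⟩ := ex_θ a h
  have k : ∀ g : s.M, Ac s g (θ.comp (inclusion (M_le a h)) g) := fun g => k ⟨g, M_le a h g.2⟩
  refine ⟨_, fun g => (k g).act, fun g => (k g).alt, fun σ hσ => ?_, ker a h,
    fun g e => k2 a h (e ▸ k g), fun g hg => ?_, fun g hg ⟨n, hn⟩ => ?_, ki a h, kc a h, nv a h,
    fun g hg x e e' hx j => ?_, fun g gg e => nf a h h.s0Y h.s0_sq (ac_s0 a h) (e ▸ k g) gg,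
    fun g => two2 a h (k g), fun t ht => big a h (k ⟨t, ht⟩), odd a h⟩
  · obtain ⟨y, hy, j⟩ := ac_Y a h hσ
    exact ⟨⟨y, j.M⟩, hy, (k _).uniq a h j⟩
  · obtain ⟨o, ho, y, hy, rfl⟩ := dec a h hg
    exact mul_mem (le_normalizer ho) (centralizer_le_normalizer _ (h.Y_le hy).2)
  · obtain ⟨o, ho, y, hy, rfl⟩ := dec a h hg
    have hY := (h.Y_le hy).2
    refine mul_mem ?_ hY
    rw [Commute.mul_pow (hY o ho)] at hn
    refine (zpowers_le (g := o ^ 2 ^ n)).2 (eq_inv_of_mul_eq_one_left hn ▸ inv_mem (pow_mem hY _))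
      (mem_zpowers_pow_iff.2 ?_)
    exact (Nat.coprime_two_left.2 (h.odd.of_dvd_nat (s.O.orderOf_dvd_natCard ho))).pow_left n
  · obtain ⟨y, hy, i⟩ := kc a h x e hx
    obtain ⟨o, ho, v, hv, rfl⟩ := OY a h hg hx hy (i ▸ j)
    exact (mul_mem (ac_O a h ho).M (h.Y_le hv).1).2

end H92.CG
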