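import Cfsg.Agent.H24.CxKit

/-! Tower CX, jobs ChA and ChB. -/

set_option autoImplicit false

namespace H92.CxCh

open Subgroup Cfsg H98 H24.Cx

universe u

section
variable {p : ℕ} {G : Type u} [Group G] {Y Z P : Subgroup G}

theorem isP_conj {k : G} (g : G) (h : IsPGroup p (zpowers k)) :
    IsPGroup p (zpowers (g⁻¹ * k * g)) := by
  obtain ⟨n, hn⟩ := isPGroup_iff_forall.1 h k (mem_zpowers k)
  refine H98.isPGroup_zpowers (k := n) ?_
  have := conj_pow (a := g⁻¹) (b := k) (i := p ^ n)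
  rw [inv_inv] at this
  rw [this, hn]; simp

theorem isP_of_mem (h : IsPGroup p P) {k : G} (hk : k ∈ P) : IsPGroup p (zpowers k) :=
  h.to_le (by rwa [zpowers_le])

theorem mem_KK [Z.Normal] {k : G} : k ∈ KK Z P ↔ ∀ x ∈ P, k * x * k⁻¹ * x⁻¹ ∈ Z := Iff.rfl

theorem cj_KK [h : Z.Normal] (g : G) (P : Subgroup G) : cj g (KK Z P) = KK Z (cj g P) := by
  ext k
  rw [mem_cj, mem_KK, mem_KK]
  constructor
  · intro hk x hx
    have := h.conj_mem _ (hk _ (mem_cj.1 hx)) g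
    convert this using 1; group
  · intro hk x hx
    have := h.conj_mem _ (hk _ (conj_mem_cj hx)) g⁻¹
    convert this using 1; group

theorem up_cen : Up p ⊤ Y (Cen p) where
  mono := fun _ _ _ _ h hP g hg hp => h (hP g (centralizer_anti h hg) hp)
  inv := fun g _ P _ hP k hk hp => mem_cj.2 (hP _ (by
    rw [← cj_centralizer] at hk; exact mem_cj.1 hk) (isP_conj g hp))

theorem up_CB [Z.Normal] : Up p ⊤ Y (CB p Z) where
  mono := fun _ _ _ _ h hP g hg hp => h (hP g (fun x hx => hg x (h hx)) hp)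
  inv := fun g _ P _ hP k hk hp => mem_cj.2 (hP _ (by
    rw [← cj_KK] at hk; exact mem_cj.1 hk) (isP_conj g hp))

theorem cen_le_KK [Z.Normal] : centralizer (P : Set G) ≤ KK Z P := fun k hk x hx => by
  rw [← mem_centralizer_iff.1 hk x hx]; simp

theorem cen_of_CB [Z.Normal] (h : CB p Z P) : Cen p P := fun g hg hp => h g (cen_le_KK hg) hp

theorem com_ZZ {g a : G} (hg : g ∈ P) (ha : a ∈ ZZ P) : g * a * g⁻¹ * a⁻¹ = 1 := by
  rw [mem_centralizer_iff.1 ha.2 g hg]; simp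

theorem secH_ZZ {C : Subgroup G → Prop} {B : Subgroup G} [hB : B.Normal] (hC : Up p ⊤ Y C)
    (h : ∀ P, C P → Cen p P) (h1 : B ≤ Y) (h2 : B ≤ center G) : SecH p ⊤ Y C ZZ fun _ => B where
  up := hC
  le1 := fun _ hP _ b hb => ⟨hP.ge (h1 hb), mem_centralizer_iff.2 fun g _ =>
    mem_center_iff.1 (h2 hb) g⟩
  le2 := fun _ _ _ => inf_le_left
  com := fun _ _ _ g hg a ha => by rw [com_ZZ hg ha]; exact one_mem _
  antiA := fun P _ _ hQ hle hP a ha =>
    ⟨h P hP a (centralizer_anti hle ha.2) (isP_of_mem hQ.isP ha.1), centralizer_anti hle ha.2⟩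
  antiB := fun _ _ _ _ _ _ => le_rfl
  eqA := fun g _ P _ _ => by rw [ZZ, cj_inf, cj_centralizer]; exact le_rfl
  eqB := fun g _ _ _ _ => (cj_eq_self_of_normal g B).le

theorem secH_const {C : Subgroup G → Prop} [Z.Normal] (hC : Up p ⊤ Z C) (h2 : Z ≤ center G) :
    SecH p ⊤ Z C (fun _ => Z) fun _ => ⊥ where
  up := hC
  le1 := fun _ _ _ => bot_le
  le2 := fun _ hP _ => hP.ge
  com := fun _ _ _ g _ a ha => by rw [mem_center_iff.1 (h2 ha) g]; simp
  antiA := fun _ _ _ _ _ _ => le_rfl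
  antiB := fun _ _ _ _ _ _ => le_rfl
  eqA := fun g _ _ _ _ => (cj_eq_self_of_normal g Z).le
  eqB := fun g _ _ _ _ => (cj_bot g).le

theorem secH_ZB [h : Z.Normal] : SecH p ⊤ Z (CB p Z) (ZB Z) fun _ => Z where
  up := up_CB
  le1 := fun _ hP _ b hb => ⟨hP.ge hb, fun x _ => by
    have := mul_mem hb (h.conj_mem _ (inv_mem hb) x)
    convert this using 1; group⟩
  le2 := fun _ _ _ => inf_le_left
  com := fun _ _ _ g hg a ha => by
    have := inv_mem (ha.2 g hg)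
    convert this using 1; group
  antiA := fun P _ _ hQ hle hP a ha =>
    ⟨hP a (fun x hx => ha.2 x (hle hx)) (isP_of_mem hQ.isP ha.1), fun x hx => ha.2 x (hle hx)⟩
  antiB := fun _ _ _ _ _ _ => le_rfl
  eqA := fun g _ P _ _ => by rw [ZB, cj_inf, cj_KK]; exact le_rfl
  eqB := fun g _ _ _ _ => (cj_eq_self_of_normal g Z).le

theorem pair_top [Z.Normal] (h : IsPGroup p Z) : Pair p ⊤ Z :=
  ⟨h, le_top, by rw [normalizer_eq_top]⟩

/-- The map of free abelian groups induced by a homomorphism. -/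
def th {G' : Type u} [Group G'] (φ : G →* G') : ZG G →+ ZG G' := ZG.lift fun a => ZG.of (φ a)

theorem th_of {G' : Type u} [Group G'] (φ : G →* G') (a : G) : th φ (ZG.of a) = ZG.of (φ a) :=
  ZG.lift_of _ a

theorem th_smul {G' : Type u} [Group G'] (φ : G →* G') (g : G) (w : ZG G) :
    th φ (g • w) = φ g • th φ w :=
  DFunLike.congr_fun (ZG.hom_ext (f := (th φ).comp (DistribSMul.toAddMonoidHom _ g))
    (g := (DistribSMul.toAddMonoidHom _ (φ g)).comp (th φ)) fun a => by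
      simp [th_of, ZG.smul_of]) w

theorem of_mem_SU {A : Subgroup G} {a : G} (h : a ∈ A) : ZG.of a ∈ SU A :=
  AddSubgroup.subset_closure ⟨a, h, rfl⟩

theorem of_mem_SV {A B : Subgroup G} {a : G} (h : a ∈ B) : ZG.of a ∈ SV A B :=
  AddSubgroup.subset_closure (Or.inr ⟨a, h, rfl⟩)

theorem match_th (hK : SecK.{u}) {G' : Type u} [Group G'] (φ : G →* G') {A B : Subgroup G}
    {A' B' : Subgroup G'} (hA : A.map φ = A') (h0 : B ≤ A) (h1 : B' ≤ A')
    (h2 : ∀ g ∈ A', ∀ a ∈ A', g * a * g⁻¹ * a⁻¹ ∈ B') (h3 : ∀ a ∈ A, (φ a ∈ B' ↔ a ∈ B)) :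
    Match (th φ) (SU A) (SV A B) (SU A') (SV A' B') := by
  have hm : ∀ a ∈ A, φ a ∈ A' := fun a ha => hA ▸ mem_map_of_mem φ ha
  have hV : ∀ w ∈ SV A B, th φ w ∈ SV A' B' := by
    intro w hw
    refine (AddSubgroup.closure_le ((SV A' B').comap (th φ))).2 ?_ hw
    rintro _ (⟨a, ha, b, hb, rfl⟩ | ⟨b, hb, rfl⟩)
    · refine AddSubgroup.subset_closure (Or.inl ⟨_, hm a ha, _, hm b hb, ?_⟩)
      simp [th_of]
    · show th φ _ ∈ SV A' B'
      rw [th_of]; exact of_mem_SV ((h3 b (h0 hb)).2 hb)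
  refine Or.inr ⟨fun w hw => ?_, fun w hw => ?_, fun w hw => ⟨fun h => ?_, hV w⟩⟩
  · refine (AddSubgroup.closure_le ((SU A').comap (th φ))).2 ?_ hw
    rintro _ ⟨a, ha, rfl⟩
    show th φ _ ∈ H24.Cx.SU A'
    rw [th_of]; exact of_mem_SU (hm a ha)
  · obtain ⟨a', ha', e⟩ := (hK G' A' B').1 w hw
    rw [← hA] at ha'
    obtain ⟨a, ha, rfl⟩ := ha'
    exact ⟨_, of_mem_SU ha, by rwa [th_of]⟩
  · obtain ⟨a, ha, e⟩ := (hK G A B).1 w hw
    have e1 := sub_mem h (hV _ e)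
    rw [map_sub, sub_sub_cancel, th_of] at e1
    have := add_mem e (of_mem_SV ((h3 a ha).1 ((hK G' A' B').2.1 h1 h2 _ (hm a ha) e1)))
    rwa [sub_add_cancel] at this

theorem mk_mem_cen [Z.Normal] {g : G} :
    (g : G ⧸ Z) ∈ centralizer (P.map (QuotientGroup.mk' Z) : Set (G ⧸ Z)) ↔ g ∈ KK Z P := by
  have key : ∀ x : G, (x : G ⧸ Z) * g = g * x ↔ g * x * g⁻¹ * x⁻¹ ∈ Z := fun x => by
    rw [← QuotientGroup.eq_one_iff, QuotientGroup.mk_mul, QuotientGroup.mk_mul,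
      QuotientGroup.mk_mul, QuotientGroup.mk_inv, QuotientGroup.mk_inv, mul_inv_eq_one,
      mul_inv_eq_iff_eq_mul, eq_comm]
  rw [mem_centralizer_iff, mem_KK]
  exact ⟨fun h x hx => (key x).1 (h _ ⟨x, hx, rfl⟩), by
    rintro h _ ⟨x, hx, rfl⟩; exact (key x).2 (h x hx)⟩

theorem mk_mem_map [Z.Normal] (h : Z ≤ P) {g : G} :
    (g : G ⧸ Z) ∈ P.map (QuotientGroup.mk' Z) ↔ g ∈ P := by
  refine ⟨fun ⟨x, hx, e⟩ => ?_, fun hg => ⟨g, hg, rfl⟩⟩
  have := mul_mem hx (h (QuotientGroup.eq.1 e))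
  rwa [mul_inv_cancel_left] at this

theorem CB_iff [Z.Normal] (hZ : IsPGroup p Z) (h : Z ≤ P) :
    CB p Z P ↔ Cen p (P.map (QuotientGroup.mk' Z)) := by
  constructor
  · intro hP g hg hp
    obtain ⟨g, rfl⟩ := QuotientGroup.mk_surjective g
    obtain ⟨n, hn⟩ := isPGroup_iff_forall.1 hp _ (mem_zpowers _)
    rw [← QuotientGroup.mk_pow, QuotientGroup.eq_one_iff] at hn
    obtain ⟨m, hm⟩ := isPGroup_iff_forall.1 hZ _ hn
    refine (mk_mem_map h).2 (hP g (mk_mem_cen.1 hg) (H98.isPGroup_zpowers (k := n + m) ?_))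
    rwa [pow_add, pow_mul]
  · intro hP g hg hp
    obtain ⟨n, hn⟩ := isPGroup_iff_forall.1 hp _ (mem_zpowers _)
    refine (mk_mem_map h).1 (hP _ (mk_mem_cen.2 hg) (H98.isPGroup_zpowers (k := n) ?_))
    rw [← QuotientGroup.mk_pow, hn, QuotientGroup.mk_one]

theorem map_ZB [Z.Normal] (h : Z ≤ P) :
    (ZB Z P).map (QuotientGroup.mk' Z) = ZZ (P.map (QuotientGroup.mk' Z)) := by
  ext g
  constructor
  · rintro ⟨g, hg, rfl⟩
    exact ⟨⟨g, hg.1, rfl⟩, mk_mem_cen.2 hg.2⟩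
  · intro hg
    obtain ⟨g, rfl⟩ := QuotientGroup.mk_surjective g
    exact ⟨g, ⟨(mk_mem_map h).1 hg.1, mk_mem_cen.1 hg.2⟩, rfl⟩

end

theorem jobChA : JobChA.{u} := by
  intro hK hO p _ G X _ _ _ Z _ hX hZ hc ht
  refine ⟨secH_ZB, ?_⟩
  let _ : MulAction (G ⧸ Z) X := MulAction.compHom X
    (QuotientGroup.lift Z (MulAction.toPermHom G X) fun z hz => Equiv.ext (ht z hz))
  have hφ : ∀ (g : G) (x : X), QuotientGroup.mk' Z g • x = g • x := fun _ _ => rfl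
  have hX' : Good p (G ⧸ Z) X := by
    refine ⟨hX.fin, fun x => ((hX.stab x).map (QuotientGroup.mk' Z)).to_le fun g hg => ?_, hX.card⟩
    obtain ⟨g, rfl⟩ := QuotientGroup.mk_surjective g
    exact ⟨g, hg, rfl⟩
  have hp' : Pair p (⊤ : Subgroup (G ⧸ Z)) ⊥ := pair_top IsPGroup.of_bot
  refine (van_iso2 hX' hp' hX (pair_top hZ)
    ((hK (G ⧸ Z) ⊥ ⊥).2.2.2.2 p _ _ _ _ _ hp' (secH_ZZ up_cen (fun _ h => h) le_rfl bot_le))
    ((hK G ⊥ ⊥).2.2.2.2 p _ _ _ _ _ (pair_top hZ) secH_ZB) (QuotientGroup.mk' Z) hφ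
    (map_top_of_surjective _ (QuotientGroup.mk'_surjective Z))
    (fun x => ⟨fun _ z hz y _ => ht z hz y, fun _ z hz y _ => by rw [mem_bot.1 hz, one_smul]⟩)
    (th _) (fun g _ w => th_smul _ g w) fun P hP => ?_).1 (hO p (G ⧸ Z) X 0 hX')
  by_cases h : CB p Z P
  · have h' := (CB_iff hZ hP.ge).1 h
    rw [secU, secV, secU, secV, cut_pos h, cut_pos h, cut_pos h', cut_pos h']
    refine match_th hK _ (map_ZB hP.ge) ((secH_ZB (p := p)).le1 P hP h) bot_le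
      (fun g hg a ha => by rw [com_ZZ hg.1 ha]; exact one_mem _) fun a _ => ?_
    rw [mem_bot]; exact QuotientGroup.eq_one_iff a
  · have h' := mt (CB_iff hZ hP.ge).2 h
    rw [secU, secV, secU, secV, cut_neg h, cut_neg h, cut_neg h', cut_neg h']
    exact Or.inl ⟨le_rfl, le_rfl⟩

theorem jobChB : JobChB.{u} := by
  intro hK hL hO p _ G X _ _ _ Z _ hX hZ hc ht
  refine ⟨secH_ZZ up_CB (fun _ => cen_of_CB) le_rfl hc, ?_⟩
  obtain ⟨L1, L2, L3⟩ := hL p G X ⊤ Z hX (pair_top hZ)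
  have h1 := (van_on (Y' := Z) fun x => ⟨fun _ z hz y _ => ht z hz y,
    fun _ z hz y _ => by rw [mem_bot.1 hz, one_smul]⟩).1 (hO p G X 1 hX)
  have h2 := L2 (fun _ => True) (Cen p) _ _ 4
    (secH_const ⟨fun _ _ _ _ _ h => h, fun _ _ _ _ h => h⟩ hc) up_cen (fun _ _ _ => trivial)
    (fun P _ _ h => ⟨centralizer (P : Set G),
      le_inf le_top (le_normalizer_of_le_centralizer le_rfl),
      inf_le_right.trans (normalizer_le_normalizer_centralizer P), by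
        by_contra h0
        exact h fun g hg hp => mem_of_not_dvd (le_normalizer_inf
          (le_normalizer_of_le_centralizer le_rfl) le_normalizer) h0 hg hp,
      fun k _ a ha => by rw [mem_center_iff.1 (hc ha) k]; simp⟩) (L3 3 hc)
  have h3 := L1 (Cen p) ZZ (fun _ => Z) (fun _ => ⊥) 3
    (secH_ZZ up_cen (fun _ h => h) bot_le bot_le) (secH_const up_cen hc)
    (secH_ZZ up_cen (fun _ h => h) le_rfl hc) h1 h2
  refine L2 (Cen p) (CB p Z) _ _ 3 (secH_ZZ up_cen (fun _ h => h) le_rfl hc) up_CB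
    (fun _ _ => cen_of_CB) (fun P hP _ h => ?_) h3
  have hn : KK Z P ≤ normalizer (P : Set G) := fun k hk => mem_normalizer_of_cj_le fun y hy => by
    have := mul_mem (hP.ge (hk _ (mem_cj.1 hy))) (mem_cj.1 hy)
    convert this using 1; group
  refine ⟨KK Z P, le_inf le_top hn, fun g hg => cj_eq_self_iff.1 (by
    rw [cj_KK, cj_eq_self hg.2]), ?_, fun k hk a ha => hk a ha.1⟩
  by_contra h0
  exact h fun g hg hp => mem_of_not_dvd (le_normalizer_inf hn le_normalizer) h0 hg hp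

end H92.CxCh
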