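import Cfsg.Agent.H92.CxFusK

/-! Tower CX, job FusC. -/

set_option autoImplicit false

namespace H92.CxF

open Subgroup Cfsg H98 H24.Cx

universe u v

section
variable {p : ℕ} {Ω : Type u} [Group Ω] {S : Subgroup Ω} {F : FusionSystem S} {A : Subgroup Ω}
  {H : Type v} [Group H] {ι : S →* H} {Z : Subgroup H} {B : Type v} [CommGroup B] {j : B →* H}

/-- The elements of `S` whose image is conjugated into `R` by `a`. -/
def pre (ι : S →* H) (a : H) (R : Subgroup H) : Subgroup Ω := ((cj a⁻¹ R).comap ι).map S.subtype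

theorem mem_pre {a : H} {R : Subgroup H} {x : Ω} :
    x ∈ pre ι a R ↔ x ∈ S ∧ a * ext1 ι x * a⁻¹ ∈ R := by
  constructor
  · rintro ⟨s, hs, rfl⟩
    refine ⟨s.2, ?_⟩
    have := mem_cj.1 (mem_comap.1 hs)
    rw [inv_inv] at this
    simpa using this
  · rintro ⟨h1, h2⟩
    refine ⟨⟨x, h1⟩, mem_comap.2 (mem_cj.2 ?_), rfl⟩
    rwa [inv_inv, ← ext1_of_mem ι h1]

/-- `a⁻¹ u a ↦ b⁻¹ w(u) u b` is a morphism. -/
structure Rl (F : FusionSystem S) (ι : S →* H) (j : B →* H) (a b : H) (R : Subgroup H)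
    (w : HW H B) : Prop where
  le : ∀ u ∈ R, a⁻¹ * u * a ∈ ι.range
  ex : ∃ f, Mor F (pre ι a R) f ∧ ∀ x ∈ pre ι a R,
    b * ext1 ι (f x) * b⁻¹ = j (w (a * ext1 ι x * a⁻¹)).toMul * (a * ext1 ι x * a⁻¹)

theorem pre_le (a : H) (R : Subgroup H) : pre ι a R ≤ S := fun _ h => (mem_pre.1 h).1

theorem pre_ex {a : H} {R : Subgroup H} (h : ∀ u ∈ R, a⁻¹ * u * a ∈ ι.range) {u : H}
    (hu : u ∈ R) : ∃ x ∈ pre ι a R, a * ext1 ι x * a⁻¹ = u := by
  obtain ⟨x, hx, e⟩ := e_surj (h u hu)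
  have : a * ext1 ι x * a⁻¹ = u := by rw [e]; group
  exact ⟨x, mem_pre.2 ⟨hx, by rwa [this]⟩, this⟩

theorem Rl.mono {a b : H} {R R' : Subgroup H} {w : HW H B} (h : Rl F ι j a b R w) (hR : R' ≤ R) :
    Rl F ι j a b R' w := by
  obtain ⟨f, hf, e⟩ := h.ex
  have : pre ι a R' ≤ pre ι a R := fun x hx => mem_pre.2 ⟨(mem_pre.1 hx).1, hR (mem_pre.1 hx).2⟩
  exact ⟨fun u hu => h.le u (hR hu), f, hf.mono this, fun x hx => e x (this hx)⟩

theorem Rl.smul {a b : H} {R : Subgroup H} {w : HW H B} (hj : Ctr p j) (h : Rl F ι j a b R w)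
    (g : H) : Rl F ι j (g * a) (g * b) (cj g R) (g • w) := by
  obtain ⟨f, hf, e⟩ := h.ex
  have hp : pre ι (g * a) (cj g R) = pre ι a R := by
    ext x
    rw [mem_pre, mem_pre, mem_cj]
    rw [show g⁻¹ * (g * a * ext1 ι x * (g * a)⁻¹) * g = a * ext1 ι x * a⁻¹ by group]
  refine ⟨fun u hu => ?_, f, by rwa [hp], fun x hx => ?_⟩
  · have := h.le _ (mem_cj.1 hu)
    rwa [show a⁻¹ * (g⁻¹ * u * g) * a = (g * a)⁻¹ * u * (g * a) by group] at this
  · rw [hp] at hx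
    rw [HW.smul_apply,
      show g⁻¹ * (g * a * ext1 ι x * (g * a)⁻¹) * g = a * ext1 ι x * a⁻¹ by group]
    calc _ = g * (b * ext1 ι (f x) * b⁻¹) * g⁻¹ := by group
      _ = _ := by rw [e x hx, ← mul_assoc g, ← hj.cen]; group

theorem rl_rep {a t : H} {R : Subgroup H} (h : ∀ u ∈ R, a⁻¹ * u * a ∈ ι.range)
    (ht : t ∈ ι.range) : Rl F ι j a (a * t) R 0 := by
  obtain ⟨s, hs, rfl⟩ := e_surj ht
  refine ⟨h, _, mor_conj' F (pre_le a R) hs, fun x hx => ?_⟩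
  have hx' := pre_le a R hx
  rw [e_mul ι (mul_mem (inv_mem hs) hx') hs, e_mul ι (inv_mem hs) hx', e_inv ι hs, HW.zero_apply]
  simp only [toMul_zero, map_one, one_mul]
  group

theorem jZ (hr : j.range = Z) (z : B) : j z ∈ Z := hr ▸ ⟨z, rfl⟩

theorem kU_anti (hj : Ctr p j) {R R' : Subgroup H} (h : R' ≤ R) : kU hj R ≤ kU hj R' :=
  fun _ ⟨k, hk⟩ => ⟨k, fun x hx => hk x (h hx)⟩

variable (L : Lift p F A ι Z) (hA : F.IsCentral A) (hj : Ctr p j) (hr : j.range = Z)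
include L hA

theorem le_pre (a : H) {R : Subgroup H} (hZ : Z ≤ R) : A ≤ pre ι a R := fun x hx =>
  mem_pre.2 ⟨hA.1 hx, by
    rw [z_comm L (e_memZ L hx), mul_inv_cancel_right]; exact hZ (e_memZ L hx)⟩

include hj hr

theorem Rl.mem_hU {a b : H} {R : Subgroup H} {w : HW H B} (h : Rl F ι j a b R w) (hZ : Z ≤ R) :
    w ∈ hU j R := by
  obtain ⟨f, hf, e⟩ := h.ex
  constructor
  · intro u hu u' hu'
    obtain ⟨x, hx, rfl⟩ := pre_ex h.le hu
    obtain ⟨y, hy, rfl⟩ := pre_ex h.le hu'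
    have e1 := e _ (mul_mem hx hy)
    have e2 : a * ext1 ι (x * y) * a⁻¹ = a * ext1 ι x * a⁻¹ * (a * ext1 ι y * a⁻¹) := by
      rw [e_mul ι (pre_le a R hx) (pre_le a R hy)]; group
    rw [e2, hf.map_mul hx hy, e_mul ι (hf.mem hx) (hf.mem hy),
      show b * (ext1 ι (f x) * ext1 ι (f y)) * b⁻¹ =
        b * ext1 ι (f x) * b⁻¹ * (b * ext1 ι (f y) * b⁻¹) by group, e x hx, e y hy] at e1
    apply Additive.toMul.injective
    apply hj.inj
    rw [toMul_add, map_mul]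
    generalize a * ext1 ι x * a⁻¹ = u at e1 ⊢
    generalize a * ext1 ι y * a⁻¹ = u' at e1 ⊢
    rw [mul_assoc, ← mul_assoc u, ← hj.cen, mul_assoc, ← mul_assoc, mul_left_inj] at e1
    exact e1.symm
  · intro z
    obtain ⟨x, hx, ex⟩ := (L.img (j z)).1 (hr ▸ ⟨z, rfl⟩)
    have hx' := le_pre L hA a hZ hx
    have e1 := e x hx'
    rw [fix_of_central hA hf hx' hx, ex, ← hj.cen, ← hj.cen, mul_inv_cancel_right,
      mul_inv_cancel_right, eq_comm, mul_eq_right] at e1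
    apply Additive.toMul.injective
    apply hj.inj
    rw [e1, toMul_zero, map_one]

omit L hA hj in
theorem hU_z {R : Subgroup H} {w : HW H B} (h : w ∈ hU j R) (hZ : Z ≤ R) (z : B) {u : H}
    (hu : u ∈ R) : w (j z * u) = w u := by
  rw [h.1 _ (hZ (hr ▸ ⟨z, rfl⟩)) u hu, h.2, zero_add]

theorem Rl.comp {a b c : H} {R : Subgroup H} {w w' : HW H B} (h : Rl F ι j a b R w)
    (h' : Rl F ι j b c R w') (hZ : Z ≤ R) : Rl F ι j a c R (w + w') := by
  obtain ⟨f, hf, e⟩ := h.ex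
  obtain ⟨f', hf', e'⟩ := h'.ex
  have hm : ∀ x ∈ pre ι a R, f x ∈ pre ι b R := fun x hx => mem_pre.2 ⟨hf.mem hx, by
    rw [e x hx]; exact mul_mem (hZ (hr ▸ ⟨_, rfl⟩)) (mem_pre.1 hx).2⟩
  refine ⟨h.le, _, hf.comp hf' hm, fun x hx => ?_⟩
  rw [e' _ (hm x hx), e x hx, hU_z hr (h'.mem_hU L hA hj hr hZ) hZ _ (mem_pre.1 hx).2,
    HW.add_apply, add_comm, toMul_add, map_mul, mul_assoc (j _)]

theorem Rl.le' {a b : H} {R : Subgroup H} {w : HW H B} (h : Rl F ι j a b R w) :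
    ∀ u ∈ R, b⁻¹ * u * b ∈ ι.range := fun u hu => by
  obtain ⟨f, hf, e⟩ := h.ex
  obtain ⟨x, hx, ex⟩ := pre_ex h.le hu
  have e1 := e x hx
  rw [ex] at e1
  have : b⁻¹ * u * b = (j (w u).toMul)⁻¹ * ext1 ι (f x) := by
    rw [eq_inv_mul_iff_mul_eq, ← mul_assoc, ← mul_assoc, hj.cen, mul_assoc b⁻¹, ← e1]; group
  rw [this]
  exact mul_mem (inv_mem (Z_le L hA (hr ▸ ⟨_, rfl⟩))) (e_mem ι (hf.mem hx))

theorem Rl.inv {a b : H} {R : Subgroup H} {w : HW H B} (h : Rl F ι j a b R w) (hZ : Z ≤ R) :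
    Rl F ι j b a R (-w) := by
  have hw := h.mem_hU L hA hj hr hZ
  obtain ⟨f, hf, e⟩ := h.ex
  obtain ⟨g, hg, h1, -⟩ := hf.exists_inv
  have key : ∀ y ∈ pre ι b R, ∃ x ∈ pre ι a R, f x = y ∧ a * ext1 ι x * a⁻¹ =
      j (w (b * ext1 ι y * b⁻¹)).toMul⁻¹ * (b * ext1 ι y * b⁻¹) := fun y hy => by
    have hu := (mem_pre.1 hy).2
    obtain ⟨x, hx, ex⟩ := pre_ex h.le 
      (mul_mem (hZ (jZ hr (w (b * ext1 ι y * b⁻¹)).toMul⁻¹)) hu)
    refine ⟨x, hx, e_inj L (hf.mem hx) (pre_le b R hy) ?_, ex⟩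
    have e1 := e x hx
    rw [ex, hU_z hr hw hZ _ hu, map_inv, mul_inv_cancel_left] at e1
    simpa using e1
  refine ⟨h.le' L hA hj hr, g, hg.mono fun y hy => ?_, fun y hy => ?_⟩
  · obtain ⟨x, hx, rfl, -⟩ := key y hy
    exact mem_img_of_mem _ hx
  · obtain ⟨x, hx, rfl, ex⟩ := key y hy
    rw [h1 x hx, ex, HW.neg_apply, toMul_neg]

omit hA hj in
theorem rl_mk {a b : H} {R : Subgroup H} {f : Ω → Ω} (h : ∀ u ∈ R, a⁻¹ * u * a ∈ ι.range)
    (hf : Mor F (pre ι a R) f)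
    (e : ∀ x ∈ pre ι a R, b * ext1 ι (f x) * b⁻¹ * (a * ext1 ι x * a⁻¹)⁻¹ ∈ Z) :
    ∃ w, Rl F ι j a b R w ∧ ∀ x ∈ pre ι a R,
      b * ext1 ι (f x) * b⁻¹ = j (w (a * ext1 ι x * a⁻¹)).toMul * (a * ext1 ι x * a⁻¹) := by
  classical
  have : ∀ u : H, ∃ z : B, ∀ x ∈ pre ι a R, a * ext1 ι x * a⁻¹ = u →
      b * ext1 ι (f x) * b⁻¹ = j z * u := fun u => by
    by_cases hu : ∃ x ∈ pre ι a R, a * ext1 ι x * a⁻¹ = u
    · obtain ⟨x, hx, ex⟩ := hu
      obtain ⟨z, hz⟩ : _ ∈ j.range := hr ▸ e x hx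
      refine ⟨z, fun y hy ey => ?_⟩
      have : y = x := e_inj L (pre_le a R hy) (pre_le a R hx) (by simpa using ey.trans ex.symm)
      rw [this, hz, ex, inv_mul_cancel_right]
    · exact ⟨1, fun x hx ex => (hu ⟨x, hx, ex⟩).elim⟩
  choose w hw using this
  exact ⟨fun u => Additive.ofMul (w u), ⟨h, f, hf, fun x hx => hw _ x hx rfl⟩,
    fun x hx => hw _ x hx rfl⟩

omit hj in
theorem rl_ex {a b : H} {R : Subgroup H} (h : ∀ u ∈ R, a⁻¹ * u * a ∈ ι.range)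
    (h' : ∀ u ∈ R, b⁻¹ * u * b ∈ ι.range) (hZ : Z ≤ R) : ∃ w, Rl F ι j a b R w := by
  obtain ⟨f, hf, e⟩ := L.h1 (b⁻¹ * a) (pre ι a R) (le_pre L hA a hZ) (pre_le a R) fun x hx => by
    have := h' _ (mem_pre.1 hx).2
    rwa [show b⁻¹ * (a * ext1 ι x * a⁻¹) * b = b⁻¹ * a * ext1 ι x * (b⁻¹ * a)⁻¹ by group] at this
  refine (rl_mk L hr h hf fun x hx => ?_).imp fun _ h => h.1
  have := e x hx
  rw [show b * ext1 ι (f x) * b⁻¹ * (a * ext1 ι x * a⁻¹)⁻¹ =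
    b * (ext1 ι (f x) * (b⁻¹ * a * ext1 ι x * (b⁻¹ * a)⁻¹)⁻¹) * b⁻¹ by group, z_comm L this,
    mul_inv_cancel_right]
  exact this

variable (hK : ∀ (P : Subgroup Ω) (f : Ω → Ω), A ≤ P → P ≤ S → (∀ x ∈ P, f x * x⁻¹ ∈ A) →
  (Mor F P f ↔ ∃ k : H, ∀ x ∈ P, ext1 ι (f x) = k * ext1 ι x * k⁻¹))
include hK

theorem Rl.mem_kU {a : H} {R : Subgroup H} {w : HW H B} (h : Rl F ι j a a R w) (hZ : Z ≤ R) :
    w ∈ kU hj R := by
  obtain ⟨f, hf, e⟩ := h.ex
  have e1 : ∀ x ∈ pre ι a R, ext1 ι (f x) = j (w (a * ext1 ι x * a⁻¹)).toMul * ext1 ι x :=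
    fun x hx => by
      have := e x hx
      rw [← mul_assoc, ← mul_assoc, hj.cen, mul_left_inj, mul_assoc, mul_right_inj] at this
      exact this
  obtain ⟨k, hk⟩ := (hK _ f (le_pre L hA a hZ) (pre_le a R) fun x hx => by
    obtain ⟨y, hy, ey⟩ := (L.img (j (w (a * ext1 ι x * a⁻¹)).toMul)).1 (hr ▸ ⟨_, rfl⟩)
    have : f x = y * x := e_inj L (hf.mem hx) (mul_mem (hA.1 hy) (pre_le a R hx)) (by
      rw [e_mul ι (hA.1 hy) (pre_le a R hx), ey, e1 x hx])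
    rwa [this, mul_inv_cancel_right]).1 hf
  refine ⟨a * k * a⁻¹, fun u hu => ?_⟩
  obtain ⟨x, hx, rfl⟩ := pre_ex h.le hu
  rw [eq_mul_inv_iff_mul_eq, ← e x hx, hk x hx]
  group

theorem rl_of_kU {a : H} {R : Subgroup H} {w : HW H B} (h : ∀ u ∈ R, a⁻¹ * u * a ∈ ι.range)
    (hZ : Z ≤ R) (hw : w ∈ kU hj R) : Rl F ι j a a R w := by
  obtain ⟨k, hk⟩ := hw
  have : ∀ z : B, ∃ y ∈ A, ext1 ι y = j z := fun z => (L.img _).1 (hr ▸ ⟨z, rfl⟩)
  choose y hy ey using this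
  have e1 : ∀ x ∈ pre ι a R, ext1 ι (y (w (a * ext1 ι x * a⁻¹)).toMul * x) =
      j (w (a * ext1 ι x * a⁻¹)).toMul * ext1 ι x := fun x hx => by
    rw [e_mul ι (hA.1 (hy _)) (pre_le a R hx), ey]
  refine ⟨h, fun x => y (w (a * ext1 ι x * a⁻¹)).toMul * x, (hK _ _ (le_pre L hA a hZ)
    (pre_le a R) fun x _ => by rw [mul_inv_cancel_right]; exact hy _).2
      ⟨a⁻¹ * k * a, fun x hx => ?_⟩, fun x hx => ?_⟩
  · have := hk _ (mem_pre.1 hx).2
    rw [e1 x hx]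
    generalize (w (a * ext1 ι x * a⁻¹)).toMul = z at this ⊢
    calc j z * ext1 ι x = a⁻¹ * (j z * (a * ext1 ι x * a⁻¹)) * a := by
          rw [← mul_assoc a⁻¹, ← hj.cen]; group
      _ = _ := by rw [this]; group
  · rw [e1 x hx, ← mul_assoc a, ← hj.cen]; group

theorem Rl.unique {a b t t' : H} {R : Subgroup H} {w w' : HW H B} (h : Rl F ι j a b R w)
    (h' : Rl F ι j (a * t) (b * t') R w') (ht : t ∈ ι.range) (ht' : t' ∈ ι.range) (hZ : Z ≤ R) :
    w - w' ∈ kU hj R := by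
  have h1 := (rl_rep (F := F) (j := j) (h.le' L hA hj hr) ht')
  have h2 := (rl_rep (F := F) (j := j) h.le ht).inv L hA hj hr hZ
  have := (((h.comp L hA hj hr h1 hZ).comp L hA hj hr (h'.inv L hA hj hr hZ) hZ).comp L hA hj hr
    h2 hZ).mem_kU L hA hj hr hK hZ
  rwa [add_zero, neg_zero, add_zero, ← sub_eq_add_neg] at this

theorem Rl.of_sub {a b : H} {R : Subgroup H} {w w' : HW H B} (h : Rl F ι j a b R w)
    (hZ : Z ≤ R) (hw : w' - w ∈ kU hj R) : Rl F ι j a b R w' := by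
  have := (rl_of_kU L hA hj hr hK h.le hZ hw).comp L hA hj hr h hZ
  rwa [sub_add_cancel] at this

theorem exists_delta [Fact p.Prime] [Finite H] (hV : VanHK.{v}) :
    ∃ δ ∈ hU j ι.range, ∀ (a b : H) (R : Subgroup H) (w : HW H B), Z ≤ R →
      Rl F ι j a b R w → w - (b • δ - a • δ) ∈ kU hj R := by
  classical
  set T := ι.range with hT
  have hst : ∀ (g a : H), g • (a : H ⧸ T) = a ↔ a⁻¹ * g * a ∈ T := fun g a => by
    rw [MulAction.Quotient.smul_mk, eq_comm, QuotientGroup.eq, smul_eq_mul, mul_assoc]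
  have hst' : ∀ (g : H) (x : H ⧸ T), g • x = x ↔ x.out⁻¹ * g * x.out ∈ T := fun g x => by
    rw [← hst, QuotientGroup.out_eq']
  have hZ : ∀ z ∈ Z, ∀ x : H ⧸ T, z • x = x := fun z hz x => by
    rw [hst', z_comm L hz, inv_mul_cancel_right]; exact Z_le L hA hz
  have hX : Good p H (H ⧸ T) := by
    refine ⟨inferInstance, fun x => (isPGroup_cj x.out L.syl.isPGroup).to_le fun g hg => ?_, ?_⟩
    · exact mem_cj.2 ((hst' g x).1 hg)
    · have := L.syl.not_dvd_relIndex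
      rwa [relIndex_top_right] at this
  have hZs : ∀ l : List (H ⧸ T), Z ≤ st ⊤ l := fun l z hz => ⟨trivial, fun x _ => hZ z hz x⟩
  have hOn : ∀ l : List (H ⧸ T), On j.range l := fun l z hz x _ => hZ z (hr ▸ hz) x
  have hanti : ∀ {l m : List (H ⧸ T)}, (∀ x ∈ m, x ∈ l) → st (⊤ : Subgroup H) l ≤ st ⊤ m :=
    fun h g hg => ⟨trivial, fun x hx => hg.2 x (h x hx)⟩
  have : ∀ x y : H ⧸ T, ∃ w, Rl F ι j x.out y.out (st ⊤ [x, y]) w := fun x y =>
    rl_ex L hA hr (fun u hu => (hst' u x).1 (hu.2 x (by simp)))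
      (fun u hu => (hst' u y).1 (hu.2 y (by simp))) (hZs _)
  choose c hc using this
  have hout : ∀ a : H, ∃ t ∈ T, (a : H ⧸ T).out = a * t := fun a => by
    obtain ⟨t, ht⟩ := QuotientGroup.mk_out_eq_mul T a
    exact ⟨t, t.2, ht⟩
  have huniq : ∀ (a b : H) (R : Subgroup H) (w : HW H B), Z ≤ R → Rl F ι j a b R w →
      R ≤ st ⊤ [(a : H ⧸ T), b] ∧ w - c a b ∈ kU hj R := fun a b R w h1 h2 => by
    have hR : R ≤ st ⊤ [(a : H ⧸ T), b] := fun u hu => ⟨trivial, fun x hx => by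
      simp only [List.mem_cons, List.not_mem_nil, or_false] at hx
      rcases hx with rfl | rfl
      · exact (hst u a).2 (h2.le u hu)
      · exact (hst u b).2 (h2.le' L hA hj hr u hu)⟩
    obtain ⟨t, ht, e⟩ := hout a
    obtain ⟨t', ht', e'⟩ := hout b
    have h3 := (hc a b).mono hR
    rw [e, e'] at h3
    exact ⟨hR, h2.unique L hA hj hr hK h3 ht ht' h1⟩
  let cc : List (H ⧸ T) → HW H B := fun l => match l with
    | [x, y] => c x y
    | _ => 0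
  have h2 : ∀ l : List (H ⧸ T), l.length = 2 → ∃ x y, l = [x, y] := fun l h =>
    List.length_eq_two.1 h
  obtain ⟨e, he, hce⟩ := hV p H (H ⧸ T) B j hj hX (fun a => hZ _ (jZ hr a)) cc
    ⟨fun l hl _ => by
      obtain ⟨x, y, rfl⟩ := h2 l hl
      exact (hc x y).mem_hU L hA hj hr (hZs _),
    fun g _ l hl _ => by
      obtain ⟨x, y, rfl⟩ := h2 l hl
      have h3 := ((hc x y).smul hj g).mono (R' := st ⊤ [g • x, g • y]) fun u hu =>
        mem_cj.2 ⟨trivial, fun z hz => by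
          have := hu.2 (g • z) (by
            simp only [List.mem_cons, List.not_mem_nil, or_false] at hz ⊢
            rcases hz with rfl | rfl <;> simp)
          rw [mul_smul, mul_smul, this, inv_smul_smul]⟩
      have h4 := neg_mem (huniq _ _ _ _ (hZs _) h3).2
      rw [neg_sub, ← smul_eq_mul, ← smul_eq_mul, MulAction.Quotient.mk_smul_out,
        MulAction.Quotient.mk_smul_out] at h4
      exact h4,
    fun h => by omega⟩
    (fun l hl _ => by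
      obtain ⟨x, y, z, rfl⟩ := List.length_eq_three.1 hl
      have h3 := ((hc x y).mono (hanti (l := [x, y, z]) (by simp))).comp L hA hj hr
        ((hc y z).mono (hanti (l := [x, y, z]) (by simp))) (hZs _)
      have h4 := (huniq _ _ _ _ (hZs _) h3).2
      rw [QuotientGroup.out_eq', QuotientGroup.out_eq'] at h4
      have : d cc [x, y, z] = c x y + c y z - c x z := by
        show c y z - (c x z - (c x y - 0)) = _
        abel
      rwa [this])
  have hT1 : st ⊤ [((1 : H) : H ⧸ T)] = T := by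
    ext u
    refine ⟨fun h => by simpa using (hst u 1).1 (h.2 _ (by simp)), fun h => ⟨trivial, fun x hx => ?_⟩⟩
    rw [List.mem_singleton.1 hx, hst]; simpa using h
  refine ⟨e [((1 : H) : H ⧸ T)], by
    have := he.mem [((1 : H) : H ⧸ T)] rfl (hOn _)
    rwa [hT1] at this, fun a b R w h1 h3 => ?_⟩
  obtain ⟨hR, h4⟩ := huniq a b R w h1 h3
  have h5 := kU_anti hj hR (hce [(a : H ⧸ T), b] rfl (hOn _))
  have h6 : ∀ a : H, e [(a : H ⧸ T)] - a • e [((1 : H) : H ⧸ T)] ∈ kU hj (st ⊤ [(a : H ⧸ T)]) :=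
    fun a => by
      have := he.eqv a trivial [((1 : H) : H ⧸ T)] rfl (hOn _)
      have e1 : sm a [((1 : H) : H ⧸ T)] = [(a : H ⧸ T)] := by
        simp [sm, MulAction.Quotient.smul_mk]
      rwa [e1] at this
  have h7 := kU_anti hj (hR.trans (hanti (by simp))) (h6 a)
  have h8 := kU_anti hj (hR.trans (hanti (by simp))) (h6 b)
  have h9 : d e [(a : H ⧸ T), b] = e [b] - e [a] := by
    show e [(b : H ⧸ T)] - (e [(a : H ⧸ T)] - 0) = _
    rw [sub_zero]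
  rw [h9] at h5
  have := sub_mem (add_mem (add_mem h4 h5) h8) h7
  convert this using 1
  show _ = w - c a b + (c a b - _) + _ - _
  abel

end

theorem isRealizable_of {p : ℕ} {Ω : Type u} [Group Ω] {S : Subgroup Ω} {F : FusionSystem S}
    {G : Type*} [Group G] [Finite G] [Fact p.Prime] {ι : S →* G} (h : F.IsRealizedBy ι)
    (T : Sylow p G) (hT : (T : Subgroup G) = ι.range) : F.IsRealizable p := by
  let e : G ≃* Shrink.{u} G := (Shrink.mulEquiv).symm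
  have : Finite (Shrink.{u} G) := Finite.of_equiv _ e.toEquiv
  refine ⟨Shrink.{u} G, inferInstance, this, e.toMonoidHom.comp ι, ⟨e.injective.comp h.1,
    fun P hP φ hφ => (h.2 P hP φ hφ).trans ⟨fun ⟨g, hg⟩ => ⟨e g, fun x => by simp [hg x]⟩,
      fun ⟨g, hg⟩ => ⟨e.symm g, fun x => e.injective (by simpa using hg x)⟩⟩⟩,
    T.mapSurjective (f := e.toMonoidHom) e.surjective, ?_⟩
  rw [MonoidHom.range_comp, ← hT]
  rfl

theorem jobFusC : JobFusC.{u, v} := by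
  intro hK hV p _ Ω _ S _ F A H _ _ ι Z hS hF hA L
  replace hK := hK p Ω S F A H ι Z hS hF hA L
  let _ : CommGroup Z := { (inferInstance : Group Z) with
    mul_comm := fun a b => Subtype.ext (z_comm L b.2 a) }
  let j : Z →* H := Z.subtype
  have hr : j.range = Z := range_subtype Z
  have hj : Ctr p j := ⟨Subtype.val_injective, fun a g => (z_comm L a.2 g).symm,
    L.syl.isPGroup.to_le (Z_le L hA)⟩
  obtain ⟨δ, hδ, hk⟩ := exists_delta L hA hj hr hK hV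
  have hz : ∀ z ∈ Z, ∀ u ∈ ι.range, δ (z * u) = δ u := fun z hz u hu =>
    hU_z hr hδ (Z_le L hA) ⟨z, hz⟩ hu
  let ι' : S →* H := MonoidHom.mk' (fun s => (j (δ (ι s)).toMul)⁻¹ * ι s) fun s t => by
    rw [map_mul, hδ.1 _ ⟨s, rfl⟩ _ ⟨t, rfl⟩, add_comm, toMul_add, map_mul, mul_inv_rev, ← map_inv j,
      ← map_inv j, mul_assoc, mul_assoc, ← mul_assoc (ι s), ← hj.cen, mul_assoc]
  have e' : ∀ x ∈ S, ext1 ι' x = (j (δ (ext1 ι x)).toMul)⁻¹ * ext1 ι x := fun x hx => by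
    rw [ext1_of_mem ι hx, ext1_of_mem ι' hx]; rfl
  have hi : Function.Injective ι' := (injective_iff_map_eq_one ι').2 fun s hs => by
    have h1 : j (δ (ι s)).toMul = ι s := inv_mul_eq_one.1 hs
    have h2 := hδ.2 (δ (ι s)).toMul
    rw [h1] at h2
    rw [h2, toMul_zero, map_one] at h1
    exact L.inj (h1.symm.trans (map_one ι).symm)
  have hle : ι'.range ≤ ι.range := by
    rintro _ ⟨s, rfl⟩
    exact mul_mem (inv_mem (Z_le L hA (jZ hr _))) ⟨s, rfl⟩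
  have hsyl : IsSyl p ι'.range ⊤ := L.syl.of_card_ge (L.syl.isPGroup.to_le hle) le_top (by
    rw [← Nat.card_congr (MonoidHom.ofInjective hi).toEquiv,
      ← Nat.card_congr (MonoidHom.ofInjective L.inj).toEquiv])
  refine isRealizable_of (H94.isRealizedBy_of_mor_iff hi fun P f hP hfS => ⟨fun hf => ?_, ?_⟩)
    hsyl.toSylowTop hsyl.coe_toSylowTop
  · obtain ⟨f', hf', e1, -⟩ := (isCentral_iff.1 hA).2 P f hf
    obtain ⟨g, hg⟩ := L.h2 _ f' le_sup_right hf'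
    have hm := (mulOn_ext1 ι).mono hf'.le
    have hp : pre ι 1 (img (P ⊔ A) (ext1 ι)) ≤ P ⊔ A := fun x hx => by
      obtain ⟨h1, h2⟩ := mem_pre.1 hx
      obtain ⟨y, hy, ey⟩ := hm.mem_img.1 h2
      rwa [← e_inj L (hf'.le hy) h1 (by simpa using ey)]
    obtain ⟨w, hw, e0⟩ := rl_mk (j := j) (a := 1) (b := g⁻¹) L hr (fun u hu => by
      obtain ⟨y, hy, rfl⟩ := hm.mem_img.1 hu
      simpa using e_mem ι (hf'.le hy)) (hf'.mono hp) fun x hx => by
        have := hg x (hp hx)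
        rw [show g⁻¹ * ext1 ι (f' x) * g⁻¹⁻¹ * (1 * ext1 ι x * 1⁻¹)⁻¹ =
          g⁻¹ * (ext1 ι (f' x) * (g * ext1 ι x * g⁻¹)⁻¹) * g by group, z_comm L this,
          inv_mul_cancel_right]
        exact this
    have hZ : Z ≤ img (P ⊔ A) (ext1 ι) := fun z hz => by
      obtain ⟨a, ha, rfl⟩ := (L.img z).1 hz
      exact mem_img_of_mem _ (mem_sup_right ha)
    obtain ⟨k, hk⟩ := hk _ _ _ _ hZ hw
    refine ⟨g * k, fun x hx => ?_⟩
    have hx' : ext1 ι x ∈ img (P ⊔ A) (ext1 ι) := mem_img_of_mem _ (mem_sup_left hx)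
    have e2 := e0 x (mem_pre.2 ⟨hP hx, by simpa using hx'⟩)
    have e3 := hk _ hx'
    simp only [one_mul, inv_one, mul_one, inv_inv, one_smul, HW.sub_apply, HW.smul_apply] at e2 e3
    rw [e1 x hx] at e2
    have e4 : ext1 ι (f x) = j (w (ext1 ι x)).toMul * (g * ext1 ι x * g⁻¹) := by
      rw [← mul_assoc, ← mul_assoc, hj.cen, mul_assoc g, ← e2]; group
    have e5 : δ (g * ext1 ι x * g⁻¹) = δ (ext1 ι (f x)) := by
      have := hz _ (inv_mem (jZ hr (w (ext1 ι x)).toMul)) _ (e_mem ι (hfS x hx))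
      rw [← this, e4, inv_mul_cancel_left]
    rw [e5, eq_mul_inv_iff_mul_eq] at e3
    rw [e' _ (hP hx), e' _ (hfS x hx), ← map_inv j, ← map_inv j]
    calc _ = j ((δ (ext1 ι x)).toMul⁻¹ *
          (w (ext1 ι x) - (δ (ext1 ι (f x)) - δ (ext1 ι x))).toMul) * (g * ext1 ι x * g⁻¹) := by
          generalize δ (ext1 ι (f x)) = c
          rw [e4, ← mul_assoc (j _), ← map_mul j, toMul_sub, toMul_sub]
          congr 2
          simp only [div_eq_mul_inv, mul_inv_rev, inv_inv]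
          rw [mul_left_comm, inv_mul_cancel_left, mul_comm]
      _ = _ := by
          rw [map_mul, mul_assoc, ← mul_assoc (j _) _ g⁻¹, ← mul_assoc (j _) g, hj.cen _ g,
            mul_assoc g, e3, ← mul_assoc (g * k), ← hj.cen]
          group
  · rintro ⟨g, hg⟩
    have hm := (mulOn_ext1 ι).mono hP
    have e1 : ∀ x ∈ P, g * ext1 ι x * g⁻¹ =
        j ((δ (ext1 ι x)).toMul * (δ (ext1 ι (f x))).toMul⁻¹) * ext1 ι (f x) := fun x hx => by
      have := hg x hx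
      rw [e' _ (hP hx), e' _ (hfS x hx), ← map_inv j, ← map_inv j, ← mul_assoc g, ← hj.cen] at this
      rw [map_mul, mul_assoc (j _), this, map_inv]
      group
    have hZ : Z ≤ img P (ext1 ι) ⊔ Z := le_sup_right
    have h1 : img P (ext1 ι) ⊔ Z ≤ ι.range :=
      sup_le (img_le_iff.2 fun x hx => e_mem ι (hP hx)) (Z_le L hA)
    have h2 : img P (ext1 ι) ⊔ Z ≤ cj g⁻¹ ι.range := by
      refine sup_le (img_le_iff.2 fun x hx => mem_cj.2 ?_) fun z hz => mem_cj.2 ?_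
      · rw [inv_inv, e1 x hx]
        exact mul_mem (Z_le L hA (jZ hr _)) (e_mem ι (hfS x hx))
      · rw [inv_inv, z_comm L hz, mul_inv_cancel_right]; exact Z_le L hA hz
    obtain ⟨w, hw⟩ := rl_ex (j := j) (a := 1) (b := g⁻¹) L hA hr
      (fun u hu => by simpa using h1 hu) (fun u hu => mem_cj.1 (h2 hu)) hZ
    have h3 := neg_mem (hk _ _ _ _ hZ hw)
    rw [neg_sub] at h3
    obtain ⟨f0, h0, e0⟩ := (hw.of_sub L hA hj hr hK hZ h3).ex
    have hp : P ≤ pre ι 1 (img P (ext1 ι) ⊔ Z) := fun x hx =>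
      mem_pre.2 ⟨hP hx, by simpa using mem_sup_left (mem_img_of_mem _ hx)⟩
    refine (h0.mono hp).congr fun x hx => e_inj L (h0.mem (hp hx)) (hfS x hx) ?_
    have e2 := e0 x (hp hx)
    simp only [one_mul, inv_one, mul_one, inv_inv, one_smul, HW.sub_apply, HW.smul_apply] at e2
    rw [e1 x hx, hz _ (jZ hr _) _ (e_mem ι (hfS x hx)), toMul_sub, div_eq_mul_inv] at e2
    calc ext1 ι (f0 x) = g * (g⁻¹ * ext1 ι (f0 x) * g) * g⁻¹ := by group
      _ = j ((δ (ext1 ι (f x))).toMul * (δ (ext1 ι x)).toMul⁻¹) * (g * ext1 ι x * g⁻¹) := by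
          rw [e2, ← mul_assoc g, ← hj.cen]; group
      _ = _ := by
          rw [e1 x hx, ← mul_assoc, ← map_mul]
          simp

end H92.CxF
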