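import Cfsg.Agent.H24.CxSpec

/-! Tower CX, job FusK. -/

set_option autoImplicit false

namespace H92.CxF

open Subgroup Cfsg H98 H24.Cx

universe u v

section
variable {p : ℕ} {Ω : Type u} [Group Ω] {S : Subgroup Ω} {F : FusionSystem S} {A : Subgroup Ω}
  {H : Type v} [Group H] {ι : S →* H} {Z : Subgroup H}

theorem e_mul (ι : S →* H) {x y : Ω} (hx : x ∈ S) (hy : y ∈ S) :
    ext1 ι (x * y) = ext1 ι x * ext1 ι y := (mulOn_ext1 ι).map_mul hx hy

theorem e_inv (ι : S →* H) {x : Ω} (hx : x ∈ S) : ext1 ι x⁻¹ = (ext1 ι x)⁻¹ :=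
  (mulOn_ext1 ι).map_inv hx

theorem e_mem (ι : S →* H) {x : Ω} (hx : x ∈ S) : ext1 ι x ∈ ι.range :=
  ⟨⟨x, hx⟩, (ext1_of_mem ι hx).symm⟩

theorem e_surj {t : H} (ht : t ∈ ι.range) : ∃ x ∈ S, ext1 ι x = t := by
  obtain ⟨s, rfl⟩ := ht
  exact ⟨s, s.2, ext1_coe ι s⟩

theorem e_inj (L : Lift p F A ι Z) {x y : Ω} (hx : x ∈ S) (hy : y ∈ S)
    (h : ext1 ι x = ext1 ι y) : x = y := by
  rw [ext1_of_mem ι hx, ext1_of_mem ι hy] at h
  exact congrArg Subtype.val (L.inj h)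

theorem z_comm (L : Lift p F A ι Z) {z : H} (hz : z ∈ Z) (g : H) : g * z = z * g :=
  mem_center_iff.1 (L.cen hz) g

theorem e_memZ (L : Lift p F A ι Z) {a : Ω} (ha : a ∈ A) : ext1 ι a ∈ Z :=
  (L.img _).2 ⟨a, ha, rfl⟩

theorem Z_le (L : Lift p F A ι Z) (hA : F.IsCentral A) : Z ≤ ι.range := fun z hz => by
  obtain ⟨a, ha, rfl⟩ := (L.img z).1 hz
  exact e_mem ι (hA.1 ha)

theorem conj_pow_eq {k y z : H} (hz : ∀ g, g * z = z * g) (h : k * y * k⁻¹ = z * y) (n : ℕ) :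
    k ^ n * y * (k ^ n)⁻¹ = z ^ n * y := by
  induction n with
  | zero => simp
  | succ n ih =>
    have : k ^ (n + 1) * y * (k ^ (n + 1))⁻¹ = k * (k ^ n * y * (k ^ n)⁻¹) * k⁻¹ := by
      rw [pow_succ']; group
    have hc : k * z ^ n = z ^ n * k := ((show Commute k z from hz k).pow_right n).eq
    rw [this, ih, ← mul_assoc, hc, mul_assoc (z ^ n), mul_assoc (z ^ n), h, pow_succ, mul_assoc]

theorem exists_pow_p [Fact p.Prime] [Finite H] (k : H) (e : ℕ) :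
    ∃ n : ℕ, n ≡ 1 [MOD p ^ e] ∧ ∃ m : ℕ, (k ^ n) ^ p ^ m = 1 := by
  have hp : p.Prime := Fact.out
  have h0 : orderOf k ≠ 0 := (orderOf_pos k).ne'
  obtain ⟨m, r, hr, hm⟩ := Nat.exists_eq_pow_mul_and_not_dvd h0 p hp.ne_one
  have hc : (p ^ e).Coprime r := ((Nat.Prime.coprime_iff_not_dvd hp).2 hr).pow_left e
  obtain ⟨n, h1, h2⟩ := Nat.chineseRemainder hc 1 0
  refine ⟨n, h1, m, ?_⟩
  obtain ⟨c, rfl⟩ := (Nat.modEq_zero_iff_dvd).1 h2
  rw [← pow_mul, ← orderOf_dvd_iff_pow_eq_one, hm]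
  exact ⟨c, by ring⟩

end

theorem fusK : FusK.{u, v} := by
  intro p _ Ω _ S _ F A H _ _ ι Z hS hF hA L P f hAP hP hf
  obtain ⟨e, he⟩ := IsPGroup.iff_card.1 hS
  have hexp : ∀ a ∈ S, a ^ p ^ e = 1 := fun a ha => by
    have := pow_card_eq_one' (x := (⟨a, ha⟩ : S))
    rw [he] at this
    exact congrArg Subtype.val this
  have hfx : ∀ x, f x = f x * x⁻¹ * x := fun x => by group
  have hfP : ∀ x ∈ P, f x ∈ P := fun x hx => by
    rw [hfx x]; exact mul_mem (hAP (hf x hx)) hx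
  have key : ∀ g0, Mor F P g0 → ∀ x ∈ P, g0 (f x) = f x * x⁻¹ * g0 x := fun g0 h0 x hx => by
    conv_lhs => rw [hfx x]
    rw [h0.map_mul (hAP (hf x hx)) hx, fix_of_central hA h0 (hAP (hf x hx)) (hf x hx)]
  have ef : ∀ x ∈ P, ext1 ι (f x) = ext1 ι (f x * x⁻¹) * ext1 ι x := fun x hx => by
    rw [← e_mul ι (hA.1 (hf x hx)) (hP hx), ← hfx x]
  constructor
  · intro h
    obtain ⟨α, hα, hαf⟩ := h.exists_aut' hfP
    have hpow : ∀ n : ℕ, ∀ x ∈ P, af (α ^ n) x = (f x * x⁻¹) ^ n * x := fun n x hx => by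
      induction n with
      | zero => simp
      | succ n ih =>
        have ha := pow_mem (hf x hx) n
        rw [pow_succ', af_mul_apply, ih, hαf _ (mul_mem (hAP ha) hx), h.map_mul (hAP ha) hx,
          fix_of_central hA h (hAP ha) ha, pow_succ, mul_assoc, ← hfx x]
    have h1 : α ^ p ^ e = 1 := aut_eq_one fun x hx => by
      rw [hpow _ x hx, hexp _ (hA.1 (hf x hx)), one_mul]
    obtain ⟨g0, h0, -, hk⟩ := exists_mor_pgroup_into hS hF hP (K := zpowers α)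
      (by rwa [zpowers_le]) (isPGroup_zpowers h1)
    obtain ⟨s, hs, hk⟩ := hk α (mem_zpowers α)
    obtain ⟨g, hg⟩ := L.h2 P g0 hAP h0
    refine ⟨g⁻¹ * ext1 ι s * g, fun x hx => ?_⟩
    have e1 := hk x hx
    rw [hαf x hx, key g0 h0 x hx] at e1
    have e2 := congrArg (ext1 ι) e1
    rw [e_mul ι (hA.1 (hf x hx)) (h0.mem hx), e_mul ι (mul_mem hs (h0.mem hx)) (inv_mem hs),
      e_mul ι hs (h0.mem hx), e_inv ι hs] at e2
    obtain ⟨z, hz, ez⟩ : ∃ z ∈ Z, ext1 ι (g0 x) = z * (g * ext1 ι x * g⁻¹) :=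
      ⟨_, hg x hx, by group⟩
    have c1 := z_comm L hz
    have c2 := z_comm L (e_memZ L (hf x hx))
    rw [ef x hx]
    generalize ext1 ι (f x * x⁻¹) = a at e2 c2 ⊢
    rw [ez, ← mul_assoc, c1 a, ← mul_assoc (ext1 ι s), c1, mul_assoc z, mul_assoc z,
      mul_assoc z, mul_right_inj] at e2
    calc a * ext1 ι x = g⁻¹ * (a * (g * ext1 ι x * g⁻¹)) * g := by
          rw [← mul_assoc g⁻¹, c2 g⁻¹]; group
      _ = _ := by rw [e2]; group
  · rintro ⟨k, hk⟩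
    obtain ⟨n, hn, m, hm⟩ := exists_pow_p (p := p) k e
    have hk' : ∀ x ∈ P, k ^ n * ext1 ι x * (k ^ n)⁻¹ = ext1 ι (f x) := fun x hx => by
      have hz := e_memZ L (hf x hx)
      have h1 : ext1 ι (f x * x⁻¹) ^ p ^ e = 1 := by
        rw [← (mulOn_ext1 ι).map_pow (hA.1 (hf x hx)), hexp _ (hA.1 (hf x hx)),
          (mulOn_ext1 ι).map_one]
      rw [conj_pow_eq (z_comm L hz) ((hk x hx).symm.trans (ef x hx)), ef x hx,
        (pow_eq_pow_iff_modEq.2 (hn.of_dvd (orderOf_dvd_of_pow_eq_one h1))), pow_one]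
    have hm1 := (mulOn_ext1 ι).mono hP
    have hR : img P (ext1 ι) ≤ ι.range := img_le_iff.2 fun x hx => e_mem ι (hP hx)
    have hn' : k ^ n ∈ normalizer (img P (ext1 ι) : Set H) := by
      refine mem_normalizer_of_finite fun y hy => ?_
      obtain ⟨x, hx, rfl⟩ := hm1.mem_img.1 hy
      rw [hk' x hx]
      exact mem_img_of_mem _ (hfP x hx)
    have hq : IsPGroup p (zpowers (k ^ n) ⊔ img P (ext1 ι) : Subgroup H) :=
      (isPGroup_zpowers hm).to_sup_of_normal_right' (L.syl.isPGroup.to_le hR)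
        (by rwa [zpowers_le])
    obtain ⟨g, -, hg⟩ := L.syl.exists_cj_le hq le_top
    obtain ⟨g0, h0, hg0⟩ := L.h1 g P hAP hP fun x hx =>
      hg (conj_mem_cj (mem_sup_right (mem_img_of_mem _ hx)))
    obtain ⟨s, hs, es⟩ := e_surj (hg (conj_mem_cj (mem_sup_left (mem_zpowers _))))
    have e1 : ∀ x ∈ P, s * g0 x * s⁻¹ = g0 (f x) := fun x hx => by
      refine e_inj L (mul_mem (mul_mem hs (h0.mem hx)) (inv_mem hs)) (h0.mem (hfP x hx)) ?_
      obtain ⟨z, hz, ez⟩ : ∃ z ∈ Z, ext1 ι (g0 x) = z * (g * ext1 ι x * g⁻¹) :=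
        ⟨_, hg0 x hx, by group⟩
      have c1 := z_comm L hz
      have c2 := z_comm L (e_memZ L (hf x hx))
      have e3 := (hk' x hx).trans (ef x hx)
      rw [key g0 h0 x hx, e_mul ι (hA.1 (hf x hx)) (h0.mem hx),
        e_mul ι (mul_mem hs (h0.mem hx)) (inv_mem hs), e_mul ι hs (h0.mem hx), e_inv ι hs, es, ez]
      generalize ext1 ι (f x * x⁻¹) = a at e3 c2 ⊢
      rw [← mul_assoc _ z, c1, ← mul_assoc a, c1 a, mul_assoc z, mul_assoc z, mul_assoc z,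
        mul_right_inj]
      calc _ = g * (k ^ n * ext1 ι x * (k ^ n)⁻¹) * g⁻¹ := by group
        _ = _ := by rw [e3, ← mul_assoc g, c2 g]; group
    obtain ⟨g1, h1, h2, -⟩ := h0.exists_inv
    have h3 := (h0.comp_img (mor_conj F h0.img_le hs)).comp h1 fun x hx => by
      rw [e1 x hx]; exact mem_img_of_mem _ (hfP x hx)
    exact h3.congr fun x hx => by rw [e1 x hx, h2 _ (hfP x hx)]

end H92.CxF
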