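import Cfsg.Agent.H92.DP0BSpec

/-! S3275, chapter U0, section B: `Ub` from the slots. -/

set_option autoImplicit false

namespace H92.DPB

open Subgroup Cfsg H98 H48.DP H57.DPC H48.DP2

universe u

theorem jobUB : JobUB.{u} := by
  intro loc bs b1 b3 bf G _ _ M Q h
  have hl := loc G M Q h
  have key : ∀ x : G, x ∈ M → orderOf x = 3 → Good x → InU M (zpowers x) := by
    intro x hx x3 hg
    by_contra hn
    obtain ⟨P, z, v, r, hb⟩ := bs G M Q x hl hx x3 hg hn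
    obtain ⟨h1, X, Y, hX, hY, eX, eY, hXY, hne⟩ := b1 G M Q P x z v r hb
    have hc : Commute x z := mem_centralizer_singleton_iff.1 (hb.Pz hb.xP)
    obtain ⟨e1, e2⟩ := e9 x3 hb.z3 hc hb.xz
    exact hne (bf G _ h.toHyp e1 e2 h1 (b3 G M Q P x z v r hb) X Y hX hY eX eY hXY)
  refine ⟨h, hl.loc, fun x g x3 hg hx hgx => ?_⟩
  obtain ⟨B, hBM, hB, hxB⟩ := key x hx x3 hg
  have o2 : orderOf (g * x * g⁻¹) = 3 := by
    rw [← x3]; exact (MulAut.conj g).orderOf_eq x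
  have hxB' : x ∈ B := hxB (mem_zpowers x)
  obtain ⟨B', hBM', hB', hxB2⟩ := key _ hgx o2 ⟨cj g B, e27_cj hB g, conj_mem_cj hxB'⟩
  have hC : C1 (g * x * g⁻¹) ≤ M := hl.loc _ B' (c1_ne_top h.toHyp o2) hB' (le_inf
    (fun b hb => mem_centralizer_singleton_iff.2 (el_comm hB'.1 hb (hxB2 (mem_zpowers _)))) hBM')
  refine h.t27 B g hB hBM (le_trans (fun b hb => ?_) hC)
  exact mem_centralizer_singleton_iff.2 (el_comm (el_cj hB.1 g) hb (conj_mem_cj hxB'))

end H92.DPB
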