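import Cfsg.Agent.H92.DpUN

/-! S3275 chapter (1), slot UQ1: the normaliser of `E = ⟨t, a², b²⟩`. -/

set_option autoImplicit false

namespace H92.Dp

open Subgroup Cfsg H98 H48.DP

universe v

variable {G : Type*} [Group G] {L : Subgroup G} {a b s x y r t : G}

namespace Q1

variable (h : US L a b s x y r t)
include h

theorem kL {k l : G} (hk : k ∈ zpowers r) (hl : l ∈ L) : Commute k l :=
  (mem_centralizer_iff.1 (zpowers_le.2 h.rc hk) l hl).symm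

theorem tr : t ∈ zpowers r := by
  rcases h.tr with e | e <;> rw [e]
  exacts [mem_zpowers r, pow_mem (mem_zpowers r) 2]

theorem tL {l : G} (hl : l ∈ L) : Commute t l := kL h (tr h) hl

theorem tt : t * t = 1 := by rw [← pow_two, ← h.t2, pow_orderOf_eq_one]

theorem t1 : t ≠ 1 := fun e => by have := h.t2; rw [e, orderOf_one] at this; omega

theorem ab : Commute a b := h.ab

theorem pp : a ^ 2 * a ^ 2 = 1 := by rw [← pow_add, h.a4]
theorem qq : b ^ 2 * b ^ 2 = 1 := by rw [← pow_add, h.b4]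
theorem pq : b ^ 2 * a ^ 2 = a ^ 2 * b ^ 2 := ((ab h).pow_pow 2 2).symm

theorem nt (i j : ℕ) (e : a ^ i * b ^ j = 1) : 4 ∣ i ∧ 4 ∣ j := by
  have := h.ind i j (by simpa using e)
  omega

theorem z1 : a ^ 2 * b ^ 2 ≠ 1 := fun e => by have := nt h 2 2 e; omega
theorem p1 : a ^ 2 ≠ 1 := fun e => by have := nt h 2 0 (by simpa using e); omega
theorem q1 : b ^ 2 ≠ 1 := fun e => by have := nt h 0 2 (by simpa using e); omega

theorem HL : Hs a b ≤ L := (closure_le _).2 (by rintro _ (rfl | rfl); exacts [h.aL, h.bL])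

omit h in
theorem VH : V0 a b ≤ Hs a b := (closure_le _).2 (by
  rintro _ (rfl | rfl) <;> exact pow_mem (subset_closure (by simp)) 2)

omit h in
theorem pV : a ^ 2 ∈ V0 a b := subset_closure (by simp)
omit h in
theorem qV : b ^ 2 ∈ V0 a b := subset_closure (by simp)
omit h in
theorem tE : t ∈ Es a b t := subset_closure (by simp)
omit h in
theorem VE : V0 a b ≤ Es a b t := closure_mono (by grind)

theorem memV {c : G} (hc : c ∈ V0 a b) :
    c = 1 ∨ c = a ^ 2 ∨ c = b ^ 2 ∨ c = a ^ 2 * b ^ 2 := by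
  have r1 : ∀ g, a ^ 2 * (a ^ 2 * g) = g := fun g => by rw [← mul_assoc, pp h, one_mul]
  have r3 : ∀ g, b ^ 2 * (a ^ 2 * g) = a ^ 2 * (b ^ 2 * g) := fun g => by
    rw [← mul_assoc, pq h, mul_assoc]
  have r2 : ∀ g, b ^ 2 * (b ^ 2 * g) = g := fun g => by rw [← mul_assoc, qq h, one_mul]
  induction hc using closure_induction with
  | mem c hc => rcases hc with rfl | rfl <;> simp
  | one => simp
  | mul c d _ _ e1 e2 =>
    rcases e1 with rfl | rfl | rfl | rfl <;> rcases e2 with rfl | rfl | rfl | rfl <;>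
      simp only [one_mul, mul_one, mul_assoc, r1, r2, r3, pp h, qq h, pq h, true_or, or_true]
  | inv c _ e1 =>
    rcases e1 with rfl | rfl | rfl | rfl
    · simp
    · rw [inv_eq_of_mul_eq_one_left (pp h)]; simp
    · rw [inv_eq_of_mul_eq_one_left (qq h)]; simp
    · rw [mul_inv_rev, inv_eq_of_mul_eq_one_left (pp h), inv_eq_of_mul_eq_one_left (qq h), pq h]
      simp

theorem V2 {c : G} (hc : c ∈ V0 a b) : c * c = 1 :=
  sq_closure (by rintro _ (rfl | rfl) _ (rfl | rfl) <;> first | rfl | exact pq h | exact (pq h).symm)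
    (by rintro _ (rfl | rfl); exacts [pp h, qq h]) c hc

theorem memE {c : G} (hc : c ∈ Es a b t) : c ∈ V0 a b ∨ ∃ d ∈ V0 a b, c = t * d := by
  have tc : ∀ d ∈ V0 a b, d * t = t * d := fun d hd => (tL h (HL h (VH hd))).symm
  induction hc using closure_induction with
  | mem c hc =>
    rcases hc with rfl | rfl | rfl
    exacts [Or.inr ⟨1, one_mem _, (mul_one _).symm⟩, Or.inl pV, Or.inl qV]
  | one => exact Or.inl (one_mem _)
  | mul c d _ _ e1 e2 =>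
    rcases e1 with e1 | ⟨c, e1, rfl⟩ <;> rcases e2 with e2 | ⟨d, e2, rfl⟩
    · exact Or.inl (mul_mem e1 e2)
    · exact Or.inr ⟨_, mul_mem e1 e2, by rw [← mul_assoc, tc c e1, mul_assoc]⟩
    · exact Or.inr ⟨_, mul_mem e1 e2, mul_assoc _ _ _⟩
    · refine Or.inl ?_
      rw [mul_assoc, ← mul_assoc c, tc c e1, mul_assoc, ← mul_assoc, tt h, one_mul]
      exact mul_mem e1 e2
  | inv c _ e1 =>
    rcases e1 with e1 | ⟨c, e1, rfl⟩
    · exact Or.inl (inv_mem e1)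
    · exact Or.inr ⟨_, inv_mem e1, by
        rw [mul_inv_rev, inv_eq_of_mul_eq_one_left (tt h), tc _ (inv_mem e1)]⟩

theorem memH {c : G} (hc : c ∈ Hs a b) : ∃ i j : ℤ, c = a ^ i * b ^ j := by
  induction hc using closure_induction with
  | mem c hc =>
    rcases hc with rfl | rfl
    exacts [⟨1, 0, by simp⟩, ⟨0, 1, by simp⟩]
  | one => exact ⟨0, 0, by simp⟩
  | mul c d _ _ e1 e2 =>
    obtain ⟨i, j, rfl⟩ := e1
    obtain ⟨k, l, rfl⟩ := e2
    exact ⟨i + k, j + l, by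
      rw [zpow_add, zpow_add, ((ab h).zpow_zpow k j).symm.mul_mul_mul_comm]⟩
  | inv c _ e1 =>
    obtain ⟨i, j, rfl⟩ := e1
    exact ⟨-i, -j, by rw [mul_inv_rev, ← zpow_neg, ← zpow_neg, ((ab h).zpow_zpow _ _).eq]⟩

theorem sqH (i j : ℤ) : a ^ i * b ^ j * (a ^ i * b ^ j) = a ^ (i + i) * b ^ (j + j) := by
  rw [zpow_add, zpow_add, ((ab h).zpow_zpow i j).symm.mul_mul_mul_comm]

theorem H2 {c : G} (hc : c ∈ Hs a b) : c * c ∈ V0 a b := by
  obtain ⟨i, j, rfl⟩ := memH h hc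
  rw [sqH h, ← two_mul, ← two_mul, zpow_mul, zpow_mul, zpow_ofNat, zpow_ofNat]
  exact mul_mem (zpow_mem pV i) (zpow_mem qV j)

theorem omH {c : G} (hc : c ∈ Hs a b) (c2 : c * c = 1) : c ∈ V0 a b := by
  obtain ⟨i, j, rfl⟩ := memH h hc
  rw [sqH h] at c2
  have := h.ind _ _ c2
  obtain ⟨k, rfl⟩ : 2 ∣ i := by omega
  obtain ⟨l, rfl⟩ : 2 ∣ j := by omega
  rw [zpow_mul, zpow_mul, zpow_ofNat, zpow_ofNat]
  exact mul_mem (zpow_mem pV k) (zpow_mem qV l)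

theorem omR {k : G} (hk : k ∈ zpowers r) (k2 : k * k = 1) : k = 1 ∨ k = t := by
  obtain ⟨n, rfl⟩ := mem_zpowers_iff.1 hk
  have r4 : r ^ (4 : ℤ) = 1 := by exact_mod_cast h.r4
  rw [zpow_eq_zpow_emod n r4] at k2 ⊢
  have := tt h
  have := t1 h
  have e : n % 4 = 0 ∨ n % 4 = 1 ∨ n % 4 = 2 ∨ n % 4 = 3 := by omega
  have r3 : r ^ (3 : ℤ) = r * r * r := by rw [zpow_ofNat, pow_three, mul_assoc]
  have r4' : r * r * (r * r) = 1 := by rw [← h.r4, show 4 = 2 + 2 from rfl, pow_add, pow_two]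
  rcases h.tr with e1 | e1 <;> rcases e with e | e | e | e <;> rw [e] at k2 ⊢
  · simp
  · simp [e1]
  · left; rw [zpow_ofNat, pow_two, ← e1, tt h]
  · right; rw [r3, ← e1, tt h, one_mul]
  · simp
  · exact absurd (by rw [e1, pow_two]; simpa using k2) (t1 h)
  · right; rw [zpow_ofNat, e1]
  · refine absurd ?_ (t1 h)
    rw [e1, pow_two, ← k2, r3]
    calc r * r = r * r * (r * r) * (r * r) := by rw [r4', one_mul]
      _ = _ := by simp only [mul_assoc]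

/-- Squares split along `L × ⟨r⟩`. -/
theorem split {l k : G} (hl : l ∈ L) (hk : k ∈ zpowers r) (c2 : l * k * (l * k) = 1) :
    l * l = 1 ∧ (k = 1 ∨ k = t) := by
  rw [(kL h hk hl).mul_mul_mul_comm] at c2
  have : l * l ∈ L ⊓ Ce L := ⟨mul_mem hl hl, by
    rw [eq_inv_of_mul_eq_one_left c2]; exact zpowers_le.2 h.rc (inv_mem (mul_mem hk hk))⟩
  rw [h.cen, mem_bot] at this
  rw [this, one_mul] at c2
  exact ⟨this, omR h hk c2⟩

theorem fus {l : G} (hl : l ∈ L) (l2 : l * l = 1) : ∃ g : G, g * t * g⁻¹ = t * l := by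
  by_cases e : l = 1
  · exact ⟨1, by simp [e]⟩
  obtain ⟨m, hm, e1⟩ := h.one l hl (orderOf_eq_prime (by rw [pow_two, l2]) e)
  obtain ⟨g, e2⟩ := h.tz
  refine ⟨m⁻¹ * g, ?_⟩
  calc m⁻¹ * g * t * (m⁻¹ * g)⁻¹ = m⁻¹ * (g * t * g⁻¹) * m := by group
    _ = m⁻¹ * (t * m) * l := by rw [e2, ← e1]; group
    _ = _ := by rw [(tL h hm).eq, inv_mul_cancel_left]

/-- No conjugate of an element of `L` lies in `t L` with square one. -/
theorem nfus {l l' g : G} (hl : l ∈ L) (hl' : l' ∈ L) (l2 : l' * l' = 1) :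
    g * l * g⁻¹ ≠ t * l' := fun e => by
  obtain ⟨m, e1⟩ := fus h hl' l2
  refine h.nz (g⁻¹ * m) ?_
  rwa [show g⁻¹ * m * t * (g⁻¹ * m)⁻¹ = g⁻¹ * (m * t * m⁻¹) * g by group, e1, ← e,
    show g⁻¹ * (g * l * g⁻¹) * g = l by group]

theorem inL {l g : G} (hl : l ∈ L) (l2 : l * l = 1) (c : Commute (g * l * g⁻¹) t) :
    g * l * g⁻¹ ∈ L := by
  obtain ⟨l', hl', k, hk, e⟩ := h.ct _ c
  obtain ⟨e1, rfl | rfl⟩ := split h hl' hk (by rw [← e, conj_mul, l2]; simp)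
  · rw [e, mul_one]; exact hl'
  · exact absurd (e.trans (tL h hl').symm) (nfus h hl hl' e1)

theorem Yc : IsMulCommutative (Ys a b r) := isMulCommutative_closure (by
  have c1 := kL h (mem_zpowers r) h.aL
  have c2 := kL h (mem_zpowers r) h.bL
  rintro _ (rfl | rfl | rfl) _ (rfl | rfl | rfl) <;>
    first | rfl | exact h.ab | exact h.ab.symm | exact c1 | exact c1.symm | exact c2 | exact c2.symm)

omit h in
theorem HY : Hs a b ≤ Ys a b r := closure_mono (by grind)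
omit h in
theorem RY : zpowers r ≤ Ys a b r := zpowers_le.2 (subset_closure (by simp))

theorem EY : Es a b t ≤ Ys a b r := (closure_le _).2 (by
  rintro _ (rfl | rfl | rfl)
  exacts [RY (tr h), HY (VH pV), HY (VH qV)])

theorem decY {c : G} (hc : c ∈ Ce (Es a b t)) : ∃ l ∈ Hs a b, ∃ k ∈ zpowers r, c = l * k := by
  have c0 := mem_centralizer_iff.1 hc
  obtain ⟨l, hl, k, hk, rfl⟩ := h.ct c (c0 t tE).symm
  have : ∀ d ∈ V0 a b, Commute l d := fun d hd => by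
    have c1 : Commute (l * k) d := (c0 d (VE hd)).symm
    simpa using c1.mul_left (kL h hk (HL h (VH hd))).inv_left
  exact ⟨l, h.cV l hl (this _ pV) (this _ qV), k, hk, rfl⟩

theorem cE : Ce (Es a b t) = Ys a b r := by
  have := Yc h
  refine le_antisymm (fun c hc => ?_) fun c hc =>
    mem_centralizer_iff.2 fun d hd => setLike_mul_comm (EY h hd) hc
  obtain ⟨l, hl, k, hk, rfl⟩ := decY h hc
  exact mul_mem (HY hl) (RY hk)

theorem om (c : G) (hc : c ∈ Ys a b r) (c2 : c * c = 1) : c ∈ Es a b t := by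
  obtain ⟨l, hl, k, hk, rfl⟩ := decY h (cE h ▸ hc)
  obtain ⟨e1, e2⟩ := split h (HL h hl) hk c2
  refine mul_mem (VE (omH h hl e1)) ?_
  rcases e2 with rfl | rfl
  exacts [one_mem _, tE]

theorem nt' {n : G} (hn : n ∈ No (Es a b t)) : ∃ d ∈ V0 a b, n * t * n⁻¹ = t * d :=
  (memE h (conj_mem_of_mem_normalizer hn tE)).resolve_left fun k => h.nz n (HL h (VH k))

theorem nV {n c : G} (hn : n ∈ No (Es a b t)) (hc : c ∈ V0 a b) : n * c * n⁻¹ ∈ V0 a b :=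
  (memE h (conj_mem_of_mem_normalizer hn (VE hc))).resolve_right fun ⟨_, hd, e⟩ =>
    nfus h (HL h (VH hc)) (HL h (VH hd)) (V2 h hd) e

omit h in
theorem noE [Finite G] {n : G} (h1 : n * t * n⁻¹ ∈ Es a b t) (h2 : n * a ^ 2 * n⁻¹ ∈ Es a b t)
    (h3 : n * b ^ 2 * n⁻¹ ∈ Es a b t) : n ∈ No (Es a b t) := by
  refine mem_normalizer_of_cj_le ?_
  rw [cj, map_le_iff_le_comap]
  refine (closure_le _).2 ?_
  rintro _ (rfl | rfl | rfl)
  exacts [h1, h2, h3]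

theorem ceV {n : G} (h1 : n * (a ^ 2 * b ^ 2) * n⁻¹ = a ^ 2 * b ^ 2) (h2 : n * a ^ 2 * n⁻¹ = a ^ 2) :
    n ∈ Ce (V0 a b) := by
  rw [← conj_mul, h2, mul_right_inj] at h1
  refine le_centralizer_iff.1 ((closure_le (Ce (zpowers n))).2 ?_) (mem_zpowers n)
  have k : ∀ c : G, n * c * n⁻¹ = c → c ∈ Ce (zpowers n) := fun c e => by
    rw [mem_centralizer_iff]
    rintro _ ⟨i, rfl⟩
    exact Commute.zpow_left (mul_inv_eq_iff_eq_mul.1 e) i
  rintro _ (rfl | rfl)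
  exacts [k _ h2, k _ h1]

theorem xp : x * a ^ 2 * x⁻¹ = b ^ 2 := by rw [← conj_pow, h.xa]
theorem xq : x * b ^ 2 * x⁻¹ = a ^ 2 * b ^ 2 := by
  rw [← conj_pow, h.xb, inv_pow, (ab h).mul_pow,
    inv_eq_of_mul_eq_one_left (V2 h (mul_mem pV qV))]
theorem xz : x * (a ^ 2 * b ^ 2) * x⁻¹ = a ^ 2 := by
  rw [← conj_mul, xp h, xq h, ← mul_assoc, pq h, mul_assoc, qq h, mul_one]
theorem sp : s * a ^ 2 * s⁻¹ = b ^ 2 := by rw [← conj_pow, h.sa]
theorem sq : s * b ^ 2 * s⁻¹ = a ^ 2 := by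
  rw [← sp h, show s * (s * a ^ 2 * s⁻¹) * s⁻¹ = s * s * a ^ 2 * (s * s)⁻¹ by group, h.s2]; simp
theorem sz : s * (a ^ 2 * b ^ 2) * s⁻¹ = a ^ 2 * b ^ 2 := by rw [← conj_mul, sp h, sq h, pq h]

theorem lt {l : G} (hl : l ∈ L) : l * t * l⁻¹ = t := by
  rw [← (tL h hl).eq, mul_inv_cancel_right]

variable [Finite G]

theorem xE : x ∈ No (Es a b t) :=
  noE (by rw [lt h h.xL]; exact tE) (by rw [xp h]; exact VE qV)
    (by rw [xq h]; exact VE (mul_mem pV qV))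

theorem sE : s ∈ No (Es a b t) :=
  noE (by rw [lt h h.sL]; exact tE) (by rw [sp h]; exact VE qV) (by rw [sq h]; exact VE pV)

theorem nE (n : G) (hn : n ∈ No (Es a b t)) :
    n * t * n⁻¹ * t ∈ V0 a b ∧ ∃ w ∈ closure ({x, s} : Set G), n * w⁻¹ ∈ Qs a b t := by
  constructor
  · obtain ⟨d, hd, e⟩ := nt' h hn
    rwa [e, mul_assoc, ← (tL h (HL h (VH hd))).eq, ← mul_assoc, tt h, one_mul]
  have xW : x ∈ closure ({x, s} : Set G) := subset_closure (by simp)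
  have sW : s ∈ closure ({x, s} : Set G) := subset_closure (by simp)
  have WE : closure ({x, s} : Set G) ≤ No (Es a b t) :=
    (closure_le _).2 (by rintro _ (rfl | rfl); exacts [xE h, sE h])
  have cc : ∀ g m c : G, g * m * c * (g * m)⁻¹ = g * (m * c * m⁻¹) * g⁻¹ := fun g m c => by group
  have s1 : ∀ m ∈ No (Es a b t), ∃ w ∈ closure ({x, s} : Set G),
      w * m * (a ^ 2 * b ^ 2) * (w * m)⁻¹ = a ^ 2 * b ^ 2 := fun m hm => by
    rcases memV h (nV h hm (mul_mem pV qV)) with e | e | e | e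
    · exact absurd (conj_eq_one_iff.1 e) (z1 h)
    · exact ⟨x * x, mul_mem xW xW, by rw [cc, e, cc, xp h, xq h]⟩
    · exact ⟨x, xW, by rw [cc, e, xq h]⟩
    · exact ⟨1, one_mem _, by rw [one_mul, e]⟩
  obtain ⟨w, hw, e1⟩ := s1 n⁻¹ (inv_mem hn)
  have m1 := mul_mem (WE hw) (inv_mem hn)
  have fin : ∀ w' ∈ closure ({x, s} : Set G), w' * n⁻¹ ∈ Ce (V0 a b) →
      ∃ w ∈ closure ({x, s} : Set G), n * w⁻¹ ∈ Qs a b t := fun w' hw' k =>
    mem_inf.2 ⟨mul_mem hn (inv_mem (WE hw')), by simpa using inv_mem k⟩ |> fun k' => ⟨w', hw', k'⟩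
  rcases memV h (nV h m1 pV) with e | e | e | e
  · exact absurd (conj_eq_one_iff.1 e) (p1 h)
  · exact fin w hw (ceV h e1 e)
  · exact fin (s * w) (mul_mem sW hw) (ceV h (by rw [mul_assoc s, cc, e1, sz h])
      (by rw [mul_assoc s, cc, e, sq h]))
  · rw [← e1, mul_left_inj, mul_right_inj, left_eq_mul] at e
    exact absurd e (q1 h)

theorem ex : ∃ q ∈ Qs a b t, q * t * q⁻¹ = t * a ^ 2 := by
  obtain ⟨g, e⟩ := h.tz
  have zV : a ^ 2 * b ^ 2 ∈ V0 a b := mul_mem pV qV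
  have := Yc h
  have c0 : ∀ d ∈ V0 a b, g⁻¹ * d * g⁻¹⁻¹ ∈ L := fun d hd => by
    refine inL h (HL h (VH hd)) (V2 h hd) (commute_conj (n := g) |>.1 ?_)
    rw [e, show g * (g⁻¹ * d * g⁻¹⁻¹) * g⁻¹ = d by group]
    exact setLike_mul_comm (EY h (VE hd)) (EY h (mul_mem tE (VE zV)))
  have o2 : ∀ (m d : G), d ∈ V0 a b → d ≠ 1 → orderOf (m * d * m⁻¹) = 2 := fun m d hd d1 =>
    orderOf_eq_prime (by rw [pow_two, conj_mul, V2 h hd]; simp) fun k => d1 (conj_eq_one_iff.1 k)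
  have cc : ∀ g m c : G, g * m * c * (g * m)⁻¹ = g * (m * c * m⁻¹) * g⁻¹ := fun g m c => by group
  obtain ⟨m, hm, e1⟩ := h.one _ (c0 _ zV) (o2 _ _ zV (z1 h))
  rw [← cc] at e1
  obtain ⟨m', hm', c1, e2⟩ := h.two (m * g⁻¹ * a ^ 2 * (m * g⁻¹)⁻¹)
    (by rw [cc]; exact mul_mem (mul_mem hm (c0 _ pV)) (inv_mem hm)) (o2 _ _ pV (p1 h))
    (by
      rw [← e1, commute_conj]
      exact (Commute.refl _).mul_right ((ab h).pow_pow 2 2))
    (by
      intro k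
      rw [← e1, mul_left_inj, mul_right_inj, left_eq_mul] at k
      exact q1 h k)
  rw [← cc] at e2
  have k1 : m' * (m * g⁻¹) ∈ Ce (V0 a b) :=
    ceV h (by rw [cc, e1, c1.eq, mul_inv_cancel_right]) e2
  have k2 := mem_centralizer_iff.1 (inv_mem k1)
  have k3 : (m' * (m * g⁻¹))⁻¹ * t * (m' * (m * g⁻¹))⁻¹⁻¹ = t * (a ^ 2 * b ^ 2) := by
    calc _ = g * ((m' * m)⁻¹ * t * (m' * m)⁻¹⁻¹) * g⁻¹ := by group
      _ = _ := by rw [lt h (inv_mem (mul_mem hm' hm)), e]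
  have k4 : (m' * (m * g⁻¹))⁻¹ ∈ No (Es a b t) := noE (by rw [k3]; exact mul_mem tE (VE zV))
    (by rw [← k2 _ pV, mul_inv_cancel_right]; exact VE pV)
    (by rw [← k2 _ qV, mul_inv_cancel_right]; exact VE qV)
  refine ⟨x * (m' * (m * g⁻¹))⁻¹ * x⁻¹,
    mem_inf.2 ⟨mul_mem (mul_mem (xE h) k4) (inv_mem (xE h)), ?_⟩, ?_⟩
  · refine mem_centralizer_iff.2 fun d hd => ?_
    have k5 := k2 _ (nV h (inv_mem (xE h)) hd)
    have := (commute_conj (n := x)).2 k5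
    rwa [show x * (x⁻¹ * d * x⁻¹⁻¹) * x⁻¹ = d by group] at this
  · rw [cc, lt h (inv_mem h.xL), cc, k3, ← conj_mul, lt h h.xL, xz h]

theorem nH (q : G) (hq : q ∈ Qs a b t) (c : G) (hc : c ∈ Hs a b) :
    q * c * q⁻¹ * c⁻¹ ∈ V0 a b := by
  have := Yc h
  obtain ⟨d, hd, e⟩ := nt' h hq.1
  have qV' : ∀ d ∈ V0 a b, q * d * q⁻¹ = d := fun d hd => by
    rw [← mem_centralizer_iff.1 hq.2 d hd, mul_inv_cancel_right]
  have qY : q ∈ No (Ys a b r) := cE h ▸ normalizer_le_normalizer_centralizer _ hq.1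
  have ce : ∀ g ∈ Ce (V0 a b), g * t * g⁻¹ = t → g ∈ Ys a b r := fun g h1 h2 => by
    rw [← cE h]
    refine mem_centralizer_iff.2 fun k hk => ?_
    rcases memE h hk with hk' | ⟨k, hk', rfl⟩
    · exact mem_centralizer_iff.1 h1 k hk'
    · exact (Commute.mul_right (mul_inv_eq_iff_eq_mul.1 h2)
        (mem_centralizer_iff.1 h1 k hk').symm).symm
  have q2 : q * q ∈ Ys a b r := ce _ (mul_mem hq.2 hq.2) (by
    rw [show q * q * t * (q * q)⁻¹ = q * (q * t * q⁻¹) * q⁻¹ by group, e, ← conj_mul, e, qV' d hd,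
      mul_assoc, V2 h hd, mul_one])
  have cY := HY (r := r) hc
  have c' := conj_mem_of_mem_normalizer qY cY
  have d2 : q * c * q⁻¹ * c⁻¹ * (q * c * q⁻¹ * c⁻¹) = 1 := by
    rw [Commute.mul_mul_mul_comm (setLike_mul_comm (inv_mem cY) c'), conj_mul, qV' _ (H2 h hc)]
    group
  rcases memE h (om h _ (mul_mem c' (inv_mem cY)) d2) with k | ⟨k, hk, e1⟩
  · exact k
  have e2 : q * (q * c * q⁻¹ * c⁻¹) * q⁻¹ = q * c * q⁻¹ * c⁻¹ := by
    calc _ = q * q * c * (q * q)⁻¹ * (q * c * q⁻¹)⁻¹ := by group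
      _ = (q * c * q⁻¹ * c⁻¹)⁻¹ := by rw [setLike_mul_comm q2 cY]; group
      _ = _ := inv_eq_of_mul_eq_one_left d2
  rw [e1, ← conj_mul, qV' k hk, mul_left_inj] at e2
  rw [setLike_mul_comm (ce q hq.2 e2) cY]
  simp

end Q1

theorem jobUQ1 : H48.DP.JobUQ1.{v} := fun _ _ _ _ _ _ _ _ _ _ _ h =>
  ⟨h, Q1.cE h, Q1.om h, Q1.nE h, Q1.ex h, Q1.nH h⟩

end H92.Dp
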