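import Cfsg.Agent.H46.E6BSpec
import Cfsg.Agent.H92.SEM
import Cfsg.Agent.H77.SEN

/-! Job `MF1` of `blueprints/E6B.md`: elements of order three of `U₆(2).3` outside `U₆(2)`. -/

set_option autoImplicit false

namespace H92.MF

open Cfsg Subgroup H46.BM H23.BM H49 H92.SEM
open H39.SE (Nor ph tB)
open H77.SE (Sh ox cx cd rp_ox n1_ox co_mul sh_U nor_inv nor_mul)
open H46.E6B (U3)

local notation "δ" => H39.SE.dl

theorem rp_dl : Rp δ cd := rp_ox 1

theorem dl3 : δ ^ 3 = 1 := by
  rw [pow_three]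
  exact (rp_dl.mul (rp_dl.mul rp_dl)).beq Rp.one (by decide +kernel)

theorem nor_dl : Nor δ := (n1_ox (t := 1) (by norm_num)).1

theorem sh {γ : GM} (h : Nor γ) : Sh γ := by
  have h' := nor_inv h
  obtain ⟨g, hg, a, b⟩ := trans_O _ (perm_O H77.SE.card_U h' e0_mem).1 _
    (perm_O H77.SE.card_U h' e19_mem).1
  have d : bf (γ⁻¹ • e 0) (γ⁻¹ • e 19) = 1 := by rw [bf_smul (H77.SE.iso h'), bf_e0]; rfl
  replace b : g • e 19 = γ⁻¹ • e 19 := by
    rcases b with b | b | b | b
    · rw [b, bf_self] at d; cases d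
    · rw [← a, ← b, U_bf hg, bf_e0] at d; cases d
    · rw [← a, ← b, U_bf hg, bf_e0] at d; cases d
    · exact b
  obtain ⟨k, k1, k2⟩ := H77.SE.chain 21 0 rfl (g⁻¹ * γ⁻¹) ⟨nor_mul (nor_U (U.inv_mem hg)) h',
    by rw [mul_smul, ← a, inv_smul_smul], by rw [mul_smul, ← b, inv_smul_smul]⟩ (by simp)
  have := k1.mul (sh_U (U.inv_mem hg))
  rwa [mul_inv_eq_one.1 ((mul_assoc _ _ _).trans k2)] at this

theorem U_le : U ≤ U3 := le_sup_left

theorem dl_U3 : δ ∈ U3 := mem_sup_right (mem_zpowers _)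

theorem low_U3 {g : GM} {t : ℕ} (ht : t < 3) (h : g * (ox t)⁻¹ ∈ U) : g ∈ U3 := by
  have : ox t ∈ U3 := by
    interval_cases t
    exacts [U3.one_mem, dl_U3, U3.mul_mem dl_U3 dl_U3]
  exact (U3.mul_mem_cancel_right (U3.inv_mem this)).1 (U_le h)

theorem nor_U3 {g : GM} (h : g ∈ U3) : Nor g := fun _ hu =>
  H98.conj_mem_of_mem_normalizer ((sup_le le_normalizer (zpowers_le.2
    (mem_normalizer_fintype (S := (U : Set GM)) nor_dl)) : U3 ≤ normalizer (U : Set GM)) h) hu

theorem two {γ γ' : GM} (h : Nor γ) (h' : Nor γ') (n : γ ∉ U3) (n' : γ' ∉ U3) : γ * γ' ∈ U3 := by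
  have c : ∀ s < 6, ∀ t < 6, s < 3 ∨ t < 3 ∨
      ∃ m < 3, Nat.beq (mm (cx s) (cx t)) (cx m) = true := by decide +kernel
  obtain ⟨s, hs, a⟩ := sh h
  obtain ⟨t, ht, b⟩ := sh h'
  rcases c s hs t ht with d | d | ⟨m, hm, d⟩
  · exact absurd (low_U3 d a) n
  · exact absurd (low_U3 d b) n'
  · exact low_U3 hm (((rp_ox s).mul (rp_ox t)).beq (rp_ox m) d ▸ co_mul (n1_ox hs).1 a b)

theorem inv {γ : GM} (h : γ ∈ U3) (h2 : γ * γ = 1) : γ ∈ U := by
  obtain ⟨u, hu, d, hd, e1⟩ := (H98.mem_sup_right_norm (zpowers_le.2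
    (mem_normalizer_fintype (S := (U : Set GM)) nor_dl))).1 h
  have n : Nor d := nor_U3 (mem_sup_right hd)
  have a : γ * d⁻¹ ∈ U := by rw [e1, mul_inv_cancel_right]; exact hu
  have := co_mul n a (co_mul n a a)
  obtain ⟨i, rfl⟩ := hd
  have e2 : δ ^ i * (δ ^ i * δ ^ i) = 1 := by
    rw [← pow_three, ← zpow_natCast, ← zpow_mul, mul_comm, zpow_mul, zpow_natCast, dl3, one_zpow]
  rwa [h2, e2, mul_one, inv_one, mul_one] at this

theorem thr {γ : GM} (h : Nor γ) (h3 : γ ^ 3 = 1) (n : γ ∉ U) : δ ∈ U ⊔ zpowers γ ∧ δ ∉ U := by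
  have c : ∀ t < 6, t = 1 ∨ Nat.beq (mm (cx t) (cx t)) one0 = true ∨
      (t = 2 ∧ Nat.beq (mm (cx t) (cx t)) cd = true) := by decide +kernel
  obtain ⟨t, ht, a⟩ := sh h
  have a2 := co_mul (n1_ox ht).1 a a
  have l : U ≤ U ⊔ zpowers γ := le_sup_left
  have m : γ ∈ U ⊔ zpowers γ := mem_sup_right (mem_zpowers γ)
  have k : γ * γ ∉ U := fun k => n (by
    have := U.mul_mem k k
    rwa [show γ * γ * (γ * γ) = γ ^ 3 * γ by simp only [pow_succ, pow_zero, one_mul, mul_assoc], h3,
      one_mul] at this)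
  rcases c t ht with rfl | d | ⟨rfl, d⟩
  · exact ⟨inv_mem_iff.1 ((mul_mem_cancel_left m).1 (l a)),
      fun d => n ((mul_mem_cancel_right (U.inv_mem d)).1 a)⟩
  · rw [((rp_ox t).mul (rp_ox t)).beq Rp.one d, inv_one, mul_one] at a2
    exact absurd a2 k
  · rw [((rp_ox 2).mul (rp_ox 2)).beq rp_dl d] at a2
    exact ⟨inv_mem_iff.1 ((mul_mem_cancel_left (mul_mem m m)).1 (l a2)),
      fun d => k ((mul_mem_cancel_right (U.inv_mem d)).1 a2)⟩

/-- a conjugate of `δ` centralizes `s` and fixes the coset of `v` -/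
def Q (s : GM) (v : M) : Prop := ∃ g ∈ U, ∃ m,
  g * δ * g⁻¹ * s = s * (g * δ * g⁻¹) ∧ (g * δ * g⁻¹) • v = v + (m + s • m)

variable {s : GM} {a : ℕ}

theorem Q.add {v : M} (m : M) (h : Q s v) : Q s (v + (m + s • m)) := by
  obtain ⟨g, h1, n, h3, h4⟩ := h
  refine ⟨g, h1, n + m + (g * δ * g⁻¹) • m, h3, ?_⟩
  generalize g * δ * g⁻¹ = d at h3 h4 ⊢
  have e : v + (m + s • m) + (n + m + d • m + (s • n + s • m + s • d • m)) =
      v + (n + s • n) + (d • m + s • d • m) + (m + m) + (s • m + s • m) := by abel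
  rw [smul_add, smul_add, h4, ← mul_smul, h3, mul_smul, smul_add, smul_add, e, add_self,
    add_self, add_zero, add_zero]

theorem Q.conj {g : GM} (hg : g ∈ U) {v : M} (h : Q s v) : Q (g * s * g⁻¹) (g • v) := by
  obtain ⟨k, h1, n, h3, h4⟩ := h
  have e : g * k * δ * (g * k)⁻¹ = g * (k * δ * k⁻¹) * g⁻¹ := by group
  refine ⟨g * k, U.mul_mem hg h1, g • n, by rw [e, conj_mul, conj_mul, h3], ?_⟩
  rw [e, conj_smul, conj_smul, h4, smul_add, smul_add]

theorem Q.back {g : GM} (hg : g ∈ U) (h : g * s = s * g) (v : M) (H : Q s (g • v)) : Q s v := by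
  have := H.conj (U.inv_mem hg)
  rwa [conj_back h, inv_smul_smul] at this

/-- the conjugate of `δ` by `w` commutes with the element of code `a` -/
noncomputable def cmD (a : ℕ) (w : List ℕ) : Bool :=
  frc (cjw w cd) fun c => Nat.beq (mm c a) (mm a c)

/-- it fixes the coset of `u` -/
noncomputable def bD (a Y : ℕ) (w : List ℕ) (u : ℕ) : Bool := eqv a Y (ap (cjw w cd) u) u

theorem of_bD (h : Rp s a) {Y : ℕ} {w : List ℕ} (hD : cmD a w = true) (u : ℕ)
    (H : bD a Y w u = true) : Q s (vd u) := by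
  rw [cmD, frc_eq] at hD
  obtain ⟨m, k⟩ := of_eqv h H
  exact ⟨wv w, wv_U w, m, ((rp_dl.cjw w).mul h).beq (h.mul (rp_dl.cjw w)) hD,
    by rw [(rp_dl.cjw w).smul, k]⟩

theorem allQ (h : Rp s a) (F C Y k T : ℕ) (W : List (List ℕ)) (w : List ℕ)
    (H : andB (andB (cov a F C Y k) (cmD a w))
      (trC a F C Y 0 (2 ^ k) T W (bD a Y w)) = true) {v : M} (hv : s • v = v) : Q s v := by
  rw [andB_iff, andB_iff] at H
  obtain ⟨i, hi, m, rfl⟩ := cover h H.1.1 hv
  have := tree h (Q s) (fun _ m p => p.add m) (fun _ => Q.back) (of_bD h H.1.2) H.2 i hi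
  rw [vd_x, vd_zero, add_zero] at this
  exact this.add m

theorem Q_t0 {v : M} (hv : t0 • v = v) : Q t0 v :=
  allQ H92.SEM.rp_t0
    0x80000400000000020000100000000000000080000400000000020000100000000000000000000
    0x800004000010000080000100000800002000010
    0x40000040000080000400000000000000200000000000000000001000000000000000000000000000000000000000000000
    8
    0x2431234123412221233232323322333223212341223123312433323443253332322122314231323142313241423122212332323233223332243532433324333223323232332233323421232132213321342134214321222123343245432333321340314033103340133041304310433014303130341034301320213032102220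
    [[6], [7], [8], [2, 0, 2], [2, 4, 1, 4, 2]] [] (by decide +kernel) hv

theorem Q_tB {v : M} (hv : tB • v = v) : Q tB v :=
  allQ rp_tB 0x8000020000800000000040000100004000000000000000000000000000000
    0x1000001000280000280 YB 4 0 [] [] (by decide +kernel) hv

theorem Q_tC {v : M} (hv : (tB * (b1 * a1 * t0 * a1 * b1)) • v = v) :
    Q (tB * (b1 * a1 * t0 * a1 * b1)) v :=
  allQ rp_tC 0 0
    0x4000000000000280035400108001c44022800020402380014800000000000000000000000000000000000000004014100000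
    0 0 [] [4, 8] (by decide +kernel) hv

theorem Q_low {u : ℕ} (hu : u < 1024) : Q 1 (e 19 + vd u) := by
  have := tree Rp.one (Q 1) (fun _ m p => p.add m) (fun _ => Q.back)
    (of_bD Rp.one (Y := 0) (w := []) (by decide +kernel)) (F := one0) (C := one0) (Y := 0)
    (v0 := 524288) (n := 1024)
    (T := 0x2244224411113322222233332233333322331111223333331144224411330000222233222233111122332222222222222222333322221111113322331133000022331111224433332244224411113322222233442244333311332233113300002222333322221111222233222233111133333322222222221133222211220000222233332233333322441111223333332244224411113322113322331133000022332222223322222222333333221111222233222233111111332222112200002233222222223333223322222222333333333333222233331122111111110000223333442233222222333333333322223344333322332222112222221122000022222222111133222222333322333333222211112222333311332233113300002222222222331111223333223333222222223333222211111133223311330000222211112233222222332222111122222222333322333333113322331133000022222222222211112222332222221111333333222233222211332233113300002222333322333333223311112222222222222233111122221133223311330000223333222233222222222222332211113322222222221111113322331133000022333333222233332233333322223333333333332222333311221111111100002233333322332222223333333333222233333333223322221122222211220000)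
    (W := [[2], [3], [4], [5], [6], [7], [8], [9]]) (by decide +kernel) u hu
  rwa [vd_x, ap_one (by omega), ← e19_eq, add_comm] at this

theorem top_of_low {p : M → Prop} (hb : ∀ g ∈ U, ∀ v, p (g • v) → p v)
    (low : ∀ u < 1024, p (e 19 + vd u)) {v : M} (hv : v 19 = 1) : p v := by
  obtain ⟨u, hu, rfl⟩ := exists_vd v
  have h1 : u.testBit 19 = true := H21.BM.b2z_eq_one.1 hv
  have h2 : 524288 ≤ u := Nat.ge_two_pow_of_testBit h1
  have hA : (u - 524288) / 1024 < 512 := by omega
  have e1 : u = (524288 ^^^ 1024 * ((u - 524288) / 1024)) ^^^ u % 1024 := by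
    have c : allN 512 (fun A => Nat.beq (Nat.xor 524288 (Nat.mul 1024 A))
      (Nat.mul 1024 (Nat.add 512 A))) = true := by decide +kernel
    have c1 : 524288 ^^^ 1024 * ((u - 524288) / 1024) = 2 ^ 10 * (512 + (u - 524288) / 1024) :=
      Nat.eq_of_beq_eq_true (allN_iff.1 c _ hA)
    have c2 : u % 1024 < 2 ^ 10 := by omega
    rw [c1]
    refine Nat.eq_of_testBit_eq fun i => ?_
    have c3 : u = 2 ^ 10 * (512 + (u - 524288) / 1024) + u % 1024 := by omega
    rw [Nat.testBit_xor, Nat.testBit_two_pow_mul]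
    conv_lhs => rw [c3, Nat.testBit_two_pow_mul_add _ c2]
    by_cases hi : i < 10
    · simp [hi, not_le.2 hi]
    · simp [hi, not_lt.1 hi, Nat.testBit_lt_two_pow
        (c2.trans_le (Nat.pow_le_pow_right (by norm_num) (not_lt.1 hi)))]
  generalize (u - 524288) / 1024 = A at hA e1
  have h3 := r_mem hA
  refine hb _ (R_le_U _ h3) _ ?_
  have h4 := allN_iff.1 H92.SEM.chkA A hA
  rw [Nat.blt_eq] at h4
  obtain ⟨w, hw, e2⟩ := mem_E0.1 ((E (e 0)).add_mem (mem_E0.2 ⟨_, h4, rfl⟩)
    (E0_smul (R_le_P _ h3) (mem_E0.2 ⟨u % 1024, by omega, rfl⟩)))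
  have e3 : r A • vd u = e 19 + vd w := by
    rw [← e2, vd_x, ← e19_eq, ← (rp_r hA).smul, ← add_assoc, ← add_assoc, add_self, zero_add,
      ← smul_add, ← vd_xor]
    exact congrArg (fun z => r A • vd z) e1
  rw [e3]
  exact low w hw

theorem Q_one (v : M) : Q 1 v := by
  have hb : ∀ g ∈ U, ∀ v, Q 1 (g • v) → Q 1 v := fun g hg =>
    Q.back hg (by rw [mul_one, one_mul])
  by_cases h : ∀ x ∈ O, bf v x = 0
  · let S : AddSubgroup M :=
      { carrier := {x | bf v x = 0}
        zero_mem' := (bf_comm _ _).trans (bf_zero_left v)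
        add_mem' := fun {x y} (p : bf v x = 0) (q : bf v y = 0) => show bf v (x + y) = 0 by
          rw [bf_add_right, p, q, add_zero]
        neg_mem' := fun hv => by rwa [neg_eq] }
    have h0 : v = 0 := bf_nondeg fun x =>
      ((jobB1 H77.SE.card_U).span S h).ge (AddSubgroup.mem_top x)
    exact ⟨1, U.one_mem, 0, by simp, by simp [h0]⟩
  · push Not at h
    obtain ⟨_, ⟨g, hg, rfl⟩, h⟩ := h
    refine hb _ (U.inv_mem hg) _ (top_of_low hb (fun _ => Q_low) ?_)
    rw [← bf_e0 (g⁻¹ • v), ← U_bf hg, smul_inv_smul, bf_comm]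
    exact (zmod2_cases _).resolve_left h

theorem cen {γ : GM} (hU : γ ∈ U) (h2 : γ * γ = 1) {v : M} (hv : γ • v = v) : Q γ v := by
  by_cases h1 : γ = 1
  · exact h1 ▸ Q_one v
  have bk : ∀ {g s : GM}, g * s * g⁻¹ = γ → s • g⁻¹ • v = g⁻¹ • v := by
    rintro g s rfl
    rwa [mul_smul, mul_smul, smul_eq_iff_eq_inv_smul] at hv
  have fw : ∀ {g s : GM}, g ∈ U → g * s * g⁻¹ = γ → Q s (g⁻¹ • v) → Q γ v := by
    rintro g s hg rfl p
    have := p.conj hg
    rwa [smul_inv_smul] at this
  obtain ⟨g, hg, e1 | e1 | e1⟩ := (jobB1 H77.SE.card_U).invol γ hU h2 h1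
  exacts [fw hg e1 (Q_t0 (bk e1)), fw hg e1 (Q_tB (bk e1)), fw hg e1 (Q_tC (bk e1))]

/-- words for a basis of the torus -/
noncomputable def tw (k : ℕ) : List ℕ := nthD [] [[], [2, 5, 3, 4], [1, 0, 4, 2, 0, 3, 5, 1, 4, 2],
  [0, 1, 6, 8, 6, 2, 4, 2, 0, 1, 2, 4, 2, 6, 8, 6], [0, 1]] k
/-- the basis -/
noncomputable def tx (k : ℕ) : GM := if k = 0 then δ else wv (tw k)
/-- its codes -/
noncomputable def tc (k : ℕ) : ℕ := if k = 0 then cd else wc (tw k)
/-- separating vectors -/
noncomputable def tv (k : ℕ) : ℕ := nthD 0 [4, 128, 1, 577, 271363] k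
/-- the flag -/
noncomputable def TT : ℕ → Subgroup GM
  | 0 => ⊥
  | n + 1 => TT n ⊔ zpowers (tx n)

theorem rp_tx (k : ℕ) : Rp (tx k) (tc k) := by
  unfold tx tc
  split_ifs
  exacts [rp_dl, rp_wv _]

theorem TT_le {K : Subgroup GM} : ∀ n, (∀ k < n, tx k ∈ K) → TT n ≤ K
  | 0, _ => bot_le
  | n + 1, h => sup_le (TT_le n fun k hk => h k (by omega)) (zpowers_le.2 (h n (by omega)))

theorem TT_ok : ∀ n ≤ 5, TT n ≤ centralizer (TT n : Set GM) ∧ (∀ a ∈ TT n, a ^ 3 = 1) ∧
    Nat.card (TT n) = 3 ^ n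
  | 0, _ => ⟨bot_le, fun a ha => by rw [mem_bot.1 ha, one_pow], card_bot⟩
  | n + 1, hn => by
    have c : ∀ n < 5, Nat.beq (mm (tc n) (mm (tc n) (tc n))) one0 = true ∧ tv n < 2 ^ 20 ∧
        ap (tc n) (tv n) ≠ tv n ∧ ∀ k < n, Nat.beq (mm (tc k) (tc n)) (mm (tc n) (tc k)) = true ∧
          ap (tc k) (tv n) = tv n := by decide +kernel
    obtain ⟨c1, c2, c3, c4⟩ := c n hn
    obtain ⟨i1, i2, i3⟩ := TT_ok n (by omega)
    have x3 : tx n ^ 3 = 1 := by
      rw [pow_three]
      exact ((rp_tx n).mul ((rp_tx n).mul (rp_tx n))).beq Rp.one c1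
    have hc : TT n ≤ centralizer {tx n} := TT_le n fun k hk => mem_centralizer_singleton_iff.2
      (((rp_tx k).mul (rp_tx n)).beq ((rp_tx n).mul (rp_tx k)) (c4 k hk).1)
    have hx : tx n ∈ centralizer (TT n : Set GM) := mem_centralizer_iff.2 fun a ha =>
      mem_centralizer_singleton_iff.1 (hc ha)
    have hz := zpowers_le.2 hx
    have hs : TT n ≤ MulAction.stabilizer GM (vd (tv n)) := TT_le n fun k hk => by
      rw [MulAction.mem_stabilizer_iff, (rp_tx k).smul, (c4 k hk).2]
    have : Fact (Nat.Prime 3) := ⟨Nat.prime_three⟩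
    refine ⟨?_, fun a ha => ?_, ?_⟩
    · rw [TT, H98.centralizer_sup]
      exact sup_le (le_inf i1 (le_centralizer_iff.1 hz)) (le_inf hz (le_centralizer _))
    · obtain ⟨b, hb, d, hd, rfl⟩ := (H98.mem_sup_right_norm
        (hz.trans (centralizer_le_normalizer _))).1 ha
      rw [Commute.mul_pow (mem_centralizer_iff.1 (hz hd) b hb), i2 b hb, one_mul]
      obtain ⟨i, rfl⟩ := hd
      rw [← zpow_natCast, ← zpow_mul, mul_comm, zpow_mul, zpow_natCast, x3, one_zpow]
    · rw [TT, H9.card_sup_zpowers_of_normalizes (p := 3) (centralizer_le_normalizer _ hx)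
        (fun k => c3 (vd_inj (ap_lt _ _) c2 (by rw [← (rp_tx n).smul]; exact hs k)))
        (x3 ▸ one_mem _), i3, pow_succ']

theorem mf1 : H46.E6B.MF1 where
  two _ _ := two
  inv _ := inv
  thr _ := thr
  cen _ h h2 _ hv := cen h h2 hv
  tor := by
    obtain ⟨a, b, c⟩ := TT_ok 5 le_rfl
    refine ⟨TT 5, TT_le 5 fun k _ => ?_, ?_, a, b, c⟩
    · unfold tx
      split_ifs
      exacts [dl_U3, U_le (wv_U _)]
    · iterate 4 refine mem_sup_left ?_
      exact mem_sup_right (mem_zpowers _)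

end H92.MF
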