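import Cfsg.Agent.H46.E6BSpec
import Cfsg.Agent.H92.SEF
import Cfsg.Agent.H78.Card

/-! Job `TH` of `blueprints/E6B.md`: Thompson transfer in `2^{1+20} : U₆(2).S₃`. -/

set_option autoImplicit false
set_option linter.unusedSectionVars false

open Cfsg Subgroup H98 H42.L3 H56.L3 H46.E6B
open H46.BM (GM U M eq_one_of_smul add_self neg_eq)
open H39.SE (Nor dl)

namespace H92.TH

universe u
variable {G : Type u} [Group G]

theorem card_img {Γ : Type*} [Group Γ] (Y K : Subgroup G) (f : G → Γ)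
    (hf : ∀ a ∈ Y, ∀ b ∈ Y, f (a * b) = f a * f b) (hK : ∀ y ∈ Y, f y = 1 ↔ y ∈ K) :
    ∃ I : Subgroup Γ, (∀ γ, γ ∈ I ↔ ∃ y ∈ Y, f y = γ) ∧
      Nat.card Y = Nat.card I * Nat.card ↥(Y ⊓ K) := by
  let φ : Y →* Γ := MonoidHom.mk' (fun y => f y) fun a b => hf a a.2 b b.2
  refine ⟨φ.range, fun γ => ⟨?_, ?_⟩, ?_⟩
  · rintro ⟨y, rfl⟩; exact ⟨y, y.2, rfl⟩
  · rintro ⟨y, hy, rfl⟩; exact ⟨⟨y, hy⟩, rfl⟩
  · have h : φ.ker = K.subgroupOf Y := by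
      ext y; exact hK y y.2
    rw [H78.card_inf_eq_subgroupOf, ← h, ← Subgroup.index_ker, Subgroup.index_mul_card]

/-- coordinates on `S / Z` and the action of `L` -/
structure Fm (S L Z : Subgroup G) (cl : G → M) (ρ : G → GM) : Prop where
  SL : S ≤ L
  nS : L ≤ nr S
  cl_mul : ∀ a ∈ S, ∀ b ∈ S, cl (a * b) = cl a + cl b
  cl_ker : ∀ a ∈ S, cl a = 0 ↔ a ∈ Z
  cl_surj : ∀ v, ∃ a ∈ S, cl a = v
  ρ_mul : ∀ g ∈ L, ∀ h ∈ L, ρ (g * h) = ρ g * ρ h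
  act : ∀ g ∈ L, ∀ a ∈ S, cl (g * a * g⁻¹) = ρ g • cl a

theorem exists_fm [Finite G] {S L Z : Subgroup G} (SL : S ≤ L) (nS : L ≤ nr S) (ZS : Z ≤ S)
    (nZ : L ≤ nr Z) (sq : ∀ s ∈ S, s * s ∈ Z) (cm : ∀ s ∈ S, ∀ s' ∈ S, s * s' * s⁻¹ * s'⁻¹ ∈ Z)
    (hc : Nat.card S = 2 ^ 20 * Nat.card Z) : ∃ cl ρ, Fm S L Z cl ρ := by
  classical
  have n1 : (Z.subgroupOf L).Normal := (normal_subgroupOf_iff_le_normalizer (ZS.trans SL)).2 nZ
  have n2 : (S.subgroupOf L).Normal := (normal_subgroupOf_iff_le_normalizer SL).2 nS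
  let π : L →* L ⧸ Z.subgroupOf L := QuotientGroup.mk' _
  let f : S →* L ⧸ Z.subgroupOf L := π.comp (inclusion SL)
  have fk : ∀ s, f s = 1 ↔ (s : G) ∈ Z := fun s => QuotientGroup.eq_one_iff _
  have cW : Nat.card f.range = 2 ^ 20 := by
    have e1 : f.ker = Z.subgroupOf S := by ext s; exact fk s
    have e2 := f.ker.index_mul_card
    rw [index_ker, e1, Nat.card_congr (subgroupOfEquivOfLe ZS).toEquiv, hc] at e2
    exact Nat.eq_of_mul_eq_mul_right Nat.card_pos e2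
  have el : IsElementaryAbelian 2 f.range := by
    refine ⟨⟨⟨?_⟩⟩, ?_⟩
    · rintro ⟨_, a, rfl⟩ ⟨_, b, rfl⟩
      refine Subtype.ext ?_
      have := (fk (a * b * a⁻¹ * b⁻¹)).2 (cm a a.2 b b.2)
      rwa [map_mul, map_mul, map_inv, map_inv, mul_inv_eq_one, mul_inv_eq_iff_eq_mul,
        map_mul] at this
    · rintro _ ⟨a, rfl⟩
      rw [pow_two, ← map_mul]
      exact (fk _).2 (sq a a.2)
  have cj1 : ∀ (g : L) (a : S), π g * f a * (π g)⁻¹ =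
      f ⟨g * a * (g : G)⁻¹, conj_mem_of_mem_normalizer (nS g.2) a.2⟩ := fun g a => by
    rw [← map_inv]
    exact (map_mul π _ _).symm ▸ (map_mul π _ _).symm
  have nW : ∀ g : L, π g ∈ normalizer (f.range : Set (L ⧸ Z.subgroupOf L)) := fun g =>
    mem_normalizer_fintype (by rintro _ ⟨a, rfl⟩; exact ⟨_, (cj1 g a).symm⟩)
  obtain ⟨c, ρ, h1, -⟩ := H12.exists_matrix_rep el cW
  refine ⟨fun x => if h : x ∈ S then (c ⟨f ⟨x, h⟩, _, rfl⟩).toAdd else 0,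
    fun x => if h : x ∈ L then ρ ⟨π ⟨x, h⟩, nW _⟩ else 1, SL, nS, fun a ha b hb => ?_,
    fun a ha => ?_, fun v => ?_, fun g hg h hh => ?_, fun g hg a ha => ?_⟩
  · simp only [dif_pos ha, dif_pos hb, dif_pos (mul_mem ha hb)]
    rw [← toAdd_mul, ← map_mul]
    exact congrArg (fun x => (c x).toAdd) (Subtype.ext (map_mul f ⟨a, ha⟩ ⟨b, hb⟩))
  · simp only [dif_pos ha, toAdd_eq_zero, map_eq_one_iff _ c.injective]
    exact Subtype.ext_iff.trans (fk ⟨a, ha⟩)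
  · obtain ⟨a, ha⟩ := (c.symm (.ofAdd v)).2
    refine ⟨a, a.2, ?_⟩
    simp only [dif_pos a.2]
    rw [show (⟨f ⟨a, a.2⟩, _, rfl⟩ : f.range) = c.symm (.ofAdd v) from Subtype.ext ha]
    simp
  · simp only [dif_pos hg, dif_pos hh, dif_pos (mul_mem hg hh)]
    rw [← map_mul]
    exact congrArg ρ (Subtype.ext (map_mul π ⟨g, hg⟩ ⟨h, hh⟩))
  · simp only [dif_pos hg, dif_pos ha, dif_pos (conj_mem_of_mem_normalizer (nS hg) ha)]
    refine Eq.trans ?_ (h1 ⟨π ⟨g, hg⟩, nW _⟩ ⟨f ⟨a, ha⟩, _, rfl⟩).symm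
    exact congrArg (fun x => (c x).toAdd) (Subtype.ext (cj1 ⟨g, hg⟩ ⟨a, ha⟩).symm)

namespace Fm

variable {S L Z : Subgroup G} {cl : G → M} {ρ : G → GM} (h : Fm S L Z cl ρ)
include h

theorem chg (β : GM) : Fm S L Z (fun x => β • cl x) fun x => β * ρ x * β⁻¹ := by
  refine ⟨h.SL, h.nS, fun a ha b hb => ?_, fun a ha => ?_, fun v => ?_, fun g hg k hk => ?_,
    fun g hg a ha => ?_⟩
  · rw [h.cl_mul a ha b hb, smul_add]
  · rw [smul_eq_zero_iff_eq, h.cl_ker a ha]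
  · obtain ⟨a, ha, e⟩ := h.cl_surj (β⁻¹ • v)
    exact ⟨a, ha, by rw [e, smul_inv_smul]⟩
  · rw [h.ρ_mul g hg k hk, conj_mul]
  · rw [h.act g hg a ha, mul_smul, mul_smul, inv_smul_smul]

theorem ρ_one : ρ 1 = 1 := by
  have := h.ρ_mul 1 L.one_mem 1 L.one_mem
  rwa [mul_one, left_eq_mul] at this

theorem ρ_inv {g : G} (hg : g ∈ L) : ρ g⁻¹ = (ρ g)⁻¹ := by
  rw [eq_inv_iff_mul_eq_one, ← h.ρ_mul _ (L.inv_mem hg) _ hg, inv_mul_cancel, h.ρ_one]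

theorem ρ_conj {g a : G} (hg : g ∈ L) (ha : a ∈ L) : ρ (g * a * g⁻¹) = ρ g * ρ a * (ρ g)⁻¹ := by
  rw [h.ρ_mul _ (L.mul_mem hg ha) _ (L.inv_mem hg), h.ρ_mul _ hg _ ha, h.ρ_inv hg]

theorem ρ_pow {g : G} (hg : g ∈ L) (n : ℕ) : ρ (g ^ n) = ρ g ^ n := by
  induction n with
  | zero => rw [pow_zero, pow_zero, h.ρ_one]
  | succ n ih => rw [pow_succ, pow_succ, h.ρ_mul _ (L.pow_mem hg n) _ hg, ih]

theorem cj_mem {g a : G} (hg : g ∈ L) (ha : a ∈ S) : g * a * g⁻¹ ∈ S :=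
  conj_mem_of_mem_normalizer (h.nS hg) ha

theorem cl_eq {a b : G} (ha : a ∈ S) (hb : b ∈ S) : cl a = cl b ↔ a * b⁻¹ ∈ Z := by
  have e := h.cl_mul _ (S.mul_mem ha (S.inv_mem hb)) _ hb
  rw [inv_mul_cancel_right] at e
  rw [← h.cl_ker _ (S.mul_mem ha (S.inv_mem hb)), e, add_eq_right]

theorem cl_inv {a : G} (ha : a ∈ S) : cl a⁻¹ = cl a := by
  have e := h.cl_mul _ (S.inv_mem ha) _ ha
  rw [inv_mul_cancel, (h.cl_ker 1 S.one_mem).2 Z.one_mem] at e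
  rw [eq_neg_of_add_eq_zero_left e.symm, neg_eq]

theorem ρ_eq_one {g : G} (hg : g ∈ L) : ρ g = 1 ↔ ∀ a ∈ S, g * a * g⁻¹ * a⁻¹ ∈ Z := by
  refine ⟨fun e a ha => (h.cl_eq (h.cj_mem hg ha) ha).1 (by rw [h.act g hg a ha, e, one_smul]),
    fun e => eq_one_of_smul fun v => ?_⟩
  obtain ⟨a, ha, rfl⟩ := h.cl_surj v
  rw [← h.act g hg a ha, (h.cl_eq (h.cj_mem hg ha) ha).2 (e a ha)]

theorem img {K N : Subgroup G} (hK : K ≤ L) (hN : ∀ y ∈ K, ρ y = 1 ↔ y ∈ N) :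
    ∃ I : Subgroup GM, (∀ γ, γ ∈ I ↔ ∃ y ∈ K, ρ y = γ) ∧
      Nat.card K = Nat.card I * Nat.card ↥(K ⊓ N) :=
  card_img K N ρ (fun _ ha _ hb => h.ρ_mul _ (hK ha) _ (hK hb)) hN

/-- the preimage in `K` -/
def pre {K : Subgroup G} (hK : K ≤ L) (B : Subgroup GM) : Subgroup G where
  carrier := {g | g ∈ K ∧ ρ g ∈ B}
  one_mem' := ⟨K.one_mem, h.ρ_one ▸ B.one_mem⟩
  mul_mem' a b := ⟨K.mul_mem a.1 b.1, h.ρ_mul _ (hK a.1) _ (hK b.1) ▸ B.mul_mem a.2 b.2⟩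
  inv_mem' a := ⟨K.inv_mem a.1, h.ρ_inv (hK a.1) ▸ B.inv_mem a.2⟩

end Fm

/-- the properties of a good frame -/
structure Gd (S Y X : Subgroup G) (ρ : G → GM) : Prop where
  onto : ∀ u, u ∈ U ↔ ∃ x ∈ X, ρ x = u
  inj : ∀ y ∈ Y, ρ y = 1 → y = 1
  ker : ∀ g ∈ S ⊔ Y, ρ g = 1 ↔ g ∈ S
  nor : ∀ g ∈ S ⊔ Y, Nor (ρ g)

variable [Finite G] {Sg Y X : Subgroup G} {r w : G}

theorem LK (t : TS Sg Y X r w) : Sg ⊔ Y ≤ Ce r := sup_le t.SK t.YK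

theorem fix_r {g z : G} (hg : g ∈ Ce r) (hz : z ∈ zpowers r) :
    g * z * g⁻¹ = z := by
  obtain ⟨i, rfl⟩ := hz
  rw [← conj_zpow, mem_centralizer_singleton_iff.1 hg, mul_inv_cancel_right]

theorem z_sq (t : TS Sg Y X r w) {z : G} (hz : z ∈ zpowers r) : z * z = 1 := by
  obtain ⟨i, rfl⟩ := hz
  have := pow_orderOf_eq_one r
  rw [t.r2] at this
  show r ^ i * r ^ i = 1
  rw [← pow_two, ← zpow_natCast, ← zpow_mul, mul_comm, zpow_mul, zpow_natCast, this, one_zpow]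

theorem exists_gd (t : TS Sg Y X r w) :
    ∃ cl ρ, Fm Sg (Sg ⊔ Y) (zpowers r) cl ρ ∧ Gd Sg Y X ρ := by
  have nS : Sg ⊔ Y ≤ nr Sg := sup_le le_normalizer t.YS
  obtain ⟨cl, ρ, h⟩ := exists_fm le_sup_left nS (zpowers_le.2 t.rm)
    (fun g hg => mem_normalizer_fintype fun z hz => (fix_r (LK t hg) hz).symm ▸ hz) t.sq t.cm
    (by rw [t.card, Nat.card_zpowers, t.r2, pow_succ])
  obtain ⟨F, _, _, hF, ⟨e⟩⟩ := t.iso
  have simp6 : IsSimpleGroup (PSU 6 F 2) :=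
    H59.isSimpleGroup_PSU (q := 2) hF (by decide) (by decide)
  have := e.isSimpleGroup
  have YL : Y ≤ Sg ⊔ Y := le_sup_right
  have XL : X ≤ Sg ⊔ Y := t.XY.trans YL
  let φ : X →* GM := MonoidHom.mk' (fun x => ρ x) fun a b => h.ρ_mul _ (XL a.2) _ (XL b.2)
  have iX : Function.Injective φ := by
    rw [← MonoidHom.ker_eq_bot_iff]
    refine (IsSimpleGroup.eq_bot_or_eq_top_of_normal _ inferInstance).resolve_right fun k => ?_
    obtain ⟨x, hx, s, hs, n⟩ := t.fz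
    exact n ((h.ρ_eq_one (XL hx)).1 (k.ge (mem_top (⟨x, hx⟩ : X))) s hs)
  obtain ⟨β, hβ⟩ := H92.SE.exists_beta' F hF (φ.comp e.symm.toMonoidHom)
    (iX.comp e.symm.injective)
  have h' := h.chg β
  have onto : ∀ u, u ∈ U ↔ ∃ x ∈ X, β * ρ x * β⁻¹ = u := fun u => by
    rw [← hβ]
    exact ⟨fun ⟨_, ⟨s, hs⟩, k⟩ => ⟨_, (e.symm s).2, by rw [← k, ← hs]; rfl⟩,
      fun ⟨x, hx, k⟩ => ⟨_, ⟨e ⟨x, hx⟩, by simp [φ]⟩, k⟩⟩
  have inj : ∀ y ∈ Y, ρ y = 1 → y = 1 := fun y hy e1 => by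
    refine mem_bot.1 (t.cen ▸ mem_inf.2 ⟨hy, mem_centralizer_iff.2 fun x hx => ?_⟩)
    have m := conj_mem_of_mem_normalizer (t.nX hy) hx
    have : (⟨_, m⟩ : X) = ⟨x, hx⟩ := iX (by
      show ρ (y * x * y⁻¹) = ρ x
      rw [h.ρ_conj (YL hy) (XL hx), e1, one_mul, inv_one, mul_one])
    exact (mul_inv_eq_iff_eq_mul.1 (congrArg Subtype.val this)).symm
  have kS : ∀ s ∈ Sg, ρ s = 1 := fun s hs => (h.ρ_eq_one (h.SL hs)).2 (t.cm s hs)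
  have dec : ∀ g ∈ Sg ⊔ Y, ∃ s ∈ Sg, ∃ y ∈ Y, g = s * y ∧ ρ g = ρ y := fun g hg => by
    obtain ⟨s, hs, y, hy, rfl⟩ := (mem_sup_right_norm t.YS).1 hg
    exact ⟨s, hs, y, hy, rfl, by rw [h.ρ_mul _ (h.SL hs) _ (YL hy), kS s hs, one_mul]⟩
  refine ⟨_, _, h', onto, fun y hy e1 => inj y hy (conj_eq_one_iff.1 e1), fun g hg => ?_,
    fun g hg u hu => ?_⟩
  · rw [conj_eq_one_iff]
    refine ⟨fun e1 => ?_, kS g⟩
    obtain ⟨s, hs, y, hy, rfl, e2⟩ := dec g hg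
    rw [inj y hy (e2.symm.trans e1), mul_one]
    exact hs
  · obtain ⟨s, hs, y, hy, -, e2⟩ := dec g hg
    obtain ⟨x, hx, rfl⟩ := (onto u).1 hu
    refine (onto _).2 ⟨_, conj_mem_of_mem_normalizer (t.nX hy) hx, ?_⟩
    rw [e2, h.ρ_conj (YL hy) (XL hx)]
    group

variable {cl : G → M} {ρ : G → GM}

theorem odd_index (m2 : MF2) (t : TS Sg Y X r w) (h : Fm Sg (Sg ⊔ Y) (zpowers r) cl ρ)
    (d : Gd Sg Y X ρ) : Odd (Sg ⊔ Y).index := by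
  obtain ⟨P, hP, SP⟩ := exists_isSyl_le (IsPGroup.of_card t.card) h.SL
  have key : normalizer (P : Set G) ≤ Sg ⊔ Y := fun g hg => by
    have r1 : r ≠ 1 := fun e => absurd (e ▸ t.r2) (by rw [orderOf_one]; decide)
    have rP : g * r * g⁻¹ ∈ P := conj_mem_of_mem_normalizer hg (SP t.rm)
    have cP : ∀ a ∈ P, a * (g * r * g⁻¹) = g * r * g⁻¹ * a := fun a ha => by
      have := mem_centralizer_singleton_iff.1 (LK t (hP.le (conj_mem_of_mem_normalizer' hg ha)))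
      calc _ = g * (g⁻¹ * a * g * r) * g⁻¹ := by group
        _ = _ := by rw [this]; group
    have rz : g * r * g⁻¹ ∈ zpowers r := t.zc (mem_inf.2 ⟨(d.ker _ (hP.le rP)).1
      ((h.ρ_eq_one (hP.le rP)).2 fun a ha => by
        rw [← cP a (SP ha), mul_inv_cancel_right, mul_inv_cancel]; exact one_mem _),
      mem_centralizer_iff.2 fun a ha => cP a (SP ha)⟩)
    have gr : g ∈ Ce r := by
      classical
      rw [mem_zpowers_iff_mem_range_orderOf, t.r2, Finset.mem_image] at rz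
      obtain ⟨i, hi, e⟩ := rz
      have hi := Finset.mem_range.1 hi
      interval_cases i
      · exact absurd (conj_eq_one_iff.1 ((pow_zero r).symm.trans e).symm) r1
      · exact mem_centralizer_singleton_iff.2
          (mul_inv_eq_iff_eq_mul.1 ((pow_one r).symm.trans e).symm)
    have SL : cj g Sg ≤ Sg ⊔ Y := (cj_le_of_le SP hg).trans hP.le
    have gi := (Ce r).inv_mem gr
    have bk : ∀ {z}, g⁻¹ * z * g ∈ zpowers r → z ∈ zpowers r := fun {z} hz => by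
      have := fix_r gr hz
      rw [show g * (g⁻¹ * z * g) * g⁻¹ = z by group] at this
      exact this ▸ hz
    obtain ⟨B, hB, cB⟩ := h.img (N := Sg) SL fun y hy => d.ker y (SL hy)
    obtain ⟨F, hF, cF⟩ := card_img (cj g Sg ⊓ Sg) (zpowers r) (fun a => Multiplicative.ofAdd (cl a))
      (fun a ha b hb => by rw [h.cl_mul a ha.2 b hb.2, ofAdd_add])
      fun y hy => by rw [← h.cl_ker y hy.2]; exact ofAdd_eq_one
    have c2 : Nat.card ↥(cj g Sg ⊓ Sg ⊓ zpowers r) ≤ 2 := by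
      rw [← t.r2, ← Nat.card_zpowers]; exact card_le_of_le inf_le_right
    have := m2 B (Subgroup.toAddSubgroup' F) (fun b hb => by
      obtain ⟨y, hy, rfl⟩ := (hB b).1 hb
      refine ⟨d.nor y (SL hy), ?_, fun v hv => ?_⟩
      · rw [← h.ρ_mul _ (SL hy) _ (SL hy), d.ker _ (SL (mul_mem hy hy))]
        refine zpowers_le.2 t.rm (bk ?_)
        have := t.sq _ (mem_cj.1 hy)
        rwa [show g⁻¹ * y * g * (g⁻¹ * y * g) = g⁻¹ * (y * y) * g by group] at this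
      · obtain ⟨a, ha, e⟩ := (hF _).1 hv
        obtain rfl : cl a = v := e
        rw [← h.act y (SL hy) a ha.2, h.cl_eq (h.cj_mem (SL hy) ha.2) ha.2]
        have := t.cm _ (mem_cj.1 hy) _ (mem_cj.1 ha.1)
        refine bk ?_
        rwa [show g⁻¹ * y * g * (g⁻¹ * a * g) * (g⁻¹ * y * g)⁻¹ * (g⁻¹ * a * g)⁻¹ =
          g⁻¹ * (y * a * y⁻¹ * a⁻¹) * g by group] at this) (by
      rw [card_cj, t.card, cF] at cB
      have e : Nat.card (Subgroup.toAddSubgroup' F) = Nat.card F := rfl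
      rw [e]
      have := Nat.mul_le_mul_left (Nat.card B * Nat.card F) c2
      rw [mul_assoc, ← cB] at this
      omega)
    refine t.nor (mem_inf.2 ⟨gr, mem_normalizer_of_cj_le fun y hy => (d.ker y (SL hy)).1 ?_⟩)
    exact mem_bot.1 (this ▸ (hB _).2 ⟨y, hy, rfl⟩)
  have hs : IsSyl 2 P ⊤ := isSyl_of_isSyl_normalizer
    (hP.of_le (le_inf le_top le_normalizer) (inf_le_right.trans key))
  have := hs.not_dvd_relIndex
  rw [relIndex_top_right] at this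
  exact Nat.odd_iff.2 (Nat.two_dvd_ne_zero.1 fun k => this (k.trans (index_dvd_of_le hP.le)))

theorem no_conj (m1 : MF1) (t : TS Sg Y X r w) (h : Fm Sg (Sg ⊔ Y) (zpowers r) cl ρ)
    (d : Gd Sg Y X ρ) (g : G) : g * w * g⁻¹ ∉ h.pre le_rfl U3 := by
  rintro ⟨vL, v3⟩
  have YL : Y ≤ Sg ⊔ Y := le_sup_right
  have XL : X ≤ Sg ⊔ Y := t.XY.trans YL
  have ij : ∀ {a b}, a ∈ Y → b ∈ Y → ρ a = ρ b → a = b := fun {a b} ha hb e =>
    mul_inv_eq_one.1 (d.inj _ (Y.mul_mem ha (Y.inv_mem hb)) (by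
      rw [h.ρ_mul _ (YL ha) _ (YL (Y.inv_mem hb)), h.ρ_inv (YL hb), e, mul_inv_cancel]))
  have v2 : g * w * g⁻¹ * (g * w * g⁻¹) = 1 := by rw [conj_mul, t.w2, mul_one, mul_inv_cancel]
  have key : ∀ T ≤ Y, T ≤ cn T → (∀ a ∈ T, a ^ 3 = 1) → Nat.card T = 243 → ∀ e ∈ T, e ∉ X →
      ∀ μ : G, e * (μ * (g * w * g⁻¹) * μ⁻¹) * e⁻¹ ≠ μ * (g * w * g⁻¹) * μ⁻¹ :=
    fun T a b c c' e he hx μ k => t.key T a b c c' e he hx (μ * g)⁻¹
      (mem_centralizer_singleton_iff.2 (by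
        calc _ = (μ * g)⁻¹ * (e * (μ * (g * w * g⁻¹) * μ⁻¹) * e⁻¹) * e * (μ * g) := by group
          _ = _ := by rw [k]; group))
  generalize g * w * g⁻¹ = v at vL v3 v2 key
  have γ2 : ρ v * ρ v = 1 := by rw [← h.ρ_mul _ vL _ vL, v2, h.ρ_one]
  have γU := m1.inv _ v3 γ2
  obtain ⟨k, kX, ek⟩ := (d.onto _).1 γU
  have kL := XL kX
  have aS : v * k⁻¹ ∈ Sg := (d.ker _ (mul_mem vL (inv_mem kL))).1 (by
    rw [h.ρ_mul _ vL _ (inv_mem kL), h.ρ_inv kL, ek, mul_inv_cancel])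
  have k2 : k * k = 1 := d.inj _ (t.XY (mul_mem kX kX)) (by rw [h.ρ_mul _ kL _ kL, ek, γ2])
  obtain ⟨a, rfl⟩ : ∃ a, v = a * k := ⟨v * k⁻¹, by group⟩
  rw [mul_inv_cancel_right] at aS
  rw [← ek] at γU γ2
  have fa : ρ k • cl a = cl a := by
    rw [← h.act k kL a aS, ← h.cl_inv aS]
    congr 1
    refine eq_inv_of_mul_eq_one_right ?_
    rw [inv_eq_of_mul_eq_one_right k2, ← v2]
    group
  obtain ⟨u, hu, m, c1, c2⟩ := m1.cen _ γU γ2 _ fa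
  obtain ⟨y, yY, yX, y3⟩ := t.big
  obtain ⟨i1, i2⟩ := m1.thr (ρ y) (d.nor y (YL yY)) (by rw [← h.ρ_pow (YL yY), y3, h.ρ_one])
    fun k => by
      obtain ⟨x, hx, e⟩ := (d.onto _).1 k
      exact yX (ij (t.XY hx) yY e ▸ hx)
  obtain ⟨I, hI, -⟩ := h.img (N := ⊥) YL
    fun y hy => ⟨d.inj y hy, fun e => mem_bot.1 e ▸ h.ρ_one⟩
  have UI : U ≤ I := fun x hx => by
    obtain ⟨x, hx, e⟩ := (d.onto _).1 hx
    exact (hI _).2 ⟨x, t.XY hx, e⟩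
  have I3 : U3 ≤ I := sup_le UI (zpowers_le.2
    ((sup_le UI (zpowers_le.2 ((hI _).2 ⟨y, yY, rfl⟩)) : U ⊔ zpowers (ρ y) ≤ I) i1))
  obtain ⟨T, T3, Td, Tc, Te, Tn⟩ := m1.tor
  have T3' : cj u T ≤ I := cj_le_of_le_of_mem (T3.trans I3) (UI hu)
  obtain ⟨e, eY, ee⟩ := (hI _).1 (T3' (conj_mem_cj Td))
  have eL := YL eY
  have eT : e ∈ h.pre YL (cj u T) := ⟨eY, ee ▸ conj_mem_cj Td⟩
  have p3 : ∀ a ∈ h.pre YL (cj u T), a ^ 3 = 1 := fun a ha => d.inj _ (pow_mem ha.1 3) (by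
    have := Te _ (mem_cj.1 ha.2)
    rw [h.ρ_pow (YL ha.1)]
    rwa [show u⁻¹ * ρ a * u = u⁻¹ * ρ a * u⁻¹⁻¹ by rw [inv_inv], conj_pow, conj_eq_one_iff] at this)
  have e3 := p3 e eT
  obtain ⟨μ, μS, eμ⟩ := h.cl_surj (ρ e • m)
  refine key (h.pre YL (cj u T)) (fun _ a => a.1) (fun a ha => mem_centralizer_iff.2 fun b hb =>
    ij (mul_mem hb.1 ha.1) (mul_mem ha.1 hb.1) ?_) p3 ?_ e eT (fun k => i2 ?_) μ ?_
  · rw [h.ρ_mul _ (YL hb.1) _ (YL ha.1), h.ρ_mul _ (YL ha.1) _ (YL hb.1)]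
    exact mem_centralizer_iff.1 ((cj_centralizer u T ▸ cj_mono u Tc :) ha.2) _ hb.2
  · obtain ⟨J, hJ, cJ⟩ := h.img (K := h.pre YL (cj u T)) (N := ⊥) (fun _ ha => YL ha.1)
      fun y hy => ⟨d.inj y hy.1, fun e => mem_bot.1 e ▸ h.ρ_one⟩
    have : J = cj u T := le_antisymm (fun x hx => by
      obtain ⟨y, hy, rfl⟩ := (hJ _).1 hx
      exact hy.2) fun x hx => by
      obtain ⟨y, hy, rfl⟩ := (hI _).1 (T3' hx)
      exact (hJ _).2 ⟨y, ⟨hy, hx⟩, rfl⟩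
    rw [cJ, this, card_cj, Tn, inf_bot_eq, card_bot]
  · have := (d.onto _).2 ⟨e, k, ee⟩
    rwa [U.mul_mem_cancel_right (U.inv_mem hu), U.mul_mem_cancel_left hu] at this
  rw [← ee] at c1 c2
  have ek : e * k = k * e := ij (mul_mem eY (t.XY kX)) (mul_mem (t.XY kX) eY) (by
    rw [h.ρ_mul _ eL _ kL, h.ρ_mul _ kL _ eL, c1])
  have kμ := h.cj_mem kL (inv_mem μS)
  have bS : μ * a * (k * μ⁻¹ * k⁻¹) ∈ Sg := mul_mem (mul_mem μS aS) kμ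
  have δ3 : ∀ x : M, ρ e • ρ e • ρ e • x = x := fun x => by
    rw [← mul_smul, ← mul_smul, ← pow_three', ← h.ρ_pow eL, e3, h.ρ_one, one_smul]
  have cm : ∀ x : M, ρ e • ρ k • x = ρ k • ρ e • x := fun x => by
    rw [← mul_smul, c1, mul_smul]
  have fb : ρ e • cl (μ * a * (k * μ⁻¹ * k⁻¹)) = cl (μ * a * (k * μ⁻¹ * k⁻¹)) := by
    rw [h.cl_mul _ (mul_mem μS aS) _ kμ, h.cl_mul _ μS _ aS, h.act _ kL _ (inv_mem μS),
      h.cl_inv μS, eμ]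
    have a1 := congrArg (ρ e • ·) c2
    have a2 := congrArg (ρ e • ·) a1
    simp only [smul_add, δ3, cm] at a1 a2 ⊢
    rw [a1, c2] at a2
    rw [c2]
    linear_combination -a2 - add_self (ρ e • m) - add_self (ρ k • ρ e • m)
  rw [show μ * (a * k) * μ⁻¹ = μ * a * (k * μ⁻¹ * k⁻¹) * k by group]
  generalize μ * a * (k * μ⁻¹ * k⁻¹) = b at bS fb
  rw [← h.act e eL b bS, h.cl_eq (h.cj_mem eL bS) bS] at fb
  obtain ⟨z, hz, ez⟩ : ∃ z ∈ zpowers r, e * b * e⁻¹ = z * b := ⟨_, fb, by group⟩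
  have fz := fix_r (LK t eL) hz
  have z1 : z = 1 := by
    have s1 : e * (e * (e * b * e⁻¹) * e⁻¹) * e⁻¹ = e ^ 3 * b * (e ^ 3)⁻¹ := by
      simp only [pow_succ, pow_zero, one_mul, mul_inv_rev, mul_assoc]
    have s2 : e * (z * b) * e⁻¹ = b := by
      rw [← conj_mul, fz, ez, ← mul_assoc z, z_sq t hz, one_mul]
    rw [e3, ez, s2, ez] at s1
    simpa using s1
  rw [show e * (b * k) * e⁻¹ = e * b * e⁻¹ * (e * k * e⁻¹) by group, ez, z1, ek, one_mul,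
    mul_inv_cancel_right]

theorem jobTH : JobTH.{u} := by
  intro m1 m2 G _ _ Sg Y X r w t
  obtain ⟨cl, ρ, h, d⟩ := exists_gd t
  have wL : w ∈ Sg ⊔ Y := mem_sup_right t.wY
  have w0 : w ∉ h.pre le_rfl U3 := by simpa using no_conj m1 t h d 1
  refine H8.thompson_transfer (Sg ⊔ Y) (h.pre le_rfl U3) (odd_index m2 t h d)
    (relIndex_eq_two_iff_exists_notMem_and.2 ⟨w, wL, w0, fun b hb => ?_⟩) w
    ((pow_two w).trans t.w2) (no_conj m1 t h d)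
  by_cases k : ρ b ∈ U3
  · exact .inr ⟨hb, k⟩
  · refine .inl ⟨mul_mem hb wL, ?_⟩
    rw [h.ρ_mul _ hb _ wL]
    exact m1.two _ _ (d.nor b hb) (d.nor w wL) k fun k => w0 ⟨wL, k⟩

end H92.TH
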