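import Cfsg.Agent.H92.EsA
import Cfsg.Agent.H93.Wrap
import Cfsg.Agent.H94.Tr3
import Cfsg.Agent.H94.S4Cond
import Cfsg.Agent.H57.Unitri
import Cfsg.Agent.H98.Coprime

/-! Fusion systems on a Sylow `p`-subgroup of `SL₃(q)` with a non-trivial normal subgroup are
constrained. -/

set_option autoImplicit false
set_option linter.unusedSectionVars false

namespace H92.Es
open Cfsg Cfsg.FusionSystem H93 Subgroup

universe u

/-- Heisenberg coordinates -/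
structure Coord {K G : Type*} [Field K] [Group G] (m : K → K → K → G) : Prop where
  surj : ∀ g, ∃ a b c, g = m a b c
  mul : ∀ a b c a' b' c', m a b c * m a' b' c' = m (a + a') (b + b') (c + c' + a * b')
  inj : ∀ {a b c a' b' c'}, m a b c = m a' b' c' → a = a' ∧ b = b' ∧ c = c'

theorem Coord.congr {K G H : Type*} [Field K] [Group G] [Group H] {m : K → K → K → G}
    (h : Coord m) (e : G ≃* H) : Coord fun a b c => e (m a b c) where
  surj g := by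
    obtain ⟨a, b, c, r⟩ := h.surj (e.symm g)
    exact ⟨a, b, c, by rw [← r, e.apply_symm_apply]⟩
  mul a b c a' b' c' := by rw [← map_mul, h.mul]
  inj r := h.inj (e.injective r)

theorem unitri_eq {K : Type*} [Field K] (M : Matrix (Fin 3) (Fin 3) K)
    (h1 : ∀ i j, j < i → M i j = 0) (h2 : ∀ i, M i i = 1) :
    M = !![1, M 0 1, M 0 2; 0, 1, M 1 2; 0, 0, 1] := by
  conv_lhs => rw [Matrix.eta_fin_three M]
  rw [h2, h2, h2, h1 1 0 (by decide), h1 2 0 (by decide), h1 2 1 (by decide)]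

theorem coord_unitri (K : Type*) [Field K] : ∃ m : K → K → K → H57.unitriSL 3 K, Coord m := by
  refine ⟨fun a b c => ⟨⟨!![1, a, c; 0, 1, b; 0, 0, 1], by simp [Matrix.det_fin_three]⟩,
    H57.mem_unitriSL.2 ⟨fun i j h => ?_, fun i => ?_⟩⟩, fun g => ?_, fun a b c a' b' c' => ?_,
    fun {a b c a' b' c'} r => ?_⟩
  · fin_cases i <;> fin_cases j <;> simp at h ⊢
  · fin_cases i <;> simp
  · obtain ⟨h1, h2⟩ := H57.mem_unitriSL.1 g.2
    exact ⟨g.1.1 0 1, g.1.1 1 2, g.1.1 0 2, Subtype.ext (Subtype.ext (unitri_eq _ h1 h2))⟩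
  · refine Subtype.ext (Subtype.ext ?_)
    show !![1, a, c; 0, 1, b; 0, 0, 1] * !![1, a', c'; 0, 1, b'; 0, 0, 1] =
      !![1, a + a', c + c' + a * b'; 0, 1, b + b'; 0, 0, 1]
    rw [Matrix.mul_fin_three]
    simp only [mul_one, one_mul, mul_zero, zero_mul, add_zero, zero_add]
    rw [add_comm a' a, add_comm b' b, show c' + a * b' + c = c + c' + a * b' by ring]
  · have : !![1, a, c; 0, 1, b; 0, 0, 1] = !![1, a', c'; 0, 1, b'; 0, 0, 1] :=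
      congrArg (fun g : H57.unitriSL 3 K => g.1.1) r
    exact ⟨congrFun (congrFun this 0) 1, congrFun (congrFun this 1) 2, congrFun (congrFun this 0) 2⟩

theorem coord_sylow {K : Type*} [Field K] [Fintype K] (p : ℕ) [Fact p.Prime] [CharP K p]
    (T : Sylow p (Matrix.SpecialLinearGroup (Fin 3) K)) :
    ∃ m : K → K → K → (T : Subgroup (Matrix.SpecialLinearGroup (Fin 3) K)), Coord m := by
  obtain ⟨g, hg⟩ := H57.exists_sylow_sl_eq_conj p T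
  obtain ⟨m, hm⟩ := coord_unitri K
  have e : (T : Subgroup (Matrix.SpecialLinearGroup (Fin 3) K)) = cj g (H57.unitriSL 3 K) :=
    Subgroup.ext fun x => (hg x).trans mem_cj.symm
  rw [e]
  exact ⟨_, hm.congr ((MulAut.conj g).subgroupMap _)⟩

variable {Ω : Type u} [Group Ω] {S : Subgroup Ω} {F : FusionSystem S}
  {Q V : Subgroup Ω} {a g s v x : Ω} {p : ℕ}

/-- the three properties of the Heisenberg group that are used -/
structure Heis (S : Subgroup Ω) : Prop where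
  h1 : ∀ x ∈ S, ∀ y ∈ S, x⁻¹ * (y * x * y⁻¹) ∈ S ⊓ Ct S
  h2 : ∀ x ∈ S, x ∉ S ⊓ Ct S → ∀ z ∈ S ⊓ Ct S, ∃ s ∈ S, x⁻¹ * (s * x * s⁻¹) = z
  h3 : ∀ x ∈ S, x ∉ S ⊓ Ct S → ∀ u ∈ S, ∀ v ∈ S, x * u = u * x → x * v = v * x → u * v = v * u

theorem Coord.heis {K : Type*} [Field K] {m : K → K → K → S} (h : Coord m) : Heis S := by
  have cm : ∀ a b c a' b' c', (m a b c : Ω) * m a' b' c' = m a' b' c' * m a b c ↔
      a * b' = a' * b := fun a b c a' b' c' => by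
    rw [← coe_mul, ← coe_mul, Subtype.coe_inj, h.mul, h.mul]
    refine ⟨fun r => by linear_combination (h.inj r).2.2, fun r => ?_⟩
    rw [add_comm a, add_comm b, add_comm c, r]
  have sj : ∀ x ∈ S, ∃ a b c, x = m a b c := fun x hx => by
    obtain ⟨a, b, c, r⟩ := h.surj ⟨x, hx⟩
    exact ⟨a, b, c, congrArg Subtype.val r⟩
  have ce : ∀ a b c, (m a b c : Ω) ∈ S ⊓ Ct S ↔ a = 0 ∧ b = 0 := fun a b c => by
    refine ⟨fun r => ⟨?_, ?_⟩, fun r => ⟨(m a b c).2, mem_Ct'.2 fun x hx => ?_⟩⟩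
    · simpa using ((cm _ _ _ _ _ _).1 (mem_Ct'.1 r.2 _ (m 0 1 0).2)).symm
    · simpa using (cm _ _ _ _ _ _).1 (mem_Ct'.1 r.2 _ (m 1 0 0).2)
    · obtain ⟨a', b', c', rfl⟩ := sj x hx
      rw [cm, r.1, r.2]; ring
  have co : ∀ a b c a' b' c', (m a b c : Ω)⁻¹ * (m a' b' c' * m a b c * (m a' b' c' : Ω)⁻¹) =
      m 0 0 (a' * b - a * b') := fun a b c a' b' c' => by
    rw [inv_mul_eq_iff_eq_mul, mul_inv_eq_iff_eq_mul, ← coe_mul, ← coe_mul, ← coe_mul, h.mul,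
      h.mul, h.mul]
    congr 2 <;> ring
  refine ⟨fun x hx y hy => ?_, fun x hx hz z hz' => ?_, fun x hx hz u hu v hv r1 r2 => ?_⟩
  · obtain ⟨a, b, c, rfl⟩ := sj x hx
    obtain ⟨a', b', c', rfl⟩ := sj y hy
    rw [co, ce]; exact ⟨rfl, rfl⟩
  · obtain ⟨a, b, c, rfl⟩ := sj x hx
    obtain ⟨a', b', c', rfl⟩ := sj z hz'.1
    obtain ⟨rfl, rfl⟩ := (ce _ _ _).1 hz'
    rw [ce] at hz
    by_cases hb : b = 0
    · have ha : a ≠ 0 := fun r => hz ⟨r, hb⟩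
      refine ⟨_, (m 0 (-c' / a) 0).2, ?_⟩
      rw [co]; congr 2; field_simp; ring
    · refine ⟨_, (m (c' / b) 0 0).2, ?_⟩
      rw [co]; congr 2; field_simp; ring
  · obtain ⟨a, b, c, rfl⟩ := sj x hx
    obtain ⟨a', b', c', rfl⟩ := sj u hu
    obtain ⟨a'', b'', c'', rfl⟩ := sj v hv
    rw [cm] at r1 r2 ⊢
    rw [ce] at hz
    by_cases hb : b = 0
    · have ha : a ≠ 0 := fun r => hz ⟨r, hb⟩
      exact mul_left_cancel₀ ha (by linear_combination a' * r2 - a'' * r1)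
    · exact mul_left_cancel₀ hb (by linear_combination b' * r2 - b'' * r1)

variable [hp : Fact p.Prime] [Finite Ω] (hF : SatA p F) (H : Heis S) (hV : F.IsEssential p V)
include hF H hV

theorem Heis.S_le_Nm : S ≤ Nm V := fun s hs => mem_Nm_of_conj fun x hx => by
  have := V.mul_mem hx (cen_le hF hV (H.h1 x (hV.1.1 hx) s hs))
  simpa using this

theorem Heis.not_Aut_le : ¬ Aut F V ≤ Nm (S ⊓ Ct S) := fun h => by
  obtain ⟨x, hx, hx'⟩ := exists_Nm hF hV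
  exact hx' (mem_of_St hF hV (l := [S ⊓ Ct S]) (by simpa using ⟨cen_le hF hV, h⟩) hx
    ⟨⟨mem_Nm_inf (le_Nm S hx.1) (mem_Nm_Ct (le_Nm S hx.1)),
      fun y hy => H.h1 y (hV.1.1 hy) x hx.1⟩, le_Ct_comm.1 inf_le_right hx.1⟩)

theorem Heis.comm : V ≤ Ct V := by
  by_contra hc
  refine H.not_Aut_le hF hV fun g hg => ?_
  have e : S ⊓ Ct S = V ⊓ Ct V := by
    refine le_antisymm (le_inf (cen_le hF hV) (inf_le_right.trans (Ct_anti hV.1.1))) fun x hx => ?_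
    by_contra hz
    exact hc fun u hu => mem_Ct'.2 fun v hv => H.h3 x (hV.1.1 hx.1) hz v (hV.1.1 hv) u (hV.1.1 hu)
      (mem_Ct'.1 hx.2 v hv).symm (mem_Ct'.1 hx.2 u hu).symm
  rw [e]
  exact mem_Nm_inf (Aut_le_Nm F V hg) (mem_Nm_Ct (Aut_le_Nm F V hg))

theorem Heis.mem_of_comm (hv : v ∈ V) (hz : v ∉ S ⊓ Ct S) (hs : s ∈ S) (e : v * s = s * v) :
    s ∈ V :=
  centric_Ct_le hV.1 ⟨hs, mem_Ct'.2 fun u hu => H.h3 v (hV.1.1 hv) hz u (hV.1.1 hu) s hs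
    (mem_Ct'.1 (H.comm hF hV hu) v hv) e⟩

theorem Heis.cen_eq (h1 : V < Q) (h2 : Q ≤ S) : Q ⊓ Ct Q = S ⊓ Ct S := by
  refine le_antisymm (fun x hx => ?_)
    (le_inf ((cen_le hF hV).trans h1.le) (inf_le_right.trans (Ct_anti h2)))
  by_contra hz
  obtain ⟨s, hs, hs'⟩ := (SetLike.lt_iff_le_and_exists.1 h1).2
  exact hs' (H.mem_of_comm hF hV (centric_Ct_le hV.1 ⟨h2 hx.1, Ct_anti h1.le hx.2⟩) hz (h2 hs)
    (mem_Ct'.1 hx.2 s hs).symm)

theorem Heis.XE_le : XE F V ≤ Nm (S ⊓ Ct S) :=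
  XE_le_of ((Ct_anti (cen_le hF hV)).trans (Ct_le_Nm _)) fun g Q h1 h2 h3 => by
    have : V < cj g Q := by rw [← cj_eq_of_Nm h1]; exact cj_lt_cj.2 h2
    rw [mem_Nm]
    conv_lhs => rw [← H.cen_eq hF hV h2 h3.le]
    rw [cj_inf, cj_Ct, H.cen_eq hF hV this h3.cj_le]

/-- some conjugate of the centre meets it trivially -/
theorem Heis.exists_disj : ∃ a ∈ Aut F V, (S ⊓ Ct S) ⊓ cj a (S ⊓ Ct S) = ⊥ := by
  set Z := S ⊓ Ct S with hZ
  have hZV : Z ≤ V := cen_le hF hV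
  obtain ⟨a, ⟨ha, ha'⟩, hmax⟩ := Set.Finite.exists_maximalFor
    (fun a => Nat.card (Z ⊓ cj a Z :)) {a | a ∈ Aut F V ∧ a ∉ Nm Z} (Set.toFinite _)
    (by simpa [SetLike.le_def, Set.Nonempty] using H.not_Aut_le hF hV)
  refine ⟨a, ha, ?_⟩
  by_contra hD
  obtain ⟨⟨d, hd⟩, hd1⟩ := (Subgroup.ne_bot_iff_exists_ne_one).1 hD
  have hZ' : cj a Z ≤ V := by rw [← cj_eq_of_Aut ha]; exact cj_mono a hZV
  obtain ⟨v, hv, hv'⟩ : ∃ v ∈ cj a Z, v ∉ Z := by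
    by_contra hc
    push Not at hc
    exact ha' (mem_Nm_of_le hc)
  obtain ⟨s, hs, e⟩ := H.h2 v (hV.1.1 (hZ' hv)) hv' d hd.1
  have sV : s ∉ V := fun h => hd1 (Subtype.ext (by
    show d = 1
    rw [← e, conj_eq_of_Ct (H.comm hF hV h) (hZ' hv), inv_mul_cancel]))
  have sA : ∀ {s}, s ∈ S → s ∈ Aut F V := fun hs => Nm_le_Aut F V ⟨hs, H.S_le_Nm hF hV hs⟩
  have sC : ∀ {s}, s ∈ S → s ∈ Ct Z := fun hs => le_Ct_comm.1 inf_le_right hs
  have sN : s ∈ Nm (cj a Z) := by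
    by_contra hn
    have h1 : a⁻¹ * s * a ∉ Nm Z := fun h => hn (by rw [← cj_Nm]; exact mem_cj.2 h)
    have h2 : Z ⊓ cj a Z < cj a Z ⊓ cj s (cj a Z) := by
      refine SetLike.lt_iff_le_and_exists.2 ⟨fun w hw => ⟨hw.2, ?_⟩, s * v * s⁻¹,
        ⟨?_, conj_mem_cj s hv⟩, fun h => hv' ?_⟩
      · rw [← conj_eq_of_Ct (sC hs) hw.1]; exact conj_mem_cj s hw.2
      · have := (cj a Z).mul_mem hv hd.2
        rw [← e] at this
        simpa using this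
      · have := Z.mul_mem h.1 (Z.inv_mem hd.1)
        rw [← e] at this
        have r : s * v * s⁻¹ * (v⁻¹ * (s * v * s⁻¹))⁻¹ = v := by group
        rwa [r] at this
    have h3 : Nat.card (Z ⊓ cj (a⁻¹ * s * a) Z :) = Nat.card (cj a Z ⊓ cj s (cj a Z) :) := by
      rw [← card_cj a, cj_inf, ← cj_mul, ← cj_mul]
      congr 4; group
    have h4 := card_lt_of_lt h2
    have := hmax (j := a⁻¹ * s * a)
      ⟨mul_mem (mul_mem ((Aut F V).inv_mem ha) (sA hs)) ha, h1⟩ (by simp only; omega)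
    simp only at this
    omega
  obtain ⟨y, hy, hy'⟩ := exists_Nm hF hV
  have tC : a * y * a⁻¹ ∈ Ct (cj a Z) := conj_mem_Ct_cj a (sC hy.1)
  have tT : a * y * a⁻¹ ∈ Tv V (cj a Z) := by
    have := conj_mem_Tv a (show y ∈ Tv V Z from
      ⟨Ct_le_Nm _ (sC hy.1), fun x hx => H.h1 x (hV.1.1 hx) y hy.1⟩)
    rwa [cj_eq_of_Aut ha] at this
  have sT : s ∈ Tv V Z := ⟨Ct_le_Nm _ (sC hs), fun x hx => H.h1 x (hV.1.1 hx) s hs⟩
  have hW : Z ⊔ cj a Z ≤ V := sup_le hZV hZ'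
  have ab : ∀ {A B : Subgroup Ω}, A ≤ V → B ≤ V → A ≤ Nm B := fun hA hB =>
    (hA.trans ((H.comm hF hV).trans (Ct_anti hB))).trans (Ct_le_Nm _)
  refine ha' (H.XE_le hF hV (mem_XE_of_St hF hV (l := [Z ⊔ cj a Z, cj a Z, Z ⊓ cj a Z])
    (by simpa using ⟨⟨hZV, hZ'⟩, hZ', inf_le_left.trans hZV⟩) ha ⟨hs, H.S_le_Nm hF hV hs⟩ sV
    ⟨mem_Tv_mono sT le_sup_left hW, mem_Tv_sup (mem_Tv_of_Ct (sC hs) sN) (mem_Tv_self sN)
      (ab hZV hZ') (le_Nm _), mem_Tv_inf (Tv_anti hZ' _ sT) (mem_Tv_self sN),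
      Ct_anti inf_le_left (sC hs)⟩ hy hy'
    ⟨mem_Tv_mono tT le_sup_right hW, Tv_anti hW _ tT, mem_Tv_of_Ct tC
      (Ct_le_Nm _ (Ct_anti inf_le_right tC)), Ct_anti inf_le_right tC⟩))

theorem Heis.eq_of_normal (hQ : F.IsNormal Q) (h0 : Q ≠ ⊥) : V = S ⊓ Ct Q := by
  have hQV := le_of_normal_of_essential hF.pg hF.sat hQ hV
  obtain ⟨a, ha, hd⟩ := H.exists_disj hF hV
  have hn := Aut_le_Nm_of_normal hF hQ le_rfl hQ.1
  obtain ⟨⟨q, hq⟩, hq1⟩ := (Subgroup.ne_bot_iff_exists_ne_one).1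
    (H98.inf_centralizer_ne_bot (hF.pgl hQ.1) hF.pg ((le_Aut F le_rfl).trans hn) h0)
  have hx : a * q * a⁻¹ ∈ Q := conj_mem_of_Nm (Aut_le_Nm_of_normal hF hQ hV.1.1 hQV ha) hq.1
  have hz : a * q * a⁻¹ ∉ S ⊓ Ct S := fun h => hq1 (Subtype.ext (by
    have : a * q * a⁻¹ ∈ (⊥ : Subgroup Ω) := hd ▸ ⟨h, conj_mem_cj a ⟨hQ.1 hq.1, hq.2⟩⟩
    simpa using this))
  exact le_antisymm (le_inf hV.1.1 ((H.comm hF hV).trans (Ct_anti hQV))) fun s hs =>
    H.mem_of_comm hF hV (hQV hx) hz hs.1 (mem_Ct'.1 hs.2 _ hx)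

omit hV in
theorem Heis.constrained (h0 : F.core ≠ ⊥) : F.IsConstrained p := by
  have hQ := isNormal_core F
  by_cases h : ∃ V, F.IsEssential p V
  · obtain ⟨V, hV⟩ := h
    refine SatA.constrained_of hF (normal_of_ess hF (Q := V) ?_) (centric_Ct_le hV.1)
    rintro P (rfl | hP)
    · refine ⟨hV.1.1, fun g hg => ?_⟩
      rw [H.eq_of_normal hF hV hQ h0]
      exact mem_Nm_inf (Aut_le_Nm F _ hg)
        (mem_Nm_Ct (Aut_le_Nm_of_normal hF hQ le_rfl hQ.1 hg))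
    · rw [H.eq_of_normal hF hV hQ h0, ← H.eq_of_normal hF hP hQ h0]
      exact ⟨le_rfl, Aut_le_Nm F P⟩
  · push Not at h
    exact SatA.constrained_of hF (isNormal_top_of_no_essential hF.pg hF.sat h) inf_le_left

end H92.Es

namespace H92.Es
open Cfsg

theorem s5259 {Ω : Type*} [Group Ω] {S : Subgroup Ω} [Finite S] (p : ℕ) [Fact p.Prime]
    (hS : IsPGroup p S) (F : Cfsg.FusionSystem S) (hF : F.IsSaturated p) {K : Type*} [Field K]
    [Fintype K] [CharP K p] (T : Sylow p (Matrix.SpecialLinearGroup (Fin 3) K))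
    (e : ↥S ≃* ↥(T : Subgroup (Matrix.SpecialLinearGroup (Fin 3) K))) (hex : F.IsExotic p) :
    F.core = ⊥ := by
  by_contra h0
  obtain ⟨a, b, S', F', h, hA⟩ := H93.exists_satA hS hF
  obtain ⟨m, hm⟩ := coord_sylow p T
  have H := ((hm.congr e.symm).congr (h.1.equiv le_rfl h.1.img_top)).heis
  exact hex.2 (H94.isRealizable_of_constrained hS (h.symm.isConstrained
    (H.constrained hA fun r => h0 (h.symm.core_eq_bot r))))

end H92.Es
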