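import Cfsg.Agent.H92.F7Kit

/-! The finite checks for `JF7`. -/

set_option autoImplicit false

namespace H92.F7

structure Dt where
  (B F N A D wb wz wA : List ℕ)
  (b1 b2 g0 t1 t2 l1 l2 l3 l s a1 : ℕ)

def p8 (x : ℕ) : ℕ := m (m (m x x) (m x x)) (m (m x x) (m x x))
def o3 (w : ℕ) : Prop := m (m w w) w = 344 ∧ w ≠ 344

instance (w : ℕ) : Decidable (o3 w) := by unfold o3; infer_instance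

structure Ck (d : Dt) : Prop where
  cB : Cl d.B
  cN : Cl d.N
  cA : Cl d.A
  cD : Cl d.D
  mem : d.b1 ∈ E ∧ d.b2 ∈ E ∧ d.g0 ∈ E ∧ d.t1 ∈ E ∧ d.t2 ∈ E ∧ d.l1 ∈ E ∧ d.l2 ∈ E ∧ d.l3 ∈ E ∧
    d.l ∈ E ∧ d.s ∈ E ∧ d.a1 ∈ E
  len : d.B.length = 4 ∧ d.N.length = 24 ∧ d.A.length = 4 ∧ d.D.length = 8
  el : ∀ x ∈ d.B, m x x = 344
  n1 : ∀ x ∈ d.N, ∀ b ∈ d.B, cjc x b ∈ d.B
  n2 : ∀ x ∈ E, x ∉ d.N → ∃ b ∈ d.B, cjc x b ∉ d.B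
  zN : 120 ∈ d.N ∧ d.g0 ∉ d.N
  fF : ∀ x ∈ d.F, x ∈ E ∧ (x ∈ d.B ∨ m x 120 ∈ d.B ∨ m (m x 120) 120 ∈ d.B)
  dc : ∀ x ∈ E, x ∉ d.N → ∃ a ∈ d.F, m (m d.g0 a) x ∈ d.F
  nb : ∀ x ∈ d.N, ∃ b ∈ d.B, cjc (m b x) 120 = 120 ∨ cjc (m b x) 120 = m 120 120
  inv : ∀ x ∈ E, m x x = 344 → x ≠ 344 → ∃ l ∈ E, m l d.b1 = m x l
  g1 : ∀ t ∈ d.B, t ≠ 344 → ∃ l ∈ E, cjc (iv l) t ∉ d.N
  g2 : o3 (m d.b1 (cjc d.l1 d.b1))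
  g3 : cjc d.l2 d.b1 = d.t1 ∧ cjc d.l3 d.b1 = d.t2 ∧ ev d.wb = d.b2 ∧ ev d.wz = 120 ∧
    (∀ c ∈ d.wb, c = d.b1 ∨ c = d.t1 ∨ c = d.t2) ∧ (∀ c ∈ d.wz, c = d.b1 ∨ c = d.t1 ∨ c = d.t2) ∧
    d.t1 ∉ d.N ∧ ∀ x ∈ d.B, x = 344 ∨ x = d.b1 ∨ x = d.b2 ∨ x = m d.b1 d.b2
  g4 : ∀ x ∈ E, x ∉ d.N → (∃ t ∈ d.B, t ≠ 344 ∧ cjc (iv x) t ∈ d.N) ∧
    (∃ t ∈ d.B, cjc (iv x) t ∉ d.N) ∧ ∃ t ∈ d.B, ∃ t' ∈ d.B, o3 (m t (cjc x t'))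
  zA : ∀ a ∈ d.A, cjc 120 a ∈ d.A
  wA : ev d.wA = 120 ∧ (∀ c ∈ d.wA, c ∈ d.A ∨ c ∈ d.B) ∧ d.a1 ∈ d.A ∧ d.a1 ∉ d.N
  un : ∀ x ∈ E, p8 x = 344 → p8 (m x (iv (cjc 120 x))) = 344 →
    p8 (m (m x (cjc 120 x)) (cjc 120 (cjc 120 x))) = 344 → x ∈ d.A ∨ x ∈ d.B
  ls : d.l ∉ d.N ∧ m d.s d.s = 344 ∧ cjc d.s (cjc d.l 120) = iv (cjc d.l 120) ∧
    (∀ a ∈ d.A, cjc (cjc (iv d.l) d.s) a ∈ d.A) ∧ (∀ a ∈ d.A, cjc d.l a ∈ d.D) ∧ d.s ∈ d.D ∧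
    (∀ x ∈ d.D, cjc (iv d.l) x ∈ d.A ∨ cjc (iv d.l) (m x d.s) ∈ d.A) ∧ (∀ x ∈ d.B, x ∈ d.D) ∧
    (∀ x ∈ d.D, x ∈ d.N) ∧ cjc d.l 120 ∉ d.N

def d0 : Dt where
  B := [91, 344, 859, 1313]
  F := [91, 120, 162, 344, 574, 616, 697, 739, 859, 1041, 1083, 1313]
  N := [91, 120, 162, 344, 401, 489, 514, 574, 616, 657, 697, 739, 821, 859, 915, 947, 1023, 1041,
    1083, 1145, 1222, 1254, 1313, 1348]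
  A := [161, 344, 796, 1110]
  D := [91, 344, 821, 859, 915, 947, 1145, 1313]
  wb := [1348, 91, 1348]
  wz := [1348, 433, 91, 433]
  wA := [1313, 796, 859, 1110, 1313, 161]
  b1 := 91
  b2 := 859
  g0 := 644
  t1 := 433
  t2 := 1348
  l1 := 93
  l2 := 97
  l3 := 94
  l := 93
  s := 1313
  a1 := 161

def d1 : Dt where
  B := [161, 344, 796, 1110]
  F := [97, 120, 161, 344, 434, 616, 725, 796, 837, 1069, 1110, 1181]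
  N := [97, 120, 161, 344, 434, 451, 527, 566, 616, 657, 725, 758, 796, 837, 897, 978, 1010, 1069,
    1110, 1145, 1181, 1236, 1317, 1348]
  A := [91, 344, 859, 1313]
  D := [161, 344, 527, 566, 657, 796, 897, 1110]
  wb := [657, 161, 657]
  wz := [657, 433, 161, 433]
  wA := [161, 859, 796, 91, 161, 1313]
  b1 := 161
  b2 := 1110
  g0 := 91
  t1 := 433
  t2 := 657
  l1 := 91
  l2 := 124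
  l3 := 121
  l := 92
  s := 161
  a1 := 1313

theorem ck0 : Ck d0 := by constructor <;> decide +kernel

theorem ck1 : Ck d1 := by constructor <;> decide +kernel

theorem cz : ∀ x ∈ E, m x 120 = m 120 x → x = 344 ∨ x = 120 ∨ x = m 120 120 := by decide +kernel

theorem zz : (120 : ℕ) ∈ E ∧ o3 120 ∧ (657 : ℕ) ∈ E ∧ cjc 657 120 = m 120 120 := by decide +kernel

end H92.F7
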