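/- Tower NF: `O_π(C_G(H)) ≤ O_π(G)` and the rows which follow from it. -/
import Cfsg.Agent.H14.NFSpec
import Cfsg.Agent.H51.Api
import Cfsg.Agent.H2.Fitting

set_option autoImplicit false

namespace H92.NF

open Subgroup Cfsg H98 H26.FP H14.NF SemidirectProduct
open H46 (IsPi PNat)

universe u v

section
variable {Γ Δ : Type*} [Group Γ] [Group Δ] {π : Set ℕ}

theorem core_map_le [Finite Γ] (f : Γ →* Δ) (X : Subgroup Γ) :
    (piCoreOf π X).map f ≤ piCoreOf π (X.map f) :=
  H51.le_core ⟨map_mono (H51.core_le π X), map_le_normalizer_map f (H51.core_normal π X).2⟩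
    fun p hp e => H51.core_pi π X p hp (e.trans (card_map_dvd _ f))

theorem core_map {f : Γ →* Δ} (hf : Function.Injective f) (X : Subgroup Γ) :
    piCoreOf π (X.map f) = (piCoreOf π X).map f := by
  rw [piCoreOf, ← H2.map_piCore_mulEquiv (X.equivMapOfInjective f hf), map_map, piCoreOf, map_map]
  rfl

end

theorem core_normal (h1 : JobH1.{u}) (hc : JobCard.{u}) (hk : JobKey.{u}) (π : Set ℕ) (n : ℕ) :
    ∀ (Γ : Type u) [Group Γ] [Finite Γ] (G F H : Subgroup Γ) [G.Normal], Nat.card G = n → Fr G F H →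
      piCoreOf π (G ⊓ C[H]) ≤ piCoreOf π G := by
  induction n using Nat.strong_induction_on with
  | _ n ih =>
  intro Γ _ _ G F H _ hn h
  by_cases e : G = ⊥
  · exact (H51.core_le π _).trans (inf_le_left.trans (e.le.trans bot_le))
  have nc : ∀ {Λ : Type u} [Group Λ] (X : Subgroup Λ) [X.Normal], (piCoreOf π X).Normal := fun X _ =>
    normalizer_eq_top_iff.1 (top_le_iff.1 (H51.nrm_core π le_normalizer_of_normal))
  have := h.sol
  obtain ⟨p, V, hp, _, VG, V1, el, pV, VN⟩ : ∃ (p : ℕ) (V : Subgroup Γ), p.Prime ∧ V.Normal ∧ V ≤ G ∧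
      V ≠ ⊥ ∧ IsElementaryAbelian p V ∧ IsPGroup p V ∧ (piCoreOf π G ≠ ⊥ → V ≤ piCoreOf π G) := by
    by_cases e' : piCoreOf π G = ⊥
    · obtain ⟨p, V, a, b, c, d, e, f, -⟩ := H2.exists_elementaryAbelian_normal_le G e
      exact ⟨p, V, a, b, c, d, e, f, fun r => absurd e' r⟩
    · have := nc G
      have := sol_le h.sol (H51.core_le π G)
      obtain ⟨p, V, a, b, c, d, e, f, -⟩ := H2.exists_elementaryAbelian_normal_le _ e'
      exact ⟨p, V, a, b, c.trans (H51.core_le π G), d, e, f, fun _ => c⟩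
  let f := QuotientGroup.mk' V
  have ek : f.ker = V := QuotientGroup.ker_mk' V
  have su : Function.Surjective f := QuotientGroup.mk'_surjective V
  have fx : G.map f ⊓ C[H.map f] = (G ⊓ C[H]).map f := le_antisymm (by
    rintro _ ⟨⟨x, hx, rfl⟩, c⟩
    obtain ⟨v, hv, r⟩ := h1 Γ V F H x (h.mono VG le_normalizer_of_normal le_normalizer_of_normal)
      fun y hy => ek.le (show f _ = 1 by
        rw [map_mul, map_mul, map_mul, ← c _ (mem_map_of_mem f hy)]; simp)
    exact ⟨v * x, ⟨mul_mem (VG hv) hx, r⟩, by rw [map_mul, show f v = 1 from ek.ge hv, one_mul]⟩) (by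
    rintro _ ⟨x, hx, rfl⟩
    refine ⟨mem_map_of_mem f hx.1, ?_⟩
    rintro _ ⟨y, hy, rfl⟩
    rw [← map_mul, ← map_mul, hx.2 y hy])
  have cd : ∀ K, V ≤ K → Nat.card K = Nat.card (K.map f) * Nat.card V := fun K hK => by
    rw [← relIndex_ker, ek, ← Nat.card_congr (subgroupOfEquivOfLe hK).toEquiv]
    exact (index_mul_card _).symm
  have := Normal.map ‹G.Normal› f su
  have i := ih _ (by
    rw [← hn, cd G VG]
    exact lt_mul_of_one_lt_right Nat.card_pos ((one_lt_card_iff_ne_bot V).2 V1)) _ _ _ _ rfl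
    (h.map f (inf_le_left.trans (ek.le.trans VG)))
  rw [fx] at i
  replace i := map_le_iff_le_comap.1 ((core_map_le f _).trans i)
  have := nc (G.map f)
  have KG : (piCoreOf π (G.map f)).comap f ≤ G := (comap_mono (H51.core_le π _)).trans
    (by rw [comap_map_eq, ek, sup_eq_left.2 VG])
  have VK : V ≤ (piCoreOf π (G.map f)).comap f := ek.ge.trans (ker_le_comap f _)
  have pK : ∀ K ≤ (piCoreOf π (G.map f)).comap f, IsPi π (K.map f) := fun K hK =>
    H51.pi_mono (H51.core_pi π _) (map_le_iff_le_comap.2 hK)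
  have nK : ((piCoreOf π (G.map f)).comap f).Normal := inferInstance
  generalize (piCoreOf π (G.map f)).comap f = K at *
  by_cases e' : piCoreOf π G = ⊥
  swap
  · refine i.trans (H51.le_core ⟨KG, le_normalizer_of_normal⟩ fun r hr d => ?_)
    rw [cd K VK] at d
    exact ((Nat.Prime.dvd_mul hr).1 d).elim (pK K le_rfl r hr)
      (H51.pi_mono (H51.core_pi π G) (VN e') r hr)
  have pπ : p ∈ πᶜ := fun r => V1 (le_bot_iff.1 (e' ▸ H51.le_core ⟨VG, le_normalizer_of_normal⟩
    (H51.pi_of_pgroup hp pV r)))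
  have πV := H51.pi_of_pgroup hp pV pπ
  have nD := H51.core_normal π (G ⊓ C[H])
  have πD := H51.core_pi π (G ⊓ C[H])
  generalize piCoreOf π (G ⊓ C[H]) = D at *
  by_contra r
  obtain ⟨q, hq, d⟩ := Nat.exists_prime_and_dvd (n := Nat.card D) fun k =>
    r ((card_eq_one.1 k).le.trans bot_le)
  have := Fact.mk hq
  obtain ⟨Q, hQ, n1, n2⟩ := h.exists_syl q
  have hQ' := h.mono hQ.le n1 n2
  have s : IsSyl q (Q ⊓ C[H]) (G ⊓ C[H]) := isSyl_of_card_eq (inf_le_inf_right _ hQ.le) (by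
    have := hc _ _ _ _ hQ'
    rw [hQ.card_eq, hc _ _ _ _ h, Nat.factorization_pow, Finsupp.smul_apply, smul_eq_mul, mul_comm,
      pow_mul] at this
    exact Nat.pow_left_injective Nat.card_pos.ne' this.symm)
  obtain ⟨⟨c, hc⟩, c1⟩ := ne_bot_iff_exists_ne_one.1 fun k => (s.inf_of_le_normalizer nD.1
    (s.le.trans nD.2)).eq_bot_iff.1 k d
  have cV := hk Γ Q F H V c p hp hQ' hQ.isPGroup.isNilpotent (by
      rw [hQ.card_eq]
      exact ((Nat.coprime_primes hq hp).2 fun k => pπ (k ▸ πD q hq d)).pow_left _) el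
    le_normalizer_of_normal hc.1 fun x hx => mem_centralizer_singleton_iff.2
      (H51.cent_of_normal_pi (B := V ⊓ C[H]) nD ⟨inf_le_inf_right _ VG, le_normalizer_inf
        le_normalizer_of_normal (inf_le_right.trans le_normalizer)⟩ πD
        (H51.pi_mono πV inf_le_left) hc.2 x hx)
  have VK' : V ≤ K ⊓ C[V] := le_inf VK fun x hx y hy => have := el.1; setLike_mul_comm hy hx
  have e1 : (V.subgroupOf (K ⊓ C[V])).index = Nat.card ((K ⊓ C[V]).map f) := by
    rw [← relIndex_ker, ek]; rfl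
  obtain ⟨L, hL⟩ := exists_right_complement'_of_coprime (N := V.subgroupOf (K ⊓ C[V])) (by
    rw [e1, Nat.card_congr (subgroupOfEquivOfLe VK').toEquiv]
    exact Nat.coprime_of_dvd fun r hr a b => πV r hr a (pK _ inf_le_left r hr b))
  have nL : L.Normal := ⟨fun x hx g => by
    obtain ⟨⟨v, l⟩, rfl⟩ := hL.2 g
    have m := mul_mem (mul_mem l.2 hx) (inv_mem l.2)
    have : (v : (K ⊓ C[V] :)) * (l * x * (l : (K ⊓ C[V] :))⁻¹) = l * x * (l : (K ⊓ C[V] :))⁻¹ * v :=
      Subtype.ext ((l * x * (l : (K ⊓ C[V] :))⁻¹ : (K ⊓ C[V] :)).2.2 _ v.2)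
    convert m using 1
    rw [← mul_inv_cancel_right (l * x * (l : (K ⊓ C[V] :))⁻¹) (v : (K ⊓ C[V] :)), ← this]
    simp only [mul_inv_rev, mul_assoc]⟩
  have : L ≤ ⊥ := by
    rw [← map_le_map_iff_of_injective (subtype_injective _), Subgroup.map_bot, ← e']
    exact (map_mono (H2.le_piCore fun r hr d => pK _ inf_le_left r hr
      (e1 ▸ hL.symm.index_eq_card ▸ d))).trans (H51.core_le_core_of_normal π
        ⟨inf_le_left.trans KG, le_normalizer_of_normal⟩)
  obtain ⟨⟨v, l⟩, e2⟩ := hL.2 ⟨c, i hc.2, fun y hy => mem_centralizer_singleton_iff.1 (cV hy)⟩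
  simp only [mem_bot.1 (this l.2), mul_one] at e2
  exact c1 (Subtype.ext (mem_bot.1 ((H51.pi_inf_eq_bot πD πV).le ⟨hc.2, (e2 ▸ v.2 :)⟩)))

theorem jobCore (h1 : JobH1.{u}) (hc : JobCard.{u}) (hk : JobKey.{u}) : JobCore.{u} := by
  intro Γ _ _ G F H π h
  have l2 : F ≤ G ⊔ (F ⊔ H) := le_sup_of_le_right le_sup_left
  have l3 : H ≤ G ⊔ (F ⊔ H) := le_sup_of_le_right le_sup_right
  have := (normal_subgroupOf_iff_le_normalizer le_sup_left).2 h.nor
  have i := (G ⊔ (F ⊔ H)).subtype_injective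
  have := map_mono (f := (G ⊔ (F ⊔ H)).subtype)
    (core_normal h1 hc hk π _ _ _ _ _ rfl (h.subgroupOf le_sup_left l2 l3))
  rwa [← core_map i, ← core_map i, map_inf_centralizer i, map_subgroupOf_eq_of_le le_sup_left,
    map_subgroupOf_eq_of_le l3] at this

variable {G : Type u} {A : Type v} [Group G] [Finite G] [Group A] [Finite A] [MulDistribMulAction A G]
  (thm : H14.NF.Thm.{max u v}) (core : JobCore.{max u v}) {Fk Hc : Subgroup A} [Fk.Normal]
  (hHc : IsFrobeniusComplement Hc) (hker : frobeniusKernel Hc = (Fk : Set A))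
  (hCF : ∀ g : G, (∀ f ∈ Fk, f • g = g) → g = 1)
include thm core hHc hker hCF

theorem row4390 (C : Subgroup G) (hC : ∀ g : G, g ∈ C ↔ ∀ h ∈ Hc, h • g = g) (π : Set ℕ) :
    piCore π C = (piCore π G).subgroupOf C := by
  have := core _ _ _ _ π (sd_fr (thm _) hHc hker (K := ⊤) (fun _ _ _ => mem_top _) fun g _ => hCF g)
  rw [sd_fix hC, top_inf_eq, core_map inl_injective, core_map inl_injective,
    map_le_map_iff_of_injective inl_injective] at this
  exact le_antisymm (map_le_iff_le_comap.1 (this.trans (H2.map_piCore_subtype_le ⊤)))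
    (H2.piCore_subgroupOf_le C)

theorem row4389 (C : Subgroup G) (hC : ∀ g : G, g ∈ C ↔ ∀ h ∈ Hc, h • g = g) :
    fittingSubgroup C = (fittingSubgroup G).subgroupOf C := by
  refine le_antisymm ?_ (H2.fitting_subgroupOf_le C)
  rw [H2.fitting_eq_iSup_pCore C]
  refine iSup_le fun p => ?_
  have := Fact.mk p.2
  rw [← H2.piCore_singleton, row4390 thm core hHc hker hCF C hC, H2.piCore_singleton]
  exact comap_mono (H2.pCore_le_fitting p G)

theorem row4120 (card : JobCard.{max u v})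
    (hnil : Group.IsNilpotent (closure {g : G | ∀ h ∈ Hc, h • g = g})) : Group.IsNilpotent G := by
  have hC : ∀ g : G, g ∈ closure {g : G | ∀ h ∈ Hc, h • g = g} ↔ ∀ h ∈ Hc, h • g = g := fun g =>
    ⟨fun hg h hh => closure_induction (fun x hx => hx h hh) (smul_one h)
      (fun x y _ _ a b => by rw [smul_mul', a, b]) (fun x _ a => by rw [smul_inv', a]) hg,
      fun hg => subset_closure hg⟩
  generalize closure {g : G | ∀ h ∈ Hc, h • g = g} = C at *
  have l : C ≤ fittingSubgroup G := subgroupOf_eq_top.1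
    ((row4389 thm core hHc hker hCF C hC).symm.trans (H2.fitting_eq_top_iff.2 hnil))
  have c1 := card _ _ _ _ (sd_fr (thm _) hHc hker (K := ⊤) (fun _ _ _ => mem_top _) fun g _ => hCF g)
  have c2 := card _ _ _ _ (sd_fr (thm _) hHc hker (K := fittingSubgroup G) (fun a x hx =>
    (characteristic_iff_le_comap.1 (H2.fitting_characteristic G)
      (MulDistribMulAction.toMulAut A G a)) hx) fun g _ => hCF g)
  rw [sd_fix hC, top_inf_eq] at c1
  rw [sd_fix hC, inf_eq_right.2 l, ← c1, card_map_of_injective inl_injective,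
    card_map_of_injective inl_injective, card_top] at c2
  exact H2.fitting_eq_top_iff.1 (eq_top_of_card_eq _ c2)

end H92.NF
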