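/- Normal subsystems of constrained systems come from normal subgroups of the model. -/
import Cfsg.Agent.H92.RLim
import Cfsg.Agent.H94.GroupNormal
import Cfsg.Agent.H94.Real

set_option autoImplicit false

namespace H92
open Cfsg Cfsg.FusionSystem H93

/-- `H` is a normal subgroup of `G` with Sylow subgroup `T` realizing `E`. -/
def NMod {Ω : Type*} [Group Ω] (p : ℕ) (G H : Subgroup Ω) {T : Subgroup Ω} (E : FusionSystem T) :
    Prop :=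
  ∃ hT : T ≤ H, H ≤ G ∧ G ≤ Nm H ∧ ¬ p ∣ T.relIndex H ∧ E = fusionSystemOfSubgroup H T hT

section tr
variable {Ω Ω' : Type*} [Group Ω] [Group Ω'] {a : Ω → Ω'} {b : Ω' → Ω} {G H T : Subgroup Ω}
  {G' H' T' : Subgroup Ω'} {p : ℕ}

theorem pIso_conj (h : H94.PIso a b G G') {g x : Ω} (hg : g ∈ G) (hx : x ∈ G) :
    a (g * x * g⁻¹) = a g * a x * (a g)⁻¹ := by
  rw [h.mul _ (mul_mem hg hx) _ (inv_mem hg), h.mul _ hg _ hx, h.mul.map_inv hg]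

theorem tr_fos (h : H94.PIso a b G G') (hH : H ≤ G) (hT : T ≤ H) (e1 : img H a = H')
    (e2 : img T a = T') (hT' : T' ≤ H') :
    H94.Tr a b (fusionSystemOfSubgroup H T hT) (fusionSystemOfSubgroup H' T' hT') := by
  refine H94.tr_fos_of_mor_iff hT' (h.restrict' (hT.trans hH) e2) fun P f hP hf => ?_
  rw [mor_ofSubgroup_iff]
  refine ⟨fun ⟨_, _, g, hg, e⟩ => ⟨a g, e1 ▸ mem_img_of_mem a hg, fun x hx => ?_⟩,
    fun ⟨g, hg, e⟩ => ?_⟩
  · rw [e x hx, pIso_conj h (hH hg) (hH (hT (hP hx)))]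
  · obtain ⟨k, hk, rfl⟩ := (h.mem_img hH).1 (e1 ▸ hg)
    refine ⟨hP, hf, k, hk, fun x hx => h.inj (hH (hT (hf x hx))) (hH (mul_mem (mul_mem hk
      (hT (hP hx))) (inv_mem hk))) ?_⟩
    rw [e x hx, pIso_conj h (hH hk) (hH (hT (hP hx)))]

theorem relIndex_img [Finite G] (h : H94.PIso a b G G') (hH : H ≤ G) (hT : T ≤ H) :
    (img T a).relIndex (img H a) = T.relIndex H := by
  have := H94.finite_of_le (hT.trans hH)
  have key : ∀ {Γ : Type _} [Group Γ] {A B : Subgroup Γ}, A ≤ B →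
      Nat.card A * A.relIndex B = Nat.card B := fun h => by
    rw [← Subgroup.relIndex_bot_left, ← Subgroup.relIndex_bot_left,
      Subgroup.relIndex_mul_relIndex _ _ _ bot_le h]
  have key' : ∀ {A B : Subgroup Ω'}, A ≤ B →
      Nat.card A * A.relIndex B = Nat.card B := fun h => by
    rw [← Subgroup.relIndex_bot_left, ← Subgroup.relIndex_bot_left,
      Subgroup.relIndex_mul_relIndex _ _ _ bot_le h]
  have h1 := key' ((h.img_le_img_iff (hT.trans hH) hH).2 hT)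
  rw [h.card_img (hT.trans hH), h.card_img hH, ← key hT] at h1
  exact Nat.eq_of_mul_eq_mul_left Nat.card_pos h1

theorem le_Nm_img [Finite G] (h : H94.PIso a b G G') (hH : H ≤ G) (hn : G ≤ Nm H) :
    G' ≤ Nm (img H a) := fun g hg => by
  have := h.finite
  have := H94.finite_of_le (h.img_le hH)
  refine mem_Nm_of_conj fun y hy => ?_
  obtain ⟨x, hx, rfl⟩ := (h.mem_img hH).1 hy
  rw [← h.a_b g hg, ← pIso_conj h (h.b_mem g hg) (hH hx)]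
  exact mem_img_of_mem a (conj_mem_of_Nm (hn (h.b_mem g hg)) hx)

theorem NMod.tr [Finite G] (h : H94.PIso a b G G') {E : FusionSystem T} {E' : FusionSystem T'}
    (k : H94.Tr a b E E') (m : NMod p G H E) : NMod p G' (img H a) E' := by
  obtain ⟨hT, h1, h2, h3, rfl⟩ := m
  obtain rfl := k.img_top
  have hT' := (h.img_le_img_iff (hT.trans h1) h1).2 hT
  exact ⟨hT', h.img_le h1, le_Nm_img h h1 h2, by rwa [relIndex_img h h1 hT],
    k.unique (tr_fos h h1 hT rfl rfl hT')⟩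

end tr

universe u
variable {Ω : Type u} [Group Ω] {S T U G H Q P : Subgroup Ω} {F : FusionSystem S}
  {E D : FusionSystem T} {g : Ω} {p : ℕ}

theorem M_fos {hT : T ≤ H} : M (fusionSystemOfSubgroup H T hT) P g ↔
    P ≤ T ∧ cj g P ≤ T ∧ ∃ h ∈ H, g⁻¹ * h ∈ Ct P :=
  (mor_ofSubgroup_iff hT).trans ⟨fun ⟨h1, h2, h, h3, e⟩ => ⟨h1, cj_le_iff.2 h2, h, h3,
    Ct_of_conj_eq fun x hx => (e x hx).symm⟩, fun ⟨h1, h2, h, h3, e⟩ =>
      ⟨h1, cj_le_iff.1 h2, h, h3, fun _ hx => (conj_eq_of_Ct_div e hx).symm⟩⟩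

theorem M.fos {hT : T ≤ H} (hP : P ≤ T) (h : cj g P ≤ T) (hg : g ∈ H) :
    M (fusionSystemOfSubgroup H T hT) P g := M_fos.2 ⟨hP, h, g, hg, by simp⟩

variable [Finite Ω] [hp : Fact p.Prime]

theorem WnA.sub_of_Aut_le (hE : WnA p E F) (hD : WnA p D F) (hU : F.IsNormal U) (hUT : U ≤ T)
    (hc : T ⊓ Ct U ≤ U) (h : Aut E U ≤ Aut D U) : E.IsSubsystemOf D := by
  have hsc := stronglyClosed_of_normal hU
  have hn : T ≤ Nm U := hE.inv.le.trans (le_Nm_sc hsc)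
  refine hE.satE.sub_of_coprime le_rfl fun P h1 h2 h3 a ha hc' => ?_
  have h4 : U ≤ P := le_of_normal_of_radical hE.satE.pg
    (isNormal_of_sub hE.satF.pg hE.satE.sat hE.inv.sub hU hUT) (centric_Ct_le h2) h3
  have h5 := hE.inv.Aut_le h1.1 ha
  exact M.of_Aut (H93.WnA.mem_Aut_of_coprime hD hE.inv.sc
    (hD.satE.fc_of_fn (fn_of_le_Nm D hUT hn)) hc h4 (le_inf h1.1 (h1.1.trans hn)) h1.1 h5
    (h (mem_Aut_of_le ha h1.1 h4 ((M.of_Aut h5 (h1.1.trans hE.inv.le)).mem_Nm_sc hsc h4))) hc') h1.1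

/-- The data of a model inside the ambient group. -/
structure MData (p : ℕ) (G S Q : Subgroup Ω) : Prop where
  amb : Amb S
  pg : IsPGroup p S
  pp : PP p S G
  le : Q ≤ S
  nm : G ≤ Nm Q
  ct : G ⊓ Ct Q ≤ Q
  max : ∀ K ≤ G, G ≤ Nm K → IsPGroup p K → K ≤ Q

namespace MData
variable (d : MData p G S Q)
include d

theorem key (hU : U ≤ Q) (hn : G ≤ Nm U) : G ⊓ (Tv Q U ⊓ (Q ⊔ Ct U)) ≤ Q := by
  have hQ := d.pg.to_le d.le
  refine d.max _ inf_le_left (fun g hg => mem_Nm_inf (le_Nm G hg) (mem_Nm_inf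
    (mem_Nm_Tv (d.nm hg) (hn hg)) (mem_Nm_sup (d.nm hg) (mem_Nm_Ct (hn hg)))))
    (isPGroup_iff_forall.2 fun k hk => ?_)
  obtain ⟨n, h1⟩ := pMod_sup (PMod.of_isPGroup hQ (Ct U))
    (fun x hx => mem_Nm_Ct (hn (d.pp.le (d.le hx)))) k hk.2.2
  obtain ⟨m, h2⟩ := pMod_Tv_Ct (hQ.to_le hU) _ ⟨pow_mem hk.2.1 (p ^ n), h1⟩
  obtain ⟨l, h3⟩ := isPGroup_iff_forall.1 hQ _ (d.ct ⟨pow_mem (pow_mem hk.1 _) _, h2⟩)
  exact ⟨n + m + l, by rwa [pow_add, pow_add, pow_mul, pow_mul]⟩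

variable (hE : NrA p E (fusionSystemOfSubgroup G S d.pp.le))
include hE

omit hp [Finite Ω] in
theorem nmU : G ≤ Nm (Q ⊓ T) := fun g hg => mem_Nm.2 (by
  rw [(M.fos d.le ((cj_eq_of_Nm (d.nm hg)).le.trans d.le) hg).cj_inf_sc hE.inv.sc,
    cj_eq_of_Nm (d.nm hg)])

omit hp in
theorem T_le_Tv : T ≤ Tv Q (Q ⊓ T) := fun _ ht =>
  mem_Tv.2 ⟨d.nmU hE (d.pp.le (hE.inv.le ht)), fun _ hx => ⟨Q.mul_mem (Q.inv_mem hx)
    (conj_mem_of_Nm (d.nm (d.pp.le (hE.inv.le ht))) hx),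
      tv_apply (le_Tv_of_le_Nm (le_Nm_sc hE.inv.sc) ht) (d.le hx)⟩⟩

theorem T_inf_le : T ⊓ (Q ⊔ Ct (Q ⊓ T)) ≤ Q ⊓ T := fun _ ht =>
  ⟨d.key inf_le_left (d.nmU hE) ⟨d.pp.le (hE.inv.le ht.1), d.T_le_Tv hE ht.1, ht.2⟩, ht.1⟩

/-- The normal subgroup of `G` whose `p`-residual is that of the model of `E`. -/
theorem unique (m : NMod p G H E) :
    H = T ⊔ Opr p (G ⊓ (Aut E (Q ⊓ T) ⊓ Tv Q (Q ⊓ T))) := by
  obtain ⟨hT, h1, h2, h3, e⟩ := m
  have hn := d.nmU hE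
  have hQ := d.pg.to_le d.le
  have hTp := hE.satE.pg
  have h4 : Q ⊓ H ≤ T := PP.le_of_normal ⟨hT, h3⟩ bot_le (fun _ _ => mem_Nm_of_le (cj_bot _).le)
    (PMod.of_isPGroup (hQ.to_le inf_le_left) _) inf_le_right
    fun x hx => mem_Nm_inf (d.nm (h1 hx)) (le_Nm H hx)
  have h5 : H ≤ G ⊓ (Aut E (Q ⊓ T) ⊓ Tv Q (Q ⊓ T)) := fun h hh => by
    refine ⟨h1 hh, M.mem_Aut (e ▸ M.fos inf_le_right
      ((cj_eq_of_Nm (hn (h1 hh))).le.trans inf_le_right) hh) (hn (h1 hh)),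
      mem_Tv.2 ⟨hn (h1 hh), fun x hx => ?_⟩⟩
    have a1 : x⁻¹ * (h * x * h⁻¹) ∈ Q := mul_mem (inv_mem hx) (conj_mem_of_Nm (d.nm (h1 hh)) hx)
    refine ⟨a1, h4 (Subgroup.mem_inf.2 ⟨a1, ?_⟩)⟩
    have := mul_mem (conj_mem_of_Nm' (h2 (d.pp.le (d.le hx))) hh) (inv_mem hh)
    convert this using 1; group
  refine le_antisymm (PP.le_of_Opr ⟨hT, h3⟩ le_sup_left ((Opr_mono h5).trans le_sup_right))
    (sup_le hT (Opr_le_iff.2 fun a ha hc => ?_))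
  obtain ⟨-, -, h, hh, e1⟩ := M_fos.1 (e ▸ M.of_Aut ha.2.1 inf_le_right)
  have a1 : a⁻¹ * h ∈ Q := d.key inf_le_left hn ⟨G.mul_mem (G.inv_mem ha.1) (h1 hh),
    Subgroup.mul_mem _ (Subgroup.inv_mem _ ha.2.2) (h5 hh).2.2, Subgroup.mem_sup_right e1⟩
  obtain ⟨n, hn⟩ := isPGroup_iff_forall.1 hQ _ (inv_mem a1)
  refine mem_of_coprime_of_div (c := (a⁻¹ * h)⁻¹) hc (h2 ha.1) ?_ (k := n) (hn ▸ one_mem _)
  have := conj_mem_of_Nm' (h2 ha.1) hh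
  convert this using 1; group

theorem exists_nMod : ∃ H, NMod p G H E := by
  have hF := hE.satF
  have hsc := hE.inv.sc
  have hn := d.nmU hE
  have hQ := d.pg.to_le d.le
  have hkey := d.key (U := Q ⊓ T) inf_le_left hn
  have hTv := d.T_le_Tv hE
  have hTi := d.T_inf_le hE
  have hUQ : Q ⊓ T ≤ Q := inf_le_left
  have hUT : Q ⊓ T ≤ T := inf_le_right
  have hUn : (fusionSystemOfSubgroup G S d.pp.le).IsNormal (Q ⊓ T) :=
    H94.isNormal_fos (hUQ.trans d.le) hn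
  generalize Q ⊓ T = U at *
  have hUS := hUQ.trans d.le
  have hSG := d.pp.le
  have hTG := hE.inv.le.trans hSG
  have hfn := fn_of_le_Nm (fusionSystemOfSubgroup G S d.pp.le) hUS (hSG.trans hn)
  have hUc : T ⊓ Ct U ≤ U := (inf_le_inf_left _ le_sup_right).trans hTi
  have hc : E.IsCentric U := hE.inv.centric_of_fc hF hUT (hF.fc_of_fn hfn) hUc
  have hS := H93.WnA.S_inf_Aut_le hE.toWnA (fn_of_le_Nm E hUT (hTG.trans hn))
  have gA : G ≤ Aut (fusionSystemOfSubgroup G S d.pp.le) U := fun g hg =>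
    (M.fos hUS ((cj_eq_of_Nm (hn hg)).le.trans hUS) hg).mem_Aut (hn hg)
  obtain ⟨A, hA⟩ : ∃ A, A = G ⊓ (Aut E U ⊓ Tv Q U) := ⟨_, rfl⟩
  have a1 : A ≤ G := hA ▸ inf_le_left
  have a2 : A ≤ Aut E U := hA ▸ inf_le_right.trans inf_le_left
  have a3 : A ≤ Tv Q U := hA ▸ inf_le_right.trans inf_le_right
  have a4 : G ≤ Nm A := fun g hg => hA ▸ mem_Nm_inf (le_Nm G hg) (mem_Nm_inf
    (hE.inv.Aut_le_Nm_Aut hUT (gA hg)) (mem_Nm_Tv (d.nm hg) (hn hg)))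
  have a5 : G ≤ Nm (Opr p A) := fun g hg => mem_Nm_Opr (a4 hg)
  have a6 : T ≤ A := fun t ht => hA ▸ ⟨hTG ht, Nm_le_Aut E U ⟨ht, hn (hTG ht)⟩, hTv ht⟩
  have g0 := d.pp.inf_normal' a4 a1
  have a7 : Opr p A ⊓ (S ⊓ A) ≤ T := by
    refine g0.Opr_inf_le (PMod.of_isPGroup (hF.pgl inf_le_left) T) fun x hx g hg hgx => ?_
    obtain ⟨t, ht, h1⟩ := (mem_sup_Ct' inf_le_right).1 (hS ⟨hx.1, a2 hx.2⟩)
    have h0 : t⁻¹ * x ∈ A := mul_mem (inv_mem (a6 ht.1)) hx.2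
    have h2 : t⁻¹ * x ∈ Q := hkey ⟨a1 h0, a3 h0, Subgroup.mem_sup_right h1⟩
    have h3 := tv_apply (a3 hg) h2
    have h4 : g * t * g⁻¹ ∈ S := by
      have := S.mul_mem hgx.1 (S.inv_mem (S.mul_mem (d.le h2) (hUS h3)))
      convert this using 1; group
    have h5 := (M.fos (hT := d.pp.le) ((Subgroup.zpowers_le.2 ht.1).trans hE.inv.le)
      (by rw [cj_zpowers]; exact Subgroup.zpowers_le.2 h4) (a1 hg)).mem_sc hsc
        (Subgroup.mem_zpowers t) ht.1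
    have := T.mul_mem (conj_mem_of_Nm' (le_Nm_sc hsc (d.le h2)) (T.mul_mem (T.inv_mem ht.1) h5))
      (hUT h3)
    convert this using 1; group
  have hH : T ⊔ Opr p A ≤ A := sup_le a6 (Opr_le p A)
  have hpp : PP p T (T ⊔ Opr p A) := PP.sup_of_inf
    ((d.pp.inf_normal' a5 ((Opr_le p A).trans a1)).mono_left (fun y hy =>
      ⟨a7 ⟨hy.2, hy.1, Opr_le p A hy.2⟩, hy.2⟩) inf_le_right) (a6.trans (le_Nm_Opr p A))
  have hnm : G ≤ Nm (T ⊔ Opr p A) := fun g hg => mem_Nm_of_le (by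
    rw [cj_sup, cj_eq_of_Nm (a5 hg)]
    refine sup_le ?_ le_sup_right
    obtain ⟨a, ha, h1⟩ := g0.exists_cj_le (isPGroup_cj g hE.satE.pg)
      ((cj_mono g a6).trans (cj_eq_of_Nm (a4 hg)).le)
    rw [← cj_mul] at h1
    have h2 := (M.fos (hT := d.pp.le) hE.inv.le (h1.trans inf_le_left)
      (mul_mem (a1 ha) hg)).cj_le_sc hsc le_rfl
    obtain ⟨x, hx, n, hn, rfl⟩ := g0.exists_mul_Opr ha
    rw [mul_assoc, cj_mul, cj_le_iff_le_cj, cj_eq_of_Nm (inv_mem (le_Nm_sc hsc hx.1)), cj_mul,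
      cj_le_iff_le_cj] at h2
    exact h2.trans (cj_le_of_mem (inv_mem (Subgroup.mem_sup_right hn)) le_sup_left))
  have haut : Aut E U ≤ (T ⊔ Opr p A) ⊔ Ct U := by
    refine PP.le_of_Opr (hE.satE.pp_of_normal hUT (hTG.trans hn))
      (sup_le_sup_right le_sup_left _) (Opr_le_iff.2 fun a ha hac => ?_)
    obtain ⟨b, b1, b2, b3, b4⟩ := hE.exists_lift hc ha hac
    have b5 := H92.M.mem_Aut_sup_Ct b2 b4.1 le_rfl
    obtain ⟨-, -, g, hg, e⟩ := M_fos.1 b2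
    obtain ⟨v, v1, v2, v3⟩ := exists_coprime_ext b1 b5.1 e
    have v4 : v ∈ G := mem_of_mem_zpowers v1 hg
    have v5 : a⁻¹ * v ∈ Ct U := div_trans b3 (Ct_anti le_sup_left v3)
    have v6 := mem_of_div ha v5 (Ct_le_Aut E U)
    have v7 : v ∈ Tv (U ⊔ (S ⊓ Ct U)) U := mem_Tv_sup_self
      (tv_congr b4 (Ct_anti le_sup_right v3) (hn v4)) (inf_le_right.trans (Ct_le_Nm U))
    have v8 : v ∈ Tv Q (Q ⊓ (U ⊔ (S ⊓ Ct U))) := by
      refine mem_Tv.2 ⟨mem_Nm_inf (d.nm v4) (Nm_of_div_Ct b5.1 v3), fun x hx => ?_⟩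
      have y1 : x⁻¹ * (v * x * v⁻¹) ∈ Q := mul_mem (inv_mem hx) (conj_mem_of_Nm (d.nm v4) hx)
      have y2 : x⁻¹ * (v * x * v⁻¹) ∈ Aut E U := by
        have := mul_mem (conj_mem_of_Nm' (hE.inv.Aut_le_Nm_Aut hUT (gA (hSG (d.le hx)))) v6)
          (inv_mem v6)
        convert this using 1; group
      refine ⟨y1, ?_⟩
      generalize x⁻¹ * (v * x * v⁻¹) = y at y1 y2
      obtain ⟨t, ht, h1⟩ := (mem_sup_Ct' inf_le_right).1 (hS ⟨d.le y1, y2⟩)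
      have h2 : t ∈ U := hTi (Subgroup.mem_inf.2 ⟨ht.1, by
        have := mul_mem (Subgroup.mem_sup_left (T := Ct U) y1)
          (inv_mem (Subgroup.mem_sup_right (S := Q) h1))
        convert this using 1; group⟩)
      have := mul_mem (Subgroup.mem_sup_left (T := S ⊓ Ct U) h2) (Subgroup.mem_sup_right (S := U)
        (⟨S.mul_mem (S.inv_mem (hUS h2)) (d.le y1), h1⟩ : t⁻¹ * y ∈ S ⊓ Ct U))
      rwa [mul_inv_cancel_left] at this
    have v9 : v ∈ A := hA ▸ ⟨v4, v6, tv_trans (hQ.to_le inf_le_left) v2 v8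
      (Tv_anti inf_le_right _ v7)⟩
    exact mem_of_div (Subgroup.mem_sup_left (Subgroup.mem_sup_right (mem_Opr v9 v2)))
      (div_symm v5) le_sup_right
  generalize T ⊔ Opr p A = H at *
  have hHG := hH.trans a1
  have e : S ⊓ H = T := (hpp.sylIn hE.satE.pg).2.2 _ (le_inf hE.inv.le hpp.le) inf_le_right
    (hF.pgl inf_le_left)
  have hD := nrA_of hF (H94.isNormalIn_fos ⟨hSG, d.pg, d.pp.2⟩ hHG hnm)
  subst e
  have k1 : H ≤ Aut (fusionSystemOfSubgroup H (S ⊓ H) inf_le_right) U := fun h hh =>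
    (M.fos hUT ((cj_eq_of_Nm (hn (hHG hh))).le.trans hUT) hh).mem_Aut (hn (hHG hh))
  refine ⟨H, hpp.le, hHG, hnm, hpp.2, fs_le_antisymm
    (hE.toWnA.sub_of_Aut_le hD.toWnA hUn hUT hUc (haut.trans (sup_le k1 (Ct_le_Aut _ _))))
    (hD.toWnA.sub_of_Aut_le hE.toWnA hUn hUT hUc fun a ha => ?_)⟩
  obtain ⟨-, -, h, hh, e⟩ := M_fos.1 (M.of_Aut ha hUT)
  exact mem_of_div (a2 (hH hh)) (div_symm e) (Ct_le_Aut _ _)

end MData

end H92
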