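import Cfsg.Agent.H92.O8Pb
import Cfsg.Agent.H57.SLGen
import Cfsg.Agent.H57.SLCard

/-! Tower O8: the facts on `A5`, `A6`, `L3(2)` behind jobs T5, T6, T7. -/

set_option autoImplicit false
set_option linter.unusedSectionVars false

namespace H92.O8

open Cfsg Subgroup H98 H74.OC H74.O8 Equiv
open scoped Nat

universe u

section Abs

variable {X : Type} [Group X] [Finite X] {z x : X} {lT l : List X} {T : Subgroup X}

instance fact2 : Fact (Nat.Prime 2) := ⟨Nat.prime_two⟩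

theorem card_list {B : Subgroup X} (h : ∀ g, g ∈ B ↔ g ∈ l) (nd : l.Nodup) :
    Nat.card B = l.length := by
  classical
  rw [Nat.card_congr ((Equiv.subtypeEquivRight h).trans (nd.getEquiv l).symm), Nat.card_fin]

theorem top_of_index [IsSimpleGroup X] {K : Subgroup X} (h : ¬ Nat.card X ∣ K.index !) : K = ⊤ := by
  rcases K.normalCore_normal.eq_bot_or_eq_top with e | e
  · refine absurd ?_ h
    rw [← index_bot, ← e, normalCore_eq_ker, index_ker, index_eq_card, ← Nat.card_perm]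
    exact card_subgroup_dvd_card (MulAction.toPermHom X (X ⧸ K)).range
  · exact top_le_iff.1 (e ▸ K.normalCore_le)

theorem syl_of {n m : ℕ} (c : Nat.card T = 2 ^ n) (e : Nat.card X = 2 ^ n * m) (hm : ¬ 2 ∣ m) :
    IsSyl 2 T ⊤ := by
  refine isSyl_of_not_dvd_relIndex le_top (IsPGroup.of_card c) ?_
  have := T.card_mul_index
  rw [c, e] at this
  rwa [relIndex_top_right, Nat.eq_of_mul_eq_mul_left (by positivity) this]

theorem two_of_sq {B : Subgroup X} (h : ∀ b ∈ B, b * b = 1) : IsPGroup 2 B :=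
  isPGroup_iff_forall.2 fun b hb => ⟨1, by rw [pow_one, pow_two, h b hb]⟩

theorem one_of (hT : IsSyl 2 T ⊤) (h : ∀ t ∈ T, t * t = 1 → t ≠ 1 → IsConj z t) :
    ∀ a b : X, a * a = 1 → a ≠ 1 → b * b = 1 → b ≠ 1 → IsConj a b := by
  have k : ∀ a : X, a * a = 1 → a ≠ 1 → IsConj z a := fun a a2 a1 => by
    obtain ⟨g, -, hg⟩ := hT.exists_cj_le (isPGroup_zpowers (x := a) (k := 1)
      (by rw [pow_one, pow_two, a2])) le_top
    exact (h _ (hg (conj_mem_cj (mem_zpowers a))) (by rw [conj_mul, a2]; group)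
      (by rwa [Ne, conj_eq_one_iff])).trans (_root_.isConj_iff.2 ⟨g, rfl⟩).symm
  exact fun a b a2 a1 b2 b1 => (k a a2 a1).symm.trans (k b b2 b1)

theorem el_of (hT : IsSyl 2 T ⊤) (h : ∀ B ≤ T, (∀ b ∈ B, b * b = 1) → Nat.card B ≤ 4)
    (B : Subgroup X) (hB : ∀ b ∈ B, b * b = 1) : Nat.card B ≤ 4 := by
  obtain ⟨g, -, hg⟩ := hT.exists_cj_le (two_of_sq hB) le_top
  rw [← card_cj g]
  refine h _ hg ?_
  rintro _ ⟨b, hb, rfl⟩
  rw [← map_mul, hB b hb, map_one]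

/-- A four-group `l` in `C(z) = lT`, with `x` of order `3` permuting its involutions. -/
structure Sd (z x : X) (lT l : List X) : Prop where
  one : 1 ∈ l
  mul : ∀ a ∈ l, ∀ b ∈ l, a * b ∈ l
  sq : ∀ a ∈ l, a * a = 1
  nd : l.Nodup
  len : l.length = 4
  sub : ∀ a ∈ l, a ∈ lT
  nT : ∀ t ∈ lT, ∀ a ∈ l, ∃ b ∈ l, t * a = b * t
  nx : ∀ a ∈ l, ∃ b ∈ l, x * a = b * x
  x3 : x ^ 3 = 1
  xz : x * z ≠ z * x
  zm : z ∈ l
  tr : ∀ a ∈ l, a = 1 ∨ a = z ∨ x * z = a * x ∨ x * x * z = a * (x * x)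

namespace Sd

variable (h : Sd z x lT l)

/-- The four-group. -/
def D : Subgroup X where
  carrier := {g | g ∈ l}
  one_mem' := h.one
  mul_mem' := fun ha hb => h.mul _ ha _ hb
  inv_mem' := fun {a} ha => by rwa [inv_eq_of_mul_eq_one_right (h.sq a ha)]

theorem card : Nat.card h.D = 4 := (card_list (fun _ => Iff.rfl) h.nd).trans h.len

theorem mem_nor {t : X} (ht : ∀ a ∈ l, ∃ b ∈ l, t * a = b * t) : t ∈ normalizer (h.D : Set X) :=
  mem_normalizer_fintype fun a ha => by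
    obtain ⟨b, hb, e⟩ := ht a ha
    rwa [e, mul_inv_cancel_right]

include h

theorem z1 : z ≠ 1 := fun e => h.xz (by rw [e, mul_one, one_mul])

theorem ord : orderOf x = 3 :=
  haveI : Fact (Nat.Prime 3) := ⟨Nat.prime_three⟩
  orderOf_eq_prime h.x3 fun e => h.xz (by rw [e, mul_one, one_mul])

theorem conj {a : X} (ha : a ∈ l) (a1 : a ≠ 1) : ∃ i : Fin 3, x ^ (i : ℕ) * z * (x ^ (i : ℕ))⁻¹ = a := by
  rcases h.tr a ha with e | e | e | e
  · exact absurd e a1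
  · exact ⟨0, by simp [e]⟩
  · exact ⟨1, by simp [e]⟩
  · exact ⟨2, by rw [show ((2 : Fin 3) : ℕ) = 2 from rfl, pow_two, e, mul_inv_cancel_right]⟩

theorem trD : ∀ d ∈ h.D, d ∉ (⊥ : Subgroup X) → ∀ e ∈ h.D, e ∉ (⊥ : Subgroup X) →
    ∃ g ∈ normalizer (h.D : Set X), g * d * g⁻¹ * e⁻¹ ∈ (⊥ : Subgroup X) := by
  intro d hd d1 e he e1
  obtain ⟨i, rfl⟩ := h.conj hd d1
  obtain ⟨j, rfl⟩ := h.conj he e1
  have hx := h.mem_nor h.nx
  exact ⟨x ^ (j : ℕ) * (x ^ (i : ℕ))⁻¹, mul_mem (pow_mem hx _) (inv_mem (pow_mem hx _)),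
    mem_bot.2 (by group)⟩

theorem s3t (hT : ∀ g, g ∈ centralizer ({z} : Set X) ↔ g ∈ lT)
    (c : Nat.card (centralizer ({z} : Set X)) = 2 ^ 3)
    (slf : ⊤ ⊓ normalizer (centralizer ({z} : Set X) : Set X) ≤ centralizer ({z} : Set X)) :
    S3T (centralizer ({z} : Set X)) (normalizer (h.D : Set X)) h.D := by
  have hx := h.mem_nor h.nx
  have le : centralizer ({z} : Set X) ≤ normalizer (h.D : Set X) := fun t ht =>
    h.mem_nor (h.nT t ((hT t).1 ht))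
  refine ⟨IsPGroup.of_card c, fun a ha => (hT a).2 (h.sub a ha), le, le_rfl, by rw [c, h.card]; rfl,
    ?_, fun e => h.xz (mem_centralizer_singleton_iff.1 (slf ⟨trivial, e hx⟩))⟩
  set P := normalizer (h.D : Set X)
  have e1 : Nat.card (centralizer ({z} : Set X)) * (centralizer ({z} : Set X)).relIndex P =
      Nat.card P := by
    rw [← relIndex_bot_left, ← relIndex_bot_left, relIndex_mul_relIndex _ _ _ bot_le le]
  have e2 : (centralizer ({z} : Set X)).relIndex P ≤ 3 := by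
    refine (Nat.card_le_card_of_surjective (fun i : Fin 3 => (QuotientGroup.mk ((⟨x, hx⟩ : P) ^ (i : ℕ)) :
      P ⧸ (centralizer ({z} : Set X)).subgroupOf P)) fun q => ?_).trans (by simp)
    obtain ⟨g, rfl⟩ := QuotientGroup.mk_surjective q
    obtain ⟨i, hi⟩ := h.conj (conj_mem_of_mem_normalizer g.2 (h.zm : z ∈ h.D))
      (by rw [Ne, conj_eq_one_iff]; exact h.z1)
    refine ⟨i, QuotientGroup.eq.2 (mem_subgroupOf.2 (mem_centralizer_singleton_iff.2 ?_))⟩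
    push_cast
    calc (x ^ (i : ℕ))⁻¹ * g * z = (x ^ (i : ℕ))⁻¹ * (g * z * (g : X)⁻¹) * g := by group
      _ = _ := by rw [← hi]; group
  have e3 : 3 ∣ Nat.card P := h.ord ▸ orderOf_dvd_natCard P hx
  have e4 : 0 < Nat.card P := Nat.card_pos
  rw [c] at e1 ⊢
  omega

end Sd

/-- The dihedral group `C(z)` with its two four-groups. -/
structure Dd (z x y : X) (lT l l' : List X) : Prop where
  s1 : Sd z x lT l
  s2 : Sd z y lT l'
  cz : ∀ g, g * z = z * g → g ∈ lT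
  zc : ∀ g ∈ lT, g * z = z * g
  nd : lT.Nodup
  len : lT.length = 8
  sq : ∀ t ∈ lT, t * t = 1 ∨ t * t = z
  ex : ∃ r ∈ lT, r * r = z
  inv : ∀ t ∈ lT, t * t = 1 → t ∈ l ∨ t ∈ l'
  ne : ∃ a ∈ l, a ∉ l'

theorem Dd.all {y : X} {l' : List X} (h : Dd z x y lT l l') [IsSimpleGroup X] {m k : ℕ}
    (c : Nat.card X = 2 ^ 3 * m) (hm : ¬ 2 ∣ m)
    (hi : ∀ n j, 24 * j * n = Nat.card X → j ≠ 1 → ¬ Nat.card X ∣ n !)
    (lst : ∃ l : List X, l.length = k ∧ (∀ a ∈ l, a * a = 1 ∧ a ≠ 1) ∧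
      (orderOf l.prod = 5 ∨ orderOf l.prod = 7)) :
    TX X k ∧ ∃ T P₁ P₂ D₁ D₂ : Subgroup X, Par ⊤ ⊥ T P₁ P₂ D₁ D₂ := by
  have hT : ∀ g, g ∈ centralizer ({z} : Set X) ↔ g ∈ lT := fun g =>
    mem_centralizer_singleton_iff.trans ⟨h.cz g, h.zc g⟩
  have c8 : Nat.card (centralizer ({z} : Set X)) = 2 ^ 3 := (card_list hT h.nd).trans h.len
  have syl := syl_of c8 c hm
  obtain ⟨r, hr, r2⟩ := h.ex
  have slf : ⊤ ⊓ normalizer (centralizer ({z} : Set X) : Set X) ≤ centralizer ({z} : Set X) := by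
    rintro g ⟨-, hg⟩
    rcases h.sq _ ((hT _).1 (conj_mem_of_mem_normalizer hg ((hT r).2 hr))) with e | e
    · rw [conj_mul, r2, conj_eq_one_iff] at e
      exact absurd e h.s1.z1
    · rw [conj_mul, r2, mul_inv_eq_iff_eq_mul] at e
      exact mem_centralizer_singleton_iff.2 e
  have s1 := h.s1.s3t hT c8 slf
  have s2 := h.s2.s3t hT c8 slf
  have ne : h.s1.D ≠ h.s2.D := fun e => by
    obtain ⟨a, h1, h2⟩ := h.ne
    exact h2 (show a ∈ h.s2.D from e ▸ h1)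
  refine ⟨⟨inferInstance, one_of (z := z) syl fun t ht t2 t1 => ?_, lst, el_of syl fun B hB h2 => ?_⟩,
    _, _, _, _, _, syl, s1, s2, bot_le, bot_le, by rw [h.s1.card, card_bot],
    by rw [h.s2.card, card_bot], ?_, ne, h.s1.sq, h.s2.sq, fun t ht t2 => h.inv t ((hT t).1 ht) t2,
    h.s1.trD, h.s2.trD, inf_le_right, inf_le_right, slf⟩
  · rcases h.inv t ((hT t).1 ht) t2 with e | e
    · obtain ⟨i, hi⟩ := h.s1.conj e t1
      exact _root_.isConj_iff.2 ⟨_, hi⟩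
    · obtain ⟨i, hi⟩ := h.s2.conj e t1
      exact _root_.isConj_iff.2 ⟨_, hi⟩
  · have h3 : Nat.card B ≠ 8 := fun e => h.s1.z1 (r2 ▸ h2 r (by
      rw [eq_of_le_of_card_ge hB (by rw [c8, e]; rfl)]; exact (hT r).2 hr))
    obtain ⟨j, hj, e⟩ := (Nat.dvd_prime_pow Nat.prime_two).1 (c8 ▸ card_dvd_of_le hB)
    interval_cases j <;> omega
  · obtain ⟨j, hj⟩ := card_dvd_of_le (le_sup_left : _ ≤ normalizer (h.s1.D : Set X) ⊔
      normalizer (h.s2.D : Set X))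
    rw [s1.c2, c8] at hj
    refine top_of_index (hi _ j (by rw [← card_mul_index, hj]; rfl) fun e => ne ?_)
    have e1 := eq_of_le_of_card_ge (le_sup_left : _ ≤ normalizer (h.s1.D : Set X) ⊔
      normalizer (h.s2.D : Set X)) (by rw [hj, e, s1.c2, c8, mul_one])
    have e2 := eq_of_le_of_card_ge (le_sup_right : _ ≤ normalizer (h.s1.D : Set X) ⊔
      normalizer (h.s2.D : Set X)) (by rw [hj, e, s2.c2, c8, mul_one])
    exact s1.core_eq.symm.trans ((congrArg _ (e1.trans e2.symm)).trans s2.core_eq)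

end Abs

section Mod

set_option maxRecDepth 100000
set_option maxHeartbeats 1000000

attribute [local instance 10000] List.decidableBAll List.decidableBEx

/-- An even permutation from its table and the table of its inverse. -/
def pa {n : ℕ} (a b : Fin n → Fin n) (h : ∀ i, b (a i) = i := by decide)
    (h' : ∀ i, a (b i) = i := by decide)
    (s : Perm.sign (⟨a, b, h, h'⟩ : Perm (Fin n)) = 1 := by decide +kernel) :
    alternatingGroup (Fin n) := ⟨⟨a, b, h, h'⟩, Perm.mem_alternatingGroup.2 s⟩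

/-- An even permutation of order at most `2`. -/
def pi {n : ℕ} (a : Fin n → Fin n) (h : ∀ i, a (a i) = i := by decide)
    (s : Perm.sign (⟨a, a, h, h⟩ : Perm (Fin n)) = 1 := by decide +kernel) :
    alternatingGroup (Fin n) := pa a a h h s

def z6 : A6 := pi ![1, 0, 3, 2, 4, 5]
def l6 : List A6 := [1, z6, pi ![0, 1, 3, 2, 5, 4], pi ![1, 0, 2, 3, 5, 4]]
def l6' : List A6 := [1, z6, pi ![2, 3, 0, 1, 4, 5], pi ![3, 2, 1, 0, 4, 5]]
def T6 : List A6 := l6 ++ [pi ![2, 3, 0, 1, 4, 5], pi ![3, 2, 1, 0, 4, 5],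
  pa ![2, 3, 1, 0, 5, 4] ![3, 2, 0, 1, 5, 4], pa ![3, 2, 0, 1, 5, 4] ![2, 3, 1, 0, 5, 4]]

theorem dd6 : Dd z6 (pa ![2, 3, 4, 5, 0, 1] ![4, 5, 0, 1, 2, 3])
    (pa ![0, 2, 3, 1, 4, 5] ![0, 3, 1, 2, 4, 5]) T6 l6 l6' := by
  refine ⟨⟨?_, ?_, ?_, ?_, rfl, ?_, ?_, ?_, ?_, ?_, ?_, ?_⟩,
    ⟨?_, ?_, ?_, ?_, rfl, ?_, ?_, ?_, ?_, ?_, ?_, ?_⟩, ?_, ?_, ?_, rfl, ?_, ?_, ?_, ?_⟩ <;>
    decide +kernel

theorem card6 : Nat.card A6 = 360 := by rw [nat_card_alternatingGroup, Nat.card_fin]; rfl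

theorem all6 : TX A6 2 ∧ ∃ T P₁ P₂ D₁ D₂ : Subgroup A6, Par ⊤ ⊥ T P₁ P₂ D₁ D₂ := by
  have : IsSimpleGroup A6 := alternatingGroup.isSimpleGroup (by simp)
  have : Fact (Nat.Prime 5) := ⟨by decide⟩
  refine dd6.all (m := 45) card6 (by decide) (fun n j e j1 => ?_)
    ⟨[pi ![0, 1, 3, 2, 5, 4], pi ![0, 2, 1, 4, 3, 5]], rfl, by decide +kernel,
      .inl (orderOf_eq_prime (by decide +kernel) (by decide +kernel))⟩
  rw [card6] at e ⊢
  have h1 : j * n = 15 := by rw [mul_assoc] at e; omega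
  have h2 : n ≤ 15 := Nat.le_of_dvd (by omega) ⟨j, by rw [← h1, mul_comm]⟩
  interval_cases n <;> first | omega | decide

/-- A matrix of determinant `1`. -/
def ma (a : Matrix (Fin 3) (Fin 3) (ZMod 2)) (h : a.det = 1 := by decide) : L32 := ⟨a, h⟩

def z7 : L32 := ma !![1, 0, 1; 0, 1, 0; 0, 0, 1]
def l7 : List L32 := [1, z7, ma !![1, 0, 0; 0, 1, 1; 0, 0, 1], ma !![1, 0, 1; 0, 1, 1; 0, 0, 1]]
def l7' : List L32 := [1, z7, ma !![1, 1, 0; 0, 1, 0; 0, 0, 1], ma !![1, 1, 1; 0, 1, 0; 0, 0, 1]]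
def T7 : List L32 := l7 ++ [ma !![1, 1, 0; 0, 1, 0; 0, 0, 1], ma !![1, 1, 1; 0, 1, 0; 0, 0, 1],
  ma !![1, 1, 0; 0, 1, 1; 0, 0, 1], ma !![1, 1, 1; 0, 1, 1; 0, 0, 1]]

theorem dd7 : Dd z7 (ma !![0, 1, 0; 1, 1, 0; 0, 0, 1]) (ma !![1, 0, 0; 0, 0, 1; 0, 1, 1]) T7 l7 l7' := by
  refine ⟨⟨?_, ?_, ?_, ?_, rfl, ?_, ?_, ?_, ?_, ?_, ?_, ?_⟩,
    ⟨?_, ?_, ?_, ?_, rfl, ?_, ?_, ?_, ?_, ?_, ?_, ?_⟩, ?_, ?_, ?_, rfl, ?_, ?_, ?_, ?_⟩ <;>
    decide +kernel

theorem card7 : Nat.card L32 = 168 := by rw [H57.card_sl_fin_eq, ZMod.card]; decide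

theorem simple7 : IsSimpleGroup L32 := by
  have hc : center L32 = ⊥ := eq_bot_iff.2 fun a ha => by
    have h1 : ∀ a ∈ T7, ma !![0, 1, 0; 1, 1, 0; 0, 0, 1] * a = a * ma !![0, 1, 0; 1, 1, 0; 0, 0, 1] →
      ma !![1, 0, 0; 0, 0, 1; 0, 1, 1] * a = a * ma !![1, 0, 0; 0, 0, 1; 0, 1, 1] → a = 1 := by
      decide +kernel
    exact h1 a (dd7.cz a (mem_center_iff.1 ha _).symm) (mem_center_iff.1 ha _) (mem_center_iff.1 ha _)
  have := H57.psl_isSimpleGroup_of_three_le (ι := Fin 3) (F := ZMod 2) (by simp)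
  exact ((QuotientGroup.quotientMulEquivOfEq hc).trans QuotientGroup.quotientBot).symm.isSimpleGroup

theorem all7 : TX L32 3 ∧ ∃ T P₁ P₂ D₁ D₂ : Subgroup L32, Par ⊤ ⊥ T P₁ P₂ D₁ D₂ := by
  have := simple7
  have : Fact (Nat.Prime 7) := ⟨by decide⟩
  refine dd7.all (m := 21) card7 (by decide) (fun n j e j1 => ?_)
    ⟨[ma !![0, 0, 1; 0, 1, 0; 1, 0, 0], ma !![0, 1, 0; 1, 0, 0; 0, 0, 1], ma !![1, 0, 0; 0, 1, 0; 0, 1, 1]],
      rfl, by decide +kernel, .inr ?_⟩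
  · rw [card7] at e ⊢
    have h1 : j * n = 7 := by rw [mul_assoc] at e; omega
    have h2 : n ≤ 7 := Nat.le_of_dvd (by omega) ⟨j, by rw [← h1, mul_comm]⟩
    interval_cases n <;> first | omega | decide
  · rw [show List.prod _ = ma !![0, 1, 1; 1, 0, 0; 0, 1, 0] by decide +kernel]
    exact orderOf_eq_prime (by decide +kernel) (by decide +kernel)

def z5 : A5 := pi ![1, 0, 3, 2, 4]
def y5 : A5 := pa ![0, 2, 3, 1, 4] ![0, 3, 1, 2, 4]
def l5 : List A5 := [1, z5, pi ![2, 3, 0, 1, 4], pi ![3, 2, 1, 0, 4]]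

theorem sd5 : Sd z5 y5 l5 l5 := by
  refine ⟨?_, ?_, ?_, ?_, rfl, ?_, ?_, ?_, ?_, ?_, ?_, ?_⟩ <;> decide +kernel

theorem card5 : Nat.card A5 = 60 := by rw [nat_card_alternatingGroup, Nat.card_fin]; rfl

theorem syl5 : IsSyl 2 sd5.D ⊤ := syl_of (n := 2) (m := 15) sd5.card card5 (by decide)

theorem tx5 : TX A5 2 := by
  have : Fact (Nat.Prime 5) := ⟨by decide⟩
  refine ⟨alternatingGroup.isSimpleGroup (by simp), one_of (z := z5) syl5 fun t ht _ t1 => ?_,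
    ⟨[pi ![0, 2, 1, 4, 3], z5], rfl, by decide +kernel,
      .inl (orderOf_eq_prime (by decide +kernel) (by decide +kernel))⟩,
    el_of syl5 fun B hB _ => sd5.card ▸ card_le_of_le hB⟩
  obtain ⟨i, hi⟩ := sd5.conj ht t1
  exact _root_.isConj_iff.2 ⟨_, hi⟩

theorem ovr5 (K : Subgroup A5) (hK : sd5.D ≤ K) : K ≤ normalizer (sd5.D : Set A5) ∨ K = ⊤ := by
  have : Fact (Nat.Prime 5) := ⟨by decide⟩
  have := tx5.simple
  have h1 : ∀ g : A5, (∀ a ∈ l5, ∃ b ∈ l5, g * a = b * g) ∨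
      ∃ a ∈ l5, ∃ b ∈ l5, (a * (g * b * g⁻¹)) ^ 5 = 1 ∧ a * (g * b * g⁻¹) ≠ 1 := by decide +kernel
  refine or_iff_not_imp_left.2 fun hn => top_of_index ?_
  obtain ⟨g, hg, hn⟩ := SetLike.not_le_iff_exists.1 hn
  obtain ⟨a, ha, b, hb, e1, e2⟩ := (h1 g).resolve_left fun e => hn (sd5.mem_nor e)
  have h2 := orderOf_dvd_natCard K (mul_mem (hK ha) (mul_mem (mul_mem hg (hK hb)) (inv_mem hg)))
  rw [orderOf_eq_prime e1 e2] at h2
  have h3 : 4 ∣ Nat.card K := by rw [← sd5.card]; exact card_dvd_of_le hK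
  have h4 := K.card_mul_index
  rw [card5] at h4 ⊢
  obtain ⟨j, hj⟩ : 20 ∣ Nat.card K := by omega
  have h5 : j * K.index = 3 := by rw [hj, mul_assoc] at h4; omega
  have h6 : K.index ≤ 3 := Nat.le_of_dvd (by omega) ⟨j, by rw [← h5, mul_comm]⟩
  generalize K.index = n at *
  interval_cases n <;> first | omega | decide

end Mod

end H92.O8
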