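import Cfsg.Agent.H74.O8Kit

/-! Tower O8: pulling facts back along `M →* X` with kernel `Q`. -/

set_option autoImplicit false
set_option linter.unusedSectionVars false

namespace H92.O8

open Cfsg Subgroup H98 H74.OC H74.O8

universe u

section Pb

variable {G : Type u} [Group G] {X : Type} [Group X] {M Q : Subgroup G} {f : M →* X}
  {A B : Subgroup X}

/-- The preimage of `B`, as a subgroup of `G`. -/
def pb (f : M →* X) (B : Subgroup X) : Subgroup G := (B.comap f).map M.subtype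

theorem pb_le : pb f B ≤ M := map_subtype_le _

theorem coe_mem {m : M} : (m : G) ∈ pb f B ↔ f m ∈ B := mem_map_iff_mem M.subtype_injective

theorem pb_top : pb f ⊤ = M := by rw [pb, comap_top, ← MonoidHom.range_eq_map, range_subtype]

theorem pb_mono (h : A ≤ B) : pb f A ≤ pb f B := map_mono (comap_mono h)

/-- `f` is onto with kernel `Q`. -/
structure Cv (f : M →* X) (Q : Subgroup G) : Prop where
  sur : Function.Surjective f
  ker : f.ker = Q.subgroupOf M
  le : Q ≤ M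

namespace Cv

variable (h : Cv f Q)
include h

theorem memQ {m : M} : (m : G) ∈ Q ↔ f m = 1 := by
  rw [← MonoidHom.mem_ker, h.ker, mem_subgroupOf]

theorem pb_bot : pb f ⊥ = Q := by
  rw [pb, MonoidHom.comap_bot, h.ker, subgroupOf_map_subtype, inf_eq_left.2 h.le]

theorem le_pb : Q ≤ pb f B := h.pb_bot ▸ pb_mono bot_le

theorem pb_le_pb : pb f A ≤ pb f B ↔ A ≤ B := by
  rw [pb, pb, map_le_map_iff_of_injective M.subtype_injective, comap_le_comap_of_surjective h.sur]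

theorem pb_inj (e : pb f A = pb f B) : A = B :=
  le_antisymm (h.pb_le_pb.1 e.le) (h.pb_le_pb.1 e.ge)

theorem pb_sup : pb f (A ⊔ B) = pb f A ⊔ pb f B := by
  rw [pb, pb, pb, ← comap_sup_eq f A B h.sur, Subgroup.map_sup]

theorem card : Nat.card (pb f B) = Nat.card B * Nat.card Q := by
  have h1 : Nat.card (pb f B) = Nat.card (B.comap f) :=
    (Nat.card_congr ((B.comap f).equivMapOfInjective _ M.subtype_injective).toEquiv).symm
  have h2 : Nat.card Q = Nat.card f.ker := by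
    rw [h.ker]; exact (Nat.card_congr (subgroupOfEquivOfLe h.le).toEquiv).symm
  have h3 : f.ker ≤ B.comap f := ker_le_comap f B
  rw [h1, h2, ← card_mul_index (f.ker.subgroupOf (B.comap f)), mul_comm,
    Nat.card_congr (subgroupOfEquivOfLe h3).toEquiv]
  congr 1
  change f.ker.relIndex (B.comap f) = _
  rw [relIndex_ker, map_comap_eq_self_of_surjective h.sur]

theorem mem_nor {m : M} : (m : G) ∈ normalizer (pb f B : Set G) ↔ f m ∈ normalizer (B : Set X) := by
  constructor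
  · intro hm
    refine mem_normalizer_iff.2 fun x => ?_
    obtain ⟨a, rfl⟩ := h.sur x
    rw [← coe_mem, mem_normalizer_iff.1 hm, ← map_inv, ← map_mul, ← map_mul, ← coe_mem]
    rfl
  · intro hm
    refine mem_normalizer_iff.2 fun g => ?_
    by_cases hg : g ∈ M
    · lift g to M using hg
      rw [coe_mem, mem_normalizer_iff.1 hm, ← map_inv, ← map_mul, ← map_mul, ← coe_mem]
      rfl
    · refine iff_of_false (fun h1 => hg (pb_le h1)) fun h1 => hg ?_
      have := mul_mem (mul_mem (inv_mem m.2) (pb_le h1)) m.2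
      rwa [show (m : G)⁻¹ * (m * g * (m : G)⁻¹) * m = g by group] at this

theorem le_nor : pb f A ≤ normalizer (pb f B : Set G) ↔ A ≤ normalizer (B : Set X) := by
  refine ⟨fun h1 x hx => ?_, fun h1 g hg => ?_⟩
  · obtain ⟨a, rfl⟩ := h.sur x
    exact h.mem_nor.1 (h1 (coe_mem.2 hx))
  · lift g to M using pb_le hg
    exact h.mem_nor.2 (h1 (coe_mem.1 hg))

theorem nor_le (h1 : ⊤ ⊓ normalizer (B : Set X) ≤ A) : M ⊓ normalizer (pb f B : Set G) ≤ pb f A := by
  rintro g ⟨hg, h2⟩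
  lift g to M using hg
  exact coe_mem.2 (h1 ⟨trivial, h.mem_nor.1 h2⟩)

theorem exists_pb {K : Subgroup G} (h1 : Q ≤ K) (h2 : K ≤ M) : ∃ B, K = pb f B :=
  ⟨(K.subgroupOf M).map f, by
    rw [pb, comap_map_eq_self (h.ker ▸ subgroupOf_mono M h1), subgroupOf_map_subtype, inf_eq_left.2 h2]⟩

theorem two (hQ : IsPGroup 2 Q) (hB : IsPGroup 2 B) : IsPGroup 2 (pb f B) :=
  (hB.comap_of_ker_isPGroup f (h.ker ▸ isPGroup_subgroupOf hQ M)).map _

theorem two' (hB : IsPGroup 2 (pb f B)) : IsPGroup 2 B := by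
  have := (isPGroup_of_map_injective M.subtype_injective hB).map f
  rwa [map_comap_eq_self_of_surjective h.sur] at this

theorem syl (hQ : IsPGroup 2 Q) (hB : IsSyl 2 B ⊤) : IsSyl 2 (pb f B) M := by
  obtain ⟨T, hT, h1⟩ := exists_isSyl_le (h.two hQ hB.isPGroup) pb_le
  obtain ⟨C, rfl⟩ := h.exists_pb (h.le_pb.trans h1) hT.le
  rwa [hB.eq_of_le (h.two' hT.isPGroup) (h.pb_le_pb.1 h1) le_top] at hT

theorem s3t (hQ : IsPGroup 2 Q) {S H W : Subgroup X} (s : S3T S H W) :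
    S3T (pb f S) (pb f H) (pb f W) :=
  ⟨h.two hQ s.two, pb_mono s.le1, pb_mono s.le2, h.le_nor.2 s.nor,
    by rw [h.card, h.card, s.c1, mul_assoc], by rw [h.card, h.card, s.c2, mul_assoc],
    fun h1 => s.nn (h.le_nor.1 h1)⟩

theorem sq (h1 : ∀ d ∈ B, d * d ∈ (⊥ : Subgroup X)) : ∀ d ∈ pb f B, d * d ∈ Q := fun d hd => by
  lift d to M using pb_le hd
  rw [← coe_mul, h.memQ, map_mul]
  exact h1 _ (coe_mem.1 hd)

theorem tr (h1 : ∀ d ∈ B, d ∉ (⊥ : Subgroup X) → ∀ e ∈ B, e ∉ (⊥ : Subgroup X) →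
    ∃ g ∈ A, g * d * g⁻¹ * e⁻¹ ∈ (⊥ : Subgroup X)) :
    ∀ d ∈ pb f B, d ∉ Q → ∀ e ∈ pb f B, e ∉ Q → ∃ g ∈ pb f A, g * d * g⁻¹ * e⁻¹ ∈ Q := by
  intro d hd d1 e he e1
  lift d to M using pb_le hd
  lift e to M using pb_le he
  obtain ⟨x, hx, h2⟩ := h1 _ (coe_mem.1 hd) (fun h3 => d1 (h.memQ.2 h3)) _ (coe_mem.1 he)
    (fun h3 => e1 (h.memQ.2 h3))
  obtain ⟨g, rfl⟩ := h.sur x
  refine ⟨g, coe_mem.2 hx, (h.memQ (m := g * d * g⁻¹ * e⁻¹)).2 ?_⟩
  simpa using h2

theorem par (hQ : IsPGroup 2 Q) {T P₁ P₂ D₁ D₂ : Subgroup X} (p : Par ⊤ ⊥ T P₁ P₂ D₁ D₂) :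
    Par M Q (pb f T) (pb f P₁) (pb f P₂) (pb f D₁) (pb f D₂) where
  syl := h.syl hQ p.syl
  s1 := h.s3t hQ p.s1
  s2 := h.s3t hQ p.s2
  q1 := h.le_pb
  q2 := h.le_pb
  c1 := by rw [h.card, p.c1, card_bot]
  c2 := by rw [h.card, p.c2, card_bot]
  sup := by rw [← h.pb_sup, p.sup, pb_top]
  ne := fun e => p.ne (h.pb_inj e)
  sq1 := h.sq p.sq1
  sq2 := h.sq p.sq2
  inv := fun t ht h2 => by
    lift t to M using pb_le ht
    rw [← coe_mul, h.memQ, map_mul] at h2
    rw [coe_mem, coe_mem]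
    exact p.inv _ (coe_mem.1 ht) h2
  tr1 := h.tr p.tr1
  tr2 := h.tr p.tr2
  nd1 := h.nor_le p.nd1
  nd2 := h.nor_le p.nd2
  self := h.nor_le p.self

end Cv

theorem exists_cv (hM : Mx M Q) (e : Ext X M Q) : ∃ f : M →* X, Cv f Q :=
  let ⟨f, h1, h2⟩ := e
  ⟨f, h1, h2, hM.le⟩

/-- Any Sylow `2`-subgroup of `M` is the preimage of the given one, for a suitable `f`. -/
theorem exists_syl [Finite G] (hM : Mx M Q) (e : Ext X M Q) {T : Subgroup G} (hT : IsSyl 2 T M)
    (hB : IsSyl 2 B ⊤) : ∃ f : M →* X, Cv f Q ∧ T = pb f B := by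
  have : Fact (Nat.Prime 2) := ⟨Nat.prime_two⟩
  obtain ⟨f, h⟩ := exists_cv hM e
  obtain ⟨g, hg, e1⟩ := (h.syl hM.two hB).exists_cj_eq hT
  lift g to M using hg
  refine ⟨(MulAut.conj (f g)⁻¹).toMonoidHom.comp f, ⟨(MulAut.conj (f g)⁻¹).surjective.comp h.sur, ?_,
    h.le⟩, ?_⟩
  · rw [← h.ker]
    exact MonoidHom.ker_comp_of_injective _ _ (MulAut.conj (f g)⁻¹).injective
  · ext a
    rw [← e1, mem_cj]
    by_cases ha : a ∈ M
    · lift a to M using ha
      rw [coe_mem, ← coe_inv, ← coe_mul, ← coe_mul, coe_mem]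
      simp
    · refine iff_of_false (fun h1 => ha ?_) fun h1 => ha (pb_le h1)
      have := mul_mem (mul_mem g.2 (pb_le h1)) (inv_mem g.2)
      rwa [show (g : G) * ((g : G)⁻¹ * a * g) * (g : G)⁻¹ = a by group] at this

theorem allPar [Finite G] (hM : Mx M Q) (e : Ext X M Q) {T P₁ P₂ D₁ D₂ : Subgroup X}
    (p : Par ⊤ ⊥ T P₁ P₂ D₁ D₂) : AllPar M Q := fun _ hT => by
  obtain ⟨f, h, rfl⟩ := exists_syl hM e hT p.syl
  exact ⟨_, _, _, _, h.par hM.two p⟩

/-- The facts on `X` behind `Typ`. -/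
structure TX (X : Type) [Group X] (k : ℕ) : Prop where
  simple : IsSimpleGroup X
  one : ∀ a b : X, a * a = 1 → a ≠ 1 → b * b = 1 → b ≠ 1 → IsConj a b
  lst : ∃ l : List X, l.length = k ∧ (∀ a ∈ l, a * a = 1 ∧ a ≠ 1) ∧
    (orderOf l.prod = 5 ∨ orderOf l.prod = 7)
  el : ∀ B : Subgroup X, (∀ b ∈ B, b * b = 1) → Nat.card B ≤ 4

variable [Finite G]

theorem Cv.lift (h : Cv f Q) (hs : Sp 8 G) {x : X} {n : ℕ} (hn : 5 ≤ n) (hx : orderOf x = n) :
    ∃ σ : M, f σ = x ∧ orderOf (σ : G) = n := by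
  obtain ⟨σ, rfl⟩ := h.sur x
  exact ⟨σ, rfl, by rw [orderOf_coe]; exact ord_eq (hs.sub M) f hn hx⟩

theorem Cv.typ (h : Cv f Q) (hs : Sp 8 G) {k : ℕ} (x : TX X k)
    (rk : ∀ J : Subgroup G, IsPGroup 2 J → M ≤ normalizer (J : Set G) → Rk1 J) : Typ M Q k where
  rk := rk
  gen := by
    intro U hU hn t ht t1 t2
    lift t to M using ht
    rw [← coe_mul, h.memQ, map_mul] at t2
    rw [h.memQ] at t1
    have key : ∀ l : List X, (∀ a ∈ l, a * a = 1 ∧ a ≠ 1) → ∃ σ : M, f σ = l.prod ∧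
        (centralizer ({(σ : G)} : Set G)).relIndex U ≤
          (centralizer ({(t : G)} : Set G)).relIndex U ^ l.length := by
      intro l
      induction l with
      | nil => exact fun _ => ⟨1, map_one f, by
          rw [relIndex_eq_one.2 fun g _ => mem_centralizer_singleton_iff.2 (by simp)]; simp⟩
      | cons a l ih =>
        intro hl
        obtain ⟨σ, e1, e2⟩ := ih fun b hb => hl b (List.mem_cons_of_mem _ hb)
        obtain ⟨c, hc⟩ := _root_.isConj_iff.1 (x.one _ a t2 t1 (hl a (by simp)).1 (hl a (by simp)).2)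
        obtain ⟨g, rfl⟩ := h.sur c
        refine ⟨g * t * g⁻¹ * σ, by simp [← hc, e1], ?_⟩
        have e3 : (cj (g : G) (centralizer ({(t : G)} : Set G))).relIndex U =
            (centralizer ({(t : G)} : Set G)).relIndex U := by
          conv_lhs => rw [← cj_eq_self (hn g.2)]
          exact relIndex_map_map_of_injective _ _ (MulAut.conj (g : G)).injective
        refine (relIndex_le_of_le_left (H := cj (g : G) (centralizer ({(t : G)} : Set G)) ⊓
          centralizer ({(σ : G)} : Set G)) ?_ FiniteIndex.index_ne_zero).trans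
            (relIndex_inf_le.trans ?_)
        · rintro v ⟨v1, v2⟩
          have v3 := mem_centralizer_singleton_iff.1 (mem_cj.1 v1)
          have v4 := mem_centralizer_singleton_iff.1 v2
          refine mem_centralizer_singleton_iff.2 ?_
          push_cast
          calc v * ((g : G) * t * (g : G)⁻¹ * σ) = g * ((g : G)⁻¹ * v * g * t) * (g : G)⁻¹ * σ := by group
            _ = g * t * (g : G)⁻¹ * (v * σ) := by rw [v3]; group
            _ = _ := by rw [v4]; group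
        · rw [e3, List.length_cons, pow_succ']
          exact Nat.mul_le_mul_left _ e2
    obtain ⟨l, rfl, h1, h2⟩ := x.lst
    obtain ⟨σ, e1, e2⟩ := key l h1
    have h3 : orderOf (σ : G) = 5 ∨ orderOf (σ : G) = 7 := by
      rw [orderOf_coe]
      exact h2.imp (fun e => ord_eq (hs.sub M) f (by omega) (e1 ▸ e))
        (fun e => ord_eq (hs.sub M) f (by omega) (e1 ▸ e))
    rwa [← inf_relIndex_left, fpf hs h3 hU, relIndex_bot_left] at e2
  el := by
    intro B hB h1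
    have e1 : Nat.card B = (Q.relIndex B) * Nat.card (B ⊓ Q : Subgroup G) := by
      rw [← inf_relIndex_left, mul_comm, ← relIndex_bot_left, ← relIndex_bot_left,
        relIndex_mul_relIndex _ _ _ bot_le inf_le_left]
    have e2 : Q.relIndex B = Nat.card ((B.subgroupOf M).map f) := by
      rw [← relIndex_ker, h.ker, relIndex_subgroupOf hB]
    rw [e1, e2]
    refine Nat.mul_le_mul_right _ (x.el _ ?_)
    rintro _ ⟨b, hb, rfl⟩
    rw [← map_mul, ← h.memQ]
    exact h1 _ hb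
  simp := by
    intro N hN hn
    have := x.simple
    have : (N.subgroupOf M).Normal := normal_subgroupOf_of_le_normalizer hn
    rcases (this.map f h.sur).eq_bot_or_eq_top with e | e
    · refine .inl fun g hg => ?_
      lift g to M using hN hg
      exact h.memQ.2 (mem_bot.1 (e ▸ mem_map_of_mem f (K := N.subgroupOf M) hg))
    · refine .inr (le_antisymm (sup_le hN h.le) fun g hg => ?_)
      lift g to M using hg
      obtain ⟨n, hn, e1⟩ : f g ∈ (N.subgroupOf M).map f := e ▸ mem_top _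
      have : ((n⁻¹ * g : M) : G) ∈ Q := h.memQ.2 (by rw [map_mul, map_inv, e1, inv_mul_cancel])
      have h2 := mul_mem (mem_sup_left (T := Q) hn) (mem_sup_right this)
      simpa using h2
  sig := by
    obtain ⟨l, -, -, h2 | h2⟩ := x.lst
    · obtain ⟨σ, -, e⟩ := h.lift hs (by omega) h2
      exact ⟨σ, σ.2, .inl e⟩
    · obtain ⟨σ, -, e⟩ := h.lift hs (by omega) h2
      exact ⟨σ, σ.2, .inr e⟩

/-- `|Ω₁ Z(Q)| = 2 ^ n ≡ 1` modulo the order of `σ`. -/
theorem card_oz (hs : Sp 8 G) (hM : Mx M Q) {σ : G} (hσ : σ ∈ M) {p : ℕ} (hp : p = 5 ∨ p = 7)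
    (ho : orderOf σ = p) : ∃ n, n ≠ 0 ∧ Nat.card (oz 2 Q) = 2 ^ n ∧ 2 ^ n ≡ 1 [MOD p] := by
  have : Fact (Nat.Prime 2) := ⟨Nat.prime_two⟩
  have h2 : IsPGroup 2 (oz 2 Q) := hM.two.to_le (oz_le Q)
  obtain ⟨n, hn⟩ := h2.exists_card_eq
  have h3 := card_modEq (U := oz 2 Q) (by rcases hp with rfl | rfl <;> decide) ho
    (hM.nor_oz ▸ hσ)
  rw [fpf hs (ho ▸ hp) h2, card_bot, hn] at h3
  refine ⟨n, fun e => ?_, hn, h3⟩
  rw [e, pow_zero, card_eq_one] at hn
  exact oz_ne_bot hM.two hM.ne hn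

end Pb

end H92.O8
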