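import Cfsg.Agent.H92.O8M

/-! Tower O8: jobs T5, T6, T7. -/

set_option autoImplicit false
set_option linter.unusedSectionVars false

namespace H92.O8

open Cfsg Subgroup H98 H74.OC H74.O8 Equiv

universe u

variable {G : Type u} [Group G] [Finite G] {M Q : Subgroup G}

theorem Cv.card_top {X : Type} [Group X] {f : M →* X} (h : Cv f Q) :
    Nat.card M = Nat.card X * Nat.card Q := by
  have := h.card (B := ⊤)
  rwa [pb_top, Subgroup.card_top] at this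

theorem typ5 (rk : JobRK5.{u}) (hs : Sp 8 G) (hM : Mx M Q) {X : Type} [Group X] (e : Ext X M Q)
    (x : TX X 2) (h5 : ∃ a : X, orderOf a = 5) : Typ M Q 2 ∧ 4 ^ 2 ≤ Nat.card (oz 2 Q) := by
  obtain ⟨f, h⟩ := exists_cv hM e
  obtain ⟨a, ha⟩ := h5
  obtain ⟨σ, -, ho⟩ := h.lift hs le_rfl ha
  refine ⟨h.typ hs x fun J hJ hn => rk G J σ hs hJ (hn σ.2) ho, ?_⟩
  obtain ⟨n, n0, e1, e2⟩ := card_oz hs hM σ.2 (.inl rfl) ho
  rw [e1]
  by_contra h1
  have : n < 4 := by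
    by_contra h2
    exact h1 (Nat.pow_le_pow_right (n := 2) (by omega) (not_lt.1 h2))
  interval_cases n <;> first | omega | exact absurd e2 (by decide)

theorem jobT6 : JobT6.{u} := by
  intro rk G _ _ M Q hs hM e
  have : Fact (Nat.Prime 5) := ⟨by decide⟩
  obtain ⟨x, _, _, _, _, _, p⟩ := all6
  obtain ⟨h1, h2⟩ := typ5 rk hs hM e x (exists_prime_orderOf_dvd_card' 5 (by rw [card6]; decide))
  exact ⟨h1, h2, allPar hM e p⟩

theorem jobT5 : JobT5.{u} := by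
  intro rk G _ _ M Q hs hM e
  have : Fact (Nat.Prime 5) := ⟨by decide⟩
  obtain ⟨h1, h2⟩ := typ5 rk hs hM e tx5 (exists_prime_orderOf_dvd_card' 5 (by rw [card5]; decide))
  refine ⟨h1, h2, fun S hS => ?_⟩
  obtain ⟨f, h, rfl⟩ := exists_syl hM e hS syl5
  obtain ⟨g, hg⟩ := h.sur y5
  obtain ⟨o3, e1⟩ := lift3 (hs.sub M) f (hg ▸ sd5.ord)
  rw [hg] at e1
  refine ⟨(g ^ 4 : M), hS, (g ^ 4).2, by rwa [orderOf_coe], h.mem_nor.2 (by rw [e1]; exact sd5.mem_nor sd5.nx),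
    by rw [h.card, sd5.card], by rw [← card5, ← h.card_top], fun s hs h3 => ?_,
    h.sq sd5.sq, fun K k1 k2 => ?_, ?_⟩
  · lift s to M using pb_le hs
    have h4 : ∀ a ∈ l5, y5 * a * y5⁻¹ * a⁻¹ = 1 → a = 1 := by decide +kernel
    have h5 := (h.memQ (m := g ^ 4 * s * (g ^ 4)⁻¹ * s⁻¹)).1 h3
    rw [map_mul, map_mul, map_mul, map_inv, map_inv, e1] at h5
    exact h.memQ.2 (h4 _ (coe_mem.1 hs) h5)
  · obtain ⟨B, rfl⟩ := h.exists_pb (h.le_pb.trans k1) k2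
    exact (ovr5 B (h.pb_le_pb.1 k1)).imp h.le_nor.2 fun e => by rw [e, pb_top]
  · obtain ⟨a, ha⟩ := exists_prime_orderOf_dvd_card' (G := A5) 5 (by rw [card5]; decide)
    obtain ⟨σ, -, ho⟩ := h.lift hs le_rfl ha
    exact ⟨σ, σ.2, ho⟩

theorem f21 (hs : Sp 8 G) (hM : Mx M Q) {f : M →* L32} (h : Cv f Q) : F21 M := by
  have : Fact (Nat.Prime 7) := ⟨by decide⟩
  have : Fact (Nat.Prime 3) := ⟨by decide⟩
  obtain ⟨σ, e1, ho⟩ := h.lift hs (x := ma !![0, 0, 1; 0, 1, 1; 1, 1, 0]) (n := 7) (by omega)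
    (orderOf_eq_prime (by decide +kernel) (by decide +kernel))
  obtain ⟨x, e2⟩ := h.sur (ma !![0, 0, 1; 1, 1, 1; 1, 0, 1])
  have h1 : ((x * σ * x⁻¹ * (σ * σ)⁻¹ : M) : G) ∈ Q := h.memQ.2 (by
    rw [map_mul, map_mul, map_mul, map_inv, map_inv, map_mul, e1, e2, mul_inv_eq_one,
      mul_inv_eq_iff_eq_mul]
    decide +kernel)
  set s : G := σ * σ with hs2
  have o2 : orderOf s = 7 := by
    rw [hs2, ← pow_two, (Nat.Coprime.orderOf_pow (by rw [ho]; decide)), ho]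
  have sn : s ∈ normalizer (Q : Set G) := hM.nor (mul_mem σ.2 σ.2)
  have inj : Function.Injective fun q : Q => (⟨q * (s * (q : G)⁻¹ * s⁻¹),
      mul_mem q.2 (conj_mem_of_mem_normalizer sn (inv_mem q.2))⟩ : Q) := fun a b e => by
    have e3 : (a : G) * (s * (a : G)⁻¹ * s⁻¹) = b * (s * (b : G)⁻¹ * s⁻¹) := congrArg Subtype.val e
    have : (b : G)⁻¹ * a ∈ Q ⊓ centralizer ({s} : Set G) := ⟨Q.mul_mem (Q.inv_mem b.2) a.2,
      mem_centralizer_singleton_iff.2 (by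
        calc (b : G)⁻¹ * a * s = (b : G)⁻¹ * (a * (s * (a : G)⁻¹ * s⁻¹)) * s * a := by group
          _ = _ := by rw [e3]; group)⟩
    rw [fpf hs (.inr o2) hM.two, mem_bot, inv_mul_eq_one] at this
    exact Subtype.ext this.symm
  obtain ⟨q, hq⟩ := Finite.surjective_of_injective inj ⟨_, h1⟩
  have e3 : (q : G) * (s * (q : G)⁻¹ * s⁻¹) = x * σ * (x : G)⁻¹ * s⁻¹ := congrArg Subtype.val hq
  have e4 : (q : G)⁻¹ * x * σ * ((q : G)⁻¹ * x)⁻¹ = (σ : G) ^ 2 := by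
    calc (q : G)⁻¹ * x * σ * ((q : G)⁻¹ * x)⁻¹ = (q : G)⁻¹ * (x * σ * (x : G)⁻¹ * s⁻¹) * s * q := by group
      _ = s := by rw [← e3]; group
      _ = _ := (pow_two _).symm
  have ym : (q : G)⁻¹ * x ∈ M := mul_mem (inv_mem (hM.le q.2)) x.2
  generalize (q : G)⁻¹ * x = y at e4 ym
  have s7 : (σ : G) ^ 7 = 1 := ho ▸ pow_orderOf_eq_one _
  have e5 : ∀ n : ℕ, y ^ n * σ * (y ^ n)⁻¹ = (σ : G) ^ 2 ^ n := fun n => by
    induction n with
    | zero => simp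
    | succ n ih =>
      rw [pow_succ' y, show y * y ^ n * σ * (y * y ^ n)⁻¹ = y * (y ^ n * σ * (y ^ n)⁻¹) * y⁻¹ by group,
        ih, ← conj_pow, e4, ← pow_mul, ← pow_succ']
  have e6 : y ^ 3 * σ = σ * y ^ 3 := by
    have := e5 3
    rwa [show 2 ^ 3 = 7 + 1 from rfl, pow_succ (σ : G), s7, one_mul, mul_inv_eq_iff_eq_mul] at this
  have y1 : y ≠ 1 := fun e => by
    rw [e, one_mul, inv_one, mul_one, pow_two, left_eq_mul] at e4
    rw [e4, orderOf_one] at ho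
    omega
  refine ⟨σ, σ.2, y, ym, ho, orderOf_eq_prime ?_ y1, e4⟩
  have e7 := e5 (orderOf y)
  rw [pow_orderOf_eq_one, one_mul, inv_one, mul_one] at e7
  have e8 : 1 ≡ 2 ^ orderOf y [MOD 7] := by
    rw [← ho, ← pow_eq_pow_iff_modEq, pow_one]; exact e7
  have e9 := hs y
  have e10 := orderOf_pos y
  have e11 : orderOf y = 3 ∨ orderOf y = 6 := by
    generalize orderOf y = n at *
    interval_cases n <;> first | omega | exact absurd e8 (by decide)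
  rcases e11 with e | e
  · exact e ▸ pow_orderOf_eq_one y
  · have e12 : orderOf (y ^ 3) = 2 := by rw [orderOf_pow, e]; rfl
    have := hs.mul_le e6 (by rw [e12, ho]; decide)
    rw [e12, ho] at this
    omega

theorem jobT7 : JobT7.{u} := by
  intro rk G _ _ M Q hs hM e
  obtain ⟨x, _, _, _, _, _, p⟩ := all7
  obtain ⟨f, h⟩ := exists_cv hM e
  obtain ⟨σ, h1, y, h2, h3⟩ := f21 hs hM h
  refine ⟨h.typ hs x fun J hJ hn => rk G J hs hJ ⟨σ, hn h1, y, hn h2, h3⟩, ?_, allPar hM e p,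
    ⟨σ, h1, y, h2, h3⟩, by rw [← card7, ← h.card_top]⟩
  obtain ⟨n, n0, e1, e2⟩ := card_oz hs hM h1 (.inr rfl) h3.1
  rw [e1]
  by_cases h4 : 6 ≤ n
  · exact .inr (Nat.pow_le_pow_right (n := 2) (by omega) h4)
  · have : n < 6 := by omega
    interval_cases n <;> first | omega | exact absurd e2 (by decide)

end H92.O8
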