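import Cfsg.Agent.H34.P4Sg1
import Cfsg.Agent.H59.P4A
import Cfsg.Agent.H31.ConjCount
import Cfsg.Agent.H57.SLCard
import Cfsg.Agent.H98.Sylow

/-! Job Loc of the blueprint `LOCAL3C.md`: local facts of `q^{1+2} : SL₂(q)`. -/

set_option autoImplicit false
set_option linter.unusedSectionVars false
open Cfsg H56.L3 H47.P4C Subgroup H34.P4 H59.P4 H98
open scoped commutatorElement

namespace H92.P4L

universe u v

variable {G : Type u} [Group G] {F : Type v} [Field F] {h : F → F → F → G} {ι : SL2 F →* G}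

theorem card_of {X : Type*} {H : Subgroup G} (f : X → G) (hi : Function.Injective f)
    (e : ∀ g, g ∈ H ↔ ∃ x, g = f x) : Nat.card H = Nat.card X :=
  (Nat.card_congr (Equiv.ofBijective (fun x => (⟨f x, (e _).2 ⟨x, rfl⟩⟩ : H))
    ⟨fun _ _ e => hi (congrArg Subtype.val e), fun ⟨_, hg⟩ =>
      let ⟨x, hx⟩ := (e _).1 hg
      ⟨x, Subtype.ext hx.symm⟩⟩)).symm

theorem eq_u {A : SL2 F} (h1 : A 0 0 = 1) (h2 : A 1 0 = 0) : A = uM (A 0 1) := by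
  have := det2 A
  rw [h1, h2] at this
  exact ext2 h1 rfl h2 (by rw [(u_ap _).2.2.2]; linear_combination this)

theorem eq_ud {A : SL2 F} (h2 : A 1 0 = 0) : ∃ s l, A = uM s * dM l := by
  have e := det2 A
  rw [h2, mul_zero, sub_zero] at e
  refine ⟨A 0 1 * A 0 0, ⟨A 0 0, A 1 1, e, (mul_comm _ _).trans e⟩, ext2 ?_ ?_ ?_ ?_⟩ <;>
    rw [mul_ap] <;> simp [uM, dM, h2]
  linear_combination (-A 0 1) * e

theorem add_halves' (h2 : (2 : F) ≠ 0) (a : F) : a / 2 + a / 2 = a := by field_simp; ring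

variable (κ : Cen h ι)
include κ

theorem one' (a b c : F) : h a b c = h a b c * ι 1 := by rw [map_one, mul_one]

theorem one'' (A : SL2 F) : ι A = h 0 0 0 * ι A := by rw [κ.one, one_mul]

theorem C_eq {c : F} (hc : c ≠ 0) : κ.C = Ce (h 0 0 c) := Subgroup.ext fun g => (κ.cen c hc g).symm

theorem hC (a b c : F) : h a b c ∈ κ.C := ⟨a, b, c, 1, one' κ ..⟩

theorem iC (A : SL2 F) : ι A ∈ κ.C := ⟨0, 0, 0, A, one'' κ A⟩

theorem P_le_C : κ.P ≤ κ.C := fun _ ⟨a, b, c, _, e⟩ => ⟨a, b, c, _, e⟩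

theorem Q_le_P : κ.Q ≤ κ.P := fun _ ⟨a, b, c, e⟩ => e ▸ hP κ a b c

theorem D_le_M : κ.D ≤ κ.M := fun _ ⟨c, s, e⟩ => ⟨0, c, s, e⟩

theorem Z_le_D : κ.Z ≤ κ.D := fun _ ⟨c, e⟩ => ⟨c, 0, by rw [e, uM_zero, map_one, mul_one]⟩

theorem iD (s : F) : ι (uM s) ∈ κ.D := ⟨0, s, one'' κ _⟩

theorem zcomm {g : G} (hg : g ∈ κ.C) (c : F) : g * h 0 0 c = h 0 0 c * g := by
  obtain ⟨a, b, e, A, rfl⟩ := hg
  rw [mul_assoc, κ.comm, ← mul_assoc, ← mul_assoc, κ.mul, κ.mul]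
  simp [add_comm]

/-- the projection `C → SL₂(F)` -/
noncomputable def pj : κ.C →* SL2 F :=
  MonoidHom.mk' (fun g => g.2.choose_spec.choose_spec.choose_spec.choose) fun g g' => by
    have e := g.2.choose_spec.choose_spec.choose_spec.choose_spec
    have e' := g'.2.choose_spec.choose_spec.choose_spec.choose_spec
    have e'' := (g * g').2.choose_spec.choose_spec.choose_spec.choose_spec
    exact (ext κ (e''.symm.trans ((congrArg₂ (· * ·) e e').trans (κ.mul' ..)))).2.2.2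

theorem pj_spec (g : κ.C) : ∃ a b c, (g : G) = h a b c * ι (pj κ g) :=
  ⟨_, _, _, g.2.choose_spec.choose_spec.choose_spec.choose_spec⟩

theorem pj_eq {g : κ.C} {a b c : F} {A : SL2 F} (e : (g : G) = h a b c * ι A) : pj κ g = A :=
  let ⟨_, _, _, e'⟩ := pj_spec κ g
  (ext κ (e'.symm.trans e)).2.2.2

theorem memQ {g : κ.C} (e : pj κ g = 1) : (g : G) ∈ κ.Q :=
  let ⟨a, b, c, e'⟩ := pj_spec κ g
  ⟨a, b, c, by rw [e', e, map_one, mul_one]⟩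

theorem conj (a b c x y z : F) (A : SL2 F) : h a b c * ι A * h x y z * (h a b c * ι A)⁻¹ =
    h (A 0 0 * x + A 0 1 * y) (A 1 0 * x + A 1 1 * y)
      (z + 2 * (a * (A 1 0 * x + A 1 1 * y) - (A 0 0 * x + A 0 1 * y) * b)) := by
  rw [show h a b c * ι A * h x y z * (h a b c * ι A)⁻¹ =
    h a b c * (ι A * h x y z * (ι A)⁻¹) * (h a b c)⁻¹ by group, κ.act, κ.inv, κ.mul, κ.mul]
  congr 1 <;> ring

theorem tconj' (a b c : F) (A : SL2 F) :
    ι (-1) * (h a b c * ι A) * (ι (-1))⁻¹ = h (-a) (-b) c * ι A := by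
  rw [← tconj κ, show ι (-1) * h a b c * (ι (-1))⁻¹ * ι A =
    ι (-1) * h a b c * ((ι (-1))⁻¹ * ι A * ι (-1)) * (ι (-1))⁻¹ by group, ← map_inv, ← map_mul,
    ← map_mul, mul_neg, mul_one, ← neg_mul, inv_neg, neg_neg, inv_one, one_mul, mul_assoc _ (h ..)]

theorem mulM (a c s a' c' s' : F) : h a 0 c * ι (uM s) * (h a' 0 c' * ι (uM s')) =
    h (a + a') 0 (c + c') * ι (uM (s + s')) := by
  rw [κ.mul', uM_mul]; simp [uM]

theorem commM : ∀ a ∈ κ.M, ∀ b ∈ κ.M, a * b = b * a := by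
  rintro _ ⟨a, c, s, rfl⟩ _ ⟨a', c', s', rfl⟩
  rw [mulM κ, mulM κ, add_comm a, add_comm c, add_comm s]

theorem ti_C {g : G} {x y : F} (hx : x ≠ 0) (e : g * h 0 0 x * g⁻¹ = h 0 0 y) : g ∈ Nr κ.C := by
  have hy : y ≠ 0 := by
    rintro rfl
    rw [κ.one, conj_eq_one_iff, ← κ.one] at e
    exact hx (ext0 κ e).2.2
  intro k
  rw [SetLike.mem_coe, SetLike.mem_coe, C_eq κ hx, mem_centralizer_singleton_iff, ← C_eq κ hx,
    C_eq κ hy, mem_centralizer_singleton_iff, ← e, conj_mul, conj_mul]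
  exact (MulAut.conj g).injective.eq_iff.symm

theorem nC : Nr κ.Z ≤ Nr κ.C := fun _ hg =>
  let ⟨_, e⟩ := (hg _).1 (⟨1, rfl⟩ : h 0 0 1 ∈ κ.Z)
  ti_C κ one_ne_zero e

variable (h2 : (2 : F) ≠ 0)
include h2

theorem cenB {g : G} (hg : g ∈ κ.C) (e : g * h 1 0 0 = h 1 0 0 * g) : g ∈ κ.M := by
  obtain ⟨a, b, c, A, rfl⟩ := hg
  rw [← mul_inv_eq_iff_eq_mul, conj κ] at e
  obtain ⟨e1, e2, e3⟩ := ext0 κ e
  simp only [mul_one, mul_zero, add_zero] at e1 e2 e3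
  rw [e1, e2] at e3
  obtain rfl : b = 0 := mul_left_cancel₀ h2 (by linear_combination -e3)
  exact ⟨a, c, _, by rw [← eq_u e1 e2]⟩

theorem cMu : ∀ u ∈ κ.P, u ∉ κ.M → ∀ m ∈ κ.M, u * m = m * u → m ∈ κ.Z := by
  rintro _ ⟨a, b, c, s, rfl⟩ hu _ ⟨a', c', s', rfl⟩ e
  have hb : b ≠ 0 := fun e => hu ⟨a, c, s, by rw [e]⟩
  rw [κ.mul', κ.mul'] at e
  obtain ⟨e1, -, e3, -⟩ := ext κ e
  simp only [u_ap, mul_zero, add_zero, one_mul, zero_mul, zero_add] at e1 e3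
  obtain rfl : s' = 0 := mul_right_cancel₀ hb (by linear_combination -e1)
  obtain rfl : a' = 0 := mul_right_cancel₀ (mul_ne_zero h2 hb) (by linear_combination -e3)
  exact ⟨c', by rw [uM_zero, map_one, mul_one]⟩

theorem y_not : h 0 1 0 ∉ κ.M := fun ⟨_, _, _, e⟩ => one_ne_zero (ext κ ((one' κ ..).symm.trans e)).2.1

theorem cenP {g : G} (hg : g ∈ κ.C) (e : ∀ u ∈ κ.Q, g * u = u * g) : g ∈ κ.Z :=
  cMu κ h2 _ (hP κ 0 1 0) (y_not κ h2) g (cenB κ h2 hg (e _ ⟨_, _, _, rfl⟩)) (e _ ⟨_, _, _, rfl⟩).symm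

theorem ct : ∀ g ∈ κ.C ⊓ Ce (ι (-1)), ∃ c A, g = h 0 0 c * ι A := by
  rintro _ ⟨⟨a, b, c, A, rfl⟩, e⟩
  have e := mul_inv_eq_iff_eq_mul.2 (mem_centralizer_singleton_iff.1 e).symm
  rw [tconj' κ] at e
  obtain ⟨e1, e2, -⟩ := ext κ e
  obtain rfl : a = 0 := mul_left_cancel₀ h2 (by linear_combination -e1)
  obtain rfl : b = 0 := mul_left_cancel₀ h2 (by linear_combination -e2)
  exact ⟨c, A, rfl⟩

theorem Pt : κ.P ⊓ Ce (ι (-1)) = κ.D := by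
  refine le_antisymm (fun g hg => ?_) (le_inf ((D_le_M κ).trans (M_le_P κ)) ?_)
  · obtain ⟨c, A, e⟩ := ct κ h2 g ⟨P_le_C κ hg.1, hg.2⟩
    obtain ⟨a, b, c', s, e'⟩ := hg.1
    exact ⟨c, s, by rw [e, (ext κ (e.symm.trans e')).2.2.2]⟩
  · rintro _ ⟨c, s, rfl⟩
    rw [mem_centralizer_singleton_iff, eq_comm, ← mul_inv_eq_iff_eq_mul, tconj' κ, neg_zero]

theorem Mt : κ.M ⊓ Ce (ι (-1)) = κ.D :=
  le_antisymm ((inf_le_inf_right _ (M_le_P κ)).trans (Pt κ h2).le)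
    (le_inf (D_le_M κ) ((Pt κ h2).ge.trans inf_le_right))

theorem Bt : ∀ m ∈ κ.M, ι (-1) * m * (ι (-1))⁻¹ = m⁻¹ ↔ m ∈ κ.B := by
  rintro _ ⟨a, c, s, rfl⟩
  rw [tconj' κ, neg_zero, eq_inv_iff_mul_eq_one, mulM κ]
  constructor
  · intro e
    obtain ⟨-, -, e3, e4⟩ := κ.inj _ _ _ _ e
    obtain rfl : c = 0 := mul_left_cancel₀ h2 (by linear_combination e3)
    obtain rfl : s = 0 := mul_left_cancel₀ h2 (by linear_combination uM_inj (e4.trans uM_zero.symm))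
    exact ⟨a, by rw [uM_zero, map_one, mul_one]⟩
  · rintro ⟨x, e⟩
    obtain ⟨-, -, rfl, e4⟩ := ext κ (e.trans (one' κ ..))
    rw [uM_inj (e4.trans uM_zero.symm)]
    simp [κ.one, uM_zero]

theorem cenD : ∀ g ∈ Cn κ.D, g ∈ κ.M ∨ g * ι (-1) ∈ κ.M := fun g hg => by
  obtain ⟨a, b, c, A, rfl⟩ := (κ.cen 1 one_ne_zero g).1
    (mem_centralizer_singleton_iff.2 (hg _ (Z_le_D κ ⟨1, rfl⟩)).symm)
  have e := hg _ (iD κ 1)
  rw [← mul_assoc, κ.comm, mul_assoc, mul_assoc, ← map_mul, ← map_mul] at e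
  obtain ⟨e1, -, -, e4⟩ := ext κ e
  simp only [u_ap, one_mul] at e1
  obtain rfl : b = 0 := by linear_combination e1
  obtain ⟨r, rfl | rfl⟩ := cen_u one_ne_zero e4.symm
  · exact Or.inl ⟨a, c, r, rfl⟩
  · exact Or.inr ⟨a, c, r, by rw [mul_assoc, ← map_mul, neg_mul_neg, mul_one]⟩

theorem invo : ∀ g ∈ κ.C, g * g = 1 → g ≠ 1 → ∃ u ∈ κ.Q, g = u * ι (-1) * u⁻¹ := by
  rintro _ ⟨a, b, c, A, rfl⟩ e n
  rw [κ.mul'] at e
  obtain ⟨e1, e2, e3, e4⟩ := κ.inj _ _ _ _ e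
  obtain rfl | rfl := pm_of_sq h2 e4
  · simp only [one_ap, one_mul, zero_mul, add_zero, zero_add] at e1 e2 e3
    obtain rfl : a = 0 := mul_left_cancel₀ h2 (by linear_combination e1)
    obtain rfl : b = 0 := mul_left_cancel₀ h2 (by linear_combination e2)
    obtain rfl : c = 0 := mul_left_cancel₀ h2 (by linear_combination e3)
    exact absurd (by rw [κ.one, map_one, mul_one]) n
  · simp only [neg_ap, one_ap] at e3
    obtain rfl : c = 0 := mul_left_cancel₀ h2 (by linear_combination e3)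
    refine ⟨h (a / 2) (b / 2) 0, ⟨_, _, _, rfl⟩, ?_⟩
    rw [κ.inv, mul_assoc, mul_inv_eq_iff_eq_mul.1 (tconj κ ..), ← mul_assoc, κ.mul]
    congr 2 <;> field_simp <;> ring

theorem comm_t (a b : F) : h a b 0 = ⁅h (a / 2) (b / 2) 0, ι (-1)⁆ := by
  rw [commutatorElement_def, κ.inv, mul_assoc, mul_assoc, ← mul_assoc (ι _), tconj κ, κ.mul]
  congr 1 <;> field_simp <;> ring

variable [Finite G]

theorem C_le_Z : Nr κ.C ≤ Nr κ.Z := fun g hg => mem_normalizer_fintype (by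
  rintro _ ⟨c, rfl⟩
  refine cenP κ h2 ((hg _).1 (hC κ ..)) fun u hu => ?_
  have := zcomm κ ((inv_mem hg _).1 (P_le_C κ (Q_le_P κ hu))) c
  calc _ = g * (h 0 0 c * (g⁻¹ * u * g⁻¹⁻¹)) * g⁻¹ := by group
    _ = _ := by rw [← this]; group)

theorem ti (g : G) (x y : F) (hx : x ≠ 0) (e : g * h 0 0 x * g⁻¹ = h 0 0 y) : g ∈ Nr κ.Z :=
  C_le_Z κ h2 (ti_C κ hx e)

theorem nQ : Nr κ.Z ≤ Nr κ.Q := fun g hg => mem_normalizer_fintype (by
  rintro _ ⟨a, b, c, rfl⟩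
  have n := nC κ hg
  have e : h a b c = h a b 0 * h 0 0 c := by rw [κ.mul]; simp
  rw [e, ← conj_mul, comm_t κ h2, conjugate_commutatorElement]
  obtain ⟨z, hz⟩ := (hg _).1 (⟨c, rfl⟩ : h 0 0 c ∈ κ.Z)
  refine mul_mem (memQ κ (g := ⁅(⟨_, (n _).1 (hC κ ..)⟩ : κ.C), (⟨_, (n _).1 (iC κ _)⟩ : κ.C)⁆) ?_) ⟨_, _, _, hz⟩
  rw [map_commutatorElement, commutatorElement_eq_one_iff_mul_comm]
  refine ((pm_of_sq h2 ?_).comm _).symm
  exact (map_mul ..).symm.trans ((congrArg _ (Subtype.ext (by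
    rw [coe_mul, conj_mul, tt]; simp))).trans (map_one _)))

theorem nD : Nr κ.D ≤ Nr κ.M := fun g hg => mem_normalizer_fintype (by
  rintro _ ⟨a, c, s, rfl⟩
  have e : h a 0 c * ι (uM s) = h (a / 2) 0 (c / 2) * ι (uM (s / 2)) *
      (h (a / 2) 0 (c / 2) * ι (uM (s / 2))) := by
    rw [mulM κ, add_halves' h2, add_halves' h2, add_halves' h2]
  rw [e, ← conj_mul]
  generalize hm : h (a / 2) 0 (c / 2) * ι (uM (s / 2)) = m
  have : g * m * g⁻¹ ∈ Cn κ.D := fun d hd => by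
    have := commM κ _ (D_le_M κ ((inv_mem hg _).1 hd)) m ⟨_, _, _, hm.symm⟩
    calc _ = g * (g⁻¹ * d * g⁻¹⁻¹ * m) * g⁻¹ := by group
      _ = _ := by rw [this]; group
  rcases cenD κ h2 _ this with e | ⟨x, y, z, e⟩
  · exact mul_mem e e
  · rw [eq_mul_inv_of_mul_eq e, show ∀ a t : G, a * t⁻¹ * (a * t⁻¹) = a * (t⁻¹ * t⁻¹) * (t * a * t⁻¹) from
      fun _ _ => by group, ← mul_inv_rev, tt, inv_one, mul_one, tconj' κ, neg_zero]
    exact mul_mem ⟨_, _, _, rfl⟩ ⟨_, _, _, rfl⟩)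

theorem nMZ : Nr κ.M ⊓ Nr κ.Z ≤ Nr κ.P := fun g hg => mem_normalizer_fintype (by
  rintro _ ⟨a, b, c, s, rfl⟩
  rw [← conj_mul]
  exact mul_mem (Q_le_P κ ((nQ κ h2 hg.2 _).1 ⟨_, _, _, rfl⟩)) (M_le_P κ ((hg.1 _).1 (D_le_M κ (iD κ s)))))

theorem nCM : ∀ g ∈ κ.C ⊓ Nr κ.M, ∃ u ∈ κ.P, ∃ l, g = u * ι (dM l) := by
  rintro _ ⟨⟨a, b, c, A, rfl⟩, hg⟩
  obtain ⟨x, y, z, e⟩ := (hg _).1 (hM κ 1 0)
  rw [conj κ] at e
  obtain ⟨s, l, rfl⟩ := eq_ud (A := A) (by simpa using (ext κ ((one' κ ..).symm.trans e)).2.1)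
  exact ⟨_, ⟨a, b, c, s, rfl⟩, l, by rw [map_mul, mul_assoc]⟩

variable [Fintype F]

omit h2 in
theorem cZ : Nat.card κ.Z = Fintype.card F :=
  (card_of (h 0 0) (fun _ _ e => (ext0 κ e).2.2) fun _ => Iff.rfl).trans Nat.card_eq_fintype_card

omit h2 in
theorem cD : Nat.card κ.D = Fintype.card F ^ 2 :=
  (card_of (fun x : F × F => h 0 0 x.1 * ι (uM x.2))
    (fun _ _ e => Prod.ext (ext κ e).2.2.1 (uM_inj (ext κ e).2.2.2))
    fun _ => by simp only [Prod.exists]; rfl).trans (by simp [sq])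

omit h2 in
theorem cM : Nat.card κ.M = Fintype.card F ^ 3 :=
  (card_of (fun x : F × F × F => h x.1 0 x.2.1 * ι (uM x.2.2))
    (fun _ _ e => Prod.ext (ext κ e).1 (Prod.ext (ext κ e).2.2.1 (uM_inj (ext κ e).2.2.2)))
    fun _ => by simp only [Prod.exists]; rfl).trans (by simp; ring)

omit h2 in
theorem cP : Nat.card κ.P = Fintype.card F ^ 4 :=
  (card_of (fun x : F × F × F × F => h x.1 x.2.1 x.2.2.1 * ι (uM x.2.2.2))
    (fun _ _ e => Prod.ext (ext κ e).1 (Prod.ext (ext κ e).2.1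
      (Prod.ext (ext κ e).2.2.1 (uM_inj (ext κ e).2.2.2))))
    fun _ => by simp only [Prod.exists]; rfl).trans (by simp; ring)

omit h2 in
theorem cC : Nat.card κ.C = (Fintype.card F ^ 2 - 1) * Fintype.card F ^ 4 :=
  (card_of (fun x : F × F × F × SL2 F => h x.1 x.2.1 x.2.2.1 * ι x.2.2.2)
    (fun _ _ e => Prod.ext (ext κ e).1 (Prod.ext (ext κ e).2.1
      (Prod.ext (ext κ e).2.2.1 (ext κ e).2.2.2)))
    fun _ => by simp only [Prod.exists]; rfl).trans (by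
      rw [Nat.card_prod, Nat.card_prod, Nat.card_prod, H57.card_sl_two, Nat.card_eq_fintype_card]; ring)

omit h2 in
theorem dvd : κ.C.relIndex (Nr κ.Z) ∣ Fintype.card F - 1 := by
  rw [← cZ κ, ← H31.ncard_sdiff_one]
  refine H31.relIndex_dvd_ncard_of_centralizer_le _ _ _
    (fun n hn t ht => ⟨(hn t).1 ht.1, fun e => ht.2 (conj_eq_one_iff.1 e)⟩) ?_
  rintro _ ⟨⟨c, rfl⟩, hc⟩ n - e
  exact (κ.cen c (fun e => hc (by rw [e, κ.one]; rfl)) n).1 (mem_centralizer_singleton_iff.2 e)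

theorem ab (A : Subgroup G) (hA : A ≤ κ.P) (hc : ∀ a ∈ A, ∀ b ∈ A, a * b = b * a)
    (hn : Fintype.card F ^ 3 ≤ Nat.card A) : A = κ.M := by
  by_cases e : A ≤ κ.M
  · exact eq_of_le_of_card_ge e (cM κ ▸ hn)
  obtain ⟨u, hu, n⟩ := SetLike.not_le_iff_exists.1 e
  have h1 := card_le_of_le (show κ.M ⊓ A ≤ κ.Z from fun m hm => cMu κ h2 u (hA hu) n m hm.1 (hc u hu m hm.2))
  have h3 := relIndex_le_of_le_right (H := κ.M) hA index_ne_zero_of_finite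
  have h4 := (κ.M.subgroupOf κ.P).index_mul_card
  have h5 := (κ.M.subgroupOf A).index_mul_card
  have hq := Fintype.one_lt_card (α := F)
  rw [Nat.card_congr (subgroupOfEquivOfLe (M_le_P κ)).toEquiv, cM κ, cP κ, pow_succ' _ 3] at h4
  rw [← inf_subgroupOf_right, Nat.card_congr (subgroupOfEquivOfLe inf_le_right).toEquiv,
    inf_subgroupOf_right] at h5
  rw [cZ κ] at h1
  rw [relIndex, relIndex, Nat.eq_of_mul_eq_mul_right (by positivity) h4] at h3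
  have h6 := Nat.mul_le_mul h3 h1
  rw [h5, ← sq] at h6
  exact absurd ((Nat.pow_le_pow_iff_right hq).1 (hn.trans h6)) (by norm_num)

theorem cj_M {g : G} (hg : cj g κ.M ≤ κ.P) : cj g κ.M = κ.M :=
  ab κ h2 _ hg (by
    rintro _ ⟨a, ha, rfl⟩ _ ⟨b, hb, rfl⟩
    rw [← map_mul, ← map_mul, commM κ a ha b hb]) (by rw [card_cj, cM κ])

theorem nP : Nr κ.P ≤ Nr κ.M ⊓ Nr κ.Z := fun g hg => by
  refine ⟨cj_eq_self_iff.1 (cj_M κ h2 (cj_le_of_le (M_le_P κ) hg)), ?_⟩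
  obtain ⟨y, e⟩ := cenP κ h2 (P_le_C κ ((hg _).1 (hP κ 0 0 1))) fun u hu => by
    have := zcomm κ (P_le_C κ ((inv_mem hg _).1 (Q_le_P κ hu))) 1
    calc _ = g * (h 0 0 1 * (g⁻¹ * u * g⁻¹⁻¹)) * g⁻¹ := by group
      _ = _ := by rw [← this]; group
  exact ti κ h2 g 1 y one_ne_zero e

variable {p : ℕ} [hp : Fact p.Prime] (h0 : (p : F) = 0)
include h0

omit κ h2 [Finite G] in
theorem card_F : ∃ n, n ≠ 0 ∧ Fintype.card F = p ^ n := by
  have := (CharP.charP_iff_prime_eq_zero hp.out).2 h0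
  obtain ⟨n, -, e⟩ := FiniteField.card F p
  exact ⟨n, n.ne_zero, e⟩

omit κ h2 [Finite G] in
theorem not_dvd {k m : ℕ} (hk : k ≠ 0) (e : m ∣ Fintype.card F ^ k - 1) : ¬ p ∣ m := fun d => by
  obtain ⟨n, hn, hc⟩ := card_F h0
  have h1 : p ∣ Fintype.card F ^ k := dvd_pow (hc ▸ dvd_pow_self p hn) hk
  exact hp.out.one_lt.ne' (Nat.dvd_one.1 ((Nat.dvd_sub_iff_right (Nat.one_le_pow _ _ Fintype.card_pos) h1).1
    (d.trans e)))

omit h2 in
theorem pP : IsPGroup p κ.P :=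
  let ⟨n, _, e⟩ := card_F h0
  IsPGroup.of_card (n := n * 4) (by rw [cP κ, e, pow_mul])

omit h2 in
theorem sylC : IsSyl p κ.P κ.C := isSyl_of_not_dvd_relIndex (P_le_C κ) (pP κ h0) (by
  have h4 := (κ.P.subgroupOf κ.C).index_mul_card
  rw [Nat.card_congr (subgroupOfEquivOfLe (P_le_C κ)).toEquiv, cC κ, cP κ] at h4
  exact not_dvd h0 two_ne_zero (Nat.eq_of_mul_eq_mul_right (by positivity) h4).dvd)

theorem syl : IsSyl p κ.P ⊤ := by
  have hC : κ.C ≤ Nr κ.Z := le_normalizer.trans (C_le_Z κ h2)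
  have h1 : IsSyl p κ.P (Nr κ.Z) := isSyl_of_not_dvd_relIndex ((P_le_C κ).trans hC) (pP κ h0) (by
    rw [← relIndex_mul_relIndex _ _ _ (P_le_C κ) hC, hp.out.dvd_mul, not_or]
    exact ⟨(sylC κ h0).not_dvd_relIndex, not_dvd h0 one_ne_zero (by rw [pow_one]; exact dvd κ)⟩)
  exact isSyl_of_isSyl_normalizer (h1.of_le (le_inf le_top le_normalizer)
    (inf_le_right.trans ((nP κ h2).trans inf_le_right)))

theorem fus : ∀ m ∈ κ.M, ∀ g, g * m * g⁻¹ ∈ κ.M → ∃ n ∈ Nr κ.M, n * m * n⁻¹ = g * m * g⁻¹ := by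
  intro m hm g hg
  have pM := (pP κ h0).to_le (M_le_P κ)
  obtain ⟨S, hS, h1⟩ := exists_isSyl_le pM (H := Ce (g * m * g⁻¹)) fun a ha =>
    mem_centralizer_singleton_iff.2 (commM κ a ha _ hg)
  obtain ⟨x, hx, h3⟩ := hS.exists_cj_le (isPGroup_cj g pM) (by
    rintro _ ⟨a, ha, rfl⟩
    exact mem_centralizer_singleton_iff.2
      ((conj_mul.trans (by rw [commM κ a ha m hm])).trans conj_mul.symm))
  obtain ⟨k, -, h4⟩ := (syl κ h2 h0).exists_cj_le hS.isPGroup le_top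
  have e1 := cj_eq_self_iff.1 (cj_M κ h2 ((cj_mono k h1).trans h4))
  have e2 := (cj_mono k h3).trans h4
  rw [cj_cj, cj_cj] at e2
  refine ⟨x * g, by simpa [mul_assoc] using mul_mem (inv_mem e1) (cj_eq_self_iff.1 (cj_M κ h2 e2)), ?_⟩
  rw [← mul_inv_eq_iff_eq_mul.2 (mem_centralizer_singleton_iff.1 hx)]; group

theorem frat : ∀ g ∈ Nr κ.Z, ∃ c ∈ κ.C, ∃ n ∈ Nr κ.Z ⊓ Nr κ.P ⊓ Ce (ι (-1)), g = c * n := by
  intro g hg
  obtain ⟨a, ha, c, hc, e⟩ := (sylC κ h0).frattini_mem (inv_mem (nC κ hg))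
  have hZ := (nP κ h2 (inv_mem ha)).2
  obtain ⟨u, hu, e'⟩ := invo κ h2 _ ((nC κ hZ _).1 (iC κ (-1))) (by rw [conj_mul, tt]; simp)
    fun e => one_ne_neg h2 (ι_inj κ (conj_eq_one_iff.1 e)).symm
  have hu' := le_normalizer (Q_le_P κ hu)
  refine ⟨c⁻¹ * u, mul_mem (inv_mem hc) (P_le_C κ (Q_le_P κ hu)), u⁻¹ * a⁻¹,
    mem_inf.2 ⟨mul_mem (inv_mem (mem_inf.2 ⟨(nP κ h2 hu').2, hu'⟩)) (mem_inf.2 ⟨hZ, inv_mem ha⟩),
      mem_centralizer_singleton_iff.2 ?_⟩, by rw [inv_eq_iff_eq_inv.1 e]; group⟩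
  calc _ = u⁻¹ * (a⁻¹ * ι (-1) * a⁻¹⁻¹) * a⁻¹ := by group
    _ = _ := by rw [e']; group

omit κ h2 h0 [Finite G] [Fintype F] hp in
theorem jobLoc : JobLoc.{u, v} := fun G _ _ F _ _ p hp h ι κ p2 h0 => by
  have h2 : (2 : F) ≠ 0 := fun e => by
    have := (CharP.charP_iff_prime_eq_zero hp.out).2 h0
    exact p2 ((Nat.prime_dvd_prime_iff_eq hp.out Nat.prime_two).1
      ((CharP.cast_eq_zero_iff F p 2).1 (by exact_mod_cast e)))
  exact {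
    ti := ti κ h2, nC := nC κ, nQ := nQ κ h2, cZ := cZ κ, cD := cD κ, cM := cM κ, cP := cP κ
    pP := pP κ h0
    syl := by simpa using (syl κ h2 h0).not_dvd_relIndex
    dvd := dvd κ, commM := commM κ
    cenM := fun g hg => cenB κ h2 ((κ.cen 1 one_ne_zero g).1
      (mem_centralizer_singleton_iff.2 (hg _ (hM κ 0 1)).symm)) (hg _ (hM κ 1 0)).symm
    cMu := cMu κ h2, ab := ab κ h2, fus := fus κ h2 h0, nP := nP κ h2, nMZ := nMZ κ h2
    nCM := nCM κ h2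
    pel := fun g hg k e => (syl κ h2 h0).le_of_le_normalizer' (isPGroup_zpowers e) le_top
      (zpowers_le.2 (nMZ κ h2 hg)) (mem_zpowers g)
    ct := ct κ h2, Mt := Mt κ h2, Pt := Pt κ h2, Bt := Bt κ h2, cenD := cenD κ h2, nD := nD κ h2
    invo := invo κ h2, frat := frat κ h2 h0
    cjP := fun g hg k e =>
      let ⟨c, hc, e'⟩ := (sylC κ h0).exists_cj_le (isPGroup_zpowers e) (zpowers_le.2 hg)
      ⟨c, hc, e' (conj_mem_cj (mem_zpowers g))⟩ }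

end H92.P4L
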