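/- Fusion systems on groups of order `p ^ 5`: pearls, and the existence of an abelian maximal
subgroup. -/
import Cfsg.Agent.H92.P5D

set_option autoImplicit false
set_option linter.unusedSectionVars false

namespace H92.P5
open Cfsg Cfsg.FusionSystem H93 Subgroup H92.Es
open scoped commutatorElement

universe u

section
variable {Ω : Type u} [Group Ω] {S : Subgroup Ω} {F : FusionSystem S} {E G₁ G₂ G₃ G₄ : Subgroup Ω}
  {p : ℕ} [hp : Fact p.Prime] [Finite Ω] (hF : SatA p F) (hE : F.IsEssential p E)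
include hF hE

theorem four_le (m : MC p S G₁ G₂ G₃ G₄) : G₄ ≤ E := fun _ hz =>
  cen_le hF hE ⟨m.l4 hz, le_Ct_comm.1 m.c4 hz⟩

theorem three_le (m : MC p S G₁ G₂ G₃ G₄) (l : E ≤ G₁) : G₃ ≤ E ⊓ Ct E := fun _ hz =>
  have := Ct_anti l (le_Ct_comm.1 m.t3 hz)
  ⟨cen hF hE (m.l3 hz) this, this⟩

/-- non-abelian essential subgroups of order `p ^ 3` -/
theorem three' (h : NA p S) (h2 : p ≠ 2) (hc : Nat.card E = p ^ 3) (na : ¬ E ≤ Ct E) :
    Iv F E ∧ p = 3 ∧ Good S := by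
  have lE := hE.1.1
  obtain ⟨G₁, G₂, G₃, G₄, m⟩ := exists_mc h (H11.class_of_pearl lE (centric_Ct_le hE.1)
    (Or.inr ⟨hc, fun r => na fun g hg => mem_Ct'.2 fun x hx =>
      congrArg Subtype.val (r.1.1 (⟨x, hx⟩ : E) ⟨g, hg⟩)⟩) h.card)
  have l4 := four_le hF hE m
  have c4 := lE.trans m.c4
  have eZ : E ⊓ Ct E = G₄ := by
    have l := le_inf l4 (le_Ct_comm.1 c4)
    by_contra r
    exact na ((sp_mid h.pg lE hc m.c4' (lt_of_le_of_ne l (Ne.symm r)) (inf_lt_left.2 na)).1.cyc'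
      (le_Ct_comm.1 inf_le_right))
  have nZ : Aut F E ≤ Nm G₄ := fun g hg =>
    eZ ▸ mem_Nm_inf (Aut_le_Nm F E hg) (mem_Nm_Ct (Aut_le_Nm F E hg))
  have pN := hF.pgl (inf_le_left : S ⊓ Nm E ≤ S)
  have lN := lt_Nm h.pg (ess_lt hF hE)
  obtain ⟨L, sL, lL, tL, nL⟩ := exists_step pN lN.le l4 inf_le_right
    ((Nm_le_Aut F E).trans nZ) (not_le_of_card hc m.c4' (by omega))
  have vL := sp_of h.pg lE lL hc (sL.card_up m.c4')
  obtain ⟨x, hx, hx'⟩ := exists_Nm hF hE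
  have t1 := vL.tv h.pg lE hx.1 hx.2 (nL hx)
  have h3 : p = 3 := by_contra fun h3 => by
    obtain ⟨sS, sN⟩ := sp_mid h.pg le_rfl h.card hc lN (inf_lt_left.2 fun r =>
      na (m.eq_two lE r hc ▸ m.ab2))
    obtain ⟨a, ha, ha'⟩ := exists_notXE hF hE
    obtain ⟨-, n2, H⟩ := tor hF hE (r := []) hx hx' sL vL (by simpa using ⟨l4, nZ⟩) t1 (tL hx)
      (m.c4 hx.1) ha ha'
    obtain ⟨τ, h1, h4, w0, w1⟩ := H (-1) (-1) (by simp)
    obtain ⟨t, ht, r⟩ := ext_two hF sN sS (fun r => h3 (four hF r h h2 (sN.card_up hc)).2.1) h1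
    obtain ⟨s, hs, hs'⟩ := SetLike.not_le_iff_exists.1 fun r =>
      m.s4.not_le (eZ ▸ three_le hF hE m r)
    have w := (neg_all vL (cj_eq_of_Aut ha ▸ cj_mono a lL) n2 (fun g hg => mem_Tv_mono
      (tv_com le_rfl (le_Nm E) hg) (eZ ▸ (der_card vL.pg hc (eZ ▸ m.c4')).2) l4) w0 w1 hs).congr hs r
    obtain ⟨z, hz, hz'⟩ := m.s5.ex
    have := ((m.wt (Aut_le_Nm F S ht) (lE hs) hs' (w.mono ((m.s4.le.trans m.s3.le).trans
      m.s2.le))).2 z hz).uniq ((W.of_tv (tv_bot.2 h4) hz).congr (l4 hz) r) hz' (m.s5.pow hz)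
    push_cast at this
    exact two_ne h2 (by push_cast; linear_combination -this)
  exact ⟨iv_of_tor hF hE hx hx' sL vL nZ t1 (tL hx) (m.c4 hx.1)
    (m.e2 ▸ m.s4.le.trans m.s3.le), h3, m.good h3⟩

/-- essential subgroups of order `p ^ 2` -/
theorem two (h : NA p S) (h2 : p ≠ 2) (h7 : p ≠ 7) (hc : Nat.card E = p ^ 2) :
    Iv F E ∧ p = 3 ∧ Good S := by
  have lE := hE.1.1
  obtain ⟨G₁, G₂, G₃, G₄, m⟩ := exists_mc h (H11.class_of_pearl lE (centric_Ct_le hE.1)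
    (Or.inl hc) h.card)
  have l4 := four_le hF hE m
  have vL := sp_of h.pg lE l4 hc m.c4'
  have t1 : S ⊓ Nm E ≤ Tv E G₄ := fun x hx => vL.tv h.pg lE hx.1 hx.2 (m.m4 (le_Nm S hx.1))
  have t2 : S ⊓ Nm E ≤ Tv G₄ ⊥ := le_tv_bot (inf_le_left.trans m.c4)
  obtain ⟨x, hx, hx'⟩ := exists_Nm hF hE
  have h3 : p = 3 := by_contra fun h3 => by
    have lN := lt_Nm h.pg (ess_lt hF hE)
    have cE : S ⊓ Nm E ⊓ Tv E ⊥ ≤ E := fun g hg => cen hF hE hg.1.1 (tv_bot.1 hg.2)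
    have sN := sp_of_le (hF.pgl inf_le_left) lN ((card_le_tv m.s5 vL (fun g _ => nm_bot g) t2 t1).trans
      (Nat.mul_le_mul_left p (card_le_of_le cE)))
    have cN := sN.card_up hc
    have na : ¬ S ⊓ Nm E ≤ Ct (S ⊓ Nm E) := fun r =>
      sN.not_le fun g hg => cE ⟨hg, tv_bot.2 (Ct_anti sN.le (r hg))⟩
    have nn : ∀ g, M F (S ⊓ Nm E) g → ¬ S ≤ Nm (cj g (S ⊓ Nm E)) := fun g hg r => na (by
      have := m.ab2
      rwa [← m.eq_two hg.cj_le r (by rw [card_cj, cN]), ← cj_Ct, cj_le_cj] at this)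
    have l1 : S ⊓ Nm E < S := inf_lt_left.2 fun r =>
      not_le_of_card h.card cN (by omega) (le_inf le_rfl r)
    obtain ⟨sS, sN'⟩ := sp_mid h.pg le_rfl h.card cN (lt_Nm h.pg l1)
      (inf_lt_left.2 (by simpa using nn 1 (M.one F l1.le)))
    have fn : F.IsFullyNormalized (S ⊓ Nm E) := hF.amb.fn_iff.2 ⟨l1.le, fun g hg => by
      obtain ⟨j, hj⟩ := card_pow h.pg (inf_le_left : S ⊓ Nm (cj g (S ⊓ Nm E)) ≤ S)
      have := pow_lt_of_lt (inf_lt_left.2 (nn g hg)) hj h.card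
      rw [hj, sN'.card_up cN]
      exact Nat.pow_le_pow_right hp.out.pos (by omega)⟩
    obtain ⟨a, ha, ha'⟩ := exists_notXE hF hE
    obtain ⟨-, n2, H⟩ := tor hF hE (r := []) hx hx' m.s5 vL
      (List.forall_mem_singleton.2 ⟨bot_le, fun g _ => nm_bot g⟩)
      (t1 hx) (t2 hx) (by simp) ha ha'
    obtain ⟨k, hk⟩ := exists_inv (two_ne h2)
    obtain ⟨τ, h1, -, w0, w1⟩ := H k 2 (by rw [mul_comm]; exact hk)
    obtain ⟨t₁, ht₁, r₁⟩ := ext_XE hF sN h1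
    obtain ⟨t, ht, r⟩ := ext_two hF sN' sS (fun r => h3 (four hF r h h2 (sN'.card_up cN)).2.1)
      (aut_le_XE hF l1 fn (fun r => h3 (three' hF r h h2 cN na).2.1) ht₁)
    replace r := div_trans r₁ (Ct_anti sN.le r)
    obtain ⟨s, hs, hs'⟩ := SetLike.not_le_iff_exists.1 n2
    have sE : s ∈ E := cj_eq_of_Aut ha ▸ cj_mono a l4 hs
    have s1 : s ∉ G₁ := fun q => by
      have l := three_le hF hE m (vL.le_of ((m.s4.le.trans m.s3.le).trans m.s2.le) sE hs' q)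
      have e := eq_of_le_of_card_ge (l.trans inf_le_left) (by rw [hc, m.c3])
      exact not_le_of_card m.c1 hc (by omega) fun g hg => cen hF hE (m.s1.le hg) (e ▸ m.t3 hg)
    obtain ⟨z, hz, hz'⟩ := m.s5.ex
    have := ((m.wt (Aut_le_Nm F S ht) (lE sE) s1 (((w1 s hs).congr sE r).mono bot_le)).2 z hz).uniq
      ((w0 z hz).congr (l4 hz) r) hz' (m.s5.pow hz)
    refine cast_ne (p := p) (n := 3 ^ 2 * 7) (fun q => ?_) (by
      push_cast at this hk ⊢; linear_combination 2 * this + hk)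
    exact ((hp.out.dvd_mul).1 q).elim
      (fun q => h3 ((Nat.prime_dvd_prime_iff_eq hp.out Nat.prime_three).1 (hp.out.dvd_of_dvd_pow q)))
      fun q => h7 ((Nat.prime_dvd_prime_iff_eq hp.out (by norm_num)).1 q)
  exact ⟨iv_of_tor hF hE hx hx' m.s5 vL (fun g _ => nm_bot g) (t1 hx) (t2 hx) (by simp) bot_le, h3,
    m.good h3⟩

theorem ess (h : NA p S) (h2 : p ≠ 2) (h7 : p ≠ 7) : Iv F E ∧ p = 3 ∧ Good S := by
  obtain ⟨i, hi⟩ := card_pow h.pg hE.1.1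
  have i5 := pow_lt_of_lt (ess_lt hF hE) hi h.card
  obtain ⟨x, hx, hx'⟩ := exists_Nm hF hE
  interval_cases i
  · exact absurd (cen hF hE hx.1 (by rw [card_eq_one.1 (hi.trans (pow_zero p))]; simp)) hx'
  · exact absurd (cen hF hE hx.1 (tv_bot.1 ((sp_of h.pg hE.1.1 bot_le (i := 0) hi (by simp)).tv
      h.pg hE.1.1 hx.1 hx.2 (nm_bot x)))) hx'
  · exact two hF hE h h2 h7 hi
  · by_cases ab : E ≤ Ct E
    · exact three hF hE h h2 hi ab
    · exact three' hF hE h h2 hi ab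
  · exact four hF hE h h2 hi

end

theorem s5264 {Ω : Type u} [Group Ω] {S : Subgroup Ω} [Finite S] (p : ℕ) [hp : Fact p.Prime]
    (hS : IsPGroup p S) (F : FusionSystem S) (hF : F.IsSaturated p) (h2 : p ≠ 2) (h7 : p ≠ 7)
    (hc : Nat.card S = p ^ 5) (hO : F.core = ⊥) (hh : F.hyperfocalSubgroup p = S) :
    ∃ A : Subgroup Ω, A ≤ S ∧ IsMulCommutative A ∧ (A.subgroupOf S).index = p := by
  obtain ⟨a, b, S', F', h, hA⟩ := exists_satA hS hF
  have c' : Nat.card S' = p ^ 5 := by rw [← h.img_top, h.1.card_img le_rfl, hc]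
  by_contra hn
  have na : NA p S' := ⟨hA.pg, c', fun A l ab e => hn ⟨img A b, h.1.symm.img_le l, ?_, ?_⟩⟩
  · by_cases r : ∃ E, F'.IsEssential p E
    · obtain ⟨E, hE⟩ := r
      exact not_good hA h2 (fun E hE => (ess hA hE na h2 h7).1) ((h.hyperfocal_eq_top hh).ge.trans
        (H94.hyperfocal_le_focal F' p)) (ess hA hE na h2 h7).2.2
    · have : S' ≤ F'.core := le_sSup (isNormal_top_of_no_essential hA.pg hA.sat (not_exists.1 r))
      exact not_le_of_card (j := 0) c' (by simp) (by omega) (h.core_eq_bot hO ▸ this)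
  · have e' : img (A ⊓ Ct A) b = img A b ⊓ Ct (img A b) := h.1.symm.img_centralizerIn l l
    rw [inf_eq_left.2 ab] at e'
    exact ⟨⟨fun x y => Subtype.ext (mem_Ct'.1 (e'.le y.2).2 x x.2)⟩⟩
  · have := H9.relIndex_mul_card_le (h.1.symm.img_le l)
    rw [hc, h.1.symm.card_img l, e, pow_succ' p 4] at this
    exact Nat.eq_of_mul_eq_mul_right (pow_pos hp.out.pos 4) this

end H92.P5
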