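import Cfsg.Agent.H92.SgA

/-! STD-G, slot P2a, part 2: the action on `Q / Z`; the case `q > 2`. -/

set_option autoImplicit false
set_option linter.unusedSectionVars false

namespace H92.P2a

open Cfsg Cfsg.Lie H63 H65 H64 H64.SG H70.Sg H98 Subgroup

universe u

variable {D : ChevalleyDatum} [RS D] {F : Type} [Field F] [CharP F 2] {G : Type u} [Group G]
  [Finite G] {x : ℕ → F → G} {t n p e v g : G} {r s u : Rt D} {c : F}

local notation "θ" => hi D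
local notation "ZZ" => XR D x (hi D)
local notation "PP" => P0 D x (hi D)
local notation "QQ" => Q0 D x (hi D)

theorem xP (h : 0 ≤ D.pairing θ r) (c : F) : x r c ∈ PP := x_mem_gen h c
theorem xQ (h : 1 ≤ D.pairing θ r) (c : F) : x r c ∈ QQ := x_mem_gen h c
theorem QP : QQ ≤ PP := gen_mono _ fun r (h : 1 ≤ D.pairing θ r) => le_trans zero_le_one h
theorem PG : PP ≤ GG D x := gen_le_GG _
theorem zQ (c : F) : x θ c ∈ QQ := xQ (by rw [pairing_self]; omega) c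

theorem hh_mem_pm (r : Rt D) (a : F) : hh D x r a ∈ gen (XR D x) {r, negR r} := by
  have h1 := fun a => x_mem_gen (x := x) (S := {r, negR r}) (r := r) (by simp) a
  have h2 := fun a => x_mem_gen (x := x) (S := {r, negR r}) (r := negR r) (by simp) a
  rw [hh_eq, nn_eq, nn_eq]
  exact mul_mem (mul_mem (mul_mem (h1 _) (h2 _)) (h1 _)) (mul_mem (mul_mem (h1 _) (h2 _)) (h1 _))

namespace En

variable (E : En D x t)
include E

theorem add (r : Rt D) (a b : F) : x r a * x r b = x r (a + b) := E.s.add r r.2 a b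

theorem Pz (hp : p ∈ PP) (c : F) : p * x θ c = x θ c * p :=
  mem_Cs.1 (XR_le_Cs_P0 E.et E.s θ (x_mem_XR D x _ c)) p hp

theorem Pz' (hp : p ∈ PP) (c : F) : p * x θ c * p⁻¹ = x θ c := by rw [E.Pz hp, mul_inv_cancel_right]

theorem PnZ : PP ≤ Ns ZZ := (le_centralizer_iff.1 (XR_le_Cs_P0 E.et E.s θ)).trans (Cs_le_Ns _)

theorem nQ : Ns PP ≤ Ns QQ := E.q0 ▸ normalizer_le_normalizer_pCoreOf _

theorem nZ : Ns (UU D x) ≤ Ns ZZ :=
  E.zu ▸ le_normalizer_inf le_rfl (normalizer_le_normalizer_centralizer _)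

theorem nP (hn : n ∈ Ns ZZ) (h : n * t * n⁻¹ = t * x θ c) : n ∈ Ns PP := by
  have h1 : cjs n⁻¹ PP ≤ Cz t := by
    rintro _ ⟨p, hp, rfl⟩
    refine mem_Cz.2 ?_
    show t * (n⁻¹ * p * n⁻¹⁻¹) = n⁻¹ * p * n⁻¹⁻¹ * t
    calc _ = n⁻¹ * (n * t * n⁻¹ * p) * n := by group
      _ = n⁻¹ * (p * (n * t * n⁻¹)) * n := by
        rw [h, mul_assoc t, ← E.Pz hp, ← mul_assoc t, ← E.tc p (PG hp), mul_assoc p]
      _ = _ := by group
  refine inv_mem_iff.1 (mem_normalizer_of_cj_le ?_)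
  rintro _ ⟨p, hp, rfl⟩
  refine E.p0 _ _ (E.inL _ h1 (mem_map_of_mem _ hp)) ?_
  obtain ⟨k, hk⟩ := E.s.mem_XR.1 (conj_mem_of_mem_normalizer hn (x_mem_XR D x θ 1))
  show x θ 1 * (n⁻¹ * p * n⁻¹⁻¹) = n⁻¹ * p * n⁻¹⁻¹ * x θ 1
  calc _ = n⁻¹ * (n * x θ 1 * n⁻¹ * p) * n := by group
    _ = n⁻¹ * (p * (n * x θ 1 * n⁻¹)) * n := by rw [hk, E.Pz hp]
    _ = _ := by group

/-- The elements that act on `Q` like elements of `Q`. -/
def Lin : Subgroup G where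
  carrier := {n | (∀ c, n * x θ c * n⁻¹ = x θ c) ∧ ∀ r : Rt D, D.pairing θ r = 1 →
    ∃ k, ∀ c, n * x r c * n⁻¹ = x r c * x θ (k * c)}
  one_mem' := ⟨by simp, fun r _ => ⟨0, fun c => by simp [E.s.x_zero]⟩⟩
  mul_mem' := fun {n m} hn hm => ⟨fun c => by
    calc _ = n * (m * x θ c * m⁻¹) * n⁻¹ := by group
      _ = _ := by rw [hm.1, hn.1], fun r hr => by
    obtain ⟨k, hk⟩ := hn.2 r hr
    obtain ⟨l, hl⟩ := hm.2 r hr
    refine ⟨k + l, fun c => ?_⟩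
    calc _ = n * (m * x r c * m⁻¹) * n⁻¹ := by group
      _ = _ := by rw [hl, ← conj_mul, hk, hn.1, mul_assoc, E.add, add_mul]⟩
  inv_mem' := fun {n} hn => ⟨fun c => by nth_rewrite 1 [← hn.1 c]; group, fun r hr => by
    obtain ⟨k, hk⟩ := hn.2 r hr
    refine ⟨k, fun c => ?_⟩
    have : n * (x r c * x θ (k * c)) * n⁻¹ = x r c := by
      rw [← conj_mul, hk, hn.1, mul_assoc, x_sq E.s, mul_one]
    nth_rewrite 1 [← this]; group⟩

theorem Q_Lin : QQ ≤ E.Lin := SG.gen_le_iff.2 fun u hu a => ⟨E.Pz' (QP (xQ hu a)), fun r hr => by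
  obtain ⟨s, hs⟩ := opp E.et hr
  by_cases h : u = s
  · exact ⟨a, fun c => h ▸ E.et.conj_add E.s hs a c⟩
  · refine ⟨0, fun c => ?_⟩
    rw [← E.xc (opp0 E.et (hs.trans (add_comm _ _)) hu h), zero_mul, E.s.x_zero]; group⟩

theorem QZ (hv : v ∈ QQ) (he : e ∈ QQ) : v * e * v⁻¹ * e⁻¹ ∈ ZZ :=
  (cm_gen (QP.trans E.PnZ) (E.PnZ (QP hv)) fun r (hr : 1 ≤ D.pairing θ r) c => by
    rcases hr.eq_or_lt with h | h
    · obtain ⟨k, hk⟩ := (E.Q_Lin hv).2 r h.symm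
      rw [hk, E.Pz' (xP (by omega) c)]
      exact x_mem_XR D x _ _
    · obtain rfl := E.et.eq_of_pairing (r := θ) (s := r) h
      exact com_one (E.Pz (QP hv) c)).2 e he

theorem QZ' (hv : v ∈ QQ) (he : e ∈ QQ) : ∃ k, v * e * v⁻¹ = e * x θ k :=
  (E.s.mem_XR.1 (E.QZ hv he)).imp fun k hk => by rw [E.Pz (QP he), ← hk, inv_mul_cancel_right]

theorem mem_XZ (h : 0 ≤ D.pairing θ r) (hg : g ∈ XR D x r ⊔ ZZ) : ∃ c k, g = x r c * x θ k := by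
  obtain ⟨a, ha, b, hb, rfl⟩ := (mem_sup_left_norm fun y hy => by
    obtain ⟨c, rfl⟩ := E.s.mem_XR.1 hy
    exact E.PnZ (xP h c)).1 hg
  obtain ⟨c, rfl⟩ := E.s.mem_XR.1 ha
  obtain ⟨k, rfl⟩ := E.s.mem_XR.1 hb
  exact ⟨c, k, rfl⟩

theorem only (hs : rt θ = rt s + rt r) (he : e ∈ QQ)
    (h : ∀ u : Rt D, D.pairing θ u = 1 → u ≠ s → e * x u 1 = x u 1 * e) :
    ∃ c k, e = x r c * x θ k := by
  have : Nonempty (Rt D) := ⟨θ⟩
  choose! o ho using fun u : Rt D => opp E.et (p := θ) (u := u)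
  have r1 := opp1 E.et (hs.trans (add_comm _ _))
  have hN : XR D x r ⊔ ZZ ≤ QQ := sup_le (le_gen _ r1.ge) (le_gen _ (by
    show 1 ≤ D.pairing θ θ
    rw [pairing_self]; omega))
  refine E.mem_XZ (by omega) (peel E.s (S := {u | D.pairing θ u = 1 ∧ u ≠ r})
    (fun u => Cz (x (o u) 1)) (fun u hu => sup_le (fun y hy => ?_) fun y hy => ?_) (fun u hu c => ?_)
    (fun u hu u' hu' c c' => mem_sup_right (E.QZ (xQ hu.1.ge c) (xQ hu'.1.ge c')))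
    (fun u hu u' hu' n c => mem_Cz.2 (E.xc (opp0 E.et (ho u hu.1) hu'.1.ge n) _ _))
    (fun u hu c hc => E.zero_of_comm (E.et.pairing_of_add ((ho u hu.1).trans (add_comm _ _)))
      (mem_Cz.1 hc).symm) (SG.gen_le_iff.2 (fun u (hu : 1 ≤ D.pairing θ u) c => ?_) he) fun u hu => ?_)
  · obtain ⟨c, rfl⟩ := E.s.mem_XR.1 hy
    exact mem_Cz.2 (E.xc (opp0 E.et (ho u hu.1) r1.ge hu.2.symm) _ _)
  · obtain ⟨c, rfl⟩ := E.s.mem_XR.1 hy
    exact mem_Cz.2 (E.Pz (xP (opp1 E.et (ho u hu.1) ▸ zero_le_one) _) _)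
  · refine mem_normalizer_of_cj_le ?_
    rintro _ ⟨y, hy, rfl⟩
    obtain ⟨k, hk⟩ := E.QZ' (xQ hu.1.ge c) (hN hy)
    show x u c * y * (x u c)⁻¹ ∈ _
    exact hk ▸ mul_mem hy (mem_sup_right (x_mem_XR D x _ _))
  · rcases hu.eq_or_lt with h1 | h1
    · by_cases n : u = r
      · exact mem_sup_right (mem_sup_left (n ▸ x_mem_XR D x _ _))
      · exact mem_sup_left (x_mem_gen (by exact ⟨h1.symm, n⟩) c)
    · obtain rfl := E.et.eq_of_pairing (r := θ) (s := u) h1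
      exact mem_sup_right (mem_sup_right (x_mem_XR D x _ _))
  · refine mem_Cz.2 (h _ (opp1 E.et (ho u hu.1)) fun e => hu.2 ?_).symm
    exact rt_inj (add_left_cancel ((e ▸ ho u hu.1).symm.trans hs))

theorem ZQ (he : e ∈ QQ) (h : e ∈ Cs QQ) : e ∈ ZZ := by
  obtain ⟨r, hr⟩ := E.et.exists_pairing θ (a := 1) (by simp)
  obtain ⟨s, hs⟩ := opp E.et hr
  obtain ⟨c, k, rfl⟩ := E.only hs he fun u hu _ => (mem_Cs.1 h _ (xQ hu.ge 1)).symm
  have h1 := mem_Cs.1 h _ (xQ (opp1 E.et hs).ge 1)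
  rw [mul_assoc, ← E.Pz (xP (opp1 E.et hs ▸ zero_le_one) _), ← mul_assoc, ← mul_assoc, mul_left_inj] at h1
  rw [E.zero_of_comm (E.et.pairing_of_add (hs.trans (add_comm _ _))) h1.symm, E.s.x_zero, one_mul]
  exact x_mem_XR D x _ _

theorem fin (hP : n ∈ Ns PP) (hL : n ∈ E.Lin) (h : n * t * n⁻¹ = t * x θ c) :
    ∃ w ∈ Cs PP, w * t * w⁻¹ = t * x θ c := by
  obtain ⟨w, ⟨h1, h2, h3⟩, h4⟩ := remove (S := {r : Rt D | D.pairing θ r = 1}) (Set.toFinite _)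
    (K := fun n => n ∈ Ns PP ∧ n ∈ E.Lin ∧ n * t * n⁻¹ = t * x θ c)
    (good := fun n r => ∀ a, n * x r a * n⁻¹ = x r a) ⟨n, hP, hL, h⟩ fun n ⟨h1, h2, h3⟩ u hu => by
      obtain ⟨k, hk⟩ := h2.2 u hu
      obtain ⟨s, hs⟩ := opp E.et hu
      have s1 := xQ (x := x) (opp1 E.et hs).ge k
      have e1 : ∀ y, x s k * n * y * (x s k * n)⁻¹ = x s k * (n * y * n⁻¹) * (x s k)⁻¹ := fun y => by group
      refine ⟨x s k * n, ⟨mul_mem (le_normalizer (QP s1)) h1, mul_mem (E.Q_Lin s1) h2, ?_⟩,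
        fun a => ?_, fun r hr ne h a => ?_⟩
      · rw [e1, h3, ← conj_mul, E.Pz' (QP s1), E.xt, mul_inv_cancel_right]
      · rw [e1, hk, ← conj_mul, E.Pz' (QP s1), E.et.conj_add E.s hs, mul_assoc, x_sq E.s, mul_one]
      · rw [e1, h, E.xc (opp0 E.et hs (le_of_eq hr.symm) ne), mul_inv_cancel_right]
  have h5 : w ∈ Cs QQ := mem_Cs_gen.2 fun r (hr : 1 ≤ D.pairing θ r) a => by
    refine (mul_inv_eq_iff_eq_mul.1 ?_).symm
    rcases hr.eq_or_lt with e | e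
    · exact h4 r e.symm a
    · obtain rfl := E.et.eq_of_pairing (r := θ) (s := r) e
      exact h2.1 a
  have h6 : ∀ p ∈ PP, ∃ k, w * p * w⁻¹ = x θ k * p := fun p hp => by
    have h7 : w * p * w⁻¹ * p⁻¹ ∈ Cs QQ := by
      rw [mul_assoc, mul_assoc, ← mul_assoc p]
      exact mul_mem h5 (conj_mem_of_mem_normalizer (normalizer_le_normalizer_centralizer _
        (E.nQ (le_normalizer hp))) (inv_mem h5))
    obtain ⟨k, hk⟩ := E.s.mem_XR.1 (E.ZQ (E.cq _ (PG (mul_mem (conj_mem_of_mem_normalizer h1 hp)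
      (inv_mem hp))) h7) h7)
    exact ⟨k, by rw [← hk, inv_mul_cancel_right]⟩
  refine ⟨w, le_centralizer_iff.1 (E.perf.trans (commutator_le.2 fun a ha b hb => ?_)) (mem_zpowers w), h3⟩
  refine mem_Cs_zpowers.2 (mul_inv_eq_iff_eq_mul.1 ?_)
  obtain ⟨k, hk⟩ := h6 a ha
  obtain ⟨l, hl⟩ := h6 b hb
  calc _ = w * a * w⁻¹ * (w * b * w⁻¹) * (w * a * w⁻¹)⁻¹ * (w * b * w⁻¹)⁻¹ := by
        rw [commutatorElement_def]; group
    _ = x θ k * (a * x θ l * a⁻¹ * (a * b * a⁻¹)) * (x θ k)⁻¹ * b⁻¹ * (x θ l)⁻¹ := by rw [hk, hl]; group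
    _ = x θ l * (a * b * a⁻¹ * b⁻¹) * (x θ l)⁻¹ := by
        rw [E.Pz' ha, ← E.Pz (mul_mem (QP (zQ l)) (mul_mem (mul_mem ha hb) (inv_mem ha)))]; group
    _ = _ := by
        rw [← E.Pz (mul_mem (mul_mem (mul_mem ha hb) (inv_mem ha)) (inv_mem hb)), commutatorElement_def]
        group

theorem tr_of {w : G} (hw : w ∈ Cs PP) (h : w * t * w⁻¹ = t * x θ c) (c0 : c ≠ 0) : Tr D x t := by
  intro a
  by_cases a0 : a = 0
  · exact ⟨1, one_mem _, by simp [a0, E.s.x_zero]⟩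
  obtain ⟨r, hr⟩ := E.et.exists_pairing θ (a := 1) (by simp)
  have l0 : a * c⁻¹ ≠ 0 := mul_ne_zero a0 (inv_ne_zero c0)
  have hG : hh D x r (a * c⁻¹) ∈ GG D x := gen_le_GG _ (hh_mem_pm r _)
  refine ⟨hh D x r (a * c⁻¹) * w * (hh D x r (a * c⁻¹))⁻¹, conj_mem_of_mem_normalizer
    (normalizer_le_normalizer_centralizer _ (E.stB.rgd.H_le_normalizer_gen _ (hh_mem_HH D x r l0))) hw, ?_⟩
  calc _ = hh D x r (a * c⁻¹) * (w * ((hh D x r (a * c⁻¹))⁻¹ * t * hh D x r (a * c⁻¹)) * w⁻¹) *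
      (hh D x r (a * c⁻¹))⁻¹ := by group
    _ = _ := by
      rw [E.tc _ (inv_mem hG), inv_mul_cancel_right, h, ← conj_mul, E.tc _ hG, mul_inv_cancel_right,
        E.st.hh_conj r θ l0, E.et.pairing_comm, hr, zpow_one, inv_mul_cancel_right₀ c0]

theorem cmN (hn : n ∈ Cm PP QQ) : n ∈ Ns PP := mem_normalizer_of_cj_le (by
  rintro _ ⟨p, hp, rfl⟩
  have := mul_mem (QP (hn.2 p hp)) hp
  rwa [inv_mul_cancel_right] at this)

theorem equiv (hn : n ∈ Ns QQ) (hp : p ∈ PP) (h : n * p * n⁻¹ * p⁻¹ ∈ QQ) (he : e ∈ QQ) :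
    ∃ k, n * (p * e * p⁻¹) * n⁻¹ = p * (n * e * n⁻¹) * p⁻¹ * x θ k :=
  (E.QZ' h (conj_mem_of_mem_normalizer (E.nQ (le_normalizer hp))
    (conj_mem_of_mem_normalizer hn he))).imp fun k hk => by rw [← hk]; group

theorem hh_cm {l : F} (l0 : l ≠ 0) : hh D x θ l ∈ Cm PP QQ := by
  have h := E.stB.rgd.H_le_normalizer_gen {s | 1 ≤ D.pairing θ s} (hh_mem_HH D x θ l0)
  refine cm_gen (le_normalizer.trans E.nQ) h fun r (hr : 0 ≤ D.pairing θ r) c => ?_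
  rcases hr.eq_or_lt with e | e
  · rw [E.st.hh_conj θ r l0, ← e]; simp
  · exact mul_mem (conj_mem_of_mem_normalizer h (xQ e c)) (inv_mem (xQ e c))

theorem exists_sigma : ∃ (a : Fin D.rank) (σ : Rt D), rt θ = rt σ + rt (simpleR a : Rt D) ∧ Pos σ := by
  obtain ⟨a, b, h, -⟩ := E.et.exists_nodes
  obtain ⟨σ, hσ⟩ := opp E.et (p := θ) (u := simpleR a) (by
    rw [E.et.pairing_comm, simpleR_val, pairing_simple, h, if_pos rfl])
  exact ⟨a, σ, hσ, E.et.pos_of_pairing (opp1 E.et hσ).ge⟩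

/-- An element centralising `P₀ / Q` acts on `Q / Z` as a scalar. -/
theorem scalar (hn : n ∈ Cm PP QQ) (hZ : n ∈ Ns ZZ) : ∃ m ≠ 0, ∀ r : Rt D, D.pairing θ r = 1 →
    ∀ c, ∃ k, n * x r c * n⁻¹ = x r (c * m) * x θ k := by
  obtain ⟨a, σ, hσ, pσ⟩ := E.exists_sigma
  have σ1 := opp1 E.et hσ
  have hU := Q0_le_UU (x := x) E.et
  obtain ⟨m, k, h1⟩ := E.mem_XZ (r := σ) (g := n * x σ 1 * n⁻¹) (by omega) (by
    rw [sup_comm]
    refine (E.z2 σ pσ ⟨a, hσ⟩ _ (hU (conj_mem_of_mem_normalizer hn.1 (xQ σ1.ge 1)))).1 fun u hu => ?_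
    have h2 := mul_mem (hU ((inv_mem hn).2 u (UU_le_P0 E.et hu))) hu
    have := conj_mem_of_mem_normalizer hZ ((E.z2 σ pσ ⟨a, hσ⟩ _ (hU (xQ σ1.ge 1))).2
      (mem_sup_right (x_mem_XR D x _ _)) _ h2)
    convert this using 1; group)
  refine ⟨m, fun m0 => ?_, fun r hr c => ?_⟩
  · rw [m0, E.s.x_zero, one_mul] at h1
    obtain ⟨l, hl⟩ := E.s.mem_XR.1 ((mem_normalizer_iff.1 hZ _).2 (h1 ▸ x_mem_XR D x θ k))
    exact one_ne_zero (E.zero_of_eq ((E.et.pairing_comm _ _).trans σ1) hl)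
  by_cases c0 : c = 0
  · exact ⟨0, by simp [c0, E.s.x_zero]⟩
  obtain ⟨v, v1, v2⟩ := E.et.exists_third θ σ (a := 0) (b := 1) (by simp [σ1]) (by simp) (by simp) (by simp)
  obtain ⟨w, w1, w2⟩ := E.et.exists_W2 (r := θ) (s := σ) (r' := θ) (s' := r) (σ1.trans hr.symm)
  obtain ⟨y, hy, hw⟩ := exists_mv E.st w
  have yP : y ∈ PP := E.p0 _ _ hy (mul_inv_eq_iff_eq_mul.1 (by rw [hw, w1])).symm
  have hP : hh D x v c ∈ PP := gen_mono _ (by
    rintro s (rfl | rfl)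
    · exact v1.ge
    · show 0 ≤ D.pairing θ (negR v)
      rw [negR_val, pairing_negR_right, v1]; rfl) (hh_mem_pm v c)
  have e1 : ∀ b, y * hh D x v c * x σ b * (y * hh D x v c)⁻¹ = x r (c * b) := fun b => by
    calc _ = y * (hh D x v c * x σ b * (hh D x v c)⁻¹) * y⁻¹ := by group
      _ = _ := by rw [E.st.hh_conj v σ c0, E.et.pairing_comm, v2, zpow_one, hw, w2]
  obtain ⟨l, hl⟩ := E.equiv hn.1 (mul_mem yP hP) (hn.2 _ (mul_mem yP hP)) (xQ σ1.ge 1)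
  rw [e1, mul_one, h1, ← conj_mul, e1, E.Pz' (mul_mem yP hP), mul_assoc _ (x θ k), E.add] at hl
  exact ⟨_, hl⟩

theorem lin_of (hn : n ∈ Cm PP QQ)
    (h : ∀ r : Rt D, D.pairing θ r = 1 → ∀ c, ∃ k, n * x r c * n⁻¹ = x r c * x θ k) : n ∈ E.Lin := by
  have com : ∀ a b : G, ∀ k, a ∈ PP → b ∈ PP → a * (b * x θ k) * a⁻¹ * (b * x θ k)⁻¹ =
      a * b * a⁻¹ * b⁻¹ := fun a b k ha hb => by
    rw [← conj_mul, E.Pz' ha]; group
  refine ⟨fun c => ?_, fun r hr => ?_⟩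
  · obtain ⟨r, hr⟩ := E.et.exists_pairing θ (a := 1) (by simp)
    obtain ⟨s, hs⟩ := opp E.et hr
    obtain ⟨k, hk⟩ := h s (opp1 E.et hs) 1
    obtain ⟨l, hl⟩ := h r hr c
    have s1 := QP (xQ (x := x) (opp1 E.et hs).ge 1)
    have r1 := QP (xQ (x := x) hr.ge c)
    have e := E.et.commutator_add E.s hs 1 c
    rw [one_mul] at e
    calc _ = n * x s 1 * n⁻¹ * (n * x r c * n⁻¹) * (n * x s 1 * n⁻¹)⁻¹ * (n * x r c * n⁻¹)⁻¹ := by
          rw [← e]; group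
      _ = x s 1 * (x θ k * x r c * (x θ k)⁻¹) * (x s 1)⁻¹ * (x r c)⁻¹ := by
          rw [hk, hl, com _ _ _ (mul_mem s1 (QP (zQ k))) r1]; group
      _ = _ := by rw [← E.Pz r1, mul_inv_cancel_right, e]
  obtain ⟨s, s1, s2⟩ := E.et.exists_third θ r (a := 0) (b := 1) (by simp [hr]) (by simp) (by simp) (by simp)
  obtain ⟨u, hu⟩ := pairing_sub E.et s2
  have u1 : D.pairing θ u = 1 := by have := pairing_add θ hu; omega
  have hv := hn.2 _ (xP (x := x) s1.ge 1)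
  obtain ⟨k, hk⟩ := (E.Q_Lin hv).2 r hr
  obtain ⟨l, hl⟩ := (E.Q_Lin hv).2 u u1
  refine ⟨l + k, fun c => ?_⟩
  obtain ⟨j, hj⟩ := h u u1 c
  have e := E.et.commutator_add E.s hu 1 c
  have e' := E.et.conj_add E.s hu 1 c
  rw [one_mul] at e e'
  have u2 := QP (xQ (x := x) u1.ge c)
  generalize hv' : n * x s 1 * n⁻¹ * (x s 1)⁻¹ = v at hv hk hl
  calc _ = n * x s 1 * n⁻¹ * (n * x u c * n⁻¹) * (n * x s 1 * n⁻¹)⁻¹ * (n * x u c * n⁻¹)⁻¹ := by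
        rw [← e]; group
    _ = v * (x s 1 * x u c * (x s 1)⁻¹) * v⁻¹ * (x u c)⁻¹ := by
        rw [hj, com _ _ _ (conj_mem_of_mem_normalizer (E.cmN hn) (xP s1.ge 1)) u2, ← hv']; group
    _ = x u c * (x θ (l * c) * x r c * x θ (k * c)) * (x u c)⁻¹ := by rw [e', ← conj_mul, hk, hl]; group
    _ = _ := by
        rw [← E.Pz (QP (xQ hr.ge c)), mul_assoc (x r c), E.add, ← add_mul, ← conj_mul, E.Pz' u2,
          E.xc (r := u) (s := r) (by rw [E.et.pairing_comm, opp1 E.et (hu.trans (add_comm _ _))]; omega),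
          mul_inv_cancel_right]

theorem big {l : F} (l0 : l ≠ 0) (l1 : l ≠ 1) (hg : g ∈ Ns (UU D x)) (c0 : c ≠ 0)
    (h : g * t * g⁻¹ = t * x θ c) : Tr D x t := by
  have gZ := E.nZ hg
  have gP := E.nP gZ h
  have hG : ∀ l, hh D x θ l ∈ GG D x := fun l => gen_le_GG _ (hh_mem_pm θ l)
  have hZ : ∀ {l : F}, l ≠ 0 → hh D x θ l ∈ Ns ZZ := fun l0 =>
    XR_eq_gen (x := x) θ ▸ E.stB.rgd.H_le_normalizer_gen {θ} (hh_mem_HH D x θ l0)
  have ht : ∀ {l : F}, l ≠ 0 → ∀ a, hh D x θ l * (t * x θ a) * (hh D x θ l)⁻¹ = t * x θ (l ^ 2 * a) :=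
    fun l0 a => by
      rw [← conj_mul, E.tc _ (hG _), mul_inv_cancel_right, E.st.hh_conj θ θ l0, pairing_self, zpow_ofNat]
  have n1 := Cm.conj (inv_mem gP) (inv_mem (E.nQ gP)) (E.hh_cm l0)
  have n2 := mul_mem (mul_mem (inv_mem gZ) (hZ l0)) (inv_mem (inv_mem gZ))
  obtain ⟨b, hb⟩ := E.s.mem_XR.1 (conj_mem_of_mem_normalizer' gZ (x_mem_XR D x θ (c + l ^ 2 * c)))
  have n3 : g⁻¹ * hh D x θ l * g⁻¹⁻¹ * t * (g⁻¹ * hh D x θ l * g⁻¹⁻¹)⁻¹ = t * x θ b := by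
    calc _ = g⁻¹ * (hh D x θ l * (g * t * g⁻¹) * (hh D x θ l)⁻¹) * g := by group
      _ = g⁻¹ * (g * t * g⁻¹ * x θ (c + l ^ 2 * c)) * g := by
        rw [h, ht l0, mul_assoc t, ← E.add, ← mul_assoc (x θ c), x_sq E.s, one_mul]
      _ = _ := by rw [← hb]; group
  have b0 : b ≠ 0 := by
    rintro rfl
    rw [E.s.x_zero, mul_assoc, inv_mul_eq_one, eq_comm, mul_eq_right] at hb
    have h1 : (l + 1) ^ 2 * c = 0 := by
      rw [← E.inj _ _ hb, CharTwo.add_sq]; ring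
    exact l1 (CharTwo.add_eq_zero.1 (pow_eq_zero_iff two_ne_zero |>.1
      ((mul_eq_zero.1 h1).resolve_right c0)))
  generalize g⁻¹ * hh D x θ l * g⁻¹⁻¹ = n at n1 n2 n3
  obtain ⟨m, m0, hm⟩ := E.scalar n1 n2
  have m1 := inv_ne_zero m0
  have n4 := mul_mem (E.hh_cm m1) n1
  have e1 : ∀ y, hh D x θ m⁻¹ * n * y * (hh D x θ m⁻¹ * n)⁻¹ =
    hh D x θ m⁻¹ * (n * y * n⁻¹) * (hh D x θ m⁻¹)⁻¹ := fun y => by group
  obtain ⟨w, hw, h5⟩ := E.fin (c := m⁻¹ ^ 2 * b) (E.cmN n4) (E.lin_of n4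
    fun r hr c => by
      obtain ⟨k, hk⟩ := hm r hr c
      rw [e1, hk, ← conj_mul, E.st.hh_conj θ r m1, E.st.hh_conj θ θ m1, hr, zpow_one, mul_comm c,
        inv_mul_cancel_left₀ m0]
      exact ⟨_, rfl⟩) (by rw [e1, n3, ht m1])
  exact E.tr_of hw h5 (mul_ne_zero (pow_ne_zero 2 m1) b0)

end En

end H92.P2a
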