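/- T6L tower: the covering map from the 27-dimensional group onto `²E₆(2)` has scalar kernel. -/
import Cfsg.Agent.H40.T6Spec

set_option autoImplicit false

namespace H92.T6Rep

open Matrix Cfsg Cfsg.Lie H63 H65 H40.T6

universe u

attribute [local instance] tabE6 commE6

theorem conn : ∀ j : Fin 27, j ≠ 0 → ∃ r : Fin 72, ∃ i < j, aE r i j ∈ [(1 : ℤ), -1] := by
  decide +kernel

variable {F : Type*} [Field F]

theorem scalar (hF : ∃ a : F, a ≠ 0 ∧ a ^ 2 ≠ 1) {g : repE6v27.G F}
    (hg : ∀ r < chevE6.nroots, Commute (g : GL (Fin 27) F).val (repE6v27.A F r)) :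
    ∃ c : F, (g : GL (Fin 27) F).val = c • 1 := by
  have hc := repE6v27.mem_center_of_commute fun r hr =>
    ⟨hg r hr, by rw [A2_27]; exact .zero_right _⟩
  obtain ⟨a, ha, ha2⟩ := hF
  have h0 : (g : GL (Fin 27) F).val.IsDiag := by
    intro i j hij
    obtain ⟨k, m, hk⟩ := H26.ASE.sep_wt i j hij
    obtain ⟨h, hh, h1⟩ := repE6v27.exists_tor (F := F) (Pi.mulSingle (k : Fin 6) (Units.mk0 a ha))
    have h2 : ∀ j, ∏ k' : Fin 6, (Pi.mulSingle k (Units.mk0 a ha) : Fin 6 → Fˣ) k' ^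
        repE6v27.wt k' j = Units.mk0 a ha ^ aE (72 + k) j j := fun j => by
      rw [Finset.prod_eq_single k (fun k' _ hk' => by
        rw [Pi.mulSingle_eq_of_ne hk', _root_.one_zpow]) (by simp), Pi.mulSingle_eq_same]
      rfl
    have h3 := congrArg (fun x : repE6v27.G F => (x : GL (Fin 27) F).val i j)
      (Subgroup.mem_center_iff.1 hc ⟨h, hh⟩)
    simp only [Subgroup.coe_mul, Units.val_mul, h1, diagonal_mul, mul_diagonal] at h3
    erw [h2, h2] at h3
    by_contra h4
    rw [mul_comm] at h3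
    have h5 := Units.ext (mul_left_cancel₀ h4 h3)
    rw [← mul_inv_eq_one, ← _root_.zpow_sub] at h5
    have h6 : Units.mk0 a ha ^ (2 : ℤ) = 1 := by rw [hk, _root_.zpow_mul, h5, _root_.one_zpow]
    exact ha2 (by simpa [zpow_ofNat] using congrArg Units.val h6)
  have h1 : ∀ j, (g : GL (Fin 27) F).val j j = (g : GL (Fin 27) F).val 0 0 := fun j => by
    induction j using WellFoundedLT.induction with
    | ind j ih =>
    by_cases hj : j = 0
    · rw [hj]
    obtain ⟨r, i, hi, h2⟩ := conn j hj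
    have h3 := congrFun (congrFun (hg r r.2).eq i) j
    rw [← h0.diagonal_diag, diagonal_mul, mul_diagonal, mul_comm] at h3
    rw [← ih i hi]
    exact (mul_left_cancel₀ (sgn_ne_zero h2) h3).symm
  refine ⟨(g : GL (Fin 27) F).val 0 0, ?_⟩
  rw [smul_one_eq_diagonal]
  refine h0.diagonal_diag.symm.trans ?_
  congr 1
  funext j
  exact h1 j

theorem exists_sq_ne [Fintype F] (h : Fintype.card F = 4) : ∃ a : F, a ≠ 0 ∧ a ^ 2 ≠ 1 := by
  classical
  by_contra hne
  push Not at hne
  have h1 : (Finset.univ : Finset F) ⊆ {0, 1, -1} := fun a _ => by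
    by_cases ha : a = 0
    · simp [ha]
    · rcases sq_eq_one_iff.1 (hne a ha) with e | e <;> simp [e]
  have h2 := (Finset.card_le_card h1).trans Finset.card_le_three
  rw [Finset.card_univ, h] at h2
  omega

theorem jobRep : JobRep.{u} := by
  intro K _ _ hK
  obtain ⟨φ, -, h2, h3⟩ := repE6v27.exists_hom (F := K) (repE6v27.ker_eq_bot_of_simple
    (Cfsg.Agent.S1054.result (F := K) _ (by simp)).1 ⟨67, by decide, fun h => by
      have h2 := congrFun (congrFun h 0) 1
      rw [Rep.A_apply, show repE6v27.a 67 0 1 = _ from aE_ne] at h2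
      simp at h2⟩)
  have hw : ∀ w : List (ℕ × K), ∃ h : (w.map fun p => repE6v27.xU K p.1 p.2).prod ∈ repE6v27.G K,
      ((φ ⟨_, h⟩ : GL chevE6.Idx K) : Matrix _ _ K) = chevE6.wordMat K w := by
    intro w
    induction w with
    | nil => exact ⟨one_mem _, congrArg (fun x : chevE6.group K => (x : GL chevE6.Idx K).val) φ.map_one⟩
    | cons p w ih =>
      obtain ⟨h, e⟩ := ih
      refine ⟨mul_mem (repE6v27.xU_mem p.1 p.2) h, ?_⟩
      have e1 := congrArg (fun x : chevE6.group K => (x : GL chevE6.Idx K).val)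
        (φ.map_mul ⟨_, repE6v27.xU_mem p.1 p.2⟩ ⟨_, h⟩)
      refine e1.trans ?_
      simp only [Subgroup.coe_mul, Units.val_mul, h2, e]
      rfl
  have hle : Gam K ≤ repE6v27.G K := by
    rw [Gam, Subgroup.closure_le]
    rintro _ ⟨w, -, rfl⟩
    exact (hw w).1
  let ψ : Gam K →* GL chevE6.Idx K :=
    (chevE6.group K).subtype.comp (φ.comp (Subgroup.inclusion hle))
  have hr : ψ.range = twistedE6 K 2 := by
    have ht : (⊤ : Subgroup (Gam K)) = _ := Subgroup.closure_closure_coe_preimage.symm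
    rw [MonoidHom.range_eq_map, ht]
    refine (MonoidHom.map_closure ψ _).trans (congrArg Subgroup.closure (Set.ext fun g => ⟨?_, ?_⟩))
    · rintro ⟨x, ⟨w, hw1, hx⟩, rfl⟩
      refine ⟨w, hw1, ?_⟩
      obtain ⟨h, e⟩ := hw w
      rw [← e]
      exact congrArg (fun y : repE6v27.G K => (φ y : GL chevE6.Idx K).val) (Subtype.ext hx)
    · rintro ⟨w, hw1, hg⟩
      obtain ⟨h, e⟩ := hw w
      exact ⟨⟨_, Subgroup.subset_closure ⟨w, hw1, rfl⟩⟩, ⟨w, hw1, rfl⟩, Units.ext (e.trans hg.symm)⟩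
  refine ⟨ψ.codRestrict _ fun g => hr ▸ ⟨g, rfl⟩, fun y => ?_, fun g hg => ?_⟩
  · obtain ⟨x, hx⟩ : (y : GL chevE6.Idx K) ∈ ψ.range := hr.symm ▸ y.2
    exact ⟨x, Subtype.ext hx⟩
  · have hg1 : ψ g = 1 := congrArg Subtype.val hg
    have hg' : φ (Subgroup.inclusion hle g) = 1 := Subtype.ext hg1
    refine scalar (g := Subgroup.inclusion hle g) (exists_sq_ne hK) fun r hr => ?_
    have h4 := h3 (Subgroup.inclusion hle g) (bv chevE6 K r)
    rw [hg'] at h4
    simp only [OneMemClass.coe_one, Units.val_one, one_mulVec,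
      repE6v27.ρ_bv (show r < chevE6.nroots + chevE6.rank by omega)] at h4
    exact h4

end H92.T6Rep
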